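import Cfsg.Agent.H10.Inverted
import Cfsg.Agent.H10.Cyc2
import Cfsg.Agent.H10.SylQuot
import Cfsg.Agent.H1.Fitting

/-!
Intersections of Sylow subgroups in quotients.
-/

set_option autoImplicit false

namespace H10

open Cfsg Subgroup H28

variable {G G' : Type*} [Group G] [Group G'] [Finite G] {p : ℕ} [Fact p.Prime]

theorem exists_sylow_map_ge {f : G →* G'} (hf : Function.Surjective f) (S : Sylow p G')
    {Q : Subgroup G} (hQ : IsPGroup p Q) (h : Q.map f ≤ S) :
    ∃ S₀ : Sylow p G, Q ≤ S₀ ∧ (S₀ : Subgroup G).map f = S := by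
  haveI : Finite G' := Finite.of_surjective f hf
  obtain ⟨T, hT, hQT⟩ := H28.exists_isSylowIn_ge hQ (map_le_iff_le_comap.1 h)
  have h1 := hT.trans le_top (by
    rw [relIndex_top_right, index_comap_of_surjective _ hf]; exact S.not_dvd_index)
  obtain ⟨S₀, rfl⟩ := h1.exists_sylow_top
  refine ⟨S₀, hQT, ?_⟩
  have h2 := hT.map f
  rw [map_comap_eq_self_of_surjective hf] at h2
  exact (h2.max _ S.isPGroup' h2.le le_rfl).symm

theorem exists_sylow_inf_map {f : G →* G'} (hf : Function.Surjective f) (S T : Sylow p G')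
    (h : S ≠ T) : ∃ S₀ T₀ : Sylow p G, S₀ ≠ T₀ ∧ ∃ Q : Subgroup G, Q ≤ (S₀ : Subgroup G) ⊓ T₀ ∧
      Q.map f = (S : Subgroup G') ⊓ T := by
  obtain ⟨Q, hQ⟩ := H28.exists_isSylowIn p (((S : Subgroup G') ⊓ T).comap f)
  have h2 := hQ.map f
  rw [map_comap_eq_self_of_surjective hf] at h2
  have h3 := (h2.max _ (S.isPGroup'.to_le inf_le_left) h2.le le_rfl).symm
  obtain ⟨S₀, a1, a2⟩ := exists_sylow_map_ge hf S hQ.isPGroup (h2.le.trans inf_le_left)
  obtain ⟨T₀, b1, b2⟩ := exists_sylow_map_ge hf T hQ.isPGroup (h2.le.trans inf_le_right)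
  refine ⟨S₀, T₀, ?_, Q, le_inf a1 b1, h3⟩
  rintro rfl
  exact h (Sylow.ext (a2.symm.trans b2))

theorem odd_centralizes_of_cyclic {T : Subgroup G} (hT : IsPGroup 2 T) (hc : IsCyclic T) {g : G}
    (hg : g ∈ 𝐍 T) (h : (orderOf g).Coprime 2) : g ∈ 𝐂 T := by
  obtain ⟨⟨a, ha⟩, h1⟩ := hc.exists_generator
  have h2 : zpowers a = T := le_antisymm (zpowers_le.2 ha) fun x hx => by
    obtain ⟨i, hi⟩ := h1 ⟨x, hx⟩
    exact ⟨i, congrArg Subtype.val hi⟩
  exact odd_centralizes_of_mem hT ha (by rw [h2, relIndex_self]; exact one_dvd _) hg h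
    (h2 ▸ conj_mem_of_mem_normalizer hg ha)

/-- If every element of odd order is trivial then the Sylow 2-subgroup is everything. -/
theorem sylow_normal_of_odd_eq_one (h : ∀ g : G, (orderOf g).Coprime p → g = 1) (P : Sylow p G) :
    (P : Subgroup G).Normal := by
  have h1 : IsPGroup p (⊤ : Subgroup G) := isPGroup_of_forall_coprime fun x _ => h x
  rw [← P.is_maximal' h1 le_top]; infer_instance

theorem exists_ne_of_not_normal {P : Sylow p G} (h : ¬ (P : Subgroup G).Normal) :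
    ∃ T : Sylow p G, P ≠ T := by
  by_contra h0
  push Not at h0
  haveI : Subsingleton (Sylow p G) := ⟨fun a b => (h0 a).symm.trans (h0 b)⟩
  exact h (Sylow.normal_of_subsingleton P)

end H10
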