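import Cfsg.Agent.H10.X4g

/-! Generated: the Sylow subgroup of type M12 and the element of order three. -/

set_option maxRecDepth 100000
set_option maxHeartbeats 4000000
set_option linter.unusedVariables false

open Subgroup
open scoped commutatorElement
namespace H10.X
open H0 H0.PM H16 H19

noncomputable def TB_r_R : List (List ℕ) := [[0,0],
  [1,1],
  [2,2],
  [3,3],
  [4,4],
  [5,5],
  [2,1,2,1],
  [1,0,1,0],
  [2,0,2,0],
  [3,0,3,0],
  [4,0,4,0],
  [5,0,5,0],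
  [3,1,3,1],
  [4,2,4,2],
  [4,3,4,3],
  [1,0,4,1,4],
  [2,0,3,2,3],
  [1,5,1,5],
  [5,1,3,5,3],
  [1,2,0,5,2,5],
  [1,2,3,4,5,4,5]]
theorem TB_r {G : Type*} [Group G] {z u v a b r : G}
    (t : TB z u v a b r) :
    Rels (nthG [z, u, v, a, b, r]) TB_r_R :=
  rels_of_eqs ((InvI.cons t.1 (InvI.cons t.2.1 (InvI.cons t.2.2.1 (InvI.cons t.2.2.2.1 (InvI.cons t.2.2.2.2.1 (InvI.cons t.2.2.2.2.2.1 InvI.nil)))))) : InvI [z, u, v, a, b, r] [(nat_lit 0), (nat_lit 1), (nat_lit 2), (nat_lit 3), (nat_lit 4), (nat_lit 5)])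
    (show AllEq [z, u, v, a, b, r] [((.mul (.v (nat_lit 0)) (.v (nat_lit 0))), .one), ((.mul (.v (nat_lit 1)) (.v (nat_lit 1))), .one), ((.mul (.v (nat_lit 2)) (.v (nat_lit 2))), .one), ((.mul (.v (nat_lit 3)) (.v (nat_lit 3))), .one), ((.mul (.v (nat_lit 4)) (.v (nat_lit 4))), .one), ((.mul (.v (nat_lit 5)) (.v (nat_lit 5))), .one), ((.mul (.v (nat_lit 1)) (.v (nat_lit 2))), (.mul (.v (nat_lit 2)) (.v (nat_lit 1)))), ((.mul (.v (nat_lit 0)) (.v (nat_lit 1))), (.mul (.v (nat_lit 1)) (.v (nat_lit 0)))), ((.mul (.v (nat_lit 0)) (.v (nat_lit 2))), (.mul (.v (nat_lit 2)) (.v (nat_lit 0)))), ((.mul (.v (nat_lit 0)) (.v (nat_lit 3))), (.mul (.v (nat_lit 3)) (.v (nat_lit 0)))), ((.mul (.v (nat_lit 0)) (.v (nat_lit 4))), (.mul (.v (nat_lit 4)) (.v (nat_lit 0)))), ((.mul (.v (nat_lit 0)) (.v (nat_lit 5))), (.mul (.v (nat_lit 5)) (.v (nat_lit 0)))), ((.mul (.v (nat_lit 1)) (.v (nat_lit 3))), (.mul (.v (nat_lit 3)) (.v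 (nat_lit 1)))), ((.mul (.v (nat_lit 2)) (.v (nat_lit 4))), (.mul (.v (nat_lit 4)) (.v (nat_lit 2)))), ((.mul (.v (nat_lit 3)) (.v (nat_lit 4))), (.mul (.v (nat_lit 4)) (.v (nat_lit 3)))), ((.mul (.mul (.v (nat_lit 4)) (.v (nat_lit 1))) (.v (nat_lit 4))), (.mul (.v (nat_lit 1)) (.v (nat_lit 0)))), ((.mul (.mul (.v (nat_lit 3)) (.v (nat_lit 2))) (.v (nat_lit 3))), (.mul (.v (nat_lit 2)) (.v (nat_lit 0)))), ((.mul (.v (nat_lit 5)) (.v (nat_lit 1))), (.mul (.v (nat_lit 1)) (.v (nat_lit 5)))), ((.mul (.mul (.v (nat_lit 3)) (.v (nat_lit 5))) (.v (nat_lit 3))), (.mul (.v (nat_lit 5)) (.v (nat_lit 1)))), ((.mul (.mul (.v (nat_lit 5)) (.v (nat_lit 2))) (.v (nat_lit 5))), (.mul (.mul (.v (nat_lit 1)) (.v (nat_lit 2))) (.v (nat_lit 0)))), ((.mul (.mul (.v (nat_lit 5)) (.v (nat_lit 4))) (.v (nat_lit 5))), (.mul (.mul (.mul (.v (nat_lit 1)) (.v (nat_lit 2))) (.v (nat_lit 3))) (.v (nat_lit 4))))] from t)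
    [(.v (nat_lit 0)), (.v (nat_lit 1)), (.v (nat_lit 2)), (.v (nat_lit 3)), (.v (nat_lit 4)), (.v (nat_lit 5))] (by decide +kernel)
noncomputable abbrev TB_o : Ops := pops (nat_lit 12) (nat_lit 4) (nat_lit 15) (nat_lit 0xba9876543210)
noncomputable def TB_cs : List ℕ := [(nat_lit 0xb25867934a10), (nat_lit 0xa916753428b), (nat_lit 0x152034a679b8), (nat_lit 0x8a5b76934201), (nat_lit 0x741a239568b), (nat_lit 0xa584397621b)]
noncomputable def TB_L : List (List ℕ) := [[(nat_lit 0xba9876543210), (nat_lit 0xb25867934a10), (nat_lit 0x152034a679b8), (nat_lit 0x741a239568b), (nat_lit 0x19a0432765b8), (nat_lit 0x6312a45978b), (nat_lit 0x836b5972a401), (nat_lit 0xb471a2659380)],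
  [(nat_lit 0xba9876543210), (nat_lit 0xa916753428b), (nat_lit 0x8a5b76934201), (nat_lit 0x1a50679432b8)],
  [(nat_lit 0xba9876543210), (nat_lit 0xba5134967280)]]
noncomputable def TB_WW : List (List (List ℕ)) := [[[],
  [(nat_lit 0)],
  [(nat_lit 2)],
  [(nat_lit 4)],
  [(nat_lit 0), (nat_lit 2)],
  [(nat_lit 0), (nat_lit 4)],
  [(nat_lit 2), (nat_lit 4)],
  [(nat_lit 4), (nat_lit 5)]],
  [[],
  [(nat_lit 1)],
  [(nat_lit 3)],
  [(nat_lit 1), (nat_lit 3)]],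
  [[],
  [(nat_lit 1), (nat_lit 5)]]]
noncomputable def TB_b3_S0 : List ℕ := [nat_lit 0x1300000700000c004008, nat_lit 0x1700000700001000400a, nat_lit 0x1b00000b000010004006, nat_lit 0x1f000013000018004006, nat_lit 0x1f00000200001c00400a]
noncomputable def TB_b3_S : List (List ℕ) := [TB_b3_S0]
noncomputable def TB_b3_defs : List ℕ := [(nat_lit 0x20000400200002002000010010000100200000001000000000000000000000)]
noncomputable def TB_b3_recs : List ℕ := [(nat_lit 0x600007010000500007010000300006000000300005000000200004)]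
noncomputable def TB_b3_L0 : List ℕ := [nat_lit 0x700000100000b00000200000f000003, nat_lit 0x8000000000013000004000017000005, nat_lit 0x200000400000c00000000001b000006, nat_lit 0x600000500000a000006000010000000, nat_lit 0x100000200001400000100001f000007, nat_lit 0x500000300000e000007000018000001, nat_lit 0x1200000700000900000300001c000002, nat_lit 0x1100000600000d000005000020000004]
noncomputable def TB_b3_L : List (List ℕ) := [TB_b3_L0]
noncomputable def TB_b3_V : List ℕ := [(nat_lit 0x700000006000000050000000400000003000000020000000100000000)]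
noncomputable def TB_b3_D : H26.Dag := ⟨[], [[0,0],
  [1,1],
  [2,2],
  [2,1,2,1],
  [1,0,1,0],
  [2,0,2,0]], [], TB_b3_defs, TB_b3_recs⟩
theorem TB_b3_c : TB_b3_D.checkTab TB_b3_S 8 3 TB_b3_V TB_b3_L = true := by decide +kernel
theorem TB_b3 : Bound TB_r_R 3 8 :=
  bound_dag (Bound.zero TB_r_R) (K := 3) (J := [0,1,2,6,7,8]) (by decide +kernel) TB_b3_c (by decide +kernel)
noncomputable def TB_b5_S0 : List ℕ := [nat_lit 0x1, nat_lit 0x1, nat_lit 0x1, nat_lit 0x700000100000800400a, nat_lit 0x700000500000800400e, nat_lit 0x700000100000900000800c016, nat_lit 0xb00000100000c00400c, nat_lit 0xb00000900000c004010, nat_lit 0xb00000100000500000c00c014, nat_lit 0xf00000d00001000400c, nat_lit 0xf000015000010004010, nat_lit 0xf00000700000c004012, nat_lit 0xf00000d00001100001000c014]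
noncomputable def TB_b5_S : List (List ℕ) := [TB_b5_S0]
noncomputable def TB_b5_defs : List ℕ := [(nat_lit 0x400001004000000030000000000000)]
noncomputable def TB_b5_recs : List ℕ := [(nat_lit 0x10000300003030000200003020000300003000000300003010000200002020000200002000000200002020000100001010000100001000000100001020000000000010000000000000000000000)]
noncomputable def TB_b5_L0 : List ℕ := [nat_lit 0x100000000000500000000000900000000000700000100000b000002, nat_lit 0xd00000100001100000100001500000100000800000000000f000003, nat_lit 0x1900000200002100000200001d00000200002e00000300000c000000, nat_lit 0x2500000300003100000300002900000300002d000002000010000001]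
noncomputable def TB_b5_L : List (List ℕ) := [TB_b5_L0]
noncomputable def TB_b5_V : List ℕ := [(nat_lit 0x3000000020000000100000000)]
noncomputable def TB_b5_D : H26.Dag := ⟨[], [[0,0],
  [1,1],
  [2,2],
  [3,3],
  [4,4],
  [3,0,3,0],
  [4,0,4,0],
  [3,1,3,1],
  [4,2,4,2],
  [4,3,4,3],
  [1,0,4,1,4],
  [2,0,3,2,3]], [0,1,2], TB_b5_defs, TB_b5_recs⟩
theorem TB_b5_c : TB_b5_D.checkTab TB_b5_S 4 5 TB_b5_V TB_b5_L = true := by decide +kernel
theorem TB_b5 : Bound TB_r_R 5 32 :=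
  bound_dag TB_b3 (K := 5) (J := [0,1,2,3,4,9,10,12,13,14,15,16]) (by decide +kernel) TB_b5_c (by decide +kernel)
noncomputable def TB_b6_S0 : List ℕ := [nat_lit 0x1, nat_lit 0x1, nat_lit 0x1, nat_lit 0x1, nat_lit 0x1, nat_lit 0x700000100000800400c, nat_lit 0x700000500000800800e, nat_lit 0x1900000700000d000008008010, nat_lit 0x7000001000009000005000008010012, nat_lit 0x700001100000d000009000005000008014014]
noncomputable def TB_b6_S : List (List ℕ) := [TB_b6_S0]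
noncomputable def TB_b6_defs : List ℕ := [(nat_lit 0x50000000000000)]
noncomputable def TB_b6_recs : List ℕ := [(nat_lit 0x40000100001020000100001030000100001010000100001000000100001040000000000030000000000020000000000010000000000000000000000)]
noncomputable def TB_b6_L0 : List ℕ := [nat_lit 0x100000000000500000000000900000000000d000000000011000000000007000001, nat_lit 0x1500000100001900000100002100000100001d000001000025000001000008000000]
noncomputable def TB_b6_L : List (List ℕ) := [TB_b6_L0]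
noncomputable def TB_b6_V : List ℕ := [(nat_lit 0x100000000)]
noncomputable def TB_b6_D : H26.Dag := ⟨[], [[0,0],
  [1,1],
  [2,2],
  [3,3],
  [4,4],
  [5,5],
  [5,0,5,0],
  [1,5,1,5],
  [5,1,3,5,3],
  [1,2,0,5,2,5],
  [1,2,3,4,5,4,5]], [0,1,2,3,4], TB_b6_defs, TB_b6_recs⟩
theorem TB_b6_c : TB_b6_D.checkTab TB_b6_S 2 6 TB_b6_V TB_b6_L = true := by decide +kernel
theorem TB_b6 : Bound TB_r_R 6 64 :=
  bound_dag TB_b5 (K := 6) (J := [0,1,2,3,4,5,11,17,18,19,20]) (by decide +kernel) TB_b6_c (by decide +kernel)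
theorem TB_P : PModel (nat_lit 12) (nat_lit 4) (nat_lit 15) (nat_lit 0xba9876543210) TB_cs TB_r_R TB_L 64 :=
  ⟨PkOK.of (by decide +kernel), by decide +kernel, by decide +kernel, TB_b6, ⟨TB_WW, by decide +kernel⟩,
    ⟨fun c => Nat.mod c (nat_lit 557), by decide +kernel⟩⟩
noncomputable def TB_soc_t0 : ST := (.node (nat_lit 432) (.node (nat_lit 207) (.node (nat_lit 145) (.node (nat_lit 47) (.node (nat_lit 45) (.leaf (nat_lit 32)) (.leaf (nat_lit 3))) (.node (nat_lit 102) (.leaf (nat_lit 32)) (.node (nat_lit 114) (.leaf (nat_lit 0)) (.leaf (nat_lit 32))))) (.node (nat_lit 166) (.node (nat_lit 153) (.leaf (nat_lit 0)) (.leaf (nat_lit 32))) (.node (nat_lit 180) (.leaf (nat_lit 3)) (.node (nat_lit 186) (.leaf (nat_lit 0)) (.leaf (nat_lit 32)))))) (.node (nat_lit 359) (.node (nat_lit 277) (.node (nat_lit 231) (.leaf (nat_lit 0)) (.leaf (nat_lit 32))) (.node (nat_lit 315) (.leaf (nat_lit 3)) (.node (nat_lit 344) (.leaf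 (nat_lit 32)) (.leaf (nat_lit 3))))) (.node (nat_lit 388) (.node (nat_lit 365) (.leaf (nat_lit 32)) (.leaf (nat_lit 0))) (.node (nat_lit 393) (.leaf (nat_lit 3)) (.node (nat_lit 398) (.leaf (nat_lit 32)) (.leaf (nat_lit 0))))))) (.node (nat_lit 638) (.node (nat_lit 522) (.node (nat_lit 471) (.node (nat_lit 462) (.leaf (nat_lit 32)) (.leaf (nat_lit 0))) (.node (nat_lit 477) (.leaf (nat_lit 32)) (.node (nat_lit 492) (.leaf (nat_lit 3)) (.leaf (nat_lit 32))))) (.node (nat_lit 527) (.node (nat_lit 526) (.leaf (nat_lit 3)) (.leaf (nat_lit 0))) (.node (nat_lit 529) (.leaf (nat_lit 3)) (.node (nat_lit 618) (.leaf (nat_lit 32)) (.leaf (nat_lit 3)))))) (.node (nat_lit 784) (.node (nat_lit 715) (.node (nat_lit 676) (.leaf (nat_lit 32)) (.leaf (nat_lit 3))) (.node (nat_lit 771) (.leaf (nat_lit 32)) (.node (nat_lit 778) (.leaf (nat_lit 3)) (.leaf (nat_lit 32))))) (.node (nat_lit 818) (.node (nat_lit 796) (.leaf (nat_lit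 3)) (.node (nat_lit 803) (.leaf (nat_lit 32)) (.leaf (nat_lit 3)))) (.node (nat_lit 826) (.leaf (nat_lit 32)) (.node (nat_lit 830) (.leaf (nat_lit 3)) (.leaf (nat_lit 0))))))))
noncomputable def TB_soc_t1 : ST := (.node (nat_lit 67) (.node (nat_lit 60) (.node (nat_lit 36) (.leaf (nat_lit 32)) (.node (nat_lit 37) (.leaf (nat_lit 3)) (.leaf (nat_lit 32)))) (.node (nat_lit 61) (.leaf (nat_lit 16)) (.node (nat_lit 66) (.leaf (nat_lit 32)) (.leaf (nat_lit 16))))) (.node (nat_lit 126) (.node (nat_lit 69) (.leaf (nat_lit 32)) (.node (nat_lit 75) (.leaf (nat_lit 3)) (.leaf (nat_lit 32)))) (.node (nat_lit 146) (.node (nat_lit 131) (.leaf (nat_lit 16)) (.leaf (nat_lit 32))) (.node (nat_lit 149) (.leaf (nat_lit 0)) (.leaf (nat_lit 32))))))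
noncomputable def TB_soc_F : Fm := (.all TB_L (.or (.qf (.eq (.v (nat_lit 0)) .one)) (.exF TB_L (fun cs => TB_soc_t1.find (Nat.mod (nth (nat_lit 0) cs (nat_lit 0)) (nat_lit 167))) (.exF TB_L (fun cs => TB_soc_t0.find (Nat.mod (Nat.add (nth (nat_lit 0) cs (nat_lit 0)) (Nat.mul (nat_lit 7919) (nth (nat_lit 0) cs (nat_lit 1)))) (nat_lit 853))) (.qf (.or (.eq (.mul (.mul (.v (nat_lit 0)) (.v (nat_lit 2))) (.inv (.v (nat_lit 0)))) (.v (nat_lit 3))) (.or (.eq (.mul (.mul (.v (nat_lit 0)) (.v (nat_lit 2))) (.inv (.v (nat_lit 0)))) (.v (nat_lit 3))) (.or (.eq (.mul (.mul (.v (nat_lit 0)) (.mul (.mul (.mul (.v (nat_lit 2)) (.v (nat_lit 1))) (.inv (.v (nat_lit 2)))) (.inv (.v (nat_lit 1))))) (.inv (.v (nat_lit 0)))) (.v (nat_lit 3))) (.or (.eq (.mul (.mul (.v (nat_lit 0)) (.mul (.mul (.mul (.v (nat_lit 2)) (.v (nat_lit 1))) (.inv (.v (nat_lit 2)))) (.inv (.v (nat_lit 1))))) (.inv (.v (nat_lit 0)))) (.v (nat_lit 3)))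 (.or (.eq (.mul (.mul (.mul (.mul (.mul (.mul (.v (nat_lit 2)) (.v (nat_lit 1))) (.inv (.v (nat_lit 2)))) (.inv (.v (nat_lit 1)))) (.v (nat_lit 0))) (.inv (.mul (.mul (.mul (.v (nat_lit 2)) (.v (nat_lit 1))) (.inv (.v (nat_lit 2)))) (.inv (.v (nat_lit 1)))))) (.inv (.v (nat_lit 0)))) (.v (nat_lit 3))) (.eq (.mul (.mul (.mul (.mul (.mul (.mul (.v (nat_lit 2)) (.v (nat_lit 1))) (.inv (.v (nat_lit 2)))) (.inv (.v (nat_lit 1)))) (.v (nat_lit 0))) (.inv (.mul (.mul (.mul (.v (nat_lit 2)) (.v (nat_lit 1))) (.inv (.v (nat_lit 2)))) (.inv (.v (nat_lit 1)))))) (.inv (.v (nat_lit 0)))) (.v (nat_lit 3)))))))))))))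
theorem TB_soc_chk : Fm.chk TB_o TB_soc_F TB_cs = true := by decide +kernel
theorem TB_soc {G : Type*} [Group G] {R : ℕ → G → Prop} {z u v a b r : G} {H : Subgroup G}
    (M : Mdl TB_o TB_cs TB_L R [z, u, v, a, b, r] H) :
    ∀ y_ ∈ H, y_ = 1 ∨ (∃ q_ ∈ H, ∃ k_ ∈ H, k_ * y_ * k_⁻¹ = z ∨ k_ * y_ * k_⁻¹ = z ∨ k_ * ⁅y_, q_⁆ * k_⁻¹ = z ∨ k_ * ⁅y_, q_⁆ * k_⁻¹ = z ∨ ⁅⁅y_, q_⁆, k_⁆ = z ∨ ⁅⁅y_, q_⁆, k_⁆ = z) :=
  have h : ∀ y_, InL TB_o R TB_L y_ → y_ = 1 ∨ (Good TB_o R TB_L → prods TB_o TB_L TB_o.one ≠ [] → ∃ q_, InL TB_o R TB_L q_ ∧ (Good TB_o R TB_L → prods TB_o TB_L TB_o.one ≠ [] → ∃ k_, InL TB_o R TB_L k_ ∧ (k_ * y_ * k_⁻¹ = z ∨ k_ * y_ * k_⁻¹ = z ∨ k_ * ⁅y_, q_⁆ * k_⁻¹ = z ∨ k_ * ⁅y_, q_⁆ * k_⁻¹ = z ∨ ⁅⁅y_, q_⁆, k_⁆ = z ∨ ⁅⁅y_, q_⁆, k_⁆ = z))) :=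
    Fm.sound M.μ TB_soc_F TB_soc_chk M.reps
  (fun y_ h0 => (Or.imp (fun h1 => h1) (fun h1 => (Exists.imp (fun q_ h2 => ⟨M.H.iff.1 h2.1, (Exists.imp (fun k_ h3 => ⟨M.H.iff.1 h3.1, h3.2⟩) (h2.2 M.H.good M.H.ne))⟩) (h1 M.H.good M.H.ne))) (h y_ (M.H.iff.2 h0))))
theorem TB_mdl {G : Type*} [Group G] {z u v a b r : G}
    (t : TB z u v a b r)
    (n1 : z ≠ 1) :
    ∃ R, Mdl TB_o TB_cs TB_L R [z, u, v, a, b, r] (sp [z, u, v, a, b, r]) ∧ #(sp [z, u, v, a, b, r]) = 64 :=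
  mdl_of TB_P rfl (TB_r t) (.v (nat_lit 0)) (.v (nat_lit 0)) n1 n1 
    fun _ ms _ M hl => match ms, M, (hl : ms.length = 6) with
      | [_, _, _, _, _, _], M, _ => TB_soc M
noncomputable def TB_lR0 : List ℕ := [(nat_lit 0xba9876543210), (nat_lit 0xb25867934a10), (nat_lit 0xa916753428b), (nat_lit 0x152034a679b8), (nat_lit 0x8a5b76934201), (nat_lit 0xa584397621b), (nat_lit 0x25176943a8b), (nat_lit 0x19a0432765b8), (nat_lit 0x829b67543a01), (nat_lit 0x29834567a1b), (nat_lit 0x852b43a76901), (nat_lit 0x1a50679432b8), (nat_lit 0xba5134967280), (nat_lit 0x92143a6758b), (nat_lit 0x192b67a34508), (nat_lit 0x5a13427698b), (nat_lit 0x8a90435672b1), (nat_lit 0x85a0672349b1), (nat_lit 0x1a9b34576208), (nat_lit 0x89ab34267501), (nat_lit 0x129076534ab8), (nat_lit 0xb29143576a80), (nat_lit 0x15ab76243908), (nat_lit 0x825034976ab1), (nat_lit 0x892076a435b1), (nat_lit 0x125b43967a08), (nat_lit 0xb92834a76510), (nat_lit 0xb5a843267910),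 (nat_lit 0xb52176a34980), (nat_lit 0x52867a4391b), (nat_lit 0xb9a167243580), (nat_lit 0x9a87623451b)]
noncomputable def TB_lR0_W : List (List ℕ) := [[],
  [(nat_lit 0)],
  [(nat_lit 1)],
  [(nat_lit 2)],
  [(nat_lit 3)],
  [(nat_lit 4)],
  [(nat_lit 0), (nat_lit 1)],
  [(nat_lit 0), (nat_lit 2)],
  [(nat_lit 0), (nat_lit 3)],
  [(nat_lit 0), (nat_lit 4)],
  [(nat_lit 1), (nat_lit 2)],
  [(nat_lit 1), (nat_lit 3)],
  [(nat_lit 1), (nat_lit 4)],
  [(nat_lit 2), (nat_lit 3)],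
  [(nat_lit 2), (nat_lit 4)],
  [(nat_lit 3), (nat_lit 2)],
  [(nat_lit 3), (nat_lit 4)],
  [(nat_lit 4), (nat_lit 2)],
  [(nat_lit 4), (nat_lit 3)],
  [(nat_lit 0), (nat_lit 1), (nat_lit 2)],
  [(nat_lit 0), (nat_lit 1), (nat_lit 3)],
  [(nat_lit 0), (nat_lit 1), (nat_lit 4)],
  [(nat_lit 0), (nat_lit 2), (nat_lit 4)],
  [(nat_lit 0), (nat_lit 3), (nat_lit 4)],
  [(nat_lit 0), (nat_lit 4), (nat_lit 2)],
  [(nat_lit 0), (nat_lit 4), (nat_lit 3)],
  [(nat_lit 1), (nat_lit 2), (nat_lit 3)],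
  [(nat_lit 1), (nat_lit 3), (nat_lit 2)],
  [(nat_lit 2), (nat_lit 3), (nat_lit 4)],
  [(nat_lit 2), (nat_lit 4), (nat_lit 3)],
  [(nat_lit 3), (nat_lit 2), (nat_lit 4)],
  [(nat_lit 0), (nat_lit 2), (nat_lit 4), (nat_lit 3)]]
noncomputable def TB_lR0_h (c : ℕ) : ℕ := Nat.mod c (nat_lit 253)
theorem TB_lR0_E {G : Type*} [Group G] {R : ℕ → G → Prop} {z u v a b r : G} {H : Subgroup G}
    (M : Mdl TB_o TB_cs TB_L R [z, u, v, a, b, r] H) :
    EnumS R TB_lR0 (sp [z, u, v, a, r]) :=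
  enumS_sp M.μ.1 (M.reps.tms M.μ.1 [(.v (nat_lit 0)), (.v (nat_lit 1)), (.v (nat_lit 2)), (.v (nat_lit 3)), (.v (nat_lit 5))] (cs' := [(nat_lit 0xb25867934a10), (nat_lit 0xa916753428b), (nat_lit 0x152034a679b8), (nat_lit 0x8a5b76934201), (nat_lit 0xa584397621b)]) (by decide +kernel))
    (Ws := TB_lR0_W) (by decide +kernel) (by decide +kernel)
theorem TB_lR0_c {G : Type*} [Group G] {R : ℕ → G → Prop} {z u v a b r : G} {H : Subgroup G}
    (M : Mdl TB_o TB_cs TB_L R [z, u, v, a, b, r] H) :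
    #(sp [z, u, v, a, r]) = 32 :=
  (TB_lR0_E M).card M.μ (h := TB_lR0_h) (by decide +kernel)
noncomputable def TB_lR1 : List ℕ := [(nat_lit 0xba9876543210), (nat_lit 0xb25867934a10), (nat_lit 0xa916753428b), (nat_lit 0x152034a679b8), (nat_lit 0x8a5b76934201), (nat_lit 0x29834567a1b), (nat_lit 0x25176943a8b), (nat_lit 0x19a0432765b8), (nat_lit 0x829b67543a01), (nat_lit 0xa584397621b), (nat_lit 0x852b43a76901), (nat_lit 0x1a50679432b8), (nat_lit 0xb29143576a80), (nat_lit 0x92143a6758b), (nat_lit 0x15ab76243908), (nat_lit 0x5a13427698b), (nat_lit 0x825034976ab1), (nat_lit 0x892076a435b1), (nat_lit 0x125b43967a08), (nat_lit 0x89ab34267501), (nat_lit 0x129076534ab8), (nat_lit 0xba5134967280), (nat_lit 0x192b67a34508), (nat_lit 0x8a90435672b1), (nat_lit 0x85a0672349b1), (nat_lit 0x1a9b34576208), (nat_lit 0xb92834a76510), (nat_lit 0xb5a843267910), (nat_lit 0xb9a167243580), (nat_lit 0x9a87623451b), (nat_lit 0xb52176a34980),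 (nat_lit 0x52867a4391b)]
noncomputable def TB_lR1_W : List (List ℕ) := [[],
  [(nat_lit 0)],
  [(nat_lit 1)],
  [(nat_lit 2)],
  [(nat_lit 3)],
  [(nat_lit 4)],
  [(nat_lit 0), (nat_lit 1)],
  [(nat_lit 0), (nat_lit 2)],
  [(nat_lit 0), (nat_lit 3)],
  [(nat_lit 0), (nat_lit 4)],
  [(nat_lit 1), (nat_lit 2)],
  [(nat_lit 1), (nat_lit 3)],
  [(nat_lit 1), (nat_lit 4)],
  [(nat_lit 2), (nat_lit 3)],
  [(nat_lit 2), (nat_lit 4)],
  [(nat_lit 3), (nat_lit 2)],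
  [(nat_lit 3), (nat_lit 4)],
  [(nat_lit 4), (nat_lit 2)],
  [(nat_lit 4), (nat_lit 3)],
  [(nat_lit 0), (nat_lit 1), (nat_lit 2)],
  [(nat_lit 0), (nat_lit 1), (nat_lit 3)],
  [(nat_lit 0), (nat_lit 1), (nat_lit 4)],
  [(nat_lit 0), (nat_lit 2), (nat_lit 4)],
  [(nat_lit 0), (nat_lit 3), (nat_lit 4)],
  [(nat_lit 0), (nat_lit 4), (nat_lit 2)],
  [(nat_lit 0), (nat_lit 4), (nat_lit 3)],
  [(nat_lit 1), (nat_lit 2), (nat_lit 3)],
  [(nat_lit 1), (nat_lit 3), (nat_lit 2)],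
  [(nat_lit 2), (nat_lit 3), (nat_lit 4)],
  [(nat_lit 2), (nat_lit 4), (nat_lit 3)],
  [(nat_lit 3), (nat_lit 2), (nat_lit 4)],
  [(nat_lit 0), (nat_lit 2), (nat_lit 4), (nat_lit 3)]]
noncomputable def TB_lR1_h (c : ℕ) : ℕ := Nat.mod c (nat_lit 226)
theorem TB_lR1_E {G : Type*} [Group G] {R : ℕ → G → Prop} {z u v a b r : G} {H : Subgroup G}
    (M : Mdl TB_o TB_cs TB_L R [z, u, v, a, b, r] H) :
    EnumS R TB_lR1 (sp [z, u, v, a, r * z]) :=
  enumS_sp M.μ.1 (M.reps.tms M.μ.1 [(.v (nat_lit 0)), (.v (nat_lit 1)), (.v (nat_lit 2)), (.v (nat_lit 3)), (.mul (.v (nat_lit 5)) (.v (nat_lit 0)))] (cs' := [(nat_lit 0xb25867934a10), (nat_lit 0xa916753428b), (nat_lit 0x152034a679b8), (nat_lit 0x8a5b76934201), (nat_lit 0x29834567a1b)]) (by decide +kernel))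
    (Ws := TB_lR1_W) (by decide +kernel) (by decide +kernel)
theorem TB_lR1_c {G : Type*} [Group G] {R : ℕ → G → Prop} {z u v a b r : G} {H : Subgroup G}
    (M : Mdl TB_o TB_cs TB_L R [z, u, v, a, b, r] H) :
    #(sp [z, u, v, a, r * z]) = 32 :=
  (TB_lR1_E M).card M.μ (h := TB_lR1_h) (by decide +kernel)
noncomputable def TB_4_F : Fm := (.allS TB_lR0 (.qf (.eq (.pw (.v (nat_lit 0)) (nat_lit 4)) .one)))
theorem TB_4_chk : Fm.chk TB_o TB_4_F TB_cs = true := by decide +kernel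
theorem TB_4 {G : Type*} [Group G] {R : ℕ → G → Prop} {z u v a b r : G} {H : Subgroup G}
    (M : Mdl TB_o TB_cs TB_L R [z, u, v, a, b, r] H) :
    ∀ y ∈ sp [z, u, v, a, r], y ^ 4 = 1 :=
  have h : ∀ y, InS R TB_lR0 y → y ^ 4 = 1 :=
    Fm.sound M.μ TB_4_F TB_4_chk M.reps
  (fun y h0 => (h y ((TB_lR0_E M).iff.2 h0)))
noncomputable def TB_e_F : Fm := (.qf (.and (.not (.eq (.v (nat_lit 1)) (.v (nat_lit 0)))) (.and (.not (.eq (.v (nat_lit 2)) .one)) (.and (.eq (.mul (.v (nat_lit 3)) (.v (nat_lit 0))) (.mul (.v (nat_lit 0)) (.v (nat_lit 3)))) (.and (.eq (.mul (.v (nat_lit 3)) (.v (nat_lit 1))) (.mul (.v (nat_lit 1)) (.v (nat_lit 3)))) (.and (.eq (.mul (.v (nat_lit 2)) (.v (nat_lit 0))) (.mul (.v (nat_lit 0)) (.v (nat_lit 2)))) (.and (.eq (.mul (.v (nat_lit 2)) (.v (nat_lit 1))) (.mul (.v (nat_lit 1)) (.v (nat_lit 2)))) (.and (.eq (.mul (.v (nat_lit 5)) (.v (nat_lit 0))) (.mul (.v (nat_lit 0)) (.v (nat_lit 5))))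 (.eq (.mul (.v (nat_lit 5)) (.v (nat_lit 1))) (.mul (.v (nat_lit 1)) (.v (nat_lit 5))))))))))))
theorem TB_e_chk : Fm.chk TB_o TB_e_F TB_cs = true := by decide +kernel
theorem TB_e {G : Type*} [Group G] {R : ℕ → G → Prop} {z u v a b r : G} {H : Subgroup G}
    (M : Mdl TB_o TB_cs TB_L R [z, u, v, a, b, r] H) :
    u ≠ z ∧ v ≠ 1 ∧ a * z = z * a ∧ a * u = u * a ∧ v * z = z * v ∧ v * u = u * v ∧ r * z = z * r ∧ r * u = u * r :=
  Fm.sound M.μ TB_e_F TB_e_chk M.reps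
noncomputable def TB_v_t0 : ST := (.node (nat_lit 58) (.node (nat_lit 30) (.node (nat_lit 28) (.leaf (nat_lit 0)) (.node (nat_lit 29) (.leaf (nat_lit 32)) (.leaf (nat_lit 3)))) (.node (nat_lit 49) (.leaf (nat_lit 19)) (.node (nat_lit 53) (.leaf (nat_lit 0)) (.leaf (nat_lit 2))))) (.node (nat_lit 70) (.node (nat_lit 62) (.leaf (nat_lit 34)) (.node (nat_lit 69) (.leaf (nat_lit 2)) (.leaf (nat_lit 18)))) (.node (nat_lit 76) (.node (nat_lit 71) (.leaf (nat_lit 16)) (.leaf (nat_lit 3))) (.node (nat_lit 81) (.leaf (nat_lit 51)) (.leaf (nat_lit 35))))))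
noncomputable def TB_v_F : Fm := (.allS TB_lR0 (.imp (.eq (.mul (.v (nat_lit 0)) (.v (nat_lit 0))) .one) (.or (.qf (.or (.eq (.v (nat_lit 0)) (.v (nat_lit 3))) (.or (.eq (.v (nat_lit 0)) (.mul (.v (nat_lit 3)) (.v (nat_lit 1)))) (.or (.eq (.v (nat_lit 0)) (.mul (.v (nat_lit 3)) (.v (nat_lit 2)))) (.eq (.v (nat_lit 0)) (.mul (.v (nat_lit 3)) (.mul (.v (nat_lit 1)) (.v (nat_lit 2))))))))) (.or (.qf (.eq (.v (nat_lit 0)) .one)) (.or (.qf (.eq (.v (nat_lit 0)) (.v (nat_lit 1)))) (.exF TB_L (fun cs => TB_v_t0.find (Nat.mod (nth (nat_lit 0) cs (nat_lit 0)) (nat_lit 82))) (.qf (.or (.eq (.mul (.mul (.v (nat_lit 0)) (.v (nat_lit 1))) (.inv (.v (nat_lit 0)))) (.v (nat_lit 3))) (.or (.eq (.mul (.mul (.v (nat_lit 0)) (.v (nat_lit 1))) (.inv (.v (nat_lit 0)))) (.v (nat_lit 5))) (.eq (.mul (.mul (.v (nat_lit 0)) (.v (nat_lit 1))) (.inv (.v (nat_lit 0)))) (.v (nat_lit 7))))))))))))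
theorem TB_v_chk : Fm.chk TB_o TB_v_F TB_cs = true := by decide +kernel
theorem TB_v {G : Type*} [Group G] {R : ℕ → G → Prop} {z u v a b r : G} {H : Subgroup G}
    (M : Mdl TB_o TB_cs TB_L R [z, u, v, a, b, r] H) :
    ∀ y ∈ sp [z, u, v, a, r], y * y = 1 → (y = v ∨ y = v * z ∨ y = v * u ∨ y = v * (z * u)) ∨ y = 1 ∨ y = z ∨ (∃ h ∈ H, h * y * h⁻¹ = u ∨ h * y * h⁻¹ = a ∨ h * y * h⁻¹ = r) :=
  have h : ∀ y, InS R TB_lR0 y → y * y = 1 → (y = v ∨ y = v * z ∨ y = v * u ∨ y = v * (z * u)) ∨ y = 1 ∨ y = z ∨ (Good TB_o R TB_L → prods TB_o TB_L TB_o.one ≠ [] → ∃ h, InL TB_o R TB_L h ∧ (h * y * h⁻¹ = u ∨ h * y * h⁻¹ = a ∨ h * y * h⁻¹ = r)) :=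
    Fm.sound M.μ TB_v_F TB_v_chk M.reps
  (fun y h0 => (fun h1 => (Or.imp (fun h2 => h2) (fun h2 => (Or.imp (fun h3 => h3) (fun h3 => (Or.imp (fun h4 => h4) (fun h4 => (Exists.imp (fun h h5 => ⟨M.H.iff.1 h5.1, h5.2⟩) (h4 M.H.good M.H.ne))) h3)) h2)) ((h y ((TB_lR0_E M).iff.2 h0)) h1))))
noncomputable def TB_fix_F : Fm := (.qf (.and (.and (.eq (.mul (.v (nat_lit 3)) (.v (nat_lit 0))) (.mul (.v (nat_lit 0)) (.v (nat_lit 3)))) (.and (.eq (.mul (.v (nat_lit 3)) (.v (nat_lit 1))) (.mul (.v (nat_lit 1)) (.v (nat_lit 3)))) (.eq (.mul (.mul (.v (nat_lit 3)) (.v (nat_lit 2))) (.inv (.v (nat_lit 3)))) (.mul (.v (nat_lit 2)) (.v (nat_lit 0)))))) (.and (.and (.eq (.mul (.mul (.v (nat_lit 3)) (.v (nat_lit 5))) (.v (nat_lit 0))) (.mul (.v (nat_lit 0)) (.mul (.v (nat_lit 3)) (.v (nat_lit 5))))) (.and (.eq (.mul (.mul (.v (nat_lit 3)) (.v (nat_lit 5))) (.v (nat_lit 1))) (.mul (.v (nat_lit 1)) (.mul (.v (nat_lit 3)) (.v (nat_lit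 5))))) (.eq (.mul (.mul (.mul (.v (nat_lit 3)) (.v (nat_lit 5))) (.v (nat_lit 2))) (.inv (.mul (.v (nat_lit 3)) (.v (nat_lit 5))))) (.mul (.v (nat_lit 2)) (.v (nat_lit 1)))))) (.and (.eq (.mul (.v (nat_lit 5)) (.v (nat_lit 0))) (.mul (.v (nat_lit 0)) (.v (nat_lit 5)))) (.and (.eq (.mul (.v (nat_lit 5)) (.v (nat_lit 1))) (.mul (.v (nat_lit 1)) (.v (nat_lit 5)))) (.eq (.mul (.mul (.v (nat_lit 5)) (.v (nat_lit 2))) (.inv (.v (nat_lit 5)))) (.mul (.v (nat_lit 2)) (.mul (.v (nat_lit 0)) (.v (nat_lit 1))))))))))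
theorem TB_fix_chk : Fm.chk TB_o TB_fix_F TB_cs = true := by decide +kernel
theorem TB_fix {G : Type*} [Group G] {R : ℕ → G → Prop} {z u v a b r : G} {H : Subgroup G}
    (M : Mdl TB_o TB_cs TB_L R [z, u, v, a, b, r] H) :
    (a * z = z * a ∧ a * u = u * a ∧ a * v * a⁻¹ = v * z) ∧ (a * r * z = z * (a * r) ∧ a * r * u = u * (a * r) ∧ a * r * v * (a * r)⁻¹ = v * u) ∧ r * z = z * r ∧ r * u = u * r ∧ r * v * r⁻¹ = v * (z * u) :=
  Fm.sound M.μ TB_fix_F TB_fix_chk M.reps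
noncomputable def TB_w_F : Fm := (.allS TB_lR0 (.imp (.eq (.mul (.v (nat_lit 0)) (.v (nat_lit 0))) .one) (.imp (.eq (.mul (.mul (.v (nat_lit 0)) (.v (nat_lit 3))) (.v (nat_lit 0))) (.mul (.mul (.mul (.v (nat_lit 1)) (.v (nat_lit 2))) (.v (nat_lit 3))) (.v (nat_lit 2)))) (.qf (.or (.eq (.v (nat_lit 0)) (.v (nat_lit 4))) (.or (.eq (.v (nat_lit 0)) (.mul (.v (nat_lit 4)) (.v (nat_lit 1)))) (.or (.eq (.v (nat_lit 0)) (.mul (.v (nat_lit 4)) (.v (nat_lit 2)))) (.eq (.v (nat_lit 0)) (.mul (.v (nat_lit 4)) (.mul (.v (nat_lit 1)) (.v (nat_lit 2))))))))))))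
theorem TB_w_chk : Fm.chk TB_o TB_w_F TB_cs = true := by decide +kernel
theorem TB_w {G : Type*} [Group G] {R : ℕ → G → Prop} {z u v a b r : G} {H : Subgroup G}
    (M : Mdl TB_o TB_cs TB_L R [z, u, v, a, b, r] H) :
    ∀ d ∈ sp [z, u, v, a, r], d * d = 1 → d * v * d = z * u * v * u → d = a ∨ d = a * z ∨ d = a * u ∨ d = a * (z * u) :=
  have h : ∀ d, InS R TB_lR0 d → d * d = 1 → d * v * d = z * u * v * u → d = a ∨ d = a * z ∨ d = a * u ∨ d = a * (z * u) :=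
    Fm.sound M.μ TB_w_F TB_w_chk M.reps
  (fun d h0 => (h d ((TB_lR0_E M).iff.2 h0)))
noncomputable def TB_a_F : Fm := (.allS TB_lR0 (.imp (.eq (.mul (.v (nat_lit 0)) (.v (nat_lit 0))) .one) (.imp (.eq (.mul (.mul (.v (nat_lit 0)) (.v (nat_lit 3))) (.v (nat_lit 0))) (.mul (.v (nat_lit 3)) (.v (nat_lit 2)))) (.qf (.or (.eq (.v (nat_lit 0)) (.mul (.mul (.v (nat_lit 5)) (.v (nat_lit 6))) (.v (nat_lit 5)))) (.or (.eq (.v (nat_lit 0)) (.mul (.mul (.mul (.v (nat_lit 5)) (.v (nat_lit 6))) (.v (nat_lit 5))) (.v (nat_lit 1)))) (.or (.eq (.v (nat_lit 0)) (.mul (.mul (.mul (.v (nat_lit 5)) (.v (nat_lit 6))) (.v (nat_lit 5))) (.v (nat_lit 2)))) (.eq (.v (nat_lit 0)) (.mul (.mul (.mul (.v (nat_lit 5)) (.v (nat_lit 6))) (.v (nat_lit 5))) (.mul (.v (nat_lit 1)) (.v (nat_lit 2))))))))))))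
theorem TB_a_chk : Fm.chk TB_o TB_a_F TB_cs = true := by decide +kernel
theorem TB_a {G : Type*} [Group G] {R : ℕ → G → Prop} {z u v a b r : G} {H : Subgroup G}
    (M : Mdl TB_o TB_cs TB_L R [z, u, v, a, b, r] H) :
    ∀ e ∈ sp [z, u, v, a, r], e * e = 1 → e * v * e = v * u → e = b * r * b ∨ e = b * r * b * z ∨ e = b * r * b * u ∨ e = b * r * b * (z * u) :=
  have h : ∀ e, InS R TB_lR0 e → e * e = 1 → e * v * e = v * u → e = b * r * b ∨ e = b * r * b * z ∨ e = b * r * b * u ∨ e = b * r * b * (z * u) :=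
    Fm.sound M.μ TB_a_F TB_a_chk M.reps
  (fun e h0 => (h e ((TB_lR0_E M).iff.2 h0)))
noncomputable def TB_s_F : Fm := (.allS TB_lR0 (.imp (.eq (.mul (.v (nat_lit 0)) (.v (nat_lit 3))) (.mul (.v (nat_lit 3)) (.v (nat_lit 0)))) (.imp (.eq (.mul (.v (nat_lit 0)) (.v (nat_lit 4))) (.mul (.v (nat_lit 4)) (.v (nat_lit 0)))) (.imp (.eq (.mul (.v (nat_lit 0)) (.v (nat_lit 6))) (.mul (.v (nat_lit 6)) (.v (nat_lit 0)))) (.qf (.or (.eq (.v (nat_lit 0)) .one) (.or (.eq (.v (nat_lit 0)) (.v (nat_lit 1))) (.or (.eq (.v (nat_lit 0)) (.v (nat_lit 2))) (.eq (.v (nat_lit 0)) (.mul (.v (nat_lit 1)) (.v (nat_lit 2))))))))))))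
theorem TB_s_chk : Fm.chk TB_o TB_s_F TB_cs = true := by decide +kernel
theorem TB_s {G : Type*} [Group G] {R : ℕ → G → Prop} {z u v a b r : G} {H : Subgroup G}
    (M : Mdl TB_o TB_cs TB_L R [z, u, v, a, b, r] H) :
    ∀ s ∈ sp [z, u, v, a, r], s * v = v * s → s * a = a * s → s * r = r * s → s = 1 ∨ s = z ∨ s = u ∨ s = z * u :=
  have h : ∀ s, InS R TB_lR0 s → s * v = v * s → s * a = a * s → s * r = r * s → s = 1 ∨ s = z ∨ s = u ∨ s = z * u :=
    Fm.sound M.μ TB_s_F TB_s_chk M.reps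
  (fun s h0 => (h s ((TB_lR0_E M).iff.2 h0)))
noncomputable def TB_R1_F : Fm := (.allS TB_lR0 (.qf (.mem (.v (nat_lit 0)) TB_lR1)))
theorem TB_R1_chk : Fm.chk TB_o TB_R1_F TB_cs = true := by decide +kernel
theorem TB_R1 {G : Type*} [Group G] {R : ℕ → G → Prop} {z u v a b r : G} {H : Subgroup G}
    (M : Mdl TB_o TB_cs TB_L R [z, u, v, a, b, r] H) :
    ∀ y ∈ sp [z, u, v, a, r], y ∈ sp [z, u, v, a, r * z] :=
  have h : ∀ y, InS R TB_lR0 y → InS R TB_lR1 (y) :=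
    Fm.sound M.μ TB_R1_F TB_R1_chk M.reps
  (fun y h0 => ((TB_lR1_E M).iff.1 (h y ((TB_lR0_E M).iff.2 h0))))
noncomputable def TB_rz_f_F : Fm := (.qf (.and (.eq (.mul (.v (nat_lit 0)) (.v (nat_lit 0))) .one) (.and (.eq (.mul (.v (nat_lit 1)) (.v (nat_lit 1))) .one) (.and (.eq (.mul (.v (nat_lit 2)) (.v (nat_lit 2))) .one) (.and (.eq (.mul (.v (nat_lit 3)) (.v (nat_lit 3))) .one) (.and (.eq (.mul (.v (nat_lit 4)) (.v (nat_lit 4))) .one) (.and (.eq (.mul (.mul (.v (nat_lit 5)) (.v (nat_lit 0))) (.mul (.v (nat_lit 5)) (.v (nat_lit 0)))) .one) (.and (.eq (.mul (.v (nat_lit 1)) (.v (nat_lit 2))) (.mul (.v (nat_lit 2)) (.v (nat_lit 1)))) (.and (.eq (.mul (.v (nat_lit 0)) (.v (nat_lit 1))) (.mul (.v (nat_lit 1)) (.v (nat_lit 0)))) (.and (.eq (.mul (.v (nat_lit 0)) (.v (nat_lit 2))) (.mul (.v (nat_lit 2)) (.v (nat_lit 0)))) (.and (.eq (.mul (.v (nat_lit 0)) (.v (nat_lit 3))) (.mul (.v (nat_lit 3)) (.v (nat_lit 0))))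 (.and (.eq (.mul (.v (nat_lit 0)) (.v (nat_lit 4))) (.mul (.v (nat_lit 4)) (.v (nat_lit 0)))) (.and (.eq (.mul (.v (nat_lit 0)) (.mul (.v (nat_lit 5)) (.v (nat_lit 0)))) (.mul (.mul (.v (nat_lit 5)) (.v (nat_lit 0))) (.v (nat_lit 0)))) (.and (.eq (.mul (.v (nat_lit 1)) (.v (nat_lit 3))) (.mul (.v (nat_lit 3)) (.v (nat_lit 1)))) (.and (.eq (.mul (.v (nat_lit 2)) (.v (nat_lit 4))) (.mul (.v (nat_lit 4)) (.v (nat_lit 2)))) (.and (.eq (.mul (.v (nat_lit 3)) (.v (nat_lit 4))) (.mul (.v (nat_lit 4)) (.v (nat_lit 3)))) (.and (.eq (.mul (.mul (.v (nat_lit 4)) (.v (nat_lit 1))) (.v (nat_lit 4))) (.mul (.v (nat_lit 1)) (.v (nat_lit 0)))) (.and (.eq (.mul (.mul (.v (nat_lit 3)) (.v (nat_lit 2))) (.v (nat_lit 3))) (.mul (.v (nat_lit 2)) (.v (nat_lit 0)))) (.and (.eq (.mul (.mul (.v (nat_lit 5)) (.v (nat_lit 0))) (.v (nat_lit 1))) (.mul (.v (nat_lit 1)) (.mul (.v (nat_lit 5)) (.v (nat_lit 0))))) (.and (.eq (.mul (.mul (.v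 (nat_lit 3)) (.mul (.v (nat_lit 5)) (.v (nat_lit 0)))) (.v (nat_lit 3))) (.mul (.mul (.v (nat_lit 5)) (.v (nat_lit 0))) (.v (nat_lit 1)))) (.and (.eq (.mul (.mul (.mul (.v (nat_lit 5)) (.v (nat_lit 0))) (.v (nat_lit 2))) (.mul (.v (nat_lit 5)) (.v (nat_lit 0)))) (.mul (.mul (.v (nat_lit 1)) (.v (nat_lit 2))) (.v (nat_lit 0)))) (.eq (.mul (.mul (.mul (.v (nat_lit 5)) (.v (nat_lit 0))) (.v (nat_lit 4))) (.mul (.v (nat_lit 5)) (.v (nat_lit 0)))) (.mul (.mul (.mul (.v (nat_lit 1)) (.v (nat_lit 2))) (.v (nat_lit 3))) (.v (nat_lit 4)))))))))))))))))))))))))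
theorem TB_rz_f_chk : Fm.chk TB_o TB_rz_f_F TB_cs = true := by decide +kernel
theorem TB_rz_f {G : Type*} [Group G] {R : ℕ → G → Prop} {z u v a b r : G} {H : Subgroup G}
    (M : Mdl TB_o TB_cs TB_L R [z, u, v, a, b, r] H) :
    z * z = 1 ∧ u * u = 1 ∧ v * v = 1 ∧ a * a = 1 ∧ b * b = 1 ∧ r * z * (r * z) = 1 ∧ u * v = v * u ∧ z * u = u * z ∧ z * v = v * z ∧ z * a = a * z ∧ z * b = b * z ∧ z * (r * z) = r * z * z ∧ u * a = a * u ∧ v * b = b * v ∧ a * b = b * a ∧ b * u * b = u * z ∧ a * v * a = v * z ∧ r * z * u = u * (r * z) ∧ a * (r * z) * a = r * z * u ∧ r * z * v * (r * z) = u * v * z ∧ r * z * b * (r * z) = u * v * a * b :=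
  Fm.sound M.μ TB_rz_f_F TB_rz_f_chk M.reps
theorem TB_rz {G : Type*} [Group G] {R : ℕ → G → Prop} {z u v a b r : G} {H : Subgroup G}
    (M : Mdl TB_o TB_cs TB_L R [z, u, v, a, b, r] H) :
    TB z u v a b (r * z) :=
  have h := TB_rz_f M
  ⟨h.1, h.2.1, h.2.2.1, h.2.2.2.1, h.2.2.2.2.1, h.2.2.2.2.2.1, h.2.2.2.2.2.2.1, h.2.2.2.2.2.2.2.1, h.2.2.2.2.2.2.2.2.1, h.2.2.2.2.2.2.2.2.2.1, h.2.2.2.2.2.2.2.2.2.2.1, h.2.2.2.2.2.2.2.2.2.2.2.1, h.2.2.2.2.2.2.2.2.2.2.2.2.1, h.2.2.2.2.2.2.2.2.2.2.2.2.2.1, h.2.2.2.2.2.2.2.2.2.2.2.2.2.2.1, h.2.2.2.2.2.2.2.2.2.2.2.2.2.2.2.1, h.2.2.2.2.2.2.2.2.2.2.2.2.2.2.2.2.1, h.2.2.2.2.2.2.2.2.2.2.2.2.2.2.2.2.2.1, h.2.2.2.2.2.2.2.2.2.2.2.2.2.2.2.2.2.2.1, h.2.2.2.2.2.2.2.2.2.2.2.2.2.2.2.2.2.2.2.1, h.2.2.2.2.2.2.2.2.2.2.2.2.2.2.2.2.2.2.2.2, trivial⟩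
noncomputable def pb01_r_R : List (List ℕ) := [[0,0],
  [1,1],
  [2,2],
  [3,3],
  [4,4],
  [5,5],
  [6,7],
  [7,6],
  [2,1,2,1],
  [1,0,1,0],
  [2,0,2,0],
  [3,0,3,0],
  [4,0,4,0],
  [5,0,5,0],
  [3,1,3,1],
  [4,2,4,2],
  [4,3,4,3],
  [1,0,4,1,4],
  [2,0,3,2,3],
  [1,5,1,5],
  [5,1,3,5,3],
  [1,2,0,5,2,5],
  [1,2,3,4,5,4,5],
  [6,6,6],
  [1,7,0,6],
  [0,1,7,1,6],
  [2,7,2,6],
  [3,7,5,6],
  [4,5,4,0,7,3,6]]
theorem pb01_r {G : Type*} [Group G] {z u v a b r p : G}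
    (t : TB z u v a b r)
    (h : P0 z u p)
    (e0 : p * v * p⁻¹ = v)
    (e1 : p * r * p⁻¹ = a)
    (e2 : p * a * p⁻¹ = b * r * b * z) :
    Rels (nthG [z, u, v, a, b, r, p, p⁻¹]) pb01_r_R :=
  rels_of_eqs ((InvI.cons t.1 (InvI.cons t.2.1 (InvI.cons t.2.2.1 (InvI.cons t.2.2.2.1 (InvI.cons t.2.2.2.2.1 (InvI.cons t.2.2.2.2.2.1 InvI.nil)))))) : InvI [z, u, v, a, b, r, p] [(nat_lit 0), (nat_lit 1), (nat_lit 2), (nat_lit 3), (nat_lit 4), (nat_lit 5)])
    (AllEq.append (show AllEq [z, u, v, a, b, r, p] [((.mul (.v (nat_lit 0)) (.v (nat_lit 0))), .one), ((.mul (.v (nat_lit 1)) (.v (nat_lit 1))), .one), ((.mul (.v (nat_lit 2)) (.v (nat_lit 2))), .one), ((.mul (.v (nat_lit 3)) (.v (nat_lit 3))), .one), ((.mul (.v (nat_lit 4)) (.v (nat_lit 4))), .one), ((.mul (.v (nat_lit 5)) (.v (nat_lit 5))), .one), ((.mul (.v (nat_lit 1)) (.v (nat_lit 2))), (.mul (.v (nat_lit 2)) (.v (nat_lit 1)))), ((.mul (.v (nat_lit 0)) (.v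 (nat_lit 1))), (.mul (.v (nat_lit 1)) (.v (nat_lit 0)))), ((.mul (.v (nat_lit 0)) (.v (nat_lit 2))), (.mul (.v (nat_lit 2)) (.v (nat_lit 0)))), ((.mul (.v (nat_lit 0)) (.v (nat_lit 3))), (.mul (.v (nat_lit 3)) (.v (nat_lit 0)))), ((.mul (.v (nat_lit 0)) (.v (nat_lit 4))), (.mul (.v (nat_lit 4)) (.v (nat_lit 0)))), ((.mul (.v (nat_lit 0)) (.v (nat_lit 5))), (.mul (.v (nat_lit 5)) (.v (nat_lit 0)))), ((.mul (.v (nat_lit 1)) (.v (nat_lit 3))), (.mul (.v (nat_lit 3)) (.v (nat_lit 1)))), ((.mul (.v (nat_lit 2)) (.v (nat_lit 4))), (.mul (.v (nat_lit 4)) (.v (nat_lit 2)))), ((.mul (.v (nat_lit 3)) (.v (nat_lit 4))), (.mul (.v (nat_lit 4)) (.v (nat_lit 3)))), ((.mul (.mul (.v (nat_lit 4)) (.v (nat_lit 1))) (.v (nat_lit 4))), (.mul (.v (nat_lit 1)) (.v (nat_lit 0)))), ((.mul (.mul (.v (nat_lit 3)) (.v (nat_lit 2))) (.v (nat_lit 3))), (.mul (.v (nat_lit 2)) (.v (nat_lit 0)))), ((.mul (.v (nat_lit 5)) (.v (nat_lit 1))),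 (.mul (.v (nat_lit 1)) (.v (nat_lit 5)))), ((.mul (.mul (.v (nat_lit 3)) (.v (nat_lit 5))) (.v (nat_lit 3))), (.mul (.v (nat_lit 5)) (.v (nat_lit 1)))), ((.mul (.mul (.v (nat_lit 5)) (.v (nat_lit 2))) (.v (nat_lit 5))), (.mul (.mul (.v (nat_lit 1)) (.v (nat_lit 2))) (.v (nat_lit 0)))), ((.mul (.mul (.v (nat_lit 5)) (.v (nat_lit 4))) (.v (nat_lit 5))), (.mul (.mul (.mul (.v (nat_lit 1)) (.v (nat_lit 2))) (.v (nat_lit 3))) (.v (nat_lit 4))))] from t)
    (AllEq.append (show AllEq [z, u, v, a, b, r, p] [((.pw (.v (nat_lit 6)) (nat_lit 3)), .one), ((.mul (.mul (.v (nat_lit 6)) (.v (nat_lit 0))) (.inv (.v (nat_lit 6)))), (.v (nat_lit 1))), ((.mul (.mul (.v (nat_lit 6)) (.v (nat_lit 1))) (.inv (.v (nat_lit 6)))), (.mul (.v (nat_lit 0)) (.v (nat_lit 1))))] from h)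
    (AllEq.append (show AllEq [z, u, v, a, b, r, p] [((.mul (.mul (.v (nat_lit 6)) (.v (nat_lit 2))) (.inv (.v (nat_lit 6)))), (.v (nat_lit 2)))] from ⟨e0, trivial⟩)
    (AllEq.append (show AllEq [z, u, v, a, b, r, p] [((.mul (.mul (.v (nat_lit 6)) (.v (nat_lit 5))) (.inv (.v (nat_lit 6)))), (.v (nat_lit 3)))] from ⟨e1, trivial⟩)
    (show AllEq [z, u, v, a, b, r, p] [((.mul (.mul (.v (nat_lit 6)) (.v (nat_lit 3))) (.inv (.v (nat_lit 6)))), (.mul (.mul (.mul (.v (nat_lit 4)) (.v (nat_lit 5))) (.v (nat_lit 4))) (.v (nat_lit 0))))] from ⟨e2, trivial⟩)))))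
    [(.v (nat_lit 0)), (.v (nat_lit 1)), (.v (nat_lit 2)), (.v (nat_lit 3)), (.v (nat_lit 4)), (.v (nat_lit 5)), (.v (nat_lit 6)), (.inv (.v (nat_lit 6)))] (by decide +kernel)
noncomputable def pb01_0_S0 : List ℕ := [nat_lit 0x1f00001c006026, nat_lit 0x2300000700000c004012, nat_lit 0x27000007000010004014, nat_lit 0x2b000007000014004016, nat_lit 0x33000007000018004018, nat_lit 0x3700000700001c000028, nat_lit 0x3b000038006026, nat_lit 0x3f00000b000010004010, nat_lit 0x4300000b00001400401a, nat_lit 0x4b00000b00001c00001500002a, nat_lit 0x4f00004c006026, nat_lit 0x4f00000b000020008028, nat_lit 0x4f00000b00000800003c00c02a, nat_lit 0x5300000900002700002c00c01c, nat_lit 0x5f00000f00001c00002c, nat_lit 0x63000060006026, nat_lit 0x6700000d000035004014, nat_lit 0x6b00001300000c000048010020, nat_lit 0x73000070006026, nat_lit 0x7300001300002000802e, nat_lit 0x7f000015000025008012, nat_lit 0x8700002d000032004012, nat_lit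 0x8b00000200008400402e, nat_lit 0x8f00002300002c00401a, nat_lit 0x9300002300003400801e, nat_lit 0x9300000600004000001e00005c010022, nat_lit 0x9700000a00005c004018, nat_lit 0x9700000a00000f00000c000048010022, nat_lit 0x9b00000e000070000028, nat_lit 0x9f00002b00003c00802e, nat_lit 0xa7000061000066004010, nat_lit 0xa700003300000700001000001d014022, nat_lit 0xab000012000078004016, nat_lit 0xab00006100009300009000c020, nat_lit 0xaf00003300003800002e, nat_lit 0xb30000b0006026, nat_lit 0xbb00001600008400801e, nat_lit 0xc300002200007000007100002a, nat_lit 0xc70000c4006026, nat_lit 0xc700004300005000802e, nat_lit 0xc700002200000d0000a000c02a, nat_lit 0xd700002e00008c004016, nat_lit 0xd700002a0000d400402e, nat_lit 0xdb00005300000f00000c0000480000cc010024, nat_lit 0xdf00005300001d00007d010020, nat_lit 0xe300003600009c00002c, nat_lit 0xe700005700005400003600005d000085014024, nat_lit 0xeb0000790000b100401a, nat_lit 0xeb00006900006e00004500c01c,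 nat_lit 0xeb0000650000620000330000300000a400c024, nat_lit 0x8b00001f0000080000300000a40000c5018030, nat_lit 0xc900005a004026, nat_lit 0xbd0000c90000a5004028, nat_lit 0xa90000d100a026, nat_lit 0xe30000e00000d500002e, nat_lit 0xef00003a000080008014, nat_lit 0xf30000f00000de0000520000d4010022, nat_lit 0x960000b50000da0000e100801c, nat_lit 0xf700003e0000f400402e, nat_lit 0xf70000630000580000e80000ba00008200a030, nat_lit 0x7b0000780000ed00802e, nat_lit 0xfb00006700007400802c, nat_lit 0xfb0000420000dc0000ae0000cb0000d0014030, nat_lit 0xff0000c10000ce00002c]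
noncomputable def pb01_0_S1 : List ℕ := [nat_lit 0xff00006b00007000002e, nat_lit 0x103000100006026, nat_lit 0x1030000460000d000802e, nat_lit 0x1070001010000fe0000910000bb0000b8010024, nat_lit 0xc300004300004c0000260000b800010d000107000030, nat_lit 0x1020001110000e6000006, nat_lit 0x4a00011100009900000e, nat_lit 0xea00011500010500000e, nat_lit 0x11a0000a2000002, nat_lit 0x4d00011a00009e00000a, nat_lit 0xf200011e00010a00000a, nat_lit 0x87000126000032000002, nat_lit 0x12a0000f9000006, nat_lit 0x12d000056000000, nat_lit 0x10b0001320000f60001220000760000c0010024, nat_lit 0x8e00008a0000190001350000c000013900010b000030, nat_lit 0x7c00013d0000b300000e, nat_lit 0x1800014200003300000a, nat_lit 0x146000007000000]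
noncomputable def pb01_0_S : List (List ℕ) := [pb01_0_S0, pb01_0_S1]
noncomputable def pb01_0_defs : List ℕ := [(nat_lit 0x60001a0070001900300018005000170000001700300016005000150060001400500014004000140030001300500012007000110040001100700010006000100040000e0050000d0040000d0070000c0060000c0030000c0020000c0050000b0070000a0060000a0050000900500008003000080030000700100007005000060000000600700005003000050070000400600004005000040020000400700003006000030050000300400003003000030070000200600002005000020030000200200002007000010060000100500001004000010030000100200001001000010070000000600000005000000030000000200000001000000000000000000000),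
  (nat_lit 0x40001e0040001b0070001a)]
noncomputable def pb01_0_recs : List ℕ := [(nat_lit 0x2000200003f03000330003e020001c0003e050003d0001e060001d0003d070003c0003d030003c0003002000340003c020001f0003b03000340003807000370003407000350003706000200003a060003a0002204000280003a020001a0003a01000370003a040002a0003902000260003803000290003705000320003607000340003500000220003501000270003105000130003107000300003100000260003001000200002e070002b0002c030000d0002b05000230002a000001d0002a050000f00029010001600029050000e00027010001b00026020001100025000001600025020001600024010000c00024010000a00023070002000022000000e0002101000120001f05000070001c070001b0001c03000110001a000001400019070001700018020000600017020000a00014010000e00013000000700013070001200013000000d0001201000040001001000030000f070000d0000e01000060000d00000050000c00000040000a000000300009000000200008070000600007),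
  (nat_lit 0xff0000100000ff0000c00005ff0001e0002c050002f00042000000e0000e030003e0001eff0000e00021ff000330001eff000130000701000270001cff000400003dff000310001cff0003c0003fff0001b00030050002d00041050003300040070003f00040030001b0003f)]
noncomputable def pb01_0_T : List (List ℕ × ℕ) := [([0], (nat_lit 0x149))]
noncomputable def pb01_0_D : H26.Dag := ⟨[0,1,2,3,4,5,7,6], [[0,0],
  [1,1],
  [2,2],
  [3,3],
  [4,4],
  [5,5],
  [6,7],
  [7,6],
  [2,1,2,1],
  [1,0,1,0],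
  [2,0,2,0],
  [3,0,3,0],
  [5,0,5,0],
  [3,1,3,1],
  [2,0,3,2,3],
  [1,5,1,5],
  [5,1,3,5,3],
  [1,2,0,5,2,5],
  [1,2,3,4,5,4,5],
  [6,6,6],
  [1,7,0,6],
  [0,1,7,1,6],
  [2,7,2,6],
  [3,7,5,6],
  [4,5,4,0,7,3,6]], [], pb01_0_defs, pb01_0_recs⟩
theorem pb01_0_c : pb01_0_D.check pb01_0_S pb01_0_T = true := by decide +kernel
theorem pb01_0 {G : Type*} [Group G] {g : ℕ → G} (hR : Rels g pb01_r_R) {H : Subgroup G}
    (hH : ∀ k ∈ [], g k ∈ H) : evA g [0] ∈ H :=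
  mem_dag (K := 8) (J := [0,1,2,3,4,5,6,7,8,9,10,11,13,14,18,19,20,21,22,23,24,25,26,27,28]) (D := pb01_0_D) (by decide +kernel) pb01_0_c (by decide +kernel) hR hH
theorem pb01 {G : Type*} [Group G] {z u v a b r p : G}
    (t : TB z u v a b r)
    (h : P0 z u p)
    (e0 : p * v * p⁻¹ = v)
    (e1 : p * r * p⁻¹ = a)
    (e2 : p * a * p⁻¹ = b * r * b * z) :
    z = 1 :=
  mul_inv_eq_one.1 ((evA_eq_tm ((InvI.cons t.1 (InvI.cons t.2.1 (InvI.cons t.2.2.1 (InvI.cons t.2.2.2.1 (InvI.cons t.2.2.2.2.1 (InvI.cons t.2.2.2.2.2.1 InvI.nil)))))) : InvI [z, u, v, a, b, r, p] [(nat_lit 0), (nat_lit 1), (nat_lit 2), (nat_lit 3), (nat_lit 4), (nat_lit 5)]) [(.v (nat_lit 0)), (.v (nat_lit 1)), (.v (nat_lit 2)), (.v (nat_lit 3)), (.v (nat_lit 4)), (.v (nat_lit 5)), (.v (nat_lit 6)), (.inv (.v (nat_lit 6)))] [0] (.mul (.v (nat_lit 0)) (.inv .one)) (by decide +kernel)).symm.trans (Subgroup.mem_bot.1 (pb01_0 (pb01_r t h e0 e1 e2)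 (H := ⊥) (List.forall_mem_nil _))))
noncomputable def pb02_r_R : List (List ℕ) := [[0,0],
  [1,1],
  [2,2],
  [3,3],
  [4,4],
  [5,5],
  [6,7],
  [7,6],
  [2,1,2,1],
  [1,0,1,0],
  [2,0,2,0],
  [3,0,3,0],
  [4,0,4,0],
  [5,0,5,0],
  [3,1,3,1],
  [4,2,4,2],
  [4,3,4,3],
  [1,0,4,1,4],
  [2,0,3,2,3],
  [1,5,1,5],
  [5,1,3,5,3],
  [1,2,0,5,2,5],
  [1,2,3,4,5,4,5],
  [6,6,6],
  [1,7,0,6],
  [0,1,7,1,6],
  [2,7,2,6],
  [3,7,5,6],
  [4,5,4,1,7,3,6]]
theorem pb02_r {G : Type*} [Group G] {z u v a b r p : G}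
    (t : TB z u v a b r)
    (h : P0 z u p)
    (e0 : p * v * p⁻¹ = v)
    (e1 : p * r * p⁻¹ = a)
    (e2 : p * a * p⁻¹ = b * r * b * u) :
    Rels (nthG [z, u, v, a, b, r, p, p⁻¹]) pb02_r_R :=
  rels_of_eqs ((InvI.cons t.1 (InvI.cons t.2.1 (InvI.cons t.2.2.1 (InvI.cons t.2.2.2.1 (InvI.cons t.2.2.2.2.1 (InvI.cons t.2.2.2.2.2.1 InvI.nil)))))) : InvI [z, u, v, a, b, r, p] [(nat_lit 0), (nat_lit 1), (nat_lit 2), (nat_lit 3), (nat_lit 4), (nat_lit 5)])
    (AllEq.append (show AllEq [z, u, v, a, b, r, p] [((.mul (.v (nat_lit 0)) (.v (nat_lit 0))), .one), ((.mul (.v (nat_lit 1)) (.v (nat_lit 1))), .one), ((.mul (.v (nat_lit 2)) (.v (nat_lit 2))), .one), ((.mul (.v (nat_lit 3)) (.v (nat_lit 3))), .one), ((.mul (.v (nat_lit 4)) (.v (nat_lit 4))), .one), ((.mul (.v (nat_lit 5)) (.v (nat_lit 5))), .one), ((.mul (.v (nat_lit 1)) (.v (nat_lit 2))), (.mul (.v (nat_lit 2)) (.v (nat_lit 1)))), ((.mul (.v (nat_lit 0)) (.v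 (nat_lit 1))), (.mul (.v (nat_lit 1)) (.v (nat_lit 0)))), ((.mul (.v (nat_lit 0)) (.v (nat_lit 2))), (.mul (.v (nat_lit 2)) (.v (nat_lit 0)))), ((.mul (.v (nat_lit 0)) (.v (nat_lit 3))), (.mul (.v (nat_lit 3)) (.v (nat_lit 0)))), ((.mul (.v (nat_lit 0)) (.v (nat_lit 4))), (.mul (.v (nat_lit 4)) (.v (nat_lit 0)))), ((.mul (.v (nat_lit 0)) (.v (nat_lit 5))), (.mul (.v (nat_lit 5)) (.v (nat_lit 0)))), ((.mul (.v (nat_lit 1)) (.v (nat_lit 3))), (.mul (.v (nat_lit 3)) (.v (nat_lit 1)))), ((.mul (.v (nat_lit 2)) (.v (nat_lit 4))), (.mul (.v (nat_lit 4)) (.v (nat_lit 2)))), ((.mul (.v (nat_lit 3)) (.v (nat_lit 4))), (.mul (.v (nat_lit 4)) (.v (nat_lit 3)))), ((.mul (.mul (.v (nat_lit 4)) (.v (nat_lit 1))) (.v (nat_lit 4))), (.mul (.v (nat_lit 1)) (.v (nat_lit 0)))), ((.mul (.mul (.v (nat_lit 3)) (.v (nat_lit 2))) (.v (nat_lit 3))), (.mul (.v (nat_lit 2)) (.v (nat_lit 0)))), ((.mul (.v (nat_lit 5)) (.v (nat_lit 1))),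 (.mul (.v (nat_lit 1)) (.v (nat_lit 5)))), ((.mul (.mul (.v (nat_lit 3)) (.v (nat_lit 5))) (.v (nat_lit 3))), (.mul (.v (nat_lit 5)) (.v (nat_lit 1)))), ((.mul (.mul (.v (nat_lit 5)) (.v (nat_lit 2))) (.v (nat_lit 5))), (.mul (.mul (.v (nat_lit 1)) (.v (nat_lit 2))) (.v (nat_lit 0)))), ((.mul (.mul (.v (nat_lit 5)) (.v (nat_lit 4))) (.v (nat_lit 5))), (.mul (.mul (.mul (.v (nat_lit 1)) (.v (nat_lit 2))) (.v (nat_lit 3))) (.v (nat_lit 4))))] from t)
    (AllEq.append (show AllEq [z, u, v, a, b, r, p] [((.pw (.v (nat_lit 6)) (nat_lit 3)), .one), ((.mul (.mul (.v (nat_lit 6)) (.v (nat_lit 0))) (.inv (.v (nat_lit 6)))), (.v (nat_lit 1))), ((.mul (.mul (.v (nat_lit 6)) (.v (nat_lit 1))) (.inv (.v (nat_lit 6)))), (.mul (.v (nat_lit 0)) (.v (nat_lit 1))))] from h)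
    (AllEq.append (show AllEq [z, u, v, a, b, r, p] [((.mul (.mul (.v (nat_lit 6)) (.v (nat_lit 2))) (.inv (.v (nat_lit 6)))), (.v (nat_lit 2)))] from ⟨e0, trivial⟩)
    (AllEq.append (show AllEq [z, u, v, a, b, r, p] [((.mul (.mul (.v (nat_lit 6)) (.v (nat_lit 5))) (.inv (.v (nat_lit 6)))), (.v (nat_lit 3)))] from ⟨e1, trivial⟩)
    (show AllEq [z, u, v, a, b, r, p] [((.mul (.mul (.v (nat_lit 6)) (.v (nat_lit 3))) (.inv (.v (nat_lit 6)))), (.mul (.mul (.mul (.v (nat_lit 4)) (.v (nat_lit 5))) (.v (nat_lit 4))) (.v (nat_lit 1))))] from ⟨e2, trivial⟩)))))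
    [(.v (nat_lit 0)), (.v (nat_lit 1)), (.v (nat_lit 2)), (.v (nat_lit 3)), (.v (nat_lit 4)), (.v (nat_lit 5)), (.v (nat_lit 6)), (.inv (.v (nat_lit 6)))] (by decide +kernel)
noncomputable def pb02_0_S0 : List ℕ := [nat_lit 0x1f000007000010004014, nat_lit 0x23000007000014004016, nat_lit 0x2b00000700001c000028, nat_lit 0x2f00002c006026, nat_lit 0x3300000b00001400401a, nat_lit 0x3700000b00001800801e, nat_lit 0x3b00000b00001c00000900002a, nat_lit 0x3f00003c006026, nat_lit 0x3f00000b00000800003000c02a, nat_lit 0x4300000100001f00002400c01c, nat_lit 0x4b00000f00001c00002c, nat_lit 0x4f00001300000c000038010020, nat_lit 0x57000054006026, nat_lit 0x5b00001500002d00401a, nat_lit 0x5b00001500003700003400c020, nat_lit 0x63000009000019008012, nat_lit 0x6b000002000048004018, nat_lit 0x6b00000200000f00000c000038010022, nat_lit 0x6f000006000050004018, nat_lit 0x73000006000054000028, nat_lit 0x7700002300003000802e, nat_lit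 0x7b00002700002c00002e, nat_lit 0x7f00007c006026, nat_lit 0x8700000a00006800801e, nat_lit 0x9300003300004000802e, nat_lit 0x9300001200000500007800c02a, nat_lit 0x9f00004300000f00000c000038000098010024, nat_lit 0xa300002600007800802c, nat_lit 0xa30000a000006a000097000016000060006030, nat_lit 0xa700004100004600002d00c01c, nat_lit 0xab0000a800007600003500003a000090010024, nat_lit 0xaf00004700004c00002e, nat_lit 0xb30000b0006026, nat_lit 0xb30000ac00007a00008f000012000058006030, nat_lit 0x3100008500008200802e, nat_lit 0xb700002a000064008014, nat_lit 0xbb00007d00008900004d00a020, nat_lit 0xbb0000b800008e00003e00009c010022, nat_lit 0x6f00007400009100c02e, nat_lit 0xbf00004900009a000028, nat_lit 0xbf00004f00005400002e, nat_lit 0xc300005300001300001c000009000084004030, nat_lit 0xa20000c40000a600008300008800005e016024, nat_lit 0x5e0000a900009e000096008010, nat_lit 0x880000ae00009b00000a, nat_lit 0xe0000b200001d00000e,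 nat_lit 0xb6000022000002, nat_lit 0x520000b600006100000a, nat_lit 0xbe000066000002, nat_lit 0xc700007100006e0000c100005200008c010024, nat_lit 0x5a00005600000d0000b900008c0000c50000c7000030, nat_lit 0x600000c900007f00000e, nat_lit 0x180000ce00002700000a, nat_lit 0xd2000007000000]
noncomputable def pb02_0_S : List (List ℕ) := [pb02_0_S0]
noncomputable def pb02_0_defs : List ℕ := [(nat_lit 0x400017004000140060001300500012000000120070001100600011004000110030001100700010004000100050000e0040000d0070000c0040000c0040000b0050000a0040000a0070000900600009007000080060000800500008005000070050000600000006007000050030000500700004006000040050000400600003005000030030000300700002006000020050000200300002007000010060000100500001003000010020000100600000005000000030000000200000001000000000000000000000)]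
noncomputable def pb02_0_recs : List ℕ := [(nat_lit 0xff0000100000ff0000900005ff000170001f050002200031010001d0001dff000240001d010000b0000bff0000f0000bff0000e0000aff000260002102000190002f05000200003003000140002f010002e0002f060002e0001b02000260002e030001c0002e02000180002d050002b0001403000150002c070002b0002c03000120002b05000230002a020001300029030001700028020001d00028050002500027010001d00024050000f00024010001900021070001e0001f030000a0001e050000b0001d01000140001c00000130001b020000d0001a00000110001a010000e00018050000c00016010001300016070001400015030000d00013020000600012020000800010010000b0000f070000e0000f000000a0000e01000050000d01000040000c070000a0000b01000060000a000000400008000000300007)]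
noncomputable def pb02_0_T : List (List ℕ × ℕ) := [([0], (nat_lit 0xd5))]
noncomputable def pb02_0_D : H26.Dag := ⟨[0,1,2,3,4,5,7,6], [[0,0],
  [1,1],
  [2,2],
  [3,3],
  [4,4],
  [5,5],
  [6,7],
  [7,6],
  [2,1,2,1],
  [1,0,1,0],
  [2,0,2,0],
  [3,0,3,0],
  [5,0,5,0],
  [3,1,3,1],
  [2,0,3,2,3],
  [1,5,1,5],
  [5,1,3,5,3],
  [1,2,0,5,2,5],
  [1,2,3,4,5,4,5],
  [6,6,6],
  [1,7,0,6],
  [0,1,7,1,6],
  [2,7,2,6],
  [3,7,5,6],
  [4,5,4,1,7,3,6]], [], pb02_0_defs, pb02_0_recs⟩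
theorem pb02_0_c : pb02_0_D.check pb02_0_S pb02_0_T = true := by decide +kernel
theorem pb02_0 {G : Type*} [Group G] {g : ℕ → G} (hR : Rels g pb02_r_R) {H : Subgroup G}
    (hH : ∀ k ∈ [], g k ∈ H) : evA g [0] ∈ H :=
  mem_dag (K := 8) (J := [0,1,2,3,4,5,6,7,8,9,10,11,13,14,18,19,20,21,22,23,24,25,26,27,28]) (D := pb02_0_D) (by decide +kernel) pb02_0_c (by decide +kernel) hR hH
theorem pb02 {G : Type*} [Group G] {z u v a b r p : G}
    (t : TB z u v a b r)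
    (h : P0 z u p)
    (e0 : p * v * p⁻¹ = v)
    (e1 : p * r * p⁻¹ = a)
    (e2 : p * a * p⁻¹ = b * r * b * u) :
    z = 1 :=
  mul_inv_eq_one.1 ((evA_eq_tm ((InvI.cons t.1 (InvI.cons t.2.1 (InvI.cons t.2.2.1 (InvI.cons t.2.2.2.1 (InvI.cons t.2.2.2.2.1 (InvI.cons t.2.2.2.2.2.1 InvI.nil)))))) : InvI [z, u, v, a, b, r, p] [(nat_lit 0), (nat_lit 1), (nat_lit 2), (nat_lit 3), (nat_lit 4), (nat_lit 5)]) [(.v (nat_lit 0)), (.v (nat_lit 1)), (.v (nat_lit 2)), (.v (nat_lit 3)), (.v (nat_lit 4)), (.v (nat_lit 5)), (.v (nat_lit 6)), (.inv (.v (nat_lit 6)))] [0] (.mul (.v (nat_lit 0)) (.inv .one)) (by decide +kernel)).symm.trans (Subgroup.mem_bot.1 (pb02_0 (pb02_r t h e0 e1 e2) (H := ⊥) (List.forall_mem_nil _))))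
noncomputable def pb03_r_R : List (List ℕ) := [[0,0],
  [1,1],
  [2,2],
  [3,3],
  [4,4],
  [5,5],
  [6,7],
  [7,6],
  [2,1,2,1],
  [1,0,1,0],
  [2,0,2,0],
  [3,0,3,0],
  [4,0,4,0],
  [5,0,5,0],
  [3,1,3,1],
  [4,2,4,2],
  [4,3,4,3],
  [1,0,4,1,4],
  [2,0,3,2,3],
  [1,5,1,5],
  [5,1,3,5,3],
  [1,2,0,5,2,5],
  [1,2,3,4,5,4,5],
  [6,6,6],
  [1,7,0,6],
  [0,1,7,1,6],
  [2,7,2,6],
  [3,7,5,6],
  [4,5,4,0,1,7,3,6]]
theorem pb03_r {G : Type*} [Group G] {z u v a b r p : G}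
    (t : TB z u v a b r)
    (h : P0 z u p)
    (e0 : p * v * p⁻¹ = v)
    (e1 : p * r * p⁻¹ = a)
    (e2 : p * a * p⁻¹ = b * r * b * (z * u)) :
    Rels (nthG [z, u, v, a, b, r, p, p⁻¹]) pb03_r_R :=
  rels_of_eqs ((InvI.cons t.1 (InvI.cons t.2.1 (InvI.cons t.2.2.1 (InvI.cons t.2.2.2.1 (InvI.cons t.2.2.2.2.1 (InvI.cons t.2.2.2.2.2.1 InvI.nil)))))) : InvI [z, u, v, a, b, r, p] [(nat_lit 0), (nat_lit 1), (nat_lit 2), (nat_lit 3), (nat_lit 4), (nat_lit 5)])
    (AllEq.append (show AllEq [z, u, v, a, b, r, p] [((.mul (.v (nat_lit 0)) (.v (nat_lit 0))), .one), ((.mul (.v (nat_lit 1)) (.v (nat_lit 1))), .one), ((.mul (.v (nat_lit 2)) (.v (nat_lit 2))), .one), ((.mul (.v (nat_lit 3)) (.v (nat_lit 3))), .one), ((.mul (.v (nat_lit 4)) (.v (nat_lit 4))), .one), ((.mul (.v (nat_lit 5)) (.v (nat_lit 5))), .one), ((.mul (.v (nat_lit 1)) (.v (nat_lit 2))), (.mul (.v (nat_lit 2)) (.v (nat_lit 1)))), ((.mul (.v (nat_lit 0))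 (.v (nat_lit 1))), (.mul (.v (nat_lit 1)) (.v (nat_lit 0)))), ((.mul (.v (nat_lit 0)) (.v (nat_lit 2))), (.mul (.v (nat_lit 2)) (.v (nat_lit 0)))), ((.mul (.v (nat_lit 0)) (.v (nat_lit 3))), (.mul (.v (nat_lit 3)) (.v (nat_lit 0)))), ((.mul (.v (nat_lit 0)) (.v (nat_lit 4))), (.mul (.v (nat_lit 4)) (.v (nat_lit 0)))), ((.mul (.v (nat_lit 0)) (.v (nat_lit 5))), (.mul (.v (nat_lit 5)) (.v (nat_lit 0)))), ((.mul (.v (nat_lit 1)) (.v (nat_lit 3))), (.mul (.v (nat_lit 3)) (.v (nat_lit 1)))), ((.mul (.v (nat_lit 2)) (.v (nat_lit 4))), (.mul (.v (nat_lit 4)) (.v (nat_lit 2)))), ((.mul (.v (nat_lit 3)) (.v (nat_lit 4))), (.mul (.v (nat_lit 4)) (.v (nat_lit 3)))), ((.mul (.mul (.v (nat_lit 4)) (.v (nat_lit 1))) (.v (nat_lit 4))), (.mul (.v (nat_lit 1)) (.v (nat_lit 0)))), ((.mul (.mul (.v (nat_lit 3)) (.v (nat_lit 2))) (.v (nat_lit 3))), (.mul (.v (nat_lit 2)) (.v (nat_lit 0)))), ((.mul (.v (nat_lit 5)) (.v (nat_lit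 1))), (.mul (.v (nat_lit 1)) (.v (nat_lit 5)))), ((.mul (.mul (.v (nat_lit 3)) (.v (nat_lit 5))) (.v (nat_lit 3))), (.mul (.v (nat_lit 5)) (.v (nat_lit 1)))), ((.mul (.mul (.v (nat_lit 5)) (.v (nat_lit 2))) (.v (nat_lit 5))), (.mul (.mul (.v (nat_lit 1)) (.v (nat_lit 2))) (.v (nat_lit 0)))), ((.mul (.mul (.v (nat_lit 5)) (.v (nat_lit 4))) (.v (nat_lit 5))), (.mul (.mul (.mul (.v (nat_lit 1)) (.v (nat_lit 2))) (.v (nat_lit 3))) (.v (nat_lit 4))))] from t)
    (AllEq.append (show AllEq [z, u, v, a, b, r, p] [((.pw (.v (nat_lit 6)) (nat_lit 3)), .one), ((.mul (.mul (.v (nat_lit 6)) (.v (nat_lit 0))) (.inv (.v (nat_lit 6)))), (.v (nat_lit 1))), ((.mul (.mul (.v (nat_lit 6)) (.v (nat_lit 1))) (.inv (.v (nat_lit 6)))), (.mul (.v (nat_lit 0)) (.v (nat_lit 1))))] from h)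
    (AllEq.append (show AllEq [z, u, v, a, b, r, p] [((.mul (.mul (.v (nat_lit 6)) (.v (nat_lit 2))) (.inv (.v (nat_lit 6)))), (.v (nat_lit 2)))] from ⟨e0, trivial⟩)
    (AllEq.append (show AllEq [z, u, v, a, b, r, p] [((.mul (.mul (.v (nat_lit 6)) (.v (nat_lit 5))) (.inv (.v (nat_lit 6)))), (.v (nat_lit 3)))] from ⟨e1, trivial⟩)
    (show AllEq [z, u, v, a, b, r, p] [((.mul (.mul (.v (nat_lit 6)) (.v (nat_lit 3))) (.inv (.v (nat_lit 6)))), (.mul (.mul (.mul (.v (nat_lit 4)) (.v (nat_lit 5))) (.v (nat_lit 4))) (.mul (.v (nat_lit 0)) (.v (nat_lit 1)))))] from ⟨e2, trivial⟩)))))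
    [(.v (nat_lit 0)), (.v (nat_lit 1)), (.v (nat_lit 2)), (.v (nat_lit 3)), (.v (nat_lit 4)), (.v (nat_lit 5)), (.v (nat_lit 6)), (.inv (.v (nat_lit 6)))] (by decide +kernel)
noncomputable def pb03_0_S0 : List ℕ := [nat_lit 0x1f00000700000c004010, nat_lit 0x23000007000010004012, nat_lit 0x27000007000014004014, nat_lit 0x2b00000700001c000026, nat_lit 0x3300000b00001800801c, nat_lit 0x3700000b00001c00000d000028, nat_lit 0x3f00000f00001c00002a, nat_lit 0x4300001300000c00003401001e, nat_lit 0x4b00001100001d004018, nat_lit 0x4b00001100003300003000c01e, nat_lit 0x4f00000d000015008010, nat_lit 0x57000002000030004014, nat_lit 0x5700001f000028004018, nat_lit 0x5b00000600003c004016, nat_lit 0x5b00000600000f00000c000034010020, nat_lit 0x5f00000a000048000026, nat_lit 0x63000060006024, nat_lit 0x6700000e00005400801c, nat_lit 0x73000016000068004016, nat_lit 0x7700003500003a00001d00c01a, nat_lit 0x7b00007800004e00002100002600006c010022,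 nat_lit 0x7f00003b00004000002c, nat_lit 0x83000080006024, nat_lit 0x8300007c00005200006b00002d00003200006400602e, nat_lit 0x4100005d00005a00802c, nat_lit 0x8700001a000050008012, nat_lit 0x8b00005500006100003e00a01e, nat_lit 0x8b00008800006600002a000074010020, nat_lit 0x8f00004700001300001c00000d00001500007000402e, nat_lit 0x6d00006a00009000007200006f00007401a022, nat_lit 0x4500004900007500004a00c010, nat_lit 0x5400007a00006700000a, nat_lit 0x1c00007e00002b00000c, nat_lit 0x82000007000000]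
noncomputable def pb03_0_S : List (List ℕ) := [pb03_0_S0]
noncomputable def pb03_0_defs : List ℕ := [(nat_lit 0x4000110050000f0000000f0070000e0060000e0040000e0030000e0050000d0040000d0040000b0050000a00700009006000090050000800300007005000060000000600300005006000040050000400600003005000030060000200500002003000020060000100300001002000010010000100600000005000000030000000200000001000000000000000000000)]
noncomputable def pb03_0_recs : List ℕ := [(nat_lit 0xff0000100000ff0000a00006ff0001900014010001c0001c050001b00023020001c00022030001100022020001300021050001f00017030001800020070001f00020030000f0001f050001a0001e02000100001d00000190001c010001400019070001700018010001100017020000c00016000000e00016010000900015000000b00015010000d00013050000b00012010001000012030000c0001002000060000f000000a0000d01000050000c01000060000a000000400009000000300008000000200007)]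
noncomputable def pb03_0_T : List (List ℕ × ℕ) := [([0], (nat_lit 0x85))]
noncomputable def pb03_0_D : H26.Dag := ⟨[0,1,2,3,4,5,7,6], [[0,0],
  [1,1],
  [2,2],
  [3,3],
  [4,4],
  [5,5],
  [6,7],
  [7,6],
  [1,0,1,0],
  [2,0,2,0],
  [3,0,3,0],
  [5,0,5,0],
  [3,1,3,1],
  [2,0,3,2,3],
  [1,5,1,5],
  [5,1,3,5,3],
  [1,2,0,5,2,5],
  [1,2,3,4,5,4,5],
  [6,6,6],
  [1,7,0,6],
  [0,1,7,1,6],
  [2,7,2,6],
  [3,7,5,6],
  [4,5,4,0,1,7,3,6]], [], pb03_0_defs, pb03_0_recs⟩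
theorem pb03_0_c : pb03_0_D.check pb03_0_S pb03_0_T = true := by decide +kernel
theorem pb03_0 {G : Type*} [Group G] {g : ℕ → G} (hR : Rels g pb03_r_R) {H : Subgroup G}
    (hH : ∀ k ∈ [], g k ∈ H) : evA g [0] ∈ H :=
  mem_dag (K := 8) (J := [0,1,2,3,4,5,6,7,9,10,11,13,14,18,19,20,21,22,23,24,25,26,27,28]) (D := pb03_0_D) (by decide +kernel) pb03_0_c (by decide +kernel) hR hH
theorem pb03 {G : Type*} [Group G] {z u v a b r p : G}
    (t : TB z u v a b r)
    (h : P0 z u p)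
    (e0 : p * v * p⁻¹ = v)
    (e1 : p * r * p⁻¹ = a)
    (e2 : p * a * p⁻¹ = b * r * b * (z * u)) :
    z = 1 :=
  mul_inv_eq_one.1 ((evA_eq_tm ((InvI.cons t.1 (InvI.cons t.2.1 (InvI.cons t.2.2.1 (InvI.cons t.2.2.2.1 (InvI.cons t.2.2.2.2.1 (InvI.cons t.2.2.2.2.2.1 InvI.nil)))))) : InvI [z, u, v, a, b, r, p] [(nat_lit 0), (nat_lit 1), (nat_lit 2), (nat_lit 3), (nat_lit 4), (nat_lit 5)]) [(.v (nat_lit 0)), (.v (nat_lit 1)), (.v (nat_lit 2)), (.v (nat_lit 3)), (.v (nat_lit 4)), (.v (nat_lit 5)), (.v (nat_lit 6)), (.inv (.v (nat_lit 6)))] [0] (.mul (.v (nat_lit 0)) (.inv .one)) (by decide +kernel)).symm.trans (Subgroup.mem_bot.1 (pb03_0 (pb03_r t h e0 e1 e2) (H := ⊥) (List.forall_mem_nil _))))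
noncomputable def pb10_r_R : List (List ℕ) := [[0,0],
  [1,1],
  [2,2],
  [3,3],
  [4,4],
  [5,5],
  [6,7],
  [7,6],
  [2,1,2,1],
  [1,0,1,0],
  [2,0,2,0],
  [3,0,3,0],
  [4,0,4,0],
  [5,0,5,0],
  [3,1,3,1],
  [4,2,4,2],
  [4,3,4,3],
  [1,0,4,1,4],
  [2,0,3,2,3],
  [1,5,1,5],
  [5,1,3,5,3],
  [1,2,0,5,2,5],
  [1,2,3,4,5,4,5],
  [6,6,6],
  [1,7,0,6],
  [0,1,7,1,6],
  [2,7,2,6],
  [3,0,7,5,6],
  [4,5,4,7,3,6]]
theorem pb10_r {G : Type*} [Group G] {z u v a b r p : G}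
    (t : TB z u v a b r)
    (h : P0 z u p)
    (e0 : p * v * p⁻¹ = v)
    (e1 : p * r * p⁻¹ = a * z)
    (e2 : p * a * p⁻¹ = b * r * b) :
    Rels (nthG [z, u, v, a, b, r, p, p⁻¹]) pb10_r_R :=
  rels_of_eqs ((InvI.cons t.1 (InvI.cons t.2.1 (InvI.cons t.2.2.1 (InvI.cons t.2.2.2.1 (InvI.cons t.2.2.2.2.1 (InvI.cons t.2.2.2.2.2.1 InvI.nil)))))) : InvI [z, u, v, a, b, r, p] [(nat_lit 0), (nat_lit 1), (nat_lit 2), (nat_lit 3), (nat_lit 4), (nat_lit 5)])
    (AllEq.append (show AllEq [z, u, v, a, b, r, p] [((.mul (.v (nat_lit 0)) (.v (nat_lit 0))), .one), ((.mul (.v (nat_lit 1)) (.v (nat_lit 1))), .one), ((.mul (.v (nat_lit 2)) (.v (nat_lit 2))), .one), ((.mul (.v (nat_lit 3)) (.v (nat_lit 3))), .one), ((.mul (.v (nat_lit 4)) (.v (nat_lit 4))), .one), ((.mul (.v (nat_lit 5)) (.v (nat_lit 5))), .one), ((.mul (.v (nat_lit 1)) (.v (nat_lit 2))), (.mul (.v (nat_lit 2)) (.v (nat_lit 1)))), ((.mul (.v (nat_lit 0)) (.v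 (nat_lit 1))), (.mul (.v (nat_lit 1)) (.v (nat_lit 0)))), ((.mul (.v (nat_lit 0)) (.v (nat_lit 2))), (.mul (.v (nat_lit 2)) (.v (nat_lit 0)))), ((.mul (.v (nat_lit 0)) (.v (nat_lit 3))), (.mul (.v (nat_lit 3)) (.v (nat_lit 0)))), ((.mul (.v (nat_lit 0)) (.v (nat_lit 4))), (.mul (.v (nat_lit 4)) (.v (nat_lit 0)))), ((.mul (.v (nat_lit 0)) (.v (nat_lit 5))), (.mul (.v (nat_lit 5)) (.v (nat_lit 0)))), ((.mul (.v (nat_lit 1)) (.v (nat_lit 3))), (.mul (.v (nat_lit 3)) (.v (nat_lit 1)))), ((.mul (.v (nat_lit 2)) (.v (nat_lit 4))), (.mul (.v (nat_lit 4)) (.v (nat_lit 2)))), ((.mul (.v (nat_lit 3)) (.v (nat_lit 4))), (.mul (.v (nat_lit 4)) (.v (nat_lit 3)))), ((.mul (.mul (.v (nat_lit 4)) (.v (nat_lit 1))) (.v (nat_lit 4))), (.mul (.v (nat_lit 1)) (.v (nat_lit 0)))), ((.mul (.mul (.v (nat_lit 3)) (.v (nat_lit 2))) (.v (nat_lit 3))), (.mul (.v (nat_lit 2)) (.v (nat_lit 0)))), ((.mul (.v (nat_lit 5)) (.v (nat_lit 1))),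 (.mul (.v (nat_lit 1)) (.v (nat_lit 5)))), ((.mul (.mul (.v (nat_lit 3)) (.v (nat_lit 5))) (.v (nat_lit 3))), (.mul (.v (nat_lit 5)) (.v (nat_lit 1)))), ((.mul (.mul (.v (nat_lit 5)) (.v (nat_lit 2))) (.v (nat_lit 5))), (.mul (.mul (.v (nat_lit 1)) (.v (nat_lit 2))) (.v (nat_lit 0)))), ((.mul (.mul (.v (nat_lit 5)) (.v (nat_lit 4))) (.v (nat_lit 5))), (.mul (.mul (.mul (.v (nat_lit 1)) (.v (nat_lit 2))) (.v (nat_lit 3))) (.v (nat_lit 4))))] from t)
    (AllEq.append (show AllEq [z, u, v, a, b, r, p] [((.pw (.v (nat_lit 6)) (nat_lit 3)), .one), ((.mul (.mul (.v (nat_lit 6)) (.v (nat_lit 0))) (.inv (.v (nat_lit 6)))), (.v (nat_lit 1))), ((.mul (.mul (.v (nat_lit 6)) (.v (nat_lit 1))) (.inv (.v (nat_lit 6)))), (.mul (.v (nat_lit 0)) (.v (nat_lit 1))))] from h)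
    (AllEq.append (show AllEq [z, u, v, a, b, r, p] [((.mul (.mul (.v (nat_lit 6)) (.v (nat_lit 2))) (.inv (.v (nat_lit 6)))), (.v (nat_lit 2)))] from ⟨e0, trivial⟩)
    (AllEq.append (show AllEq [z, u, v, a, b, r, p] [((.mul (.mul (.v (nat_lit 6)) (.v (nat_lit 5))) (.inv (.v (nat_lit 6)))), (.mul (.v (nat_lit 3)) (.v (nat_lit 0))))] from ⟨e1, trivial⟩)
    (show AllEq [z, u, v, a, b, r, p] [((.mul (.mul (.v (nat_lit 6)) (.v (nat_lit 3))) (.inv (.v (nat_lit 6)))), (.mul (.mul (.v (nat_lit 4)) (.v (nat_lit 5))) (.v (nat_lit 4))))] from ⟨e2, trivial⟩)))))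
    [(.v (nat_lit 0)), (.v (nat_lit 1)), (.v (nat_lit 2)), (.v (nat_lit 3)), (.v (nat_lit 4)), (.v (nat_lit 5)), (.v (nat_lit 6)), (.inv (.v (nat_lit 6)))] (by decide +kernel)
noncomputable def pb10_0_S0 : List ℕ := [nat_lit 0x1b000018006028, nat_lit 0x1f00000700000c004010, nat_lit 0x23000007000010004012, nat_lit 0x27000007000014004014, nat_lit 0x3300000700001800002a, nat_lit 0x3700000500001f00002c00c01c, nat_lit 0x3b00000b00001c00802a, nat_lit 0x3f00000900002300002800c01e, nat_lit 0x4300000d00001d004012, nat_lit 0x4300001300000800002401001e, nat_lit 0x5300001f000028004016, nat_lit 0x5700001f000030008020, nat_lit 0x5b00002300002c004018, nat_lit 0x5f00000e00004800002a, nat_lit 0x6300002d00005700005400c022, nat_lit 0x67000012000050008020, nat_lit 0x6f00001a000002000050002030, nat_lit 0x7300002600005c00401a, nat_lit 0x7700002200001e000029000039010024, nat_lit 0x7700007400004600003200001500006c014026, nat_lit 0x6f00003b00003800006c00004d014032,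 nat_lit 0x51000042004028, nat_lit 0x7b00003500005f00002900202c, nat_lit 0x7f00007c00005a000039002030, nat_lit 0x5500004a00005d00002e, nat_lit 0x8300004700001300001800004c004032, nat_lit 0x3e00004f00004c000065000083000080000061004026, nat_lit 0x5000006900006700000a, nat_lit 0x1800006e00003300000c, nat_lit 0x72000007000000]
noncomputable def pb10_0_S : List (List ℕ) := [pb10_0_S0]
noncomputable def pb10_0_defs : List ℕ := [(nat_lit 0x400011003000110000001100500010004000100030000e0050000d0050000c0030000b006000090040000800500007003000070050000500400005006000040020000400300003007000020040000200600001005000010040000100300001002000010010000100700000006000000030000000200000001000000000000000000000)]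
noncomputable def pb10_0_recs : List ℕ := [(nat_lit 0xff0000100000ff0000c00005ff0001300019050001200020020001f0001307000180001f07000140001e06000130001d060001d0001b040001a0001d02000180001d03000160001c07000130001b010001300019050001400018010001100017020000a00016010000b00015010000900014030000800010000000f0001002000090000f00000060000e010000a0000d01000050000c000000400009000000300008000000200007070000500006)]
noncomputable def pb10_0_T : List (List ℕ × ℕ) := [([0], (nat_lit 0x75))]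
noncomputable def pb10_0_D : H26.Dag := ⟨[0,1,2,3,4,5,7,6], [[0,0],
  [1,1],
  [2,2],
  [3,3],
  [4,4],
  [5,5],
  [6,7],
  [7,6],
  [1,0,1,0],
  [2,0,2,0],
  [3,0,3,0],
  [3,1,3,1],
  [4,2,4,2],
  [4,3,4,3],
  [1,0,4,1,4],
  [2,0,3,2,3],
  [1,5,1,5],
  [5,1,3,5,3],
  [1,2,0,5,2,5],
  [1,2,3,4,5,4,5],
  [6,6,6],
  [1,7,0,6],
  [0,1,7,1,6],
  [2,7,2,6],
  [3,0,7,5,6],
  [4,5,4,7,3,6]], [], pb10_0_defs, pb10_0_recs⟩
theorem pb10_0_c : pb10_0_D.check pb10_0_S pb10_0_T = true := by decide +kernel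
theorem pb10_0 {G : Type*} [Group G] {g : ℕ → G} (hR : Rels g pb10_r_R) {H : Subgroup G}
    (hH : ∀ k ∈ [], g k ∈ H) : evA g [0] ∈ H :=
  mem_dag (K := 8) (J := [0,1,2,3,4,5,6,7,9,10,11,14,15,16,17,18,19,20,21,22,23,24,25,26,27,28]) (D := pb10_0_D) (by decide +kernel) pb10_0_c (by decide +kernel) hR hH
theorem pb10 {G : Type*} [Group G] {z u v a b r p : G}
    (t : TB z u v a b r)
    (h : P0 z u p)
    (e0 : p * v * p⁻¹ = v)
    (e1 : p * r * p⁻¹ = a * z)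
    (e2 : p * a * p⁻¹ = b * r * b) :
    z = 1 :=
  mul_inv_eq_one.1 ((evA_eq_tm ((InvI.cons t.1 (InvI.cons t.2.1 (InvI.cons t.2.2.1 (InvI.cons t.2.2.2.1 (InvI.cons t.2.2.2.2.1 (InvI.cons t.2.2.2.2.2.1 InvI.nil)))))) : InvI [z, u, v, a, b, r, p] [(nat_lit 0), (nat_lit 1), (nat_lit 2), (nat_lit 3), (nat_lit 4), (nat_lit 5)]) [(.v (nat_lit 0)), (.v (nat_lit 1)), (.v (nat_lit 2)), (.v (nat_lit 3)), (.v (nat_lit 4)), (.v (nat_lit 5)), (.v (nat_lit 6)), (.inv (.v (nat_lit 6)))] [0] (.mul (.v (nat_lit 0)) (.inv .one)) (by decide +kernel)).symm.trans (Subgroup.mem_bot.1 (pb10_0 (pb10_r t h e0 e1 e2) (H := ⊥) (List.forall_mem_nil _))))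
noncomputable def pb11_r_R : List (List ℕ) := [[0,0],
  [1,1],
  [2,2],
  [3,3],
  [4,4],
  [5,5],
  [6,7],
  [7,6],
  [2,1,2,1],
  [1,0,1,0],
  [2,0,2,0],
  [3,0,3,0],
  [4,0,4,0],
  [5,0,5,0],
  [3,1,3,1],
  [4,2,4,2],
  [4,3,4,3],
  [1,0,4,1,4],
  [2,0,3,2,3],
  [1,5,1,5],
  [5,1,3,5,3],
  [1,2,0,5,2,5],
  [1,2,3,4,5,4,5],
  [6,6,6],
  [1,7,0,6],
  [0,1,7,1,6],
  [2,7,2,6],
  [3,0,7,5,6],
  [4,5,4,0,7,3,6]]
theorem pb11_r {G : Type*} [Group G] {z u v a b r p : G}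
    (t : TB z u v a b r)
    (h : P0 z u p)
    (e0 : p * v * p⁻¹ = v)
    (e1 : p * r * p⁻¹ = a * z)
    (e2 : p * a * p⁻¹ = b * r * b * z) :
    Rels (nthG [z, u, v, a, b, r, p, p⁻¹]) pb11_r_R :=
  rels_of_eqs ((InvI.cons t.1 (InvI.cons t.2.1 (InvI.cons t.2.2.1 (InvI.cons t.2.2.2.1 (InvI.cons t.2.2.2.2.1 (InvI.cons t.2.2.2.2.2.1 InvI.nil)))))) : InvI [z, u, v, a, b, r, p] [(nat_lit 0), (nat_lit 1), (nat_lit 2), (nat_lit 3), (nat_lit 4), (nat_lit 5)])
    (AllEq.append (show AllEq [z, u, v, a, b, r, p] [((.mul (.v (nat_lit 0)) (.v (nat_lit 0))), .one), ((.mul (.v (nat_lit 1)) (.v (nat_lit 1))), .one), ((.mul (.v (nat_lit 2)) (.v (nat_lit 2))), .one), ((.mul (.v (nat_lit 3)) (.v (nat_lit 3))), .one), ((.mul (.v (nat_lit 4)) (.v (nat_lit 4))), .one), ((.mul (.v (nat_lit 5)) (.v (nat_lit 5))), .one), ((.mul (.v (nat_lit 1)) (.v (nat_lit 2))), (.mul (.v (nat_lit 2)) (.v (nat_lit 1)))), ((.mul (.v (nat_lit 0))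 (.v (nat_lit 1))), (.mul (.v (nat_lit 1)) (.v (nat_lit 0)))), ((.mul (.v (nat_lit 0)) (.v (nat_lit 2))), (.mul (.v (nat_lit 2)) (.v (nat_lit 0)))), ((.mul (.v (nat_lit 0)) (.v (nat_lit 3))), (.mul (.v (nat_lit 3)) (.v (nat_lit 0)))), ((.mul (.v (nat_lit 0)) (.v (nat_lit 4))), (.mul (.v (nat_lit 4)) (.v (nat_lit 0)))), ((.mul (.v (nat_lit 0)) (.v (nat_lit 5))), (.mul (.v (nat_lit 5)) (.v (nat_lit 0)))), ((.mul (.v (nat_lit 1)) (.v (nat_lit 3))), (.mul (.v (nat_lit 3)) (.v (nat_lit 1)))), ((.mul (.v (nat_lit 2)) (.v (nat_lit 4))), (.mul (.v (nat_lit 4)) (.v (nat_lit 2)))), ((.mul (.v (nat_lit 3)) (.v (nat_lit 4))), (.mul (.v (nat_lit 4)) (.v (nat_lit 3)))), ((.mul (.mul (.v (nat_lit 4)) (.v (nat_lit 1))) (.v (nat_lit 4))), (.mul (.v (nat_lit 1)) (.v (nat_lit 0)))), ((.mul (.mul (.v (nat_lit 3)) (.v (nat_lit 2))) (.v (nat_lit 3))), (.mul (.v (nat_lit 2)) (.v (nat_lit 0)))), ((.mul (.v (nat_lit 5)) (.v (nat_lit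 1))), (.mul (.v (nat_lit 1)) (.v (nat_lit 5)))), ((.mul (.mul (.v (nat_lit 3)) (.v (nat_lit 5))) (.v (nat_lit 3))), (.mul (.v (nat_lit 5)) (.v (nat_lit 1)))), ((.mul (.mul (.v (nat_lit 5)) (.v (nat_lit 2))) (.v (nat_lit 5))), (.mul (.mul (.v (nat_lit 1)) (.v (nat_lit 2))) (.v (nat_lit 0)))), ((.mul (.mul (.v (nat_lit 5)) (.v (nat_lit 4))) (.v (nat_lit 5))), (.mul (.mul (.mul (.v (nat_lit 1)) (.v (nat_lit 2))) (.v (nat_lit 3))) (.v (nat_lit 4))))] from t)
    (AllEq.append (show AllEq [z, u, v, a, b, r, p] [((.pw (.v (nat_lit 6)) (nat_lit 3)), .one), ((.mul (.mul (.v (nat_lit 6)) (.v (nat_lit 0))) (.inv (.v (nat_lit 6)))), (.v (nat_lit 1))), ((.mul (.mul (.v (nat_lit 6)) (.v (nat_lit 1))) (.inv (.v (nat_lit 6)))), (.mul (.v (nat_lit 0)) (.v (nat_lit 1))))] from h)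
    (AllEq.append (show AllEq [z, u, v, a, b, r, p] [((.mul (.mul (.v (nat_lit 6)) (.v (nat_lit 2))) (.inv (.v (nat_lit 6)))), (.v (nat_lit 2)))] from ⟨e0, trivial⟩)
    (AllEq.append (show AllEq [z, u, v, a, b, r, p] [((.mul (.mul (.v (nat_lit 6)) (.v (nat_lit 5))) (.inv (.v (nat_lit 6)))), (.mul (.v (nat_lit 3)) (.v (nat_lit 0))))] from ⟨e1, trivial⟩)
    (show AllEq [z, u, v, a, b, r, p] [((.mul (.mul (.v (nat_lit 6)) (.v (nat_lit 3))) (.inv (.v (nat_lit 6)))), (.mul (.mul (.mul (.v (nat_lit 4)) (.v (nat_lit 5))) (.v (nat_lit 4))) (.v (nat_lit 0))))] from ⟨e2, trivial⟩)))))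
    [(.v (nat_lit 0)), (.v (nat_lit 1)), (.v (nat_lit 2)), (.v (nat_lit 3)), (.v (nat_lit 4)), (.v (nat_lit 5)), (.v (nat_lit 6)), (.inv (.v (nat_lit 6)))] (by decide +kernel)
noncomputable def pb11_0_S0 : List ℕ := [nat_lit 0x2300002000602c, nat_lit 0x2700000700000c004012, nat_lit 0x2b000007000010004014, nat_lit 0x2f000007000014004016, nat_lit 0x3700000700001c004018, nat_lit 0x3b00000700002000002e, nat_lit 0x3f00003c00602c, nat_lit 0x4300000b000010004010, nat_lit 0x4700000b00001400401a, nat_lit 0x4b00000b00001c008024, nat_lit 0x4f00000b000020000015000030, nat_lit 0x5300000b00002400802e, nat_lit 0x5300000b00000800004000c030, nat_lit 0x5700000900002b00003000c022, nat_lit 0x5f00000f000020000032, nat_lit 0x6300000d000035004014, nat_lit 0x6300001300000800002c010022, nat_lit 0x6700001300001800401e, nat_lit 0x6b00001300000c00004c010026, nat_lit 0x7300002500004900401a, nat_lit 0x7300002500004b00004800c026, nat_lit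 0x8300001500003b000028002030, nat_lit 0x8300001f00001c00007c012034, nat_lit 0x9300002d000032004012, nat_lit 0x9300002300000c000005010030, nat_lit 0x9f000023000008000030010034, nat_lit 0xa300002700002c004010, nat_lit 0xa3000006000044004014, nat_lit 0xa7000006000048004016, nat_lit 0xa700002700003000401a, nat_lit 0xab000027000038008024, nat_lit 0xab000055000083000088010034, nat_lit 0xab00000600004400001e00005c010028, nat_lit 0xb300000a00005c004018, nat_lit 0xb300000a00000f00000c00004c010028, nat_lit 0xb700006500402c, nat_lit 0xb700000e00007000002e, nat_lit 0xbf000079000082004010, nat_lit 0xbf00003700000700001000001d014028, nat_lit 0xc300001200007c00002e, nat_lit 0xc70000c400602c, nat_lit 0xcb00001600008800401a, nat_lit 0xcf000016000090008024, nat_lit 0xd300006d0000a30000a800c022, nat_lit 0xd700006d00006a0000b000c020, nat_lit 0xdf000022000070000091000030, nat_lit 0xe30000e000602c, nat_lit 0xe300002200000d00006500c030,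 nat_lit 0xe30000710000a700006100c034, nat_lit 0xe700002a0000d0004018, nat_lit 0xeb00002e000098004016, nat_lit 0xeb00002e000002000090002034, nat_lit 0xef00002e0000a0004018, nat_lit 0xef0000530000050000a8010034, nat_lit 0xf300005700001d000099010026, nat_lit 0xf7000036000065008032, nat_lit 0xfb0000950000d900401a, nat_lit 0xfb00008500008a00004900c022, nat_lit 0xfb00008100007a0000370000340000bc00c02a, nat_lit 0x970000230000080000340000bc0000e9018036, nat_lit 0xe10000ed0000c900402e, nat_lit 0xcd0000f100a02c, nat_lit 0xff0000fc0000e600004d0000520000dc01002a, nat_lit 0x10300008100007e000032]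
noncomputable def pb11_0_S1 : List ℕ := [nat_lit 0x10700010400602c, nat_lit 0x1070001000000fa0000db0000710000d5006036, nat_lit 0x8e0000d100010500010200c034, nat_lit 0x10b00003a000084008014, nat_lit 0x10b00003a0000880000fd008022, nat_lit 0x10f00010c000112004016, nat_lit 0x10f00010c00010e00005a00c022, nat_lit 0xb600010a000115000018, nat_lit 0x11300006300006800401c, nat_lit 0x1130000420000b000401e, nat_lit 0x11700003e0000f4004018, nat_lit 0xaa0000f600012900402e, nat_lit 0x11b000063000070000032, nat_lit 0x11b00011800012d0000c5000034, nat_lit 0x11f0000910000b5008012, nat_lit 0x11f0000910000b7000075002030, nat_lit 0x1230001310001360000c6000022, nat_lit 0x1270001240001420000aa00008f00008c01002a, nat_lit 0x13e0000a700005500008300008c000145000127000036, nat_lit 0x9200014900013a000002, nat_lit 0x7000014900013e00000c, nat_lit 0x10900014e00011e00000a, nat_lit 0x8d00014e0000b900000e, nat_lit 0x630001520000ad000004, nat_lit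 0xfd00015600011a000004, nat_lit 0x15a0000be000002, nat_lit 0xa000015a0000c200000a, nat_lit 0x4100015e0000d3000006, nat_lit 0x9e0001610000a5000002, nat_lit 0x16a00005e000000, nat_lit 0xaf00016e0000d8000008, nat_lit 0x1720000cb000006, nat_lit 0x17a0000b2000002, nat_lit 0x12600018100012500c01a, nat_lit 0x7700001b00001800004500012100018501802a, nat_lit 0xf700003d000114000189000077000080014036, nat_lit 0x12b00018d0000de00016500009f00009c01002a, nat_lit 0xa200017e00001900017500009c00019100012b000036, nat_lit 0x800001950000c700000e, nat_lit 0x1c00019a00003700000a, nat_lit 0x19e000007000000]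
noncomputable def pb11_0_S : List (List ℕ) := [pb11_0_S0, pb11_0_S1]
noncomputable def pb11_0_defs : List ℕ := [(nat_lit 0x40001600300016007000150050001500500014003000140050001300700011006000110040001100400010003000100050000e0030000e0070000d0060000d0020000d0050000c0060000b0050000a0040000a00500009003000090020000900500008004000080030000800100008005000070040000700300007000000070070000600600006004000060030000600600004005000040040000400200004006000030050000300300003007000020060000200500002003000020020000200700001006000010050000100400001003000010020000100100001007000000060000000500000004000000030000000200000001000000000000000000000),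
  (nat_lit 0x40001f0040001b0030001b0000001b00600018005000180040001800300017000000170070001600600016)]
noncomputable def pb11_0_recs : List ℕ := [(nat_lit 0x2000210004005000360003f070003c00023070003a0003c060003e00025040002e0003e020001a0003e010003c0003e02000270003d030002f0003c06000290003b00000270003b07000230003a00000250003a000003300039050002400038010002700038070003700038000002d00037010002b00035020002900034010002300033010002100032070003000031010001e0003005000100002f01000160002f010001b0002d06000270002d02000120002c00000160002c02000160002a06000210002a010000d0002a010000b00029000001100029000001000028010000a00028060000b00027060000900024000000f00024030001e0002007000090002005000110001c010001a0001c03000120001a030000500019030000a00018000001500018020000700017020000b00015010000f00014000000800014000000e00013010000600012010000400011010000300010070000e0000f01000070000e00000060000d00000040000b00000030000a000000200009070000700008),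
  (nat_lit 0xff0000100000ff0000d00006ff0001f0003105000260004a030001f0003d05000440001d010004400044010002b0002b030000e00030ff000350002b000000f00008ff0003200030ff000100000aff0002400008010002700027ff0001e00021ff0003400018ff0003800027ff0004300040ff0002900004ff000370002dff0001b00047050002200049020003300048070002900047010003700047030003900046020001b00046070004500033000003c00045030002b00044020001900044050004300037020001e0004300000400004303000400004202000200004205000400002d030003b00041070004000041)]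
noncomputable def pb11_0_T : List (List ℕ × ℕ) := [([0], (nat_lit 0x1a1))]
noncomputable def pb11_0_D : H26.Dag := ⟨[0,1,2,3,4,5,7,6], [[0,0],
  [1,1],
  [2,2],
  [3,3],
  [4,4],
  [5,5],
  [6,7],
  [7,6],
  [2,1,2,1],
  [1,0,1,0],
  [2,0,2,0],
  [3,0,3,0],
  [5,0,5,0],
  [3,1,3,1],
  [4,2,4,2],
  [4,3,4,3],
  [1,0,4,1,4],
  [2,0,3,2,3],
  [1,5,1,5],
  [5,1,3,5,3],
  [1,2,0,5,2,5],
  [1,2,3,4,5,4,5],
  [6,6,6],
  [1,7,0,6],
  [0,1,7,1,6],
  [2,7,2,6],
  [3,0,7,5,6],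
  [4,5,4,0,7,3,6]], [], pb11_0_defs, pb11_0_recs⟩
theorem pb11_0_c : pb11_0_D.check pb11_0_S pb11_0_T = true := by decide +kernel
theorem pb11_0 {G : Type*} [Group G] {g : ℕ → G} (hR : Rels g pb11_r_R) {H : Subgroup G}
    (hH : ∀ k ∈ [], g k ∈ H) : evA g [0] ∈ H :=
  mem_dag (K := 8) (J := [0,1,2,3,4,5,6,7,8,9,10,11,13,14,15,16,17,18,19,20,21,22,23,24,25,26,27,28]) (D := pb11_0_D) (by decide +kernel) pb11_0_c (by decide +kernel) hR hH
theorem pb11 {G : Type*} [Group G] {z u v a b r p : G}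
    (t : TB z u v a b r)
    (h : P0 z u p)
    (e0 : p * v * p⁻¹ = v)
    (e1 : p * r * p⁻¹ = a * z)
    (e2 : p * a * p⁻¹ = b * r * b * z) :
    z = 1 :=
  mul_inv_eq_one.1 ((evA_eq_tm ((InvI.cons t.1 (InvI.cons t.2.1 (InvI.cons t.2.2.1 (InvI.cons t.2.2.2.1 (InvI.cons t.2.2.2.2.1 (InvI.cons t.2.2.2.2.2.1 InvI.nil)))))) : InvI [z, u, v, a, b, r, p] [(nat_lit 0), (nat_lit 1), (nat_lit 2), (nat_lit 3), (nat_lit 4), (nat_lit 5)]) [(.v (nat_lit 0)), (.v (nat_lit 1)), (.v (nat_lit 2)), (.v (nat_lit 3)), (.v (nat_lit 4)), (.v (nat_lit 5)), (.v (nat_lit 6)), (.inv (.v (nat_lit 6)))] [0] (.mul (.v (nat_lit 0)) (.inv .one)) (by decide +kernel)).symm.trans (Subgroup.mem_bot.1 (pb11_0 (pb11_r t h e0 e1 e2) (H := ⊥) (List.forall_mem_nil _))))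
noncomputable def pb12_r_R : List (List ℕ) := [[0,0],
  [1,1],
  [2,2],
  [3,3],
  [4,4],
  [5,5],
  [6,7],
  [7,6],
  [2,1,2,1],
  [1,0,1,0],
  [2,0,2,0],
  [3,0,3,0],
  [4,0,4,0],
  [5,0,5,0],
  [3,1,3,1],
  [4,2,4,2],
  [4,3,4,3],
  [1,0,4,1,4],
  [2,0,3,2,3],
  [1,5,1,5],
  [5,1,3,5,3],
  [1,2,0,5,2,5],
  [1,2,3,4,5,4,5],
  [6,6,6],
  [1,7,0,6],
  [0,1,7,1,6],
  [2,7,2,6],
  [3,0,7,5,6],
  [4,5,4,1,7,3,6]]
theorem pb12_r {G : Type*} [Group G] {z u v a b r p : G}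
    (t : TB z u v a b r)
    (h : P0 z u p)
    (e0 : p * v * p⁻¹ = v)
    (e1 : p * r * p⁻¹ = a * z)
    (e2 : p * a * p⁻¹ = b * r * b * u) :
    Rels (nthG [z, u, v, a, b, r, p, p⁻¹]) pb12_r_R :=
  rels_of_eqs ((InvI.cons t.1 (InvI.cons t.2.1 (InvI.cons t.2.2.1 (InvI.cons t.2.2.2.1 (InvI.cons t.2.2.2.2.1 (InvI.cons t.2.2.2.2.2.1 InvI.nil)))))) : InvI [z, u, v, a, b, r, p] [(nat_lit 0), (nat_lit 1), (nat_lit 2), (nat_lit 3), (nat_lit 4), (nat_lit 5)])
    (AllEq.append (show AllEq [z, u, v, a, b, r, p] [((.mul (.v (nat_lit 0)) (.v (nat_lit 0))), .one), ((.mul (.v (nat_lit 1)) (.v (nat_lit 1))), .one), ((.mul (.v (nat_lit 2)) (.v (nat_lit 2))), .one), ((.mul (.v (nat_lit 3)) (.v (nat_lit 3))), .one), ((.mul (.v (nat_lit 4)) (.v (nat_lit 4))), .one), ((.mul (.v (nat_lit 5)) (.v (nat_lit 5))), .one), ((.mul (.v (nat_lit 1)) (.v (nat_lit 2))), (.mul (.v (nat_lit 2)) (.v (nat_lit 1)))), ((.mul (.v (nat_lit 0))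 (.v (nat_lit 1))), (.mul (.v (nat_lit 1)) (.v (nat_lit 0)))), ((.mul (.v (nat_lit 0)) (.v (nat_lit 2))), (.mul (.v (nat_lit 2)) (.v (nat_lit 0)))), ((.mul (.v (nat_lit 0)) (.v (nat_lit 3))), (.mul (.v (nat_lit 3)) (.v (nat_lit 0)))), ((.mul (.v (nat_lit 0)) (.v (nat_lit 4))), (.mul (.v (nat_lit 4)) (.v (nat_lit 0)))), ((.mul (.v (nat_lit 0)) (.v (nat_lit 5))), (.mul (.v (nat_lit 5)) (.v (nat_lit 0)))), ((.mul (.v (nat_lit 1)) (.v (nat_lit 3))), (.mul (.v (nat_lit 3)) (.v (nat_lit 1)))), ((.mul (.v (nat_lit 2)) (.v (nat_lit 4))), (.mul (.v (nat_lit 4)) (.v (nat_lit 2)))), ((.mul (.v (nat_lit 3)) (.v (nat_lit 4))), (.mul (.v (nat_lit 4)) (.v (nat_lit 3)))), ((.mul (.mul (.v (nat_lit 4)) (.v (nat_lit 1))) (.v (nat_lit 4))), (.mul (.v (nat_lit 1)) (.v (nat_lit 0)))), ((.mul (.mul (.v (nat_lit 3)) (.v (nat_lit 2))) (.v (nat_lit 3))), (.mul (.v (nat_lit 2)) (.v (nat_lit 0)))), ((.mul (.v (nat_lit 5)) (.v (nat_lit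 1))), (.mul (.v (nat_lit 1)) (.v (nat_lit 5)))), ((.mul (.mul (.v (nat_lit 3)) (.v (nat_lit 5))) (.v (nat_lit 3))), (.mul (.v (nat_lit 5)) (.v (nat_lit 1)))), ((.mul (.mul (.v (nat_lit 5)) (.v (nat_lit 2))) (.v (nat_lit 5))), (.mul (.mul (.v (nat_lit 1)) (.v (nat_lit 2))) (.v (nat_lit 0)))), ((.mul (.mul (.v (nat_lit 5)) (.v (nat_lit 4))) (.v (nat_lit 5))), (.mul (.mul (.mul (.v (nat_lit 1)) (.v (nat_lit 2))) (.v (nat_lit 3))) (.v (nat_lit 4))))] from t)
    (AllEq.append (show AllEq [z, u, v, a, b, r, p] [((.pw (.v (nat_lit 6)) (nat_lit 3)), .one), ((.mul (.mul (.v (nat_lit 6)) (.v (nat_lit 0))) (.inv (.v (nat_lit 6)))), (.v (nat_lit 1))), ((.mul (.mul (.v (nat_lit 6)) (.v (nat_lit 1))) (.inv (.v (nat_lit 6)))), (.mul (.v (nat_lit 0)) (.v (nat_lit 1))))] from h)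
    (AllEq.append (show AllEq [z, u, v, a, b, r, p] [((.mul (.mul (.v (nat_lit 6)) (.v (nat_lit 2))) (.inv (.v (nat_lit 6)))), (.v (nat_lit 2)))] from ⟨e0, trivial⟩)
    (AllEq.append (show AllEq [z, u, v, a, b, r, p] [((.mul (.mul (.v (nat_lit 6)) (.v (nat_lit 5))) (.inv (.v (nat_lit 6)))), (.mul (.v (nat_lit 3)) (.v (nat_lit 0))))] from ⟨e1, trivial⟩)
    (show AllEq [z, u, v, a, b, r, p] [((.mul (.mul (.v (nat_lit 6)) (.v (nat_lit 3))) (.inv (.v (nat_lit 6)))), (.mul (.mul (.mul (.v (nat_lit 4)) (.v (nat_lit 5))) (.v (nat_lit 4))) (.v (nat_lit 1))))] from ⟨e2, trivial⟩)))))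
    [(.v (nat_lit 0)), (.v (nat_lit 1)), (.v (nat_lit 2)), (.v (nat_lit 3)), (.v (nat_lit 4)), (.v (nat_lit 5)), (.v (nat_lit 6)), (.inv (.v (nat_lit 6)))] (by decide +kernel)
noncomputable def pb12_0_S0 : List ℕ := [nat_lit 0x1f00001c006026, nat_lit 0x2300000700000c004012, nat_lit 0x27000007000010004014, nat_lit 0x2b000007000014004016, nat_lit 0x3300000700001c000028, nat_lit 0x37000034006026, nat_lit 0x3b00000b000010004010, nat_lit 0x3f00000b00001400401a, nat_lit 0x4300000b00001800801e, nat_lit 0x4700000b00001c00001100002a, nat_lit 0x4b00000900002700002c00c01c, nat_lit 0x5300000f00001c00002c, nat_lit 0x5700001300000c000044010020, nat_lit 0x5f00000d00002b00003800c02e, nat_lit 0x6300002100003100401a, nat_lit 0x6300002100004300004000c020, nat_lit 0x6b000011000025008012, nat_lit 0x6b00001100003300002400202a, nat_lit 0x7700000200006c004028, nat_lit 0x7700001f00000c00000501002a, nat_lit 0x7b00001f00000800002c01002e,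 nat_lit 0x7f000006000040004016, nat_lit 0x8300004500006b00007001002e, nat_lit 0x8300000600003c00001a000050010022, nat_lit 0x8700000a000050004018, nat_lit 0x8700000a00000f00000c000044010022, nat_lit 0x8b00000e00005c000028, nat_lit 0x8f00002f00003400002500002e, nat_lit 0x93000090006026, nat_lit 0x9b00001200007400801e, nat_lit 0xa700001e00005c00006900002a, nat_lit 0xab0000a8006026, nat_lit 0xab00001e000060008028, nat_lit 0xab00001e00000d00005100c02a, nat_lit 0xab00005500007f00004d00c02e, nat_lit 0xb700004b00000f00000c0000440000b0010024, nat_lit 0xbb00002a00005100802c, nat_lit 0xbb0000b800008e0000af000022000068006030, nat_lit 0xbf00006100006600003100c01c, nat_lit 0xc30000c000009a00003900003e0000a4010024, nat_lit 0xc700005d00005a00002c, nat_lit 0xcb0000c8006026, nat_lit 0xcb0000c400009e0000a300001e000060006030, nat_lit 0x7d0000820000a90000a600c02e, nat_lit 0xcf00002e00006c008014, nat_lit 0xcf00002e0000700000a100801c,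 nat_lit 0xd30000d00000b6004016, nat_lit 0x790000ae0000b9000018, nat_lit 0xd70000d40000bd00006a00a020, nat_lit 0xd70000d00000b20000420000b4010022, nat_lit 0xdb00005b00001300001c000011000098004030, nat_lit 0xc50000c20000dc0000ca00009700009c00007601a024, nat_lit 0x740000cd0000b300000a, nat_lit 0x6b0000d2000026000000, nat_lit 0x6f0000d200006d000006, nat_lit 0x160000d500004900000e, nat_lit 0xda00007100000c, nat_lit 0xde000077000002, nat_lit 0x360000de00008900000a, nat_lit 0xea000086000002, nat_lit 0xdf0000950000920000ed0000360000a0010024, nat_lit 0xe100006f0000010000e50000a00000f10000df000030, nat_lit 0x680000f500009300000e, nat_lit 0x180000fa00002f00000a]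
noncomputable def pb12_0_S1 : List ℕ := [nat_lit 0xfe000007000000]
noncomputable def pb12_0_S : List (List ℕ) := [pb12_0_S0, pb12_0_S1]
noncomputable def pb12_0_defs : List ℕ := [(nat_lit 0x4000190040001600500014003000140000001400700013006000130040001300300013007000120040001200500011004000100070000f0060000f0040000f0040000d0050000c0040000c0070000b0060000b0060000a00500009005000080030000800500007001000070050000600300006000000060070000500300005007000040060000400500004006000030050000300300003006000020050000200300002002000020070000100600001005000010030000100200001001000010070000000600000005000000030000000200000001000000000000000000000)]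
noncomputable def pb12_0_recs : List ℕ := [(nat_lit 0xff0000100000ff0000b00005ff0001900024050002700037010001e00017ff0002a0001701000070000d06000240001bff0001d0000dff000230001bff0000c0001aff0001100006ff0001c0002c050002500036020002c00035030001600035050003400022000003100034030003100033020001a00033050003100029030001700032070003100032020001b0003105000280003002000150002f03000190002e020001e0002e050002b0002d050001d0002a010001e0002a00000170002a07000290002a000002200029010001c00026070002300024030001100023010001600022020001000021000001300021020001300020060001b00020000000f0001f060000a0001e06000080001d070001a0001d07000080001a01000110001a050000f00018010001500018050000d00017030001000015020000600014020000a00012000000c0001101000050001001000040000f01000030000e070000c0000d01000060000c00000040000a000000300009000000200008070000600007),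
  (nat_lit 0x0)]
noncomputable def pb12_0_T : List (List ℕ × ℕ) := [([0], (nat_lit 0x101))]
noncomputable def pb12_0_D : H26.Dag := ⟨[0,1,2,3,4,5,7,6], [[0,0],
  [1,1],
  [2,2],
  [3,3],
  [4,4],
  [5,5],
  [6,7],
  [7,6],
  [2,1,2,1],
  [1,0,1,0],
  [2,0,2,0],
  [3,0,3,0],
  [5,0,5,0],
  [3,1,3,1],
  [2,0,3,2,3],
  [1,5,1,5],
  [5,1,3,5,3],
  [1,2,0,5,2,5],
  [1,2,3,4,5,4,5],
  [6,6,6],
  [1,7,0,6],
  [0,1,7,1,6],
  [2,7,2,6],
  [3,0,7,5,6],
  [4,5,4,1,7,3,6]], [], pb12_0_defs, pb12_0_recs⟩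
theorem pb12_0_c : pb12_0_D.check pb12_0_S pb12_0_T = true := by decide +kernel
theorem pb12_0 {G : Type*} [Group G] {g : ℕ → G} (hR : Rels g pb12_r_R) {H : Subgroup G}
    (hH : ∀ k ∈ [], g k ∈ H) : evA g [0] ∈ H :=
  mem_dag (K := 8) (J := [0,1,2,3,4,5,6,7,8,9,10,11,13,14,18,19,20,21,22,23,24,25,26,27,28]) (D := pb12_0_D) (by decide +kernel) pb12_0_c (by decide +kernel) hR hH
theorem pb12 {G : Type*} [Group G] {z u v a b r p : G}
    (t : TB z u v a b r)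
    (h : P0 z u p)
    (e0 : p * v * p⁻¹ = v)
    (e1 : p * r * p⁻¹ = a * z)
    (e2 : p * a * p⁻¹ = b * r * b * u) :
    z = 1 :=
  mul_inv_eq_one.1 ((evA_eq_tm ((InvI.cons t.1 (InvI.cons t.2.1 (InvI.cons t.2.2.1 (InvI.cons t.2.2.2.1 (InvI.cons t.2.2.2.2.1 (InvI.cons t.2.2.2.2.2.1 InvI.nil)))))) : InvI [z, u, v, a, b, r, p] [(nat_lit 0), (nat_lit 1), (nat_lit 2), (nat_lit 3), (nat_lit 4), (nat_lit 5)]) [(.v (nat_lit 0)), (.v (nat_lit 1)), (.v (nat_lit 2)), (.v (nat_lit 3)), (.v (nat_lit 4)), (.v (nat_lit 5)), (.v (nat_lit 6)), (.inv (.v (nat_lit 6)))] [0] (.mul (.v (nat_lit 0)) (.inv .one)) (by decide +kernel)).symm.trans (Subgroup.mem_bot.1 (pb12_0 (pb12_r t h e0 e1 e2) (H := ⊥) (List.forall_mem_nil _))))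
noncomputable def pb13_r_R : List (List ℕ) := [[0,0],
  [1,1],
  [2,2],
  [3,3],
  [4,4],
  [5,5],
  [6,7],
  [7,6],
  [2,1,2,1],
  [1,0,1,0],
  [2,0,2,0],
  [3,0,3,0],
  [4,0,4,0],
  [5,0,5,0],
  [3,1,3,1],
  [4,2,4,2],
  [4,3,4,3],
  [1,0,4,1,4],
  [2,0,3,2,3],
  [1,5,1,5],
  [5,1,3,5,3],
  [1,2,0,5,2,5],
  [1,2,3,4,5,4,5],
  [6,6,6],
  [1,7,0,6],
  [0,1,7,1,6],
  [2,7,2,6],
  [3,0,7,5,6],
  [4,5,4,0,1,7,3,6]]
theorem pb13_r {G : Type*} [Group G] {z u v a b r p : G}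
    (t : TB z u v a b r)
    (h : P0 z u p)
    (e0 : p * v * p⁻¹ = v)
    (e1 : p * r * p⁻¹ = a * z)
    (e2 : p * a * p⁻¹ = b * r * b * (z * u)) :
    Rels (nthG [z, u, v, a, b, r, p, p⁻¹]) pb13_r_R :=
  rels_of_eqs ((InvI.cons t.1 (InvI.cons t.2.1 (InvI.cons t.2.2.1 (InvI.cons t.2.2.2.1 (InvI.cons t.2.2.2.2.1 (InvI.cons t.2.2.2.2.2.1 InvI.nil)))))) : InvI [z, u, v, a, b, r, p] [(nat_lit 0), (nat_lit 1), (nat_lit 2), (nat_lit 3), (nat_lit 4), (nat_lit 5)])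
    (AllEq.append (show AllEq [z, u, v, a, b, r, p] [((.mul (.v (nat_lit 0)) (.v (nat_lit 0))), .one), ((.mul (.v (nat_lit 1)) (.v (nat_lit 1))), .one), ((.mul (.v (nat_lit 2)) (.v (nat_lit 2))), .one), ((.mul (.v (nat_lit 3)) (.v (nat_lit 3))), .one), ((.mul (.v (nat_lit 4)) (.v (nat_lit 4))), .one), ((.mul (.v (nat_lit 5)) (.v (nat_lit 5))), .one), ((.mul (.v (nat_lit 1)) (.v (nat_lit 2))), (.mul (.v (nat_lit 2)) (.v (nat_lit 1)))), ((.mul (.v (nat_lit 0)) (.v (nat_lit 1))), (.mul (.v (nat_lit 1)) (.v (nat_lit 0)))), ((.mul (.v (nat_lit 0)) (.v (nat_lit 2))), (.mul (.v (nat_lit 2)) (.v (nat_lit 0)))), ((.mul (.v (nat_lit 0)) (.v (nat_lit 3))), (.mul (.v (nat_lit 3)) (.v (nat_lit 0)))), ((.mul (.v (nat_lit 0)) (.v (nat_lit 4))), (.mul (.v (nat_lit 4)) (.v (nat_lit 0)))), ((.mul (.v (nat_lit 0)) (.v (nat_lit 5))), (.mul (.v (nat_lit 5)) (.v (nat_lit 0)))), ((.mul (.v (nat_lit 1)) (.v (nat_lit 3))), (.mul (.v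 (nat_lit 3)) (.v (nat_lit 1)))), ((.mul (.v (nat_lit 2)) (.v (nat_lit 4))), (.mul (.v (nat_lit 4)) (.v (nat_lit 2)))), ((.mul (.v (nat_lit 3)) (.v (nat_lit 4))), (.mul (.v (nat_lit 4)) (.v (nat_lit 3)))), ((.mul (.mul (.v (nat_lit 4)) (.v (nat_lit 1))) (.v (nat_lit 4))), (.mul (.v (nat_lit 1)) (.v (nat_lit 0)))), ((.mul (.mul (.v (nat_lit 3)) (.v (nat_lit 2))) (.v (nat_lit 3))), (.mul (.v (nat_lit 2)) (.v (nat_lit 0)))), ((.mul (.v (nat_lit 5)) (.v (nat_lit 1))), (.mul (.v (nat_lit 1)) (.v (nat_lit 5)))), ((.mul (.mul (.v (nat_lit 3)) (.v (nat_lit 5))) (.v (nat_lit 3))), (.mul (.v (nat_lit 5)) (.v (nat_lit 1)))), ((.mul (.mul (.v (nat_lit 5)) (.v (nat_lit 2))) (.v (nat_lit 5))), (.mul (.mul (.v (nat_lit 1)) (.v (nat_lit 2))) (.v (nat_lit 0)))), ((.mul (.mul (.v (nat_lit 5)) (.v (nat_lit 4))) (.v (nat_lit 5))), (.mul (.mul (.mul (.v (nat_lit 1)) (.v (nat_lit 2))) (.v (nat_lit 3))) (.v (nat_lit 4))))] from t)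
    (AllEq.append (show AllEq [z, u, v, a, b, r, p] [((.pw (.v (nat_lit 6)) (nat_lit 3)), .one), ((.mul (.mul (.v (nat_lit 6)) (.v (nat_lit 0))) (.inv (.v (nat_lit 6)))), (.v (nat_lit 1))), ((.mul (.mul (.v (nat_lit 6)) (.v (nat_lit 1))) (.inv (.v (nat_lit 6)))), (.mul (.v (nat_lit 0)) (.v (nat_lit 1))))] from h)
    (AllEq.append (show AllEq [z, u, v, a, b, r, p] [((.mul (.mul (.v (nat_lit 6)) (.v (nat_lit 2))) (.inv (.v (nat_lit 6)))), (.v (nat_lit 2)))] from ⟨e0, trivial⟩)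
    (AllEq.append (show AllEq [z, u, v, a, b, r, p] [((.mul (.mul (.v (nat_lit 6)) (.v (nat_lit 5))) (.inv (.v (nat_lit 6)))), (.mul (.v (nat_lit 3)) (.v (nat_lit 0))))] from ⟨e1, trivial⟩)
    (show AllEq [z, u, v, a, b, r, p] [((.mul (.mul (.v (nat_lit 6)) (.v (nat_lit 3))) (.inv (.v (nat_lit 6)))), (.mul (.mul (.mul (.v (nat_lit 4)) (.v (nat_lit 5))) (.v (nat_lit 4))) (.mul (.v (nat_lit 0)) (.v (nat_lit 1)))))] from ⟨e2, trivial⟩)))))
    [(.v (nat_lit 0)), (.v (nat_lit 1)), (.v (nat_lit 2)), (.v (nat_lit 3)), (.v (nat_lit 4)), (.v (nat_lit 5)), (.v (nat_lit 6)), (.inv (.v (nat_lit 6)))] (by decide +kernel)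
noncomputable def pb13_0_S0 : List ℕ := [nat_lit 0xf00000700000c004010, nat_lit 0x2b000014004014, nat_lit 0x2f000018004014, nat_lit 0x2f00000200002c000016, nat_lit 0x3300000500000d00000a004018, nat_lit 0x1b00003400001200002000c012, nat_lit 0x27000015000024008016]
noncomputable def pb13_0_S : List (List ℕ) := [pb13_0_S0]
noncomputable def pb13_0_defs : List ℕ := [(nat_lit 0x4006000030060000200700007007000060040000500400004007000030070000200400001004000000000000000000000)]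
noncomputable def pb13_0_recs : List ℕ := [(nat_lit 0x80000901000070000601000050000c010000a0000b06000050000b06000040000a000000200003)]
noncomputable def pb13_0_T : List (List ℕ × ℕ) := [([0,4,7,4,7,0,6,4,6,4], (nat_lit 0xc00001400001c00002400001900002700001f00001700000f000007))]
noncomputable def pb13_0_D : H26.Dag := ⟨[0,1,2,3,4,5,7,6], [[0,0],
  [1,1],
  [2,2],
  [3,3],
  [4,4],
  [5,5],
  [6,7],
  [7,6],
  [4,0,4,0],
  [1,0,4,1,4],
  [6,6,6],
  [1,7,0,6],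
  [0,1,7,1,6]], [], pb13_0_defs, pb13_0_recs⟩
theorem pb13_0_c : pb13_0_D.check pb13_0_S pb13_0_T = true := by decide +kernel
theorem pb13_0 {G : Type*} [Group G] {g : ℕ → G} (hR : Rels g pb13_r_R) {H : Subgroup G}
    (hH : ∀ k ∈ [], g k ∈ H) : evA g [0,4,7,4,7,0,6,4,6,4] ∈ H :=
  mem_dag (K := 8) (J := [0,1,2,3,4,5,6,7,12,17,23,24,25]) (D := pb13_0_D) (by decide +kernel) pb13_0_c (by decide +kernel) hR hH
noncomputable def pb13_1_S0 : List ℕ := [nat_lit 0x2b00000b000008000010012010, nat_lit 0x1700000100002b00001400c012, nat_lit 0x2f00001b000005000020012010, nat_lit 0x2700000900002f00002400c012]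
noncomputable def pb13_1_S : List (List ℕ) := [pb13_1_S0]
noncomputable def pb13_1_defs : List ℕ := [(nat_lit 0x60000000200700007007000060040000500400004007000030070000200400001004000000010000000000000)]
noncomputable def pb13_1_recs : List ℕ := [(nat_lit 0x1000080000901000070000b01000040000501000030000a)]
noncomputable def pb13_1_T : List (List ℕ × ℕ) := [([1,4,7,4,7,1,6,4,6,4], (nat_lit 0xc00001400001c00002400000d00002700001f00001700000f000007))]
noncomputable def pb13_1_D : H26.Dag := ⟨[0,1,2,3,4,5,7,6], [[0,0],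
  [1,1],
  [2,2],
  [3,3],
  [4,4],
  [5,5],
  [6,7],
  [7,6],
  [1,0,4,1,4],
  [0,1,7,1,6]], [], pb13_1_defs, pb13_1_recs⟩
theorem pb13_1_c : pb13_1_D.check pb13_1_S pb13_1_T = true := by decide +kernel
theorem pb13_1 {G : Type*} [Group G] {g : ℕ → G} (hR : Rels g pb13_r_R) {H : Subgroup G}
    (hH : ∀ k ∈ [], g k ∈ H) : evA g [1,4,7,4,7,1,6,4,6,4] ∈ H :=
  mem_dag (K := 8) (J := [0,1,2,3,4,5,6,7,17,25]) (D := pb13_1_D) (by decide +kernel) pb13_1_c (by decide +kernel) hR hH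
noncomputable def pb13_2_S0 : List ℕ := [nat_lit 0xf00000700000c004010, nat_lit 0x17000002000014008012, nat_lit 0x1f00000600001c004010, nat_lit 0x2700000a000024008012]
noncomputable def pb13_2_S : List (List ℕ) := [pb13_2_S0]
noncomputable def pb13_2_defs : List ℕ := [(nat_lit 0x700007007000060040000500400004007000030070000200400001004000000020000000000000)]
noncomputable def pb13_2_recs : List ℕ := [(nat_lit 0x20000800009020000600007020000400005020000200003)]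
noncomputable def pb13_2_T : List (List ℕ × ℕ) := [([2,4,7,4,7,2,6,4,6,4], (nat_lit 0xc00001400001c00002400000d00002700001f00001700000f000007))]
noncomputable def pb13_2_D : H26.Dag := ⟨[0,1,2,3,4,5,7,6], [[0,0],
  [1,1],
  [2,2],
  [3,3],
  [4,4],
  [5,5],
  [6,7],
  [7,6],
  [4,2,4,2],
  [2,7,2,6]], [], pb13_2_defs, pb13_2_recs⟩
theorem pb13_2_c : pb13_2_D.check pb13_2_S pb13_2_T = true := by decide +kernel
theorem pb13_2 {G : Type*} [Group G] {g : ℕ → G} (hR : Rels g pb13_r_R) {H : Subgroup G}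
    (hH : ∀ k ∈ [], g k ∈ H) : evA g [2,4,7,4,7,2,6,4,6,4] ∈ H :=
  mem_dag (K := 8) (J := [0,1,2,3,4,5,6,7,15,26]) (D := pb13_2_D) (by decide +kernel) pb13_2_c (by decide +kernel) hR hH
noncomputable def pb13_3_S0 : List ℕ := [nat_lit 0x1700000700000c004010, nat_lit 0x1b000007000010004012, nat_lit 0x1f000007000014004014, nat_lit 0x2300000100001700002000c01a, nat_lit 0x2700000f000014004018, nat_lit 0x2b00000900000d004010, nat_lit 0x3300001700001c004016, nat_lit 0x3b00000e00003800801c, nat_lit 0x3b00000e00000a00003000c01e, nat_lit 0x3f00001200002c008016, nat_lit 0x3f00002700000500001901001a, nat_lit 0x4700001d00002200004400c01a, nat_lit 0x4b00001e000048004014, nat_lit 0x4f00003b000015000025010020, nat_lit 0x5b00005300002d00003100004b00005000005801c022]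
noncomputable def pb13_3_S : List (List ℕ) := [pb13_3_S0]
noncomputable def pb13_3_defs : List ℕ := [(nat_lit 0x30001400400013007000100050000e0040000e0040000d0040000b00100009007000080070000700300005007000040010000400400003004000020040000100300001001000010040000000300000001000000000000000000000)]
noncomputable def pb13_3_recs : List ℕ := [(nat_lit 0x60001500016060000f00013000001100012010001000011040000c0000f030000a0000f010000b0000e000000d0000e01000060000c00000080000a030000400009010000700008000000400007000000300006000000200005)]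
noncomputable def pb13_3_T : List (List ℕ × ℕ) := [([3,0,1,4,7,4,7,3,6,4,6,4], (nat_lit 0x1400003000004400005400005c00003a00005700003600002a00001a00000600000f))]
noncomputable def pb13_3_D : H26.Dag := ⟨[0,1,2,3,4,5,7,6], [[0,0],
  [1,1],
  [2,2],
  [3,3],
  [4,4],
  [5,5],
  [6,7],
  [7,6],
  [1,0,1,0],
  [3,0,3,0],
  [4,0,4,0],
  [3,1,3,1],
  [4,3,4,3],
  [1,0,4,1,4],
  [1,7,0,6],
  [0,1,7,1,6],
  [3,0,7,5,6],
  [4,5,4,0,1,7,3,6]], [], pb13_3_defs, pb13_3_recs⟩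
theorem pb13_3_c : pb13_3_D.check pb13_3_S pb13_3_T = true := by decide +kernel
theorem pb13_3 {G : Type*} [Group G] {g : ℕ → G} (hR : Rels g pb13_r_R) {H : Subgroup G}
    (hH : ∀ k ∈ [], g k ∈ H) : evA g [3,0,1,4,7,4,7,3,6,4,6,4] ∈ H :=
  mem_dag (K := 8) (J := [0,1,2,3,4,5,6,7,9,11,12,14,16,17,24,25,27,28]) (D := pb13_3_D) (by decide +kernel) pb13_3_c (by decide +kernel) hR hH
theorem pb13 {G : Type*} [Group G] {z u v a b r p : G}
    (t : TB z u v a b r)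
    (h : P0 z u p)
    (e0 : p * v * p⁻¹ = v)
    (e1 : p * r * p⁻¹ = a * z)
    (e2 : p * a * p⁻¹ = b * r * b * (z * u)) :
    (b * p) ^ 2 * z = z * (b * p) ^ 2 ∧ (b * p) ^ 2 * u = u * (b * p) ^ 2 ∧ (b * p) ^ 2 * v = v * (b * p) ^ 2 ∧ (b * p) ^ 2 * a * ((b * p) ^ 2)⁻¹ = a * (z * u) :=
  ⟨mul_inv_eq_one.1 ((evA_eq_tm ((InvI.cons t.1 (InvI.cons t.2.1 (InvI.cons t.2.2.1 (InvI.cons t.2.2.2.1 (InvI.cons t.2.2.2.2.1 (InvI.cons t.2.2.2.2.2.1 InvI.nil)))))) : InvI [z, u, v, a, b, r, p] [(nat_lit 0), (nat_lit 1), (nat_lit 2), (nat_lit 3), (nat_lit 4), (nat_lit 5)]) [(.v (nat_lit 0)), (.v (nat_lit 1)), (.v (nat_lit 2)), (.v (nat_lit 3)), (.v (nat_lit 4)), (.v (nat_lit 5)), (.v (nat_lit 6)), (.inv (.v (nat_lit 6)))] [0,4,7,4,7,0,6,4,6,4] (.mul (.mul (.pw (.mul (.v (nat_lit 4)) (.v (nat_lit 6))) (nat_lit 2)) (.v (nat_lit 0))) (.inv (.mul (.v (nat_lit 0)) (.pw (.mul (.v (nat_lit 4)) (.v (nat_lit 6))) (nat_lit 2))))) (by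 decide +kernel)).symm.trans (Subgroup.mem_bot.1 (pb13_0 (pb13_r t h e0 e1 e2) (H := ⊥) (List.forall_mem_nil _)))),
   mul_inv_eq_one.1 ((evA_eq_tm ((InvI.cons t.1 (InvI.cons t.2.1 (InvI.cons t.2.2.1 (InvI.cons t.2.2.2.1 (InvI.cons t.2.2.2.2.1 (InvI.cons t.2.2.2.2.2.1 InvI.nil)))))) : InvI [z, u, v, a, b, r, p] [(nat_lit 0), (nat_lit 1), (nat_lit 2), (nat_lit 3), (nat_lit 4), (nat_lit 5)]) [(.v (nat_lit 0)), (.v (nat_lit 1)), (.v (nat_lit 2)), (.v (nat_lit 3)), (.v (nat_lit 4)), (.v (nat_lit 5)), (.v (nat_lit 6)), (.inv (.v (nat_lit 6)))] [1,4,7,4,7,1,6,4,6,4] (.mul (.mul (.pw (.mul (.v (nat_lit 4)) (.v (nat_lit 6))) (nat_lit 2)) (.v (nat_lit 1))) (.inv (.mul (.v (nat_lit 1)) (.pw (.mul (.v (nat_lit 4)) (.v (nat_lit 6))) (nat_lit 2))))) (by decide +kernel)).symm.trans (Subgroup.mem_bot.1 (pb13_1 (pb13_r t h e0 e1 e2) (H := ⊥) (List.forall_mem_nil _)))),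
   mul_inv_eq_one.1 ((evA_eq_tm ((InvI.cons t.1 (InvI.cons t.2.1 (InvI.cons t.2.2.1 (InvI.cons t.2.2.2.1 (InvI.cons t.2.2.2.2.1 (InvI.cons t.2.2.2.2.2.1 InvI.nil)))))) : InvI [z, u, v, a, b, r, p] [(nat_lit 0), (nat_lit 1), (nat_lit 2), (nat_lit 3), (nat_lit 4), (nat_lit 5)]) [(.v (nat_lit 0)), (.v (nat_lit 1)), (.v (nat_lit 2)), (.v (nat_lit 3)), (.v (nat_lit 4)), (.v (nat_lit 5)), (.v (nat_lit 6)), (.inv (.v (nat_lit 6)))] [2,4,7,4,7,2,6,4,6,4] (.mul (.mul (.pw (.mul (.v (nat_lit 4)) (.v (nat_lit 6))) (nat_lit 2)) (.v (nat_lit 2))) (.inv (.mul (.v (nat_lit 2)) (.pw (.mul (.v (nat_lit 4)) (.v (nat_lit 6))) (nat_lit 2))))) (by decide +kernel)).symm.trans (Subgroup.mem_bot.1 (pb13_2 (pb13_r t h e0 e1 e2) (H := ⊥) (List.forall_mem_nil _)))),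
   mul_inv_eq_one.1 ((evA_eq_tm ((InvI.cons t.1 (InvI.cons t.2.1 (InvI.cons t.2.2.1 (InvI.cons t.2.2.2.1 (InvI.cons t.2.2.2.2.1 (InvI.cons t.2.2.2.2.2.1 InvI.nil)))))) : InvI [z, u, v, a, b, r, p] [(nat_lit 0), (nat_lit 1), (nat_lit 2), (nat_lit 3), (nat_lit 4), (nat_lit 5)]) [(.v (nat_lit 0)), (.v (nat_lit 1)), (.v (nat_lit 2)), (.v (nat_lit 3)), (.v (nat_lit 4)), (.v (nat_lit 5)), (.v (nat_lit 6)), (.inv (.v (nat_lit 6)))] [3,0,1,4,7,4,7,3,6,4,6,4] (.mul (.mul (.mul (.pw (.mul (.v (nat_lit 4)) (.v (nat_lit 6))) (nat_lit 2)) (.v (nat_lit 3))) (.inv (.pw (.mul (.v (nat_lit 4)) (.v (nat_lit 6))) (nat_lit 2)))) (.inv (.mul (.v (nat_lit 3)) (.mul (.v (nat_lit 0)) (.v (nat_lit 1)))))) (by decide +kernel)).symm.trans (Subgroup.mem_bot.1 (pb13_3 (pb13_r t h e0 e1 e2) (H := ⊥) (List.forall_mem_nil _))))⟩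
noncomputable def pb20_r_R : List (List ℕ) := [[0,0],
  [1,1],
  [2,2],
  [3,3],
  [4,4],
  [5,5],
  [6,7],
  [7,6],
  [2,1,2,1],
  [1,0,1,0],
  [2,0,2,0],
  [3,0,3,0],
  [4,0,4,0],
  [5,0,5,0],
  [3,1,3,1],
  [4,2,4,2],
  [4,3,4,3],
  [1,0,4,1,4],
  [2,0,3,2,3],
  [1,5,1,5],
  [5,1,3,5,3],
  [1,2,0,5,2,5],
  [1,2,3,4,5,4,5],
  [6,6,6],
  [1,7,0,6],
  [0,1,7,1,6],
  [2,7,2,6],
  [3,1,7,5,6],
  [4,5,4,7,3,6]]
theorem pb20_r {G : Type*} [Group G] {z u v a b r p : G}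
    (t : TB z u v a b r)
    (h : P0 z u p)
    (e0 : p * v * p⁻¹ = v)
    (e1 : p * r * p⁻¹ = a * u)
    (e2 : p * a * p⁻¹ = b * r * b) :
    Rels (nthG [z, u, v, a, b, r, p, p⁻¹]) pb20_r_R :=
  rels_of_eqs ((InvI.cons t.1 (InvI.cons t.2.1 (InvI.cons t.2.2.1 (InvI.cons t.2.2.2.1 (InvI.cons t.2.2.2.2.1 (InvI.cons t.2.2.2.2.2.1 InvI.nil)))))) : InvI [z, u, v, a, b, r, p] [(nat_lit 0), (nat_lit 1), (nat_lit 2), (nat_lit 3), (nat_lit 4), (nat_lit 5)])
    (AllEq.append (show AllEq [z, u, v, a, b, r, p] [((.mul (.v (nat_lit 0)) (.v (nat_lit 0))), .one), ((.mul (.v (nat_lit 1)) (.v (nat_lit 1))), .one), ((.mul (.v (nat_lit 2)) (.v (nat_lit 2))), .one), ((.mul (.v (nat_lit 3)) (.v (nat_lit 3))), .one), ((.mul (.v (nat_lit 4)) (.v (nat_lit 4))), .one), ((.mul (.v (nat_lit 5)) (.v (nat_lit 5))), .one), ((.mul (.v (nat_lit 1)) (.v (nat_lit 2))), (.mul (.v (nat_lit 2)) (.v (nat_lit 1)))), ((.mul (.v (nat_lit 0)) (.v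 (nat_lit 1))), (.mul (.v (nat_lit 1)) (.v (nat_lit 0)))), ((.mul (.v (nat_lit 0)) (.v (nat_lit 2))), (.mul (.v (nat_lit 2)) (.v (nat_lit 0)))), ((.mul (.v (nat_lit 0)) (.v (nat_lit 3))), (.mul (.v (nat_lit 3)) (.v (nat_lit 0)))), ((.mul (.v (nat_lit 0)) (.v (nat_lit 4))), (.mul (.v (nat_lit 4)) (.v (nat_lit 0)))), ((.mul (.v (nat_lit 0)) (.v (nat_lit 5))), (.mul (.v (nat_lit 5)) (.v (nat_lit 0)))), ((.mul (.v (nat_lit 1)) (.v (nat_lit 3))), (.mul (.v (nat_lit 3)) (.v (nat_lit 1)))), ((.mul (.v (nat_lit 2)) (.v (nat_lit 4))), (.mul (.v (nat_lit 4)) (.v (nat_lit 2)))), ((.mul (.v (nat_lit 3)) (.v (nat_lit 4))), (.mul (.v (nat_lit 4)) (.v (nat_lit 3)))), ((.mul (.mul (.v (nat_lit 4)) (.v (nat_lit 1))) (.v (nat_lit 4))), (.mul (.v (nat_lit 1)) (.v (nat_lit 0)))), ((.mul (.mul (.v (nat_lit 3)) (.v (nat_lit 2))) (.v (nat_lit 3))), (.mul (.v (nat_lit 2)) (.v (nat_lit 0)))), ((.mul (.v (nat_lit 5)) (.v (nat_lit 1))),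 (.mul (.v (nat_lit 1)) (.v (nat_lit 5)))), ((.mul (.mul (.v (nat_lit 3)) (.v (nat_lit 5))) (.v (nat_lit 3))), (.mul (.v (nat_lit 5)) (.v (nat_lit 1)))), ((.mul (.mul (.v (nat_lit 5)) (.v (nat_lit 2))) (.v (nat_lit 5))), (.mul (.mul (.v (nat_lit 1)) (.v (nat_lit 2))) (.v (nat_lit 0)))), ((.mul (.mul (.v (nat_lit 5)) (.v (nat_lit 4))) (.v (nat_lit 5))), (.mul (.mul (.mul (.v (nat_lit 1)) (.v (nat_lit 2))) (.v (nat_lit 3))) (.v (nat_lit 4))))] from t)
    (AllEq.append (show AllEq [z, u, v, a, b, r, p] [((.pw (.v (nat_lit 6)) (nat_lit 3)), .one), ((.mul (.mul (.v (nat_lit 6)) (.v (nat_lit 0))) (.inv (.v (nat_lit 6)))), (.v (nat_lit 1))), ((.mul (.mul (.v (nat_lit 6)) (.v (nat_lit 1))) (.inv (.v (nat_lit 6)))), (.mul (.v (nat_lit 0)) (.v (nat_lit 1))))] from h)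
    (AllEq.append (show AllEq [z, u, v, a, b, r, p] [((.mul (.mul (.v (nat_lit 6)) (.v (nat_lit 2))) (.inv (.v (nat_lit 6)))), (.v (nat_lit 2)))] from ⟨e0, trivial⟩)
    (AllEq.append (show AllEq [z, u, v, a, b, r, p] [((.mul (.mul (.v (nat_lit 6)) (.v (nat_lit 5))) (.inv (.v (nat_lit 6)))), (.mul (.v (nat_lit 3)) (.v (nat_lit 1))))] from ⟨e1, trivial⟩)
    (show AllEq [z, u, v, a, b, r, p] [((.mul (.mul (.v (nat_lit 6)) (.v (nat_lit 3))) (.inv (.v (nat_lit 6)))), (.mul (.mul (.v (nat_lit 4)) (.v (nat_lit 5))) (.v (nat_lit 4))))] from ⟨e2, trivial⟩)))))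
    [(.v (nat_lit 0)), (.v (nat_lit 1)), (.v (nat_lit 2)), (.v (nat_lit 3)), (.v (nat_lit 4)), (.v (nat_lit 5)), (.v (nat_lit 6)), (.inv (.v (nat_lit 6)))] (by decide +kernel)
noncomputable def pb20_0_S0 : List ℕ := [nat_lit 0x1f00001c00602a, nat_lit 0x2300000700000c004012, nat_lit 0x27000007000010004014, nat_lit 0x2b000007000014004016, nat_lit 0x3300000700001c00002c, nat_lit 0x3700003400602a, nat_lit 0x3b00000b000010004010, nat_lit 0x3f00000b00001400401a, nat_lit 0x4300000b000018008022, nat_lit 0x4700000b00001c00001100002e, nat_lit 0x4b00000b00000800003800c02e, nat_lit 0x4f00000900002700002c00c020, nat_lit 0x5f000013000008000028010020, nat_lit 0x6300001300000c000044010024, nat_lit 0x6b00001d00003f00004c00c032, nat_lit 0x7300002100003500401a, nat_lit 0x7300002100004300004000c024, nat_lit 0x7700001700001c000011000032, nat_lit 0x7b00007800602a, nat_lit 0x7f000011000025008012, nat_lit 0x7f00001100003300002400202e,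 nat_lit 0x8300001100004500401a, nat_lit 0x83000011000033000030002032, nat_lit 0x8b00000200008000402c, nat_lit 0x8b00001f00000c00000501002e, nat_lit 0x8f00001f00000c000040010032, nat_lit 0x93000023000028004010, nat_lit 0x9300000600003c004014, nat_lit 0x6f00001700000c00003c00006d00a026, nat_lit 0x97000006000040004016, nat_lit 0x9700002300002c00401a, nat_lit 0x9b000006000044004018, nat_lit 0x9b000023000030008022, nat_lit 0x9b00000600003c00001a000058010026, nat_lit 0xa300000a000058004018, nat_lit 0xa3000069000071008022, nat_lit 0xa300000a00000f00000c000044010026, nat_lit 0xa700000a00005c00002c, nat_lit 0xab00000e000064004018, nat_lit 0xab00002b00002400009c010024, nat_lit 0xaf00000e00006800002c, nat_lit 0xb30000b000602a, nat_lit 0xb300007900007600006500c02e, nat_lit 0xb300007900009700006100c032, nat_lit 0xb700008100009d00401a, nat_lit 0xb700008100009b00009800c024, nat_lit 0xc7000029000039008022, nat_lit 0xcf00007d0000820000bc00c01e,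 nat_lit 0xd300002200007800005500002e, nat_lit 0xd300004300004800004d000032, nat_lit 0xd7000026000045004016, nat_lit 0xd700004d00005200009c002032, nat_lit 0xdb00004f00005400401c, nat_lit 0xdb00004f00000f00000c0000440000d0010028, nat_lit 0xdf00005300000900006901001e, nat_lit 0xe30000d10000d60000be00a024, nat_lit 0xe300005300005000002e0000790000b5014028, nat_lit 0xe700008900009200003500c020, nat_lit 0xeb0000e80000e600003d0000420000cc010028, nat_lit 0xef0000850000cd000030, nat_lit 0xef00005700005c000095000032, nat_lit 0xf30000f000602a, nat_lit 0xf30000ec0000ea0000cb000065010034, nat_lit 0xa50000aa0000f90000f600c032]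
noncomputable def pb20_0_S1 : List ℕ := [nat_lit 0xf70000950000f100401a, nat_lit 0xa10000fe00010100c022, nat_lit 0xfb0000320000a000401c, nat_lit 0xff00005f00006c008030, nat_lit 0x1030000990000b10000e100c01e, nat_lit 0x10300003600009100008e0000720000d9010028, nat_lit 0x10700006700001300001c000088004034, nat_lit 0x830000880001190001070001060001020000ee016028, nat_lit 0xc200011e0000ca000000, nat_lit 0x5900011e0000ce00000c, nat_lit 0x450001210000c6000006, nat_lit 0x3000012600009b00000a, nat_lit 0x1600012a00005d00000e, nat_lit 0x2700012e000094000004, nat_lit 0xc70001320000ad00000a, nat_lit 0x9f0001360000d9000008, nat_lit 0x1390000ba000002, nat_lit 0x1390000c700000a, nat_lit 0x13e00011500000a, nat_lit 0xdd00011100014900010900c024, nat_lit 0xff0000fc00014d0000bb0000c0010034, nat_lit 0x10b00004a0000460000150000c4004034, nat_lit 0x15100010e0001410001460000c400015500010b00c028, nat_lit 0x7c0001590000bf00000e, nat_lit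 0x1800015e00002f00000a, nat_lit 0x162000007000000]
noncomputable def pb20_0_S : List (List ℕ) := [pb20_0_S0, pb20_0_S1]
noncomputable def pb20_0_defs : List ℕ := [(nat_lit 0x7000170040001700300016007000150060001500400015003000150050001400100014004000130030001100600010004000100040000f0050000d0040000d0070000b0040000b0030000b0070000a0060000a0050000a006000090050000900400009005000080030000800200008005000070010000700400006003000060000000600700005006000050030000500200005007000040060000400500004002000040060000300500003004000030030000300700002006000020050000200300002002000020070000100600001005000010030000100200001001000010070000000600000005000000030000000200000001000000000000000000000),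
  (nat_lit 0x40001e0040001900400018)]
noncomputable def pb20_0_recs : List ℕ := [(nat_lit 0x50003b0002b03000230003c070003b0003c03000290003b02000350003b05000320003a020001800039040002d00038030002e00038040002400037050003300036030001400036070002600035000001d00035030001f00034000002000034010002e00033010001a0003105000250002d010002a0002d05000220002c01000230002c070002b0002c01000190002b03000260002a00000180002a010001600029020001000028010001b00028000001500028020001500026010000b00026000001000026010000a00025000000f0002505000240001b000000e00024010000900024060000f00023060000800022070001f00022070000b00020010001d0002007000080001f01000110001f070001d0001e030000c0001d050000f0001c01000180001c05000120001a030001000018030000900017020000a00013010000d00012000000c0001101000050001001000040000f01000030000e070000c0000d01000060000c00000040000a000000300009000000200008070000600007),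
  (nat_lit 0xff0000100000ff0000b00005ff0001e0002f050003000042030002f0003f050003e0002e050004000027050000d0002c010001a0002cff0003700027ff0002c00031ff0002400009ff000220000dff0000800001ff0001f0000cff000260000bff0001d00034ff0003500020050002100041050003700040010003800040020001a0003f03000270003e050003d00019010003b0003d)]
noncomputable def pb20_0_T : List (List ℕ × ℕ) := [([0], (nat_lit 0x165))]
noncomputable def pb20_0_D : H26.Dag := ⟨[0,1,2,3,4,5,7,6], [[0,0],
  [1,1],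
  [2,2],
  [3,3],
  [4,4],
  [5,5],
  [6,7],
  [7,6],
  [2,1,2,1],
  [1,0,1,0],
  [2,0,2,0],
  [3,0,3,0],
  [5,0,5,0],
  [3,1,3,1],
  [4,3,4,3],
  [1,0,4,1,4],
  [2,0,3,2,3],
  [1,5,1,5],
  [5,1,3,5,3],
  [1,2,0,5,2,5],
  [1,2,3,4,5,4,5],
  [6,6,6],
  [1,7,0,6],
  [0,1,7,1,6],
  [2,7,2,6],
  [3,1,7,5,6],
  [4,5,4,7,3,6]], [], pb20_0_defs, pb20_0_recs⟩
theorem pb20_0_c : pb20_0_D.check pb20_0_S pb20_0_T = true := by decide +kernel
theorem pb20_0 {G : Type*} [Group G] {g : ℕ → G} (hR : Rels g pb20_r_R) {H : Subgroup G}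
    (hH : ∀ k ∈ [], g k ∈ H) : evA g [0] ∈ H :=
  mem_dag (K := 8) (J := [0,1,2,3,4,5,6,7,8,9,10,11,13,14,16,17,18,19,20,21,22,23,24,25,26,27,28]) (D := pb20_0_D) (by decide +kernel) pb20_0_c (by decide +kernel) hR hH
theorem pb20 {G : Type*} [Group G] {z u v a b r p : G}
    (t : TB z u v a b r)
    (h : P0 z u p)
    (e0 : p * v * p⁻¹ = v)
    (e1 : p * r * p⁻¹ = a * u)
    (e2 : p * a * p⁻¹ = b * r * b) :
    z = 1 :=
  mul_inv_eq_one.1 ((evA_eq_tm ((InvI.cons t.1 (InvI.cons t.2.1 (InvI.cons t.2.2.1 (InvI.cons t.2.2.2.1 (InvI.cons t.2.2.2.2.1 (InvI.cons t.2.2.2.2.2.1 InvI.nil)))))) : InvI [z, u, v, a, b, r, p] [(nat_lit 0), (nat_lit 1), (nat_lit 2), (nat_lit 3), (nat_lit 4), (nat_lit 5)]) [(.v (nat_lit 0)), (.v (nat_lit 1)), (.v (nat_lit 2)), (.v (nat_lit 3)), (.v (nat_lit 4)), (.v (nat_lit 5)), (.v (nat_lit 6)), (.inv (.v (nat_lit 6)))] [0] (.mul (.v (nat_lit 0)) (.inv .one)) (by decide +kernel)).symm.trans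 (Subgroup.mem_bot.1 (pb20_0 (pb20_r t h e0 e1 e2) (H := ⊥) (List.forall_mem_nil _))))
noncomputable def pb21_r_R : List (List ℕ) := [[0,0],
  [1,1],
  [2,2],
  [3,3],
  [4,4],
  [5,5],
  [6,7],
  [7,6],
  [2,1,2,1],
  [1,0,1,0],
  [2,0,2,0],
  [3,0,3,0],
  [4,0,4,0],
  [5,0,5,0],
  [3,1,3,1],
  [4,2,4,2],
  [4,3,4,3],
  [1,0,4,1,4],
  [2,0,3,2,3],
  [1,5,1,5],
  [5,1,3,5,3],
  [1,2,0,5,2,5],
  [1,2,3,4,5,4,5],
  [6,6,6],
  [1,7,0,6],
  [0,1,7,1,6],
  [2,7,2,6],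
  [3,1,7,5,6],
  [4,5,4,0,7,3,6]]
theorem pb21_r {G : Type*} [Group G] {z u v a b r p : G}
    (t : TB z u v a b r)
    (h : P0 z u p)
    (e0 : p * v * p⁻¹ = v)
    (e1 : p * r * p⁻¹ = a * u)
    (e2 : p * a * p⁻¹ = b * r * b * z) :
    Rels (nthG [z, u, v, a, b, r, p, p⁻¹]) pb21_r_R :=
  rels_of_eqs ((InvI.cons t.1 (InvI.cons t.2.1 (InvI.cons t.2.2.1 (InvI.cons t.2.2.2.1 (InvI.cons t.2.2.2.2.1 (InvI.cons t.2.2.2.2.2.1 InvI.nil)))))) : InvI [z, u, v, a, b, r, p] [(nat_lit 0), (nat_lit 1), (nat_lit 2), (nat_lit 3), (nat_lit 4), (nat_lit 5)])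
    (AllEq.append (show AllEq [z, u, v, a, b, r, p] [((.mul (.v (nat_lit 0)) (.v (nat_lit 0))), .one), ((.mul (.v (nat_lit 1)) (.v (nat_lit 1))), .one), ((.mul (.v (nat_lit 2)) (.v (nat_lit 2))), .one), ((.mul (.v (nat_lit 3)) (.v (nat_lit 3))), .one), ((.mul (.v (nat_lit 4)) (.v (nat_lit 4))), .one), ((.mul (.v (nat_lit 5)) (.v (nat_lit 5))), .one), ((.mul (.v (nat_lit 1)) (.v (nat_lit 2))), (.mul (.v (nat_lit 2)) (.v (nat_lit 1)))), ((.mul (.v (nat_lit 0)) (.v (nat_lit 1))), (.mul (.v (nat_lit 1)) (.v (nat_lit 0)))), ((.mul (.v (nat_lit 0)) (.v (nat_lit 2))), (.mul (.v (nat_lit 2)) (.v (nat_lit 0)))), ((.mul (.v (nat_lit 0)) (.v (nat_lit 3))), (.mul (.v (nat_lit 3)) (.v (nat_lit 0)))), ((.mul (.v (nat_lit 0)) (.v (nat_lit 4))), (.mul (.v (nat_lit 4)) (.v (nat_lit 0)))), ((.mul (.v (nat_lit 0)) (.v (nat_lit 5))), (.mul (.v (nat_lit 5)) (.v (nat_lit 0)))), ((.mul (.v (nat_lit 1)) (.v (nat_lit 3))), (.mul (.v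 (nat_lit 3)) (.v (nat_lit 1)))), ((.mul (.v (nat_lit 2)) (.v (nat_lit 4))), (.mul (.v (nat_lit 4)) (.v (nat_lit 2)))), ((.mul (.v (nat_lit 3)) (.v (nat_lit 4))), (.mul (.v (nat_lit 4)) (.v (nat_lit 3)))), ((.mul (.mul (.v (nat_lit 4)) (.v (nat_lit 1))) (.v (nat_lit 4))), (.mul (.v (nat_lit 1)) (.v (nat_lit 0)))), ((.mul (.mul (.v (nat_lit 3)) (.v (nat_lit 2))) (.v (nat_lit 3))), (.mul (.v (nat_lit 2)) (.v (nat_lit 0)))), ((.mul (.v (nat_lit 5)) (.v (nat_lit 1))), (.mul (.v (nat_lit 1)) (.v (nat_lit 5)))), ((.mul (.mul (.v (nat_lit 3)) (.v (nat_lit 5))) (.v (nat_lit 3))), (.mul (.v (nat_lit 5)) (.v (nat_lit 1)))), ((.mul (.mul (.v (nat_lit 5)) (.v (nat_lit 2))) (.v (nat_lit 5))), (.mul (.mul (.v (nat_lit 1)) (.v (nat_lit 2))) (.v (nat_lit 0)))), ((.mul (.mul (.v (nat_lit 5)) (.v (nat_lit 4))) (.v (nat_lit 5))), (.mul (.mul (.mul (.v (nat_lit 1)) (.v (nat_lit 2))) (.v (nat_lit 3))) (.v (nat_lit 4))))] from t)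
    (AllEq.append (show AllEq [z, u, v, a, b, r, p] [((.pw (.v (nat_lit 6)) (nat_lit 3)), .one), ((.mul (.mul (.v (nat_lit 6)) (.v (nat_lit 0))) (.inv (.v (nat_lit 6)))), (.v (nat_lit 1))), ((.mul (.mul (.v (nat_lit 6)) (.v (nat_lit 1))) (.inv (.v (nat_lit 6)))), (.mul (.v (nat_lit 0)) (.v (nat_lit 1))))] from h)
    (AllEq.append (show AllEq [z, u, v, a, b, r, p] [((.mul (.mul (.v (nat_lit 6)) (.v (nat_lit 2))) (.inv (.v (nat_lit 6)))), (.v (nat_lit 2)))] from ⟨e0, trivial⟩)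
    (AllEq.append (show AllEq [z, u, v, a, b, r, p] [((.mul (.mul (.v (nat_lit 6)) (.v (nat_lit 5))) (.inv (.v (nat_lit 6)))), (.mul (.v (nat_lit 3)) (.v (nat_lit 1))))] from ⟨e1, trivial⟩)
    (show AllEq [z, u, v, a, b, r, p] [((.mul (.mul (.v (nat_lit 6)) (.v (nat_lit 3))) (.inv (.v (nat_lit 6)))), (.mul (.mul (.mul (.v (nat_lit 4)) (.v (nat_lit 5))) (.v (nat_lit 4))) (.v (nat_lit 0))))] from ⟨e2, trivial⟩)))))
    [(.v (nat_lit 0)), (.v (nat_lit 1)), (.v (nat_lit 2)), (.v (nat_lit 3)), (.v (nat_lit 4)), (.v (nat_lit 5)), (.v (nat_lit 6)), (.inv (.v (nat_lit 6)))] (by decide +kernel)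
noncomputable def pb21_0_S0 : List ℕ := [nat_lit 0x1700000700000c000014008012, nat_lit 0xf000018000002008010]
noncomputable def pb21_0_S : List (List ℕ) := [pb21_0_S0]
noncomputable def pb21_0_defs : List ℕ := [(nat_lit 0x1000010050000200700001007000000030000000000000)]
noncomputable def pb21_0_recs : List ℕ := [(nat_lit 0x400003070000400005)]
noncomputable def pb21_0_T : List (List ℕ × ℕ) := [([3,7,0,5,6], (nat_lit 0xc00001400000500000f000007))]
noncomputable def pb21_0_D : H26.Dag := ⟨[0,1,2,3,4,5,7,6], [[0,0],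
  [1,1],
  [2,2],
  [3,3],
  [4,4],
  [5,5],
  [6,7],
  [7,6],
  [1,7,0,6],
  [3,1,7,5,6]], [], pb21_0_defs, pb21_0_recs⟩
theorem pb21_0_c : pb21_0_D.check pb21_0_S pb21_0_T = true := by decide +kernel
theorem pb21_0 {G : Type*} [Group G] {g : ℕ → G} (hR : Rels g pb21_r_R) {H : Subgroup G}
    (hH : ∀ k ∈ [], g k ∈ H) : evA g [3,7,0,5,6] ∈ H :=
  mem_dag (K := 8) (J := [0,1,2,3,4,5,6,7,24,27]) (D := pb21_0_D) (by decide +kernel) pb21_0_c (by decide +kernel) hR hH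
noncomputable def pb21_1_S0 : List ℕ := [nat_lit 0x23000007000020008010, nat_lit 0x23000010000018008012, nat_lit 0x500000200001f00000c00001400001c01a014]
noncomputable def pb21_1_S : List (List ℕ) := [pb21_1_S0]
noncomputable def pb21_1_defs : List ℕ := [(nat_lit 0x10000000000600004000000030030000200500001007000000040000000000000)]
noncomputable def pb21_1_recs : List ℕ := [(nat_lit 0x40000600005050000500008040000700008)]
noncomputable def pb21_1_T : List (List ℕ × ℕ) := [([4,5,0,4,7,3,6], (nat_lit 0xc00001400001c00000900001700000f000007))]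
noncomputable def pb21_1_D : H26.Dag := ⟨[0,1,2,3,4,5,7,6], [[0,0],
  [1,1],
  [2,2],
  [3,3],
  [4,4],
  [5,5],
  [6,7],
  [7,6],
  [4,0,4,0],
  [5,0,5,0],
  [4,5,4,0,7,3,6]], [], pb21_1_defs, pb21_1_recs⟩
theorem pb21_1_c : pb21_1_D.check pb21_1_S pb21_1_T = true := by decide +kernel
theorem pb21_1 {G : Type*} [Group G] {g : ℕ → G} (hR : Rels g pb21_r_R) {H : Subgroup G}
    (hH : ∀ k ∈ [], g k ∈ H) : evA g [4,5,0,4,7,3,6] ∈ H :=
  mem_dag (K := 8) (J := [0,1,2,3,4,5,6,7,12,13,28]) (D := pb21_1_D) (by decide +kernel) pb21_1_c (by decide +kernel) hR hH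
theorem pb21 {G : Type*} [Group G] {z u v a b r p : G}
    (t : TB z u v a b r)
    (h : P0 z u p)
    (e0 : p * v * p⁻¹ = v)
    (e1 : p * r * p⁻¹ = a * u)
    (e2 : p * a * p⁻¹ = b * r * b * z) :
    p * (r * z) * p⁻¹ = a ∧ p * a * p⁻¹ = b * (r * z) * b :=
  ⟨mul_inv_eq_one.1 ((evA_eq_tm ((InvI.cons t.1 (InvI.cons t.2.1 (InvI.cons t.2.2.1 (InvI.cons t.2.2.2.1 (InvI.cons t.2.2.2.2.1 (InvI.cons t.2.2.2.2.2.1 InvI.nil)))))) : InvI [z, u, v, a, b, r, p] [(nat_lit 0), (nat_lit 1), (nat_lit 2), (nat_lit 3), (nat_lit 4), (nat_lit 5)]) [(.v (nat_lit 0)), (.v (nat_lit 1)), (.v (nat_lit 2)), (.v (nat_lit 3)), (.v (nat_lit 4)), (.v (nat_lit 5)), (.v (nat_lit 6)), (.inv (.v (nat_lit 6)))] [3,7,0,5,6] (.mul (.mul (.mul (.v (nat_lit 6)) (.mul (.v (nat_lit 5)) (.v (nat_lit 0)))) (.inv (.v (nat_lit 6)))) (.inv (.v (nat_lit 3)))) (by decide +kernel)).symm.trans (Subgroup.mem_bot.1 (pb21_0 (pb21_r t h e0 e1 e2) (H := ⊥) (List.forall_mem_nil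 _)))),
   mul_inv_eq_one.1 ((evA_eq_tm ((InvI.cons t.1 (InvI.cons t.2.1 (InvI.cons t.2.2.1 (InvI.cons t.2.2.2.1 (InvI.cons t.2.2.2.2.1 (InvI.cons t.2.2.2.2.2.1 InvI.nil)))))) : InvI [z, u, v, a, b, r, p] [(nat_lit 0), (nat_lit 1), (nat_lit 2), (nat_lit 3), (nat_lit 4), (nat_lit 5)]) [(.v (nat_lit 0)), (.v (nat_lit 1)), (.v (nat_lit 2)), (.v (nat_lit 3)), (.v (nat_lit 4)), (.v (nat_lit 5)), (.v (nat_lit 6)), (.inv (.v (nat_lit 6)))] [4,5,0,4,7,3,6] (.mul (.mul (.mul (.v (nat_lit 6)) (.v (nat_lit 3))) (.inv (.v (nat_lit 6)))) (.inv (.mul (.mul (.v (nat_lit 4)) (.mul (.v (nat_lit 5)) (.v (nat_lit 0)))) (.v (nat_lit 4))))) (by decide +kernel)).symm.trans (Subgroup.mem_bot.1 (pb21_1 (pb21_r t h e0 e1 e2) (H := ⊥) (List.forall_mem_nil _))))⟩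
noncomputable def pb22_r_R : List (List ℕ) := [[0,0],
  [1,1],
  [2,2],
  [3,3],
  [4,4],
  [5,5],
  [6,7],
  [7,6],
  [2,1,2,1],
  [1,0,1,0],
  [2,0,2,0],
  [3,0,3,0],
  [4,0,4,0],
  [5,0,5,0],
  [3,1,3,1],
  [4,2,4,2],
  [4,3,4,3],
  [1,0,4,1,4],
  [2,0,3,2,3],
  [1,5,1,5],
  [5,1,3,5,3],
  [1,2,0,5,2,5],
  [1,2,3,4,5,4,5],
  [6,6,6],
  [1,7,0,6],
  [0,1,7,1,6],
  [2,7,2,6],
  [3,1,7,5,6],
  [4,5,4,1,7,3,6]]
theorem pb22_r {G : Type*} [Group G] {z u v a b r p : G}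
    (t : TB z u v a b r)
    (h : P0 z u p)
    (e0 : p * v * p⁻¹ = v)
    (e1 : p * r * p⁻¹ = a * u)
    (e2 : p * a * p⁻¹ = b * r * b * u) :
    Rels (nthG [z, u, v, a, b, r, p, p⁻¹]) pb22_r_R :=
  rels_of_eqs ((InvI.cons t.1 (InvI.cons t.2.1 (InvI.cons t.2.2.1 (InvI.cons t.2.2.2.1 (InvI.cons t.2.2.2.2.1 (InvI.cons t.2.2.2.2.2.1 InvI.nil)))))) : InvI [z, u, v, a, b, r, p] [(nat_lit 0), (nat_lit 1), (nat_lit 2), (nat_lit 3), (nat_lit 4), (nat_lit 5)])
    (AllEq.append (show AllEq [z, u, v, a, b, r, p] [((.mul (.v (nat_lit 0)) (.v (nat_lit 0))), .one), ((.mul (.v (nat_lit 1)) (.v (nat_lit 1))), .one), ((.mul (.v (nat_lit 2)) (.v (nat_lit 2))), .one), ((.mul (.v (nat_lit 3)) (.v (nat_lit 3))), .one), ((.mul (.v (nat_lit 4)) (.v (nat_lit 4))), .one), ((.mul (.v (nat_lit 5)) (.v (nat_lit 5))), .one), ((.mul (.v (nat_lit 1)) (.v (nat_lit 2))), (.mul (.v (nat_lit 2)) (.v (nat_lit 1)))), ((.mul (.v (nat_lit 0))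 (.v (nat_lit 1))), (.mul (.v (nat_lit 1)) (.v (nat_lit 0)))), ((.mul (.v (nat_lit 0)) (.v (nat_lit 2))), (.mul (.v (nat_lit 2)) (.v (nat_lit 0)))), ((.mul (.v (nat_lit 0)) (.v (nat_lit 3))), (.mul (.v (nat_lit 3)) (.v (nat_lit 0)))), ((.mul (.v (nat_lit 0)) (.v (nat_lit 4))), (.mul (.v (nat_lit 4)) (.v (nat_lit 0)))), ((.mul (.v (nat_lit 0)) (.v (nat_lit 5))), (.mul (.v (nat_lit 5)) (.v (nat_lit 0)))), ((.mul (.v (nat_lit 1)) (.v (nat_lit 3))), (.mul (.v (nat_lit 3)) (.v (nat_lit 1)))), ((.mul (.v (nat_lit 2)) (.v (nat_lit 4))), (.mul (.v (nat_lit 4)) (.v (nat_lit 2)))), ((.mul (.v (nat_lit 3)) (.v (nat_lit 4))), (.mul (.v (nat_lit 4)) (.v (nat_lit 3)))), ((.mul (.mul (.v (nat_lit 4)) (.v (nat_lit 1))) (.v (nat_lit 4))), (.mul (.v (nat_lit 1)) (.v (nat_lit 0)))), ((.mul (.mul (.v (nat_lit 3)) (.v (nat_lit 2))) (.v (nat_lit 3))), (.mul (.v (nat_lit 2)) (.v (nat_lit 0)))), ((.mul (.v (nat_lit 5)) (.v (nat_lit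 1))), (.mul (.v (nat_lit 1)) (.v (nat_lit 5)))), ((.mul (.mul (.v (nat_lit 3)) (.v (nat_lit 5))) (.v (nat_lit 3))), (.mul (.v (nat_lit 5)) (.v (nat_lit 1)))), ((.mul (.mul (.v (nat_lit 5)) (.v (nat_lit 2))) (.v (nat_lit 5))), (.mul (.mul (.v (nat_lit 1)) (.v (nat_lit 2))) (.v (nat_lit 0)))), ((.mul (.mul (.v (nat_lit 5)) (.v (nat_lit 4))) (.v (nat_lit 5))), (.mul (.mul (.mul (.v (nat_lit 1)) (.v (nat_lit 2))) (.v (nat_lit 3))) (.v (nat_lit 4))))] from t)
    (AllEq.append (show AllEq [z, u, v, a, b, r, p] [((.pw (.v (nat_lit 6)) (nat_lit 3)), .one), ((.mul (.mul (.v (nat_lit 6)) (.v (nat_lit 0))) (.inv (.v (nat_lit 6)))), (.v (nat_lit 1))), ((.mul (.mul (.v (nat_lit 6)) (.v (nat_lit 1))) (.inv (.v (nat_lit 6)))), (.mul (.v (nat_lit 0)) (.v (nat_lit 1))))] from h)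
    (AllEq.append (show AllEq [z, u, v, a, b, r, p] [((.mul (.mul (.v (nat_lit 6)) (.v (nat_lit 2))) (.inv (.v (nat_lit 6)))), (.v (nat_lit 2)))] from ⟨e0, trivial⟩)
    (AllEq.append (show AllEq [z, u, v, a, b, r, p] [((.mul (.mul (.v (nat_lit 6)) (.v (nat_lit 5))) (.inv (.v (nat_lit 6)))), (.mul (.v (nat_lit 3)) (.v (nat_lit 1))))] from ⟨e1, trivial⟩)
    (show AllEq [z, u, v, a, b, r, p] [((.mul (.mul (.v (nat_lit 6)) (.v (nat_lit 3))) (.inv (.v (nat_lit 6)))), (.mul (.mul (.mul (.v (nat_lit 4)) (.v (nat_lit 5))) (.v (nat_lit 4))) (.v (nat_lit 1))))] from ⟨e2, trivial⟩)))))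
    [(.v (nat_lit 0)), (.v (nat_lit 1)), (.v (nat_lit 2)), (.v (nat_lit 3)), (.v (nat_lit 4)), (.v (nat_lit 5)), (.v (nat_lit 6)), (.inv (.v (nat_lit 6)))] (by decide +kernel)
noncomputable def pb22_0_S0 : List ℕ := [nat_lit 0x1b00000700000c004012, nat_lit 0x1f000007000010004014, nat_lit 0x23000007000014004016, nat_lit 0x2f000007000018000028, nat_lit 0x3700000b000010004010, nat_lit 0x3b00000b00001800000d00002a, nat_lit 0x3f00003c006026, nat_lit 0x3f00000b00000800003400c02a, nat_lit 0x4300000500001f00002400c01c, nat_lit 0x4b000009000021004014, nat_lit 0x5b00001b00002c00801e, nat_lit 0x5b000002000038000012000048010022, nat_lit 0x6700002900002e004010, nat_lit 0x6700002b000007000010000011014022, nat_lit 0x6b00000e00005800801e, nat_lit 0x7300001600006c004018, nat_lit 0x7300001900001e00007001002e, nat_lit 0x77000043000011000035010020, nat_lit 0x7f00003100004500401a, nat_lit 0x7f00002d00002a00002b00002800006400c024,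 nat_lit 0x6f00003300002800006400004d00004a00a030, nat_lit 0x51000041004026, nat_lit 0x8300002600007c000028, nat_lit 0x8300004b00005000002c, nat_lit 0x5500007700007c00005900002e, nat_lit 0x8700005d00006100003e00001c, nat_lit 0x8b00008800006600003a000057000054010024, nat_lit 0x5f00002300003000000e00005400006900008b000030, nat_lit 0x5000006d00005f00000c, nat_lit 0x14000072000023000006, nat_lit 0x76000007000000]
noncomputable def pb22_0_S : List (List ℕ) := [pb22_0_S0]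
noncomputable def pb22_0_defs : List ℕ := [(nat_lit 0x40001300300013006000120030001100600010005000100050000e0030000c0050000b0020000a00500009006000080050000600500005004000050060000400200004005000030030000300700002006000020020000200700001006000010050000100400001003000010020000100100001006000000030000000200000001000000000000000000000)]
noncomputable def pb22_0_recs : List ℕ := [(nat_lit 0xff0000100000ff0000800004ff0001300017050001400022020001a0002103000200001c020001300020010001e00020060001c0001d060001d0001b04000180001f010001d0001f03000190001d060001b0001c000001a0001c01000150001a050000d00019010001100019020001100016010000a00016000001000012020000800010010000c0000f070000e0000f000000b0000e01000030000d01000050000b000000400008000000300007000000200006)]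
noncomputable def pb22_0_T : List (List ℕ × ℕ) := [([0], (nat_lit 0x79))]
noncomputable def pb22_0_D : H26.Dag := ⟨[0,1,2,3,4,5,7,6], [[0,0],
  [1,1],
  [2,2],
  [3,3],
  [4,4],
  [5,5],
  [6,7],
  [7,6],
  [2,1,2,1],
  [1,0,1,0],
  [2,0,2,0],
  [3,0,3,0],
  [5,0,5,0],
  [3,1,3,1],
  [2,0,3,2,3],
  [1,5,1,5],
  [5,1,3,5,3],
  [1,2,0,5,2,5],
  [1,2,3,4,5,4,5],
  [6,6,6],
  [1,7,0,6],
  [0,1,7,1,6],
  [2,7,2,6],
  [3,1,7,5,6],
  [4,5,4,1,7,3,6]], [], pb22_0_defs, pb22_0_recs⟩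
theorem pb22_0_c : pb22_0_D.check pb22_0_S pb22_0_T = true := by decide +kernel
theorem pb22_0 {G : Type*} [Group G] {g : ℕ → G} (hR : Rels g pb22_r_R) {H : Subgroup G}
    (hH : ∀ k ∈ [], g k ∈ H) : evA g [0] ∈ H :=
  mem_dag (K := 8) (J := [0,1,2,3,4,5,6,7,8,9,10,11,13,14,18,19,20,21,22,23,24,25,26,27,28]) (D := pb22_0_D) (by decide +kernel) pb22_0_c (by decide +kernel) hR hH
theorem pb22 {G : Type*} [Group G] {z u v a b r p : G}
    (t : TB z u v a b r)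
    (h : P0 z u p)
    (e0 : p * v * p⁻¹ = v)
    (e1 : p * r * p⁻¹ = a * u)
    (e2 : p * a * p⁻¹ = b * r * b * u) :
    z = 1 :=
  mul_inv_eq_one.1 ((evA_eq_tm ((InvI.cons t.1 (InvI.cons t.2.1 (InvI.cons t.2.2.1 (InvI.cons t.2.2.2.1 (InvI.cons t.2.2.2.2.1 (InvI.cons t.2.2.2.2.2.1 InvI.nil)))))) : InvI [z, u, v, a, b, r, p] [(nat_lit 0), (nat_lit 1), (nat_lit 2), (nat_lit 3), (nat_lit 4), (nat_lit 5)]) [(.v (nat_lit 0)), (.v (nat_lit 1)), (.v (nat_lit 2)), (.v (nat_lit 3)), (.v (nat_lit 4)), (.v (nat_lit 5)), (.v (nat_lit 6)), (.inv (.v (nat_lit 6)))] [0] (.mul (.v (nat_lit 0)) (.inv .one)) (by decide +kernel)).symm.trans (Subgroup.mem_bot.1 (pb22_0 (pb22_r t h e0 e1 e2) (H := ⊥) (List.forall_mem_nil _))))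
noncomputable def pb23_r_R : List (List ℕ) := [[0,0],
  [1,1],
  [2,2],
  [3,3],
  [4,4],
  [5,5],
  [6,7],
  [7,6],
  [2,1,2,1],
  [1,0,1,0],
  [2,0,2,0],
  [3,0,3,0],
  [4,0,4,0],
  [5,0,5,0],
  [3,1,3,1],
  [4,2,4,2],
  [4,3,4,3],
  [1,0,4,1,4],
  [2,0,3,2,3],
  [1,5,1,5],
  [5,1,3,5,3],
  [1,2,0,5,2,5],
  [1,2,3,4,5,4,5],
  [6,6,6],
  [1,7,0,6],
  [0,1,7,1,6],
  [2,7,2,6],
  [3,1,7,5,6],
  [4,5,4,0,1,7,3,6]]
theorem pb23_r {G : Type*} [Group G] {z u v a b r p : G}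
    (t : TB z u v a b r)
    (h : P0 z u p)
    (e0 : p * v * p⁻¹ = v)
    (e1 : p * r * p⁻¹ = a * u)
    (e2 : p * a * p⁻¹ = b * r * b * (z * u)) :
    Rels (nthG [z, u, v, a, b, r, p, p⁻¹]) pb23_r_R :=
  rels_of_eqs ((InvI.cons t.1 (InvI.cons t.2.1 (InvI.cons t.2.2.1 (InvI.cons t.2.2.2.1 (InvI.cons t.2.2.2.2.1 (InvI.cons t.2.2.2.2.2.1 InvI.nil)))))) : InvI [z, u, v, a, b, r, p] [(nat_lit 0), (nat_lit 1), (nat_lit 2), (nat_lit 3), (nat_lit 4), (nat_lit 5)])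
    (AllEq.append (show AllEq [z, u, v, a, b, r, p] [((.mul (.v (nat_lit 0)) (.v (nat_lit 0))), .one), ((.mul (.v (nat_lit 1)) (.v (nat_lit 1))), .one), ((.mul (.v (nat_lit 2)) (.v (nat_lit 2))), .one), ((.mul (.v (nat_lit 3)) (.v (nat_lit 3))), .one), ((.mul (.v (nat_lit 4)) (.v (nat_lit 4))), .one), ((.mul (.v (nat_lit 5)) (.v (nat_lit 5))), .one), ((.mul (.v (nat_lit 1)) (.v (nat_lit 2))), (.mul (.v (nat_lit 2)) (.v (nat_lit 1)))), ((.mul (.v (nat_lit 0)) (.v (nat_lit 1))), (.mul (.v (nat_lit 1)) (.v (nat_lit 0)))), ((.mul (.v (nat_lit 0)) (.v (nat_lit 2))), (.mul (.v (nat_lit 2)) (.v (nat_lit 0)))), ((.mul (.v (nat_lit 0)) (.v (nat_lit 3))), (.mul (.v (nat_lit 3)) (.v (nat_lit 0)))), ((.mul (.v (nat_lit 0)) (.v (nat_lit 4))), (.mul (.v (nat_lit 4)) (.v (nat_lit 0)))), ((.mul (.v (nat_lit 0)) (.v (nat_lit 5))), (.mul (.v (nat_lit 5)) (.v (nat_lit 0)))), ((.mul (.v (nat_lit 1)) (.v (nat_lit 3))), (.mul (.v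 (nat_lit 3)) (.v (nat_lit 1)))), ((.mul (.v (nat_lit 2)) (.v (nat_lit 4))), (.mul (.v (nat_lit 4)) (.v (nat_lit 2)))), ((.mul (.v (nat_lit 3)) (.v (nat_lit 4))), (.mul (.v (nat_lit 4)) (.v (nat_lit 3)))), ((.mul (.mul (.v (nat_lit 4)) (.v (nat_lit 1))) (.v (nat_lit 4))), (.mul (.v (nat_lit 1)) (.v (nat_lit 0)))), ((.mul (.mul (.v (nat_lit 3)) (.v (nat_lit 2))) (.v (nat_lit 3))), (.mul (.v (nat_lit 2)) (.v (nat_lit 0)))), ((.mul (.v (nat_lit 5)) (.v (nat_lit 1))), (.mul (.v (nat_lit 1)) (.v (nat_lit 5)))), ((.mul (.mul (.v (nat_lit 3)) (.v (nat_lit 5))) (.v (nat_lit 3))), (.mul (.v (nat_lit 5)) (.v (nat_lit 1)))), ((.mul (.mul (.v (nat_lit 5)) (.v (nat_lit 2))) (.v (nat_lit 5))), (.mul (.mul (.v (nat_lit 1)) (.v (nat_lit 2))) (.v (nat_lit 0)))), ((.mul (.mul (.v (nat_lit 5)) (.v (nat_lit 4))) (.v (nat_lit 5))), (.mul (.mul (.mul (.v (nat_lit 1)) (.v (nat_lit 2))) (.v (nat_lit 3))) (.v (nat_lit 4))))] from t)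
    (AllEq.append (show AllEq [z, u, v, a, b, r, p] [((.pw (.v (nat_lit 6)) (nat_lit 3)), .one), ((.mul (.mul (.v (nat_lit 6)) (.v (nat_lit 0))) (.inv (.v (nat_lit 6)))), (.v (nat_lit 1))), ((.mul (.mul (.v (nat_lit 6)) (.v (nat_lit 1))) (.inv (.v (nat_lit 6)))), (.mul (.v (nat_lit 0)) (.v (nat_lit 1))))] from h)
    (AllEq.append (show AllEq [z, u, v, a, b, r, p] [((.mul (.mul (.v (nat_lit 6)) (.v (nat_lit 2))) (.inv (.v (nat_lit 6)))), (.v (nat_lit 2)))] from ⟨e0, trivial⟩)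
    (AllEq.append (show AllEq [z, u, v, a, b, r, p] [((.mul (.mul (.v (nat_lit 6)) (.v (nat_lit 5))) (.inv (.v (nat_lit 6)))), (.mul (.v (nat_lit 3)) (.v (nat_lit 1))))] from ⟨e1, trivial⟩)
    (show AllEq [z, u, v, a, b, r, p] [((.mul (.mul (.v (nat_lit 6)) (.v (nat_lit 3))) (.inv (.v (nat_lit 6)))), (.mul (.mul (.mul (.v (nat_lit 4)) (.v (nat_lit 5))) (.v (nat_lit 4))) (.mul (.v (nat_lit 0)) (.v (nat_lit 1)))))] from ⟨e2, trivial⟩)))))
    [(.v (nat_lit 0)), (.v (nat_lit 1)), (.v (nat_lit 2)), (.v (nat_lit 3)), (.v (nat_lit 4)), (.v (nat_lit 5)), (.v (nat_lit 6)), (.inv (.v (nat_lit 6)))] (by decide +kernel)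
noncomputable def pb23_0_S0 : List ℕ := [nat_lit 0x1f00001c006026, nat_lit 0x2300000700000c004012, nat_lit 0x27000007000010004014, nat_lit 0x2b000007000014004016, nat_lit 0x33000007000018004018, nat_lit 0x3700000700001c000028, nat_lit 0x3b000038006026, nat_lit 0x3f00000b000010004010, nat_lit 0x4300000b00001400401a, nat_lit 0x4700000b00001800801e, nat_lit 0x4b00000b00001c00001500002a, nat_lit 0x4f00000b000020008028, nat_lit 0x4f00000b00000800003c00c02a, nat_lit 0x5300000900002700002c00c01c, nat_lit 0x6700001300000c000048010020, nat_lit 0x6f00006c006026, nat_lit 0x6f00002100004300005000c02e, nat_lit 0x7300002500003900401a, nat_lit 0x7b000015000029008012, nat_lit 0x7b00001500003700002400202a, nat_lit 0x7f00001500003700003400202e, nat_lit 0x8700002d000032004012, nat_lit 0x8700001f00000c00000501002a, nat_lit 0x8b00001f00000c00004401002e, nat_lit 0x8f000006000040004014, nat_lit 0x9300002300002c00401a, nat_lit 0x9700002300003400801e,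 nat_lit 0x9700000600004000001e00005c010022, nat_lit 0x9b00000a00005c004018, nat_lit 0x9b00000a00000f00000c000048010022, nat_lit 0x9f00000e00006c000028, nat_lit 0xa30000a0006026, nat_lit 0xa300006500009300005900c02e, nat_lit 0xab000012000074004016, nat_lit 0xab00006900009700009400c020, nat_lit 0xaf000051006026, nat_lit 0xb700001600008400801e, nat_lit 0xbf00003100004100801e, nat_lit 0xc300001e000060008028, nat_lit 0xc300003f00005000802c, nat_lit 0xc7000022000064004010, nat_lit 0xc700004300000500009001001c, nat_lit 0xcb00005d004026, nat_lit 0xcb00002200006c00007900002a, nat_lit 0xcf00003200001a0000b800202e, nat_lit 0xd3000057000054000036000065000089014024, nat_lit 0xd700007100007600003900c01c, nat_lit 0xd700006d00006a0000330000300000a800c024, nat_lit 0xcf00004f00000b0000080000300000a80000bd01c030, nat_lit 0xc10000b2004026, nat_lit 0xdb00005f00001d00006101002a, nat_lit 0xdf00005f0000580000d40000b600008600004600a030,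 nat_lit 0x770000250000390000cd00c02e, nat_lit 0xe300009900009e0000320000c0010022, nat_lit 0xe700006300007000802c, nat_lit 0xe70000a10000a60000c900c02e, nat_lit 0xd20000df0000dc0000dd010020, nat_lit 0xeb0000b90000c600002c, nat_lit 0xeb00006700006c00007900002e, nat_lit 0xef0000790000ad008012, nat_lit 0xef00003d00009500c028, nat_lit 0xef00007900009f00006500202a, nat_lit 0xf30000790000e900401a, nat_lit 0x910000e50000f9000010]
noncomputable def pb23_0_S1 : List ℕ := [nat_lit 0xf70000f40000fd0000910000b70000b4010024, nat_lit 0xf600009300004d00004a00002a0000b40001010000f7000030, nat_lit 0x7a0001050000ee000002, nat_lit 0x3e0001050000f200000e, nat_lit 0x7e00010a0000aa00000e, nat_lit 0x10e000096000002, nat_lit 0xda00010e0000d5000004, nat_lit 0x4100010e0000bf00000a, nat_lit 0x8c00011100008200000a, nat_lit 0x1190000da000004, nat_lit 0x1190000e1000006, nat_lit 0x11d00004100000a, nat_lit 0x122000056000000, nat_lit 0x122000087000002,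 nat_lit 0xfb00012900012600011500012d0000bc010024, nat_lit 0x8e00007f0000010001350001320000bc0001390000fb000030, nat_lit 0x7800013d0000af00000e, nat_lit 0x1800014200003300000a, nat_lit 0x146000007000000]
noncomputable def pb23_0_S : List (List ℕ) := [pb23_0_S0, pb23_0_S1]
noncomputable def pb23_0_defs : List ℕ := [(nat_lit 0x40001d0040001a0030001a0000001a006000190070001800500017003000170010001700300016005000150030001300600010002000100070000f0050000e0040000e0050000d0040000d0070000c0030000c0050000b0070000a0060000a005000090050000800300008002000080050000700100007005000060030000600000006007000050030000500700004006000040050000400200004007000030050000300400003003000030070000200600002005000020030000200200002007000010060000100500001004000010030000100200001001000010070000000600000005000000030000000200000001000000000000000000000)]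
noncomputable def pb23_0_recs : List ℕ := [(nat_lit 0x20003c00020010003a0003c07000240003b060002f0003b01000320003b03000270003a020002d0003a03000390001d050003600039020001b00039020002f0003805000370001d060001900037060002300036060002d00035060003500033040002900035020001900035040002a00034070002d00033000002700032060002200032030002300031010001800031020001300030000001700030010001b0002f01000200002d070001f0002b05000240002a000001c0002a050002100028070002700028010001a00027020001100026000001600026020001600025010000c00025010000a00024000000f00023060001000022060000800021000000e00021070000c0001f07000080001e01000120001e01000190001c05000130001b070001a0001b030001100019020000a00014010000e00013000000700013000000d0001201000050001101000040001001000030000f070000d0000e01000060000d00000050000c00000040000a000000300009000000200008070000600007),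
  (nat_lit 0xff0000100000ff0000c00005ff0001d0002b050002e0003e010000700007000000e00007050001b0000e030001d00038020001b00038ff0002100007ff0000e00013ff0003800039010001b0001bff0002200028ff0002f0001bff0003200027ff0001a0003b050002c0003d)]
noncomputable def pb23_0_T : List (List ℕ × ℕ) := [([0], (nat_lit 0x149))]
noncomputable def pb23_0_D : H26.Dag := ⟨[0,1,2,3,4,5,7,6], [[0,0],
  [1,1],
  [2,2],
  [3,3],
  [4,4],
  [5,5],
  [6,7],
  [7,6],
  [2,1,2,1],
  [1,0,1,0],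
  [2,0,2,0],
  [3,0,3,0],
  [5,0,5,0],
  [3,1,3,1],
  [2,0,3,2,3],
  [1,5,1,5],
  [5,1,3,5,3],
  [1,2,0,5,2,5],
  [1,2,3,4,5,4,5],
  [6,6,6],
  [1,7,0,6],
  [0,1,7,1,6],
  [2,7,2,6],
  [3,1,7,5,6],
  [4,5,4,0,1,7,3,6]], [], pb23_0_defs, pb23_0_recs⟩
theorem pb23_0_c : pb23_0_D.check pb23_0_S pb23_0_T = true := by decide +kernel
theorem pb23_0 {G : Type*} [Group G] {g : ℕ → G} (hR : Rels g pb23_r_R) {H : Subgroup G}
    (hH : ∀ k ∈ [], g k ∈ H) : evA g [0] ∈ H :=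
  mem_dag (K := 8) (J := [0,1,2,3,4,5,6,7,8,9,10,11,13,14,18,19,20,21,22,23,24,25,26,27,28]) (D := pb23_0_D) (by decide +kernel) pb23_0_c (by decide +kernel) hR hH
theorem pb23 {G : Type*} [Group G] {z u v a b r p : G}
    (t : TB z u v a b r)
    (h : P0 z u p)
    (e0 : p * v * p⁻¹ = v)
    (e1 : p * r * p⁻¹ = a * u)
    (e2 : p * a * p⁻¹ = b * r * b * (z * u)) :
    z = 1 :=
  mul_inv_eq_one.1 ((evA_eq_tm ((InvI.cons t.1 (InvI.cons t.2.1 (InvI.cons t.2.2.1 (InvI.cons t.2.2.2.1 (InvI.cons t.2.2.2.2.1 (InvI.cons t.2.2.2.2.2.1 InvI.nil)))))) : InvI [z, u, v, a, b, r, p] [(nat_lit 0), (nat_lit 1), (nat_lit 2), (nat_lit 3), (nat_lit 4), (nat_lit 5)]) [(.v (nat_lit 0)), (.v (nat_lit 1)), (.v (nat_lit 2)), (.v (nat_lit 3)), (.v (nat_lit 4)), (.v (nat_lit 5)), (.v (nat_lit 6)), (.inv (.v (nat_lit 6)))] [0] (.mul (.v (nat_lit 0)) (.inv .one)) (by decide +kernel)).symm.trans (Subgroup.mem_bot.1 (pb23_0 (pb23_r t h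 e0 e1 e2) (H := ⊥) (List.forall_mem_nil _))))
noncomputable def pb30_r_R : List (List ℕ) := [[0,0],
  [1,1],
  [2,2],
  [3,3],
  [4,4],
  [5,5],
  [6,7],
  [7,6],
  [2,1,2,1],
  [1,0,1,0],
  [2,0,2,0],
  [3,0,3,0],
  [4,0,4,0],
  [5,0,5,0],
  [3,1,3,1],
  [4,2,4,2],
  [4,3,4,3],
  [1,0,4,1,4],
  [2,0,3,2,3],
  [1,5,1,5],
  [5,1,3,5,3],
  [1,2,0,5,2,5],
  [1,2,3,4,5,4,5],
  [6,6,6],
  [1,7,0,6],
  [0,1,7,1,6],
  [2,7,2,6],
  [3,0,1,7,5,6],
  [4,5,4,7,3,6]]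
theorem pb30_r {G : Type*} [Group G] {z u v a b r p : G}
    (t : TB z u v a b r)
    (h : P0 z u p)
    (e0 : p * v * p⁻¹ = v)
    (e1 : p * r * p⁻¹ = a * (z * u))
    (e2 : p * a * p⁻¹ = b * r * b) :
    Rels (nthG [z, u, v, a, b, r, p, p⁻¹]) pb30_r_R :=
  rels_of_eqs ((InvI.cons t.1 (InvI.cons t.2.1 (InvI.cons t.2.2.1 (InvI.cons t.2.2.2.1 (InvI.cons t.2.2.2.2.1 (InvI.cons t.2.2.2.2.2.1 InvI.nil)))))) : InvI [z, u, v, a, b, r, p] [(nat_lit 0), (nat_lit 1), (nat_lit 2), (nat_lit 3), (nat_lit 4), (nat_lit 5)])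
    (AllEq.append (show AllEq [z, u, v, a, b, r, p] [((.mul (.v (nat_lit 0)) (.v (nat_lit 0))), .one), ((.mul (.v (nat_lit 1)) (.v (nat_lit 1))), .one), ((.mul (.v (nat_lit 2)) (.v (nat_lit 2))), .one), ((.mul (.v (nat_lit 3)) (.v (nat_lit 3))), .one), ((.mul (.v (nat_lit 4)) (.v (nat_lit 4))), .one), ((.mul (.v (nat_lit 5)) (.v (nat_lit 5))), .one), ((.mul (.v (nat_lit 1)) (.v (nat_lit 2))), (.mul (.v (nat_lit 2)) (.v (nat_lit 1)))), ((.mul (.v (nat_lit 0)) (.v (nat_lit 1))), (.mul (.v (nat_lit 1)) (.v (nat_lit 0)))), ((.mul (.v (nat_lit 0)) (.v (nat_lit 2))), (.mul (.v (nat_lit 2)) (.v (nat_lit 0)))), ((.mul (.v (nat_lit 0)) (.v (nat_lit 3))), (.mul (.v (nat_lit 3)) (.v (nat_lit 0)))), ((.mul (.v (nat_lit 0)) (.v (nat_lit 4))), (.mul (.v (nat_lit 4)) (.v (nat_lit 0)))), ((.mul (.v (nat_lit 0)) (.v (nat_lit 5))), (.mul (.v (nat_lit 5)) (.v (nat_lit 0)))), ((.mul (.v (nat_lit 1)) (.v (nat_lit 3))), (.mul (.v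 (nat_lit 3)) (.v (nat_lit 1)))), ((.mul (.v (nat_lit 2)) (.v (nat_lit 4))), (.mul (.v (nat_lit 4)) (.v (nat_lit 2)))), ((.mul (.v (nat_lit 3)) (.v (nat_lit 4))), (.mul (.v (nat_lit 4)) (.v (nat_lit 3)))), ((.mul (.mul (.v (nat_lit 4)) (.v (nat_lit 1))) (.v (nat_lit 4))), (.mul (.v (nat_lit 1)) (.v (nat_lit 0)))), ((.mul (.mul (.v (nat_lit 3)) (.v (nat_lit 2))) (.v (nat_lit 3))), (.mul (.v (nat_lit 2)) (.v (nat_lit 0)))), ((.mul (.v (nat_lit 5)) (.v (nat_lit 1))), (.mul (.v (nat_lit 1)) (.v (nat_lit 5)))), ((.mul (.mul (.v (nat_lit 3)) (.v (nat_lit 5))) (.v (nat_lit 3))), (.mul (.v (nat_lit 5)) (.v (nat_lit 1)))), ((.mul (.mul (.v (nat_lit 5)) (.v (nat_lit 2))) (.v (nat_lit 5))), (.mul (.mul (.v (nat_lit 1)) (.v (nat_lit 2))) (.v (nat_lit 0)))), ((.mul (.mul (.v (nat_lit 5)) (.v (nat_lit 4))) (.v (nat_lit 5))), (.mul (.mul (.mul (.v (nat_lit 1)) (.v (nat_lit 2))) (.v (nat_lit 3))) (.v (nat_lit 4))))] from t)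
    (AllEq.append (show AllEq [z, u, v, a, b, r, p] [((.pw (.v (nat_lit 6)) (nat_lit 3)), .one), ((.mul (.mul (.v (nat_lit 6)) (.v (nat_lit 0))) (.inv (.v (nat_lit 6)))), (.v (nat_lit 1))), ((.mul (.mul (.v (nat_lit 6)) (.v (nat_lit 1))) (.inv (.v (nat_lit 6)))), (.mul (.v (nat_lit 0)) (.v (nat_lit 1))))] from h)
    (AllEq.append (show AllEq [z, u, v, a, b, r, p] [((.mul (.mul (.v (nat_lit 6)) (.v (nat_lit 2))) (.inv (.v (nat_lit 6)))), (.v (nat_lit 2)))] from ⟨e0, trivial⟩)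
    (AllEq.append (show AllEq [z, u, v, a, b, r, p] [((.mul (.mul (.v (nat_lit 6)) (.v (nat_lit 5))) (.inv (.v (nat_lit 6)))), (.mul (.v (nat_lit 3)) (.mul (.v (nat_lit 0)) (.v (nat_lit 1)))))] from ⟨e1, trivial⟩)
    (show AllEq [z, u, v, a, b, r, p] [((.mul (.mul (.v (nat_lit 6)) (.v (nat_lit 3))) (.inv (.v (nat_lit 6)))), (.mul (.mul (.v (nat_lit 4)) (.v (nat_lit 5))) (.v (nat_lit 4))))] from ⟨e2, trivial⟩)))))
    [(.v (nat_lit 0)), (.v (nat_lit 1)), (.v (nat_lit 2)), (.v (nat_lit 3)), (.v (nat_lit 4)), (.v (nat_lit 5)), (.v (nat_lit 6)), (.inv (.v (nat_lit 6)))] (by decide +kernel)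
noncomputable def pb30_0_S0 : List ℕ := [nat_lit 0x1f00001c006026, nat_lit 0x2300000700000c004012, nat_lit 0x27000007000010004014, nat_lit 0x2b000007000014004016, nat_lit 0x33000007000018004018, nat_lit 0x3700000700001c000028, nat_lit 0x3b000038006026, nat_lit 0x3f00000b000010004010, nat_lit 0x4300000b00001400401a, nat_lit 0x4700000b00001800801e, nat_lit 0x4b00000b00001c00001500002a, nat_lit 0x4f00004c006026, nat_lit 0x4f00000b000020008028, nat_lit 0x4f00000b00000800003c00c02a, nat_lit 0x5300000900002700002c00c01c, nat_lit 0x5b00000f00001c00002c, nat_lit 0x5f00000f00002000802c, nat_lit 0x6300000d000039004014, nat_lit 0x6700001300000c000048010020, nat_lit 0x6f00001700001c00001500002900002e, nat_lit 0x73000070006026, nat_lit 0x77000015000029008012, nat_lit 0x83000031000036004012, nat_lit 0x87000006000044004016, nat_lit 0x8700002300002c00401a, nat_lit 0x8b00002300003400801e, nat_lit 0x8b00000600004000001e000058010022,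 nat_lit 0x8f00000a000058004018, nat_lit 0x8f00000a00000f00000c000048010022, nat_lit 0x9300000e00006c000028, nat_lit 0x9700006100005e00004300005001002e, nat_lit 0xa700001600008000801e, nat_lit 0xab00005900008300000200008000202e, nat_lit 0xb300003500007900801e, nat_lit 0xb700001e000060008028, nat_lit 0xb700003f00005000802c, nat_lit 0xbb00002200006c00007500002a, nat_lit 0xc30000260000110000a000c02a, nat_lit 0xc700002a0000a8004018, nat_lit 0xcb00005300000f00000c0000480000c0010024, nat_lit 0xcf00003a00009400002c, nat_lit 0xd300003a00009800802c, nat_lit 0xd30000cc00009e0000bf0000c4010030, nat_lit 0xd700006d00007200004900c01c, nat_lit 0xd700006900006600003300003000009c00c024, nat_lit 0xab00003b00003000009c0000b1014030, nat_lit 0xb5000082004026, nat_lit 0xdb00003e000078008014, nat_lit 0xdf0000dc0000be0000560000c8010022, nat_lit 0xe30000420000310000790000a5002022, nat_lit 0xe70000e40000c60000aa00c020, nat_lit 0xeb0000e80000ca00009600a020,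 nat_lit 0xeb00008900008e0000360000b4010022, nat_lit 0xef0000460000d0000028, nat_lit 0xef00006300006c00002c, nat_lit 0xf30000ad0000ba00002c, nat_lit 0xf300006700006c00007500009100002e, nat_lit 0xa20000910000e10000de00201c, nat_lit 0x7e0000e50000d500801a, nat_lit 0xd90000e90000990000c101001c, nat_lit 0xf700006b00001300001c00007c004030, nat_lit 0x7e00007f00007c0000f10000f70000ee0000c2004024, nat_lit 0xa80000f60000c700000a, nat_lit 0xa30000fa00004d000006]
noncomputable def pb30_0_S1 : List ℕ := [nat_lit 0x1a0000fa00002d00000e, nat_lit 0xfd0000a3000006, nat_lit 0xb300010200007900000a, nat_lit 0x109000086000002, nat_lit 0xa60001090000d1000004, nat_lit 0x1090000b300000a, nat_lit 0x1120000ce000006, nat_lit 0xfb0000520001060000190000b0004030, nat_lit 0x1190000a600010d0001160000b000011d0000fb00c024, nat_lit 0x7400012100009f00000e, nat_lit 0x1800012600003300000a, nat_lit 0x12a000007000000]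
noncomputable def pb30_0_S : List (List ℕ) := [pb30_0_S0, pb30_0_S1]
noncomputable def pb30_0_defs : List ℕ := [(nat_lit 0x40001c0040001a0060001900600018005000170030001700100017005000160000001600300015007000140060001400400014005000120070001100400011006000100070000f0050000e0040000e0030000e0050000d0030000d0070000c0050000b0070000a0060000a005000090050000800300008001000070050000600400006000000060070000500600005006000040050000400200004007000030060000300500003003000030070000200600002005000020030000200200002007000010060000100500001004000010030000100200001001000010070000000600000005000000030000000200000001000000000000000000000)]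
noncomputable def pb30_0_recs : List ℕ := [(nat_lit 0xff0001b00028ff000120000dff0003100029050001e0003d03000370001a030003b00029030001f00033030002e0003c020001f0003c020001a0003b01000330003b020002c0003a03000270003a050003000039050003400038020003100037020001d00036060001f0003506000350002a040002600035020001900035030003000034020002500034020002400033050002f0003200000290003101000270003000000240002e02000130002d00000170002d01000250002c070001f0002a010001f00029050001300025010001a00024020001100023000001500023020001500022010000c00022010000a00021000001000021000000e0002001000120001d070001b0001c03000120001b030001100019000001400018020000700017020000600016020000a00014010000e00013000000700013070001200013000000d0001201000050001101000040001001000030000f070000d0000e01000060000d00000050000c00000040000a000000300009000000200008070000600007),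
  (nat_lit 0xff0000100000ff0000c00005ff0001c00027050002b0003e030002700034050000e00025ff0003a00034010002500025ff000250002c030000d0001bff000130000e)]
noncomputable def pb30_0_T : List (List ℕ × ℕ) := [([0], (nat_lit 0x12d))]
noncomputable def pb30_0_D : H26.Dag := ⟨[0,1,2,3,4,5,7,6], [[0,0],
  [1,1],
  [2,2],
  [3,3],
  [4,4],
  [5,5],
  [6,7],
  [7,6],
  [2,1,2,1],
  [1,0,1,0],
  [2,0,2,0],
  [3,0,3,0],
  [5,0,5,0],
  [3,1,3,1],
  [2,0,3,2,3],
  [1,5,1,5],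
  [5,1,3,5,3],
  [1,2,0,5,2,5],
  [1,2,3,4,5,4,5],
  [6,6,6],
  [1,7,0,6],
  [0,1,7,1,6],
  [2,7,2,6],
  [3,0,1,7,5,6],
  [4,5,4,7,3,6]], [], pb30_0_defs, pb30_0_recs⟩
theorem pb30_0_c : pb30_0_D.check pb30_0_S pb30_0_T = true := by decide +kernel
theorem pb30_0 {G : Type*} [Group G] {g : ℕ → G} (hR : Rels g pb30_r_R) {H : Subgroup G}
    (hH : ∀ k ∈ [], g k ∈ H) : evA g [0] ∈ H :=
  mem_dag (K := 8) (J := [0,1,2,3,4,5,6,7,8,9,10,11,13,14,18,19,20,21,22,23,24,25,26,27,28]) (D := pb30_0_D) (by decide +kernel) pb30_0_c (by decide +kernel) hR hH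
theorem pb30 {G : Type*} [Group G] {z u v a b r p : G}
    (t : TB z u v a b r)
    (h : P0 z u p)
    (e0 : p * v * p⁻¹ = v)
    (e1 : p * r * p⁻¹ = a * (z * u))
    (e2 : p * a * p⁻¹ = b * r * b) :
    z = 1 :=
  mul_inv_eq_one.1 ((evA_eq_tm ((InvI.cons t.1 (InvI.cons t.2.1 (InvI.cons t.2.2.1 (InvI.cons t.2.2.2.1 (InvI.cons t.2.2.2.2.1 (InvI.cons t.2.2.2.2.2.1 InvI.nil)))))) : InvI [z, u, v, a, b, r, p] [(nat_lit 0), (nat_lit 1), (nat_lit 2), (nat_lit 3), (nat_lit 4), (nat_lit 5)]) [(.v (nat_lit 0)), (.v (nat_lit 1)), (.v (nat_lit 2)), (.v (nat_lit 3)), (.v (nat_lit 4)), (.v (nat_lit 5)), (.v (nat_lit 6)), (.inv (.v (nat_lit 6)))] [0] (.mul (.v (nat_lit 0)) (.inv .one)) (by decide +kernel)).symm.trans (Subgroup.mem_bot.1 (pb30_0 (pb30_r t h e0 e1 e2) (H := ⊥) (List.forall_mem_nil _))))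
noncomputable def pb31_r_R : List (List ℕ) := [[0,0],
  [1,1],
  [2,2],
  [3,3],
  [4,4],
  [5,5],
  [6,7],
  [7,6],
  [2,1,2,1],
  [1,0,1,0],
  [2,0,2,0],
  [3,0,3,0],
  [4,0,4,0],
  [5,0,5,0],
  [3,1,3,1],
  [4,2,4,2],
  [4,3,4,3],
  [1,0,4,1,4],
  [2,0,3,2,3],
  [1,5,1,5],
  [5,1,3,5,3],
  [1,2,0,5,2,5],
  [1,2,3,4,5,4,5],
  [6,6,6],
  [1,7,0,6],
  [0,1,7,1,6],
  [2,7,2,6],
  [3,0,1,7,5,6],
  [4,5,4,0,7,3,6]]
theorem pb31_r {G : Type*} [Group G] {z u v a b r p : G}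
    (t : TB z u v a b r)
    (h : P0 z u p)
    (e0 : p * v * p⁻¹ = v)
    (e1 : p * r * p⁻¹ = a * (z * u))
    (e2 : p * a * p⁻¹ = b * r * b * z) :
    Rels (nthG [z, u, v, a, b, r, p, p⁻¹]) pb31_r_R :=
  rels_of_eqs ((InvI.cons t.1 (InvI.cons t.2.1 (InvI.cons t.2.2.1 (InvI.cons t.2.2.2.1 (InvI.cons t.2.2.2.2.1 (InvI.cons t.2.2.2.2.2.1 InvI.nil)))))) : InvI [z, u, v, a, b, r, p] [(nat_lit 0), (nat_lit 1), (nat_lit 2), (nat_lit 3), (nat_lit 4), (nat_lit 5)])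
    (AllEq.append (show AllEq [z, u, v, a, b, r, p] [((.mul (.v (nat_lit 0)) (.v (nat_lit 0))), .one), ((.mul (.v (nat_lit 1)) (.v (nat_lit 1))), .one), ((.mul (.v (nat_lit 2)) (.v (nat_lit 2))), .one), ((.mul (.v (nat_lit 3)) (.v (nat_lit 3))), .one), ((.mul (.v (nat_lit 4)) (.v (nat_lit 4))), .one), ((.mul (.v (nat_lit 5)) (.v (nat_lit 5))), .one), ((.mul (.v (nat_lit 1)) (.v (nat_lit 2))), (.mul (.v (nat_lit 2)) (.v (nat_lit 1)))), ((.mul (.v (nat_lit 0)) (.v (nat_lit 1))), (.mul (.v (nat_lit 1)) (.v (nat_lit 0)))), ((.mul (.v (nat_lit 0)) (.v (nat_lit 2))), (.mul (.v (nat_lit 2)) (.v (nat_lit 0)))), ((.mul (.v (nat_lit 0)) (.v (nat_lit 3))), (.mul (.v (nat_lit 3)) (.v (nat_lit 0)))), ((.mul (.v (nat_lit 0)) (.v (nat_lit 4))), (.mul (.v (nat_lit 4)) (.v (nat_lit 0)))), ((.mul (.v (nat_lit 0)) (.v (nat_lit 5))), (.mul (.v (nat_lit 5)) (.v (nat_lit 0)))), ((.mul (.v (nat_lit 1)) (.v (nat_lit 3))), (.mul (.v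 (nat_lit 3)) (.v (nat_lit 1)))), ((.mul (.v (nat_lit 2)) (.v (nat_lit 4))), (.mul (.v (nat_lit 4)) (.v (nat_lit 2)))), ((.mul (.v (nat_lit 3)) (.v (nat_lit 4))), (.mul (.v (nat_lit 4)) (.v (nat_lit 3)))), ((.mul (.mul (.v (nat_lit 4)) (.v (nat_lit 1))) (.v (nat_lit 4))), (.mul (.v (nat_lit 1)) (.v (nat_lit 0)))), ((.mul (.mul (.v (nat_lit 3)) (.v (nat_lit 2))) (.v (nat_lit 3))), (.mul (.v (nat_lit 2)) (.v (nat_lit 0)))), ((.mul (.v (nat_lit 5)) (.v (nat_lit 1))), (.mul (.v (nat_lit 1)) (.v (nat_lit 5)))), ((.mul (.mul (.v (nat_lit 3)) (.v (nat_lit 5))) (.v (nat_lit 3))), (.mul (.v (nat_lit 5)) (.v (nat_lit 1)))), ((.mul (.mul (.v (nat_lit 5)) (.v (nat_lit 2))) (.v (nat_lit 5))), (.mul (.mul (.v (nat_lit 1)) (.v (nat_lit 2))) (.v (nat_lit 0)))), ((.mul (.mul (.v (nat_lit 5)) (.v (nat_lit 4))) (.v (nat_lit 5))), (.mul (.mul (.mul (.v (nat_lit 1)) (.v (nat_lit 2))) (.v (nat_lit 3))) (.v (nat_lit 4))))] from t)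
    (AllEq.append (show AllEq [z, u, v, a, b, r, p] [((.pw (.v (nat_lit 6)) (nat_lit 3)), .one), ((.mul (.mul (.v (nat_lit 6)) (.v (nat_lit 0))) (.inv (.v (nat_lit 6)))), (.v (nat_lit 1))), ((.mul (.mul (.v (nat_lit 6)) (.v (nat_lit 1))) (.inv (.v (nat_lit 6)))), (.mul (.v (nat_lit 0)) (.v (nat_lit 1))))] from h)
    (AllEq.append (show AllEq [z, u, v, a, b, r, p] [((.mul (.mul (.v (nat_lit 6)) (.v (nat_lit 2))) (.inv (.v (nat_lit 6)))), (.v (nat_lit 2)))] from ⟨e0, trivial⟩)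
    (AllEq.append (show AllEq [z, u, v, a, b, r, p] [((.mul (.mul (.v (nat_lit 6)) (.v (nat_lit 5))) (.inv (.v (nat_lit 6)))), (.mul (.v (nat_lit 3)) (.mul (.v (nat_lit 0)) (.v (nat_lit 1)))))] from ⟨e1, trivial⟩)
    (show AllEq [z, u, v, a, b, r, p] [((.mul (.mul (.v (nat_lit 6)) (.v (nat_lit 3))) (.inv (.v (nat_lit 6)))), (.mul (.mul (.mul (.v (nat_lit 4)) (.v (nat_lit 5))) (.v (nat_lit 4))) (.v (nat_lit 0))))] from ⟨e2, trivial⟩)))))
    [(.v (nat_lit 0)), (.v (nat_lit 1)), (.v (nat_lit 2)), (.v (nat_lit 3)), (.v (nat_lit 4)), (.v (nat_lit 5)), (.v (nat_lit 6)), (.inv (.v (nat_lit 6)))] (by decide +kernel)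
noncomputable def pb31_0_S0 : List ℕ := [nat_lit 0xf00000b00000700c010, nat_lit 0x1700001300000200c012, nat_lit 0x1b000007000005008014, nat_lit 0x2300001f000005008018, nat_lit 0x2b00002700000500801a, nat_lit 0x2f00001f00000800801e, nat_lit 0x37000033000010000002000028010024, nat_lit 0xa000006000028000019000037016024, nat_lit 0x3f00003b008028, nat_lit 0x4300000200002100802a, nat_lit 0x4700001800000600002100c02c, nat_lit 0x4b00000700002100802e, nat_lit 0x5300000b000050008022, nat_lit 0x2b000027000008000050000031012024, nat_lit 0x5700000b00004c00802a, nat_lit 0x2600002d000039000014, nat_lit 0x6700006300005f00005b00001600004c014032, nat_lit 0x5f00005b000016000050000031000035012026, nat_lit 0x6f00006b00001000801e, nat_lit 0x7300001e00003300005800c02c, nat_lit 0x7700004a000014008018, nat_lit 0x7b000044004028, nat_lit 0x7f00001700001300004400c02c, nat_lit 0x4e00003d000059000010, nat_lit 0x2a00002500005900c012, nat_lit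 0x8f00008b00008700008300004a000044014032, nat_lit 0x4200003900003d00006500c020, nat_lit 0x9000006900006700002e, nat_lit 0x3500004500006400006d010020, nat_lit 0x93000048004028, nat_lit 0x4000002900007500802a, nat_lit 0xa300009f00009b000097000052000048014032, nat_lit 0xa7000080004028, nat_lit 0x5600005900008100802a, nat_lit 0x4000002900006200008100c02c, nat_lit 0xb70000b30000af0000ab00000e000080014032, nat_lit 0x7e00006200008d00c016, nat_lit 0x6600005900008d00c01c, nat_lit 0xbb000074004028, nat_lit 0x8200005d00009900802e, nat_lit 0xc70000c3008028, nat_lit 0xbf00001a0000a100802e, nat_lit 0xc300002700003c00008a000085000030, nat_lit 0xcb0000c0004028, nat_lit 0xc80000a50000ad00802e, nat_lit 0xb10000aa00008600009e010020, nat_lit 0xd30000cf00007a00801a, nat_lit 0x9600009100007e0000750000b900c030, nat_lit 0xbd00008f006028, nat_lit 0xdb0000d70000b600009d0000890000d0014026, nat_lit 0x720000c10000d30000c50000db0000d70000cb018032,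 nat_lit 0x190000c9000035000004, nat_lit 0x280000ce00001200000a, nat_lit 0xd2000006000000]
noncomputable def pb31_0_S : List (List ℕ) := [pb31_0_S0]
noncomputable def pb31_0_defs : List ℕ := [(nat_lit 0x50003500400032000000330050000e0060000d00600030006000090070000d006000060070002c0000002b0040002a00500008006000050070002700000026004000250050001d006000040070002200000021004000200050001b00700005006000030000001b007000060020001a004000020070001800000017004000160050000b0070000200500002005000010070000100700004007000030060000e006000000050000c00000002002000070000000900500000000000070040000000000001001000040000000300200002001000010020000000000000)]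
noncomputable def pb31_0_recs : List ℕ := [(nat_lit 0xff0000500000ff0000a00009ff0000d00014040003300036070002200034070003400023050002400034030002e00032020003200030060002f00032030001e0003002000310002f060000900031020002e00029060001c0002e010002d00023000002d00028030001f0002d01000290000e00000290001e060001f0002903000110002800000240000e060001100024030002200014020001800022020002300019030001000023000001f00011020001f0001c01000100001f06000100001e04000040001d01000150001c04000030001b030000a0001703000120001902000150001000000120001502000140000a010001300014020000f00012010000f00011000000f0001006000000000f010000c0000602000090000d04000010000b05000050000a040000500008020000500006000000000005010000000003)]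
noncomputable def pb31_0_T : List (List ℕ × ℕ) := [([0], (nat_lit 0xd5))]
noncomputable def pb31_0_D : H26.Dag := ⟨[0,1,2,3,4,5,7,6], [[0,0],
  [1,1],
  [2,2],
  [3,3],
  [4,4],
  [5,5],
  [6,7],
  [7,6],
  [2,1,2,1],
  [1,0,1,0],
  [2,0,2,0],
  [3,0,3,0],
  [4,0,4,0],
  [5,0,5,0],
  [3,1,3,1],
  [4,2,4,2],
  [2,0,3,2,3],
  [1,5,1,5],
  [1,2,0,5,2,5],
  [1,2,3,4,5,4,5],
  [6,6,6],
  [1,7,0,6],
  [0,1,7,1,6],
  [2,7,2,6],
  [3,0,1,7,5,6],
  [4,5,4,0,7,3,6]], [], pb31_0_defs, pb31_0_recs⟩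
theorem pb31_0_c : pb31_0_D.check pb31_0_S pb31_0_T = true := by decide +kernel
theorem pb31_0 {G : Type*} [Group G] {g : ℕ → G} (hR : Rels g pb31_r_R) {H : Subgroup G}
    (hH : ∀ k ∈ [], g k ∈ H) : evA g [0] ∈ H :=
  mem_dag (K := 8) (J := [0,1,2,3,4,5,6,7,8,9,10,11,12,13,14,15,18,19,21,22,23,24,25,26,27,28]) (D := pb31_0_D) (by decide +kernel) pb31_0_c (by decide +kernel) hR hH
theorem pb31 {G : Type*} [Group G] {z u v a b r p : G}
    (t : TB z u v a b r)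
    (h : P0 z u p)
    (e0 : p * v * p⁻¹ = v)
    (e1 : p * r * p⁻¹ = a * (z * u))
    (e2 : p * a * p⁻¹ = b * r * b * z) :
    z = 1 :=
  mul_inv_eq_one.1 ((evA_eq_tm ((InvI.cons t.1 (InvI.cons t.2.1 (InvI.cons t.2.2.1 (InvI.cons t.2.2.2.1 (InvI.cons t.2.2.2.2.1 (InvI.cons t.2.2.2.2.2.1 InvI.nil)))))) : InvI [z, u, v, a, b, r, p] [(nat_lit 0), (nat_lit 1), (nat_lit 2), (nat_lit 3), (nat_lit 4), (nat_lit 5)]) [(.v (nat_lit 0)), (.v (nat_lit 1)), (.v (nat_lit 2)), (.v (nat_lit 3)), (.v (nat_lit 4)), (.v (nat_lit 5)), (.v (nat_lit 6)), (.inv (.v (nat_lit 6)))] [0] (.mul (.v (nat_lit 0)) (.inv .one)) (by decide +kernel)).symm.trans (Subgroup.mem_bot.1 (pb31_0 (pb31_r t h e0 e1 e2) (H := ⊥) (List.forall_mem_nil _))))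
noncomputable def pb32_r_R : List (List ℕ) := [[0,0],
  [1,1],
  [2,2],
  [3,3],
  [4,4],
  [5,5],
  [6,7],
  [7,6],
  [2,1,2,1],
  [1,0,1,0],
  [2,0,2,0],
  [3,0,3,0],
  [4,0,4,0],
  [5,0,5,0],
  [3,1,3,1],
  [4,2,4,2],
  [4,3,4,3],
  [1,0,4,1,4],
  [2,0,3,2,3],
  [1,5,1,5],
  [5,1,3,5,3],
  [1,2,0,5,2,5],
  [1,2,3,4,5,4,5],
  [6,6,6],
  [1,7,0,6],
  [0,1,7,1,6],
  [2,7,2,6],
  [3,0,1,7,5,6],
  [4,5,4,1,7,3,6]]
theorem pb32_r {G : Type*} [Group G] {z u v a b r p : G}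
    (t : TB z u v a b r)
    (h : P0 z u p)
    (e0 : p * v * p⁻¹ = v)
    (e1 : p * r * p⁻¹ = a * (z * u))
    (e2 : p * a * p⁻¹ = b * r * b * u) :
    Rels (nthG [z, u, v, a, b, r, p, p⁻¹]) pb32_r_R :=
  rels_of_eqs ((InvI.cons t.1 (InvI.cons t.2.1 (InvI.cons t.2.2.1 (InvI.cons t.2.2.2.1 (InvI.cons t.2.2.2.2.1 (InvI.cons t.2.2.2.2.2.1 InvI.nil)))))) : InvI [z, u, v, a, b, r, p] [(nat_lit 0), (nat_lit 1), (nat_lit 2), (nat_lit 3), (nat_lit 4), (nat_lit 5)])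
    (AllEq.append (show AllEq [z, u, v, a, b, r, p] [((.mul (.v (nat_lit 0)) (.v (nat_lit 0))), .one), ((.mul (.v (nat_lit 1)) (.v (nat_lit 1))), .one), ((.mul (.v (nat_lit 2)) (.v (nat_lit 2))), .one), ((.mul (.v (nat_lit 3)) (.v (nat_lit 3))), .one), ((.mul (.v (nat_lit 4)) (.v (nat_lit 4))), .one), ((.mul (.v (nat_lit 5)) (.v (nat_lit 5))), .one), ((.mul (.v (nat_lit 1)) (.v (nat_lit 2))), (.mul (.v (nat_lit 2)) (.v (nat_lit 1)))), ((.mul (.v (nat_lit 0)) (.v (nat_lit 1))), (.mul (.v (nat_lit 1)) (.v (nat_lit 0)))), ((.mul (.v (nat_lit 0)) (.v (nat_lit 2))), (.mul (.v (nat_lit 2)) (.v (nat_lit 0)))), ((.mul (.v (nat_lit 0)) (.v (nat_lit 3))), (.mul (.v (nat_lit 3)) (.v (nat_lit 0)))), ((.mul (.v (nat_lit 0)) (.v (nat_lit 4))), (.mul (.v (nat_lit 4)) (.v (nat_lit 0)))), ((.mul (.v (nat_lit 0)) (.v (nat_lit 5))), (.mul (.v (nat_lit 5)) (.v (nat_lit 0)))), ((.mul (.v (nat_lit 1)) (.v (nat_lit 3))), (.mul (.v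 (nat_lit 3)) (.v (nat_lit 1)))), ((.mul (.v (nat_lit 2)) (.v (nat_lit 4))), (.mul (.v (nat_lit 4)) (.v (nat_lit 2)))), ((.mul (.v (nat_lit 3)) (.v (nat_lit 4))), (.mul (.v (nat_lit 4)) (.v (nat_lit 3)))), ((.mul (.mul (.v (nat_lit 4)) (.v (nat_lit 1))) (.v (nat_lit 4))), (.mul (.v (nat_lit 1)) (.v (nat_lit 0)))), ((.mul (.mul (.v (nat_lit 3)) (.v (nat_lit 2))) (.v (nat_lit 3))), (.mul (.v (nat_lit 2)) (.v (nat_lit 0)))), ((.mul (.v (nat_lit 5)) (.v (nat_lit 1))), (.mul (.v (nat_lit 1)) (.v (nat_lit 5)))), ((.mul (.mul (.v (nat_lit 3)) (.v (nat_lit 5))) (.v (nat_lit 3))), (.mul (.v (nat_lit 5)) (.v (nat_lit 1)))), ((.mul (.mul (.v (nat_lit 5)) (.v (nat_lit 2))) (.v (nat_lit 5))), (.mul (.mul (.v (nat_lit 1)) (.v (nat_lit 2))) (.v (nat_lit 0)))), ((.mul (.mul (.v (nat_lit 5)) (.v (nat_lit 4))) (.v (nat_lit 5))), (.mul (.mul (.mul (.v (nat_lit 1)) (.v (nat_lit 2))) (.v (nat_lit 3))) (.v (nat_lit 4))))] from t)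
    (AllEq.append (show AllEq [z, u, v, a, b, r, p] [((.pw (.v (nat_lit 6)) (nat_lit 3)), .one), ((.mul (.mul (.v (nat_lit 6)) (.v (nat_lit 0))) (.inv (.v (nat_lit 6)))), (.v (nat_lit 1))), ((.mul (.mul (.v (nat_lit 6)) (.v (nat_lit 1))) (.inv (.v (nat_lit 6)))), (.mul (.v (nat_lit 0)) (.v (nat_lit 1))))] from h)
    (AllEq.append (show AllEq [z, u, v, a, b, r, p] [((.mul (.mul (.v (nat_lit 6)) (.v (nat_lit 2))) (.inv (.v (nat_lit 6)))), (.v (nat_lit 2)))] from ⟨e0, trivial⟩)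
    (AllEq.append (show AllEq [z, u, v, a, b, r, p] [((.mul (.mul (.v (nat_lit 6)) (.v (nat_lit 5))) (.inv (.v (nat_lit 6)))), (.mul (.v (nat_lit 3)) (.mul (.v (nat_lit 0)) (.v (nat_lit 1)))))] from ⟨e1, trivial⟩)
    (show AllEq [z, u, v, a, b, r, p] [((.mul (.mul (.v (nat_lit 6)) (.v (nat_lit 3))) (.inv (.v (nat_lit 6)))), (.mul (.mul (.mul (.v (nat_lit 4)) (.v (nat_lit 5))) (.v (nat_lit 4))) (.v (nat_lit 1))))] from ⟨e2, trivial⟩)))))
    [(.v (nat_lit 0)), (.v (nat_lit 1)), (.v (nat_lit 2)), (.v (nat_lit 3)), (.v (nat_lit 4)), (.v (nat_lit 5)), (.v (nat_lit 6)), (.inv (.v (nat_lit 6)))] (by decide +kernel)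
noncomputable def pb32_0_S0 : List ℕ := [nat_lit 0xf00000700000c004010, nat_lit 0x2b000014004014, nat_lit 0x2f000018004014, nat_lit 0x2f00000200002c000016, nat_lit 0x3300000500000d00000a004018, nat_lit 0x1b00003400001200002000c012, nat_lit 0x27000015000024008016]
noncomputable def pb32_0_S : List (List ℕ) := [pb32_0_S0]
noncomputable def pb32_0_defs : List ℕ := [(nat_lit 0x4006000030060000200700007007000060040000500400004007000030070000200400001004000000000000000000000)]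
noncomputable def pb32_0_recs : List ℕ := [(nat_lit 0x80000901000070000601000050000c010000a0000b06000050000b06000040000a000000200003)]
noncomputable def pb32_0_T : List (List ℕ × ℕ) := [([0,4,7,4,7,0,6,4,6,4], (nat_lit 0xc00001400001c00002400001900002700001f00001700000f000007))]
noncomputable def pb32_0_D : H26.Dag := ⟨[0,1,2,3,4,5,7,6], [[0,0],
  [1,1],
  [2,2],
  [3,3],
  [4,4],
  [5,5],
  [6,7],
  [7,6],
  [4,0,4,0],
  [1,0,4,1,4],
  [6,6,6],
  [1,7,0,6],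
  [0,1,7,1,6]], [], pb32_0_defs, pb32_0_recs⟩
theorem pb32_0_c : pb32_0_D.check pb32_0_S pb32_0_T = true := by decide +kernel
theorem pb32_0 {G : Type*} [Group G] {g : ℕ → G} (hR : Rels g pb32_r_R) {H : Subgroup G}
    (hH : ∀ k ∈ [], g k ∈ H) : evA g [0,4,7,4,7,0,6,4,6,4] ∈ H :=
  mem_dag (K := 8) (J := [0,1,2,3,4,5,6,7,12,17,23,24,25]) (D := pb32_0_D) (by decide +kernel) pb32_0_c (by decide +kernel) hR hH
noncomputable def pb32_1_S0 : List ℕ := [nat_lit 0x2b00000b000008000010012010, nat_lit 0x1700000100002b00001400c012, nat_lit 0x2f00001b000005000020012010, nat_lit 0x2700000900002f00002400c012]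
noncomputable def pb32_1_S : List (List ℕ) := [pb32_1_S0]
noncomputable def pb32_1_defs : List ℕ := [(nat_lit 0x60000000200700007007000060040000500400004007000030070000200400001004000000010000000000000)]
noncomputable def pb32_1_recs : List ℕ := [(nat_lit 0x1000080000901000070000b01000040000501000030000a)]
noncomputable def pb32_1_T : List (List ℕ × ℕ) := [([1,4,7,4,7,1,6,4,6,4], (nat_lit 0xc00001400001c00002400000d00002700001f00001700000f000007))]
noncomputable def pb32_1_D : H26.Dag := ⟨[0,1,2,3,4,5,7,6], [[0,0],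
  [1,1],
  [2,2],
  [3,3],
  [4,4],
  [5,5],
  [6,7],
  [7,6],
  [1,0,4,1,4],
  [0,1,7,1,6]], [], pb32_1_defs, pb32_1_recs⟩
theorem pb32_1_c : pb32_1_D.check pb32_1_S pb32_1_T = true := by decide +kernel
theorem pb32_1 {G : Type*} [Group G] {g : ℕ → G} (hR : Rels g pb32_r_R) {H : Subgroup G}
    (hH : ∀ k ∈ [], g k ∈ H) : evA g [1,4,7,4,7,1,6,4,6,4] ∈ H :=
  mem_dag (K := 8) (J := [0,1,2,3,4,5,6,7,17,25]) (D := pb32_1_D) (by decide +kernel) pb32_1_c (by decide +kernel) hR hH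
noncomputable def pb32_2_S0 : List ℕ := [nat_lit 0xf00000700000c004010, nat_lit 0x17000002000014008012, nat_lit 0x1f00000600001c004010, nat_lit 0x2700000a000024008012]
noncomputable def pb32_2_S : List (List ℕ) := [pb32_2_S0]
noncomputable def pb32_2_defs : List ℕ := [(nat_lit 0x700007007000060040000500400004007000030070000200400001004000000020000000000000)]
noncomputable def pb32_2_recs : List ℕ := [(nat_lit 0x20000800009020000600007020000400005020000200003)]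
noncomputable def pb32_2_T : List (List ℕ × ℕ) := [([2,4,7,4,7,2,6,4,6,4], (nat_lit 0xc00001400001c00002400000d00002700001f00001700000f000007))]
noncomputable def pb32_2_D : H26.Dag := ⟨[0,1,2,3,4,5,7,6], [[0,0],
  [1,1],
  [2,2],
  [3,3],
  [4,4],
  [5,5],
  [6,7],
  [7,6],
  [4,2,4,2],
  [2,7,2,6]], [], pb32_2_defs, pb32_2_recs⟩
theorem pb32_2_c : pb32_2_D.check pb32_2_S pb32_2_T = true := by decide +kernel
theorem pb32_2 {G : Type*} [Group G] {g : ℕ → G} (hR : Rels g pb32_r_R) {H : Subgroup G}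
    (hH : ∀ k ∈ [], g k ∈ H) : evA g [2,4,7,4,7,2,6,4,6,4] ∈ H :=
  mem_dag (K := 8) (J := [0,1,2,3,4,5,6,7,15,26]) (D := pb32_2_D) (by decide +kernel) pb32_2_c (by decide +kernel) hR hH
noncomputable def pb32_3_S0 : List ℕ := [nat_lit 0x33000008000010008010, nat_lit 0x3700001000001800002000c016, nat_lit 0x3b00000b000034008012, nat_lit 0x4300000f000038004012, nat_lit 0x43000001000009004014, nat_lit 0x4700001300004000c01a, nat_lit 0x4f00002700000500000d01001c, nat_lit 0x1600003f00003c00001100001901001e, nat_lit 0x5300005000001d008018, nat_lit 0x4b00001b000048000021010016, nat_lit 0x2f00005400002500004b00002400002c002020]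
noncomputable def pb32_3_S : List (List ℕ) := [pb32_3_S0]
noncomputable def pb32_3_defs : List ℕ := [(nat_lit 0x5000090010000900100006000000040040000300100002000000020040000100000000004000090030000800700007007000060040000500400004001000030070000200000001004000000030000000000000)]
noncomputable def pb32_3_recs : List ℕ := [(nat_lit 0x70000a0000b040001400012010001100014050001300011060001000013060000f00011030000e00010000000d00010040000c0000e01000070000d03000030000c)]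
noncomputable def pb32_3_T : List (List ℕ × ℕ) := [([3,0,1,4,7,4,7,3,6,4,6,4], (nat_lit 0xc00001400001c00002400002c00002900002f00002700001f00001700000f000007))]
noncomputable def pb32_3_D : H26.Dag := ⟨[0,1,2,3,4,5,7,6], [[0,0],
  [1,1],
  [2,2],
  [3,3],
  [4,4],
  [5,5],
  [6,7],
  [7,6],
  [3,0,3,0],
  [4,0,4,0],
  [4,3,4,3],
  [1,0,4,1,4],
  [1,5,1,5],
  [1,7,0,6],
  [0,1,7,1,6],
  [3,0,1,7,5,6],
  [4,5,4,1,7,3,6]], [], pb32_3_defs, pb32_3_recs⟩
theorem pb32_3_c : pb32_3_D.check pb32_3_S pb32_3_T = true := by decide +kernel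
theorem pb32_3 {G : Type*} [Group G] {g : ℕ → G} (hR : Rels g pb32_r_R) {H : Subgroup G}
    (hH : ∀ k ∈ [], g k ∈ H) : evA g [3,0,1,4,7,4,7,3,6,4,6,4] ∈ H :=
  mem_dag (K := 8) (J := [0,1,2,3,4,5,6,7,11,12,16,17,19,24,25,27,28]) (D := pb32_3_D) (by decide +kernel) pb32_3_c (by decide +kernel) hR hH
theorem pb32 {G : Type*} [Group G] {z u v a b r p : G}
    (t : TB z u v a b r)
    (h : P0 z u p)
    (e0 : p * v * p⁻¹ = v)
    (e1 : p * r * p⁻¹ = a * (z * u))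
    (e2 : p * a * p⁻¹ = b * r * b * u) :
    (b * p) ^ 2 * z = z * (b * p) ^ 2 ∧ (b * p) ^ 2 * u = u * (b * p) ^ 2 ∧ (b * p) ^ 2 * v = v * (b * p) ^ 2 ∧ (b * p) ^ 2 * a * ((b * p) ^ 2)⁻¹ = a * (z * u) :=
  ⟨mul_inv_eq_one.1 ((evA_eq_tm ((InvI.cons t.1 (InvI.cons t.2.1 (InvI.cons t.2.2.1 (InvI.cons t.2.2.2.1 (InvI.cons t.2.2.2.2.1 (InvI.cons t.2.2.2.2.2.1 InvI.nil)))))) : InvI [z, u, v, a, b, r, p] [(nat_lit 0), (nat_lit 1), (nat_lit 2), (nat_lit 3), (nat_lit 4), (nat_lit 5)]) [(.v (nat_lit 0)), (.v (nat_lit 1)), (.v (nat_lit 2)), (.v (nat_lit 3)), (.v (nat_lit 4)), (.v (nat_lit 5)), (.v (nat_lit 6)), (.inv (.v (nat_lit 6)))] [0,4,7,4,7,0,6,4,6,4] (.mul (.mul (.pw (.mul (.v (nat_lit 4)) (.v (nat_lit 6))) (nat_lit 2)) (.v (nat_lit 0))) (.inv (.mul (.v (nat_lit 0)) (.pw (.mul (.v (nat_lit 4)) (.v (nat_lit 6))) (nat_lit 2))))) (by decide +kernel)).symm.trans (Subgroup.mem_bot.1 (pb32_0 (pb32_r t h e0 e1 e2) (H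 := ⊥) (List.forall_mem_nil _)))),
   mul_inv_eq_one.1 ((evA_eq_tm ((InvI.cons t.1 (InvI.cons t.2.1 (InvI.cons t.2.2.1 (InvI.cons t.2.2.2.1 (InvI.cons t.2.2.2.2.1 (InvI.cons t.2.2.2.2.2.1 InvI.nil)))))) : InvI [z, u, v, a, b, r, p] [(nat_lit 0), (nat_lit 1), (nat_lit 2), (nat_lit 3), (nat_lit 4), (nat_lit 5)]) [(.v (nat_lit 0)), (.v (nat_lit 1)), (.v (nat_lit 2)), (.v (nat_lit 3)), (.v (nat_lit 4)), (.v (nat_lit 5)), (.v (nat_lit 6)), (.inv (.v (nat_lit 6)))] [1,4,7,4,7,1,6,4,6,4] (.mul (.mul (.pw (.mul (.v (nat_lit 4)) (.v (nat_lit 6))) (nat_lit 2)) (.v (nat_lit 1))) (.inv (.mul (.v (nat_lit 1)) (.pw (.mul (.v (nat_lit 4)) (.v (nat_lit 6))) (nat_lit 2))))) (by decide +kernel)).symm.trans (Subgroup.mem_bot.1 (pb32_1 (pb32_r t h e0 e1 e2) (H := ⊥) (List.forall_mem_nil _)))),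
   mul_inv_eq_one.1 ((evA_eq_tm ((InvI.cons t.1 (InvI.cons t.2.1 (InvI.cons t.2.2.1 (InvI.cons t.2.2.2.1 (InvI.cons t.2.2.2.2.1 (InvI.cons t.2.2.2.2.2.1 InvI.nil)))))) : InvI [z, u, v, a, b, r, p] [(nat_lit 0), (nat_lit 1), (nat_lit 2), (nat_lit 3), (nat_lit 4), (nat_lit 5)]) [(.v (nat_lit 0)), (.v (nat_lit 1)), (.v (nat_lit 2)), (.v (nat_lit 3)), (.v (nat_lit 4)), (.v (nat_lit 5)), (.v (nat_lit 6)), (.inv (.v (nat_lit 6)))] [2,4,7,4,7,2,6,4,6,4] (.mul (.mul (.pw (.mul (.v (nat_lit 4)) (.v (nat_lit 6))) (nat_lit 2)) (.v (nat_lit 2))) (.inv (.mul (.v (nat_lit 2)) (.pw (.mul (.v (nat_lit 4)) (.v (nat_lit 6))) (nat_lit 2))))) (by decide +kernel)).symm.trans (Subgroup.mem_bot.1 (pb32_2 (pb32_r t h e0 e1 e2) (H := ⊥) (List.forall_mem_nil _)))),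
   mul_inv_eq_one.1 ((evA_eq_tm ((InvI.cons t.1 (InvI.cons t.2.1 (InvI.cons t.2.2.1 (InvI.cons t.2.2.2.1 (InvI.cons t.2.2.2.2.1 (InvI.cons t.2.2.2.2.2.1 InvI.nil)))))) : InvI [z, u, v, a, b, r, p] [(nat_lit 0), (nat_lit 1), (nat_lit 2), (nat_lit 3), (nat_lit 4), (nat_lit 5)]) [(.v (nat_lit 0)), (.v (nat_lit 1)), (.v (nat_lit 2)), (.v (nat_lit 3)), (.v (nat_lit 4)), (.v (nat_lit 5)), (.v (nat_lit 6)), (.inv (.v (nat_lit 6)))] [3,0,1,4,7,4,7,3,6,4,6,4] (.mul (.mul (.mul (.pw (.mul (.v (nat_lit 4)) (.v (nat_lit 6))) (nat_lit 2)) (.v (nat_lit 3))) (.inv (.pw (.mul (.v (nat_lit 4)) (.v (nat_lit 6))) (nat_lit 2)))) (.inv (.mul (.v (nat_lit 3)) (.mul (.v (nat_lit 0)) (.v (nat_lit 1)))))) (by decide +kernel)).symm.trans (Subgroup.mem_bot.1 (pb32_3 (pb32_r t h e0 e1 e2) (H := ⊥) (List.forall_mem_nil _))))⟩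
noncomputable def pb33_r_R : List (List ℕ) := [[0,0],
  [1,1],
  [2,2],
  [3,3],
  [4,4],
  [5,5],
  [6,7],
  [7,6],
  [2,1,2,1],
  [1,0,1,0],
  [2,0,2,0],
  [3,0,3,0],
  [4,0,4,0],
  [5,0,5,0],
  [3,1,3,1],
  [4,2,4,2],
  [4,3,4,3],
  [1,0,4,1,4],
  [2,0,3,2,3],
  [1,5,1,5],
  [5,1,3,5,3],
  [1,2,0,5,2,5],
  [1,2,3,4,5,4,5],
  [6,6,6],
  [1,7,0,6],
  [0,1,7,1,6],
  [2,7,2,6],
  [3,0,1,7,5,6],
  [4,5,4,0,1,7,3,6]]
theorem pb33_r {G : Type*} [Group G] {z u v a b r p : G}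
    (t : TB z u v a b r)
    (h : P0 z u p)
    (e0 : p * v * p⁻¹ = v)
    (e1 : p * r * p⁻¹ = a * (z * u))
    (e2 : p * a * p⁻¹ = b * r * b * (z * u)) :
    Rels (nthG [z, u, v, a, b, r, p, p⁻¹]) pb33_r_R :=
  rels_of_eqs ((InvI.cons t.1 (InvI.cons t.2.1 (InvI.cons t.2.2.1 (InvI.cons t.2.2.2.1 (InvI.cons t.2.2.2.2.1 (InvI.cons t.2.2.2.2.2.1 InvI.nil)))))) : InvI [z, u, v, a, b, r, p] [(nat_lit 0), (nat_lit 1), (nat_lit 2), (nat_lit 3), (nat_lit 4), (nat_lit 5)])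
    (AllEq.append (show AllEq [z, u, v, a, b, r, p] [((.mul (.v (nat_lit 0)) (.v (nat_lit 0))), .one), ((.mul (.v (nat_lit 1)) (.v (nat_lit 1))), .one), ((.mul (.v (nat_lit 2)) (.v (nat_lit 2))), .one), ((.mul (.v (nat_lit 3)) (.v (nat_lit 3))), .one), ((.mul (.v (nat_lit 4)) (.v (nat_lit 4))), .one), ((.mul (.v (nat_lit 5)) (.v (nat_lit 5))), .one), ((.mul (.v (nat_lit 1)) (.v (nat_lit 2))), (.mul (.v (nat_lit 2)) (.v (nat_lit 1)))), ((.mul (.v (nat_lit 0)) (.v (nat_lit 1))), (.mul (.v (nat_lit 1)) (.v (nat_lit 0)))), ((.mul (.v (nat_lit 0)) (.v (nat_lit 2))), (.mul (.v (nat_lit 2)) (.v (nat_lit 0)))), ((.mul (.v (nat_lit 0)) (.v (nat_lit 3))), (.mul (.v (nat_lit 3)) (.v (nat_lit 0)))), ((.mul (.v (nat_lit 0)) (.v (nat_lit 4))), (.mul (.v (nat_lit 4)) (.v (nat_lit 0)))), ((.mul (.v (nat_lit 0)) (.v (nat_lit 5))), (.mul (.v (nat_lit 5)) (.v (nat_lit 0)))), ((.mul (.v (nat_lit 1)) (.v (nat_lit 3))), (.mul (.v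 (nat_lit 3)) (.v (nat_lit 1)))), ((.mul (.v (nat_lit 2)) (.v (nat_lit 4))), (.mul (.v (nat_lit 4)) (.v (nat_lit 2)))), ((.mul (.v (nat_lit 3)) (.v (nat_lit 4))), (.mul (.v (nat_lit 4)) (.v (nat_lit 3)))), ((.mul (.mul (.v (nat_lit 4)) (.v (nat_lit 1))) (.v (nat_lit 4))), (.mul (.v (nat_lit 1)) (.v (nat_lit 0)))), ((.mul (.mul (.v (nat_lit 3)) (.v (nat_lit 2))) (.v (nat_lit 3))), (.mul (.v (nat_lit 2)) (.v (nat_lit 0)))), ((.mul (.v (nat_lit 5)) (.v (nat_lit 1))), (.mul (.v (nat_lit 1)) (.v (nat_lit 5)))), ((.mul (.mul (.v (nat_lit 3)) (.v (nat_lit 5))) (.v (nat_lit 3))), (.mul (.v (nat_lit 5)) (.v (nat_lit 1)))), ((.mul (.mul (.v (nat_lit 5)) (.v (nat_lit 2))) (.v (nat_lit 5))), (.mul (.mul (.v (nat_lit 1)) (.v (nat_lit 2))) (.v (nat_lit 0)))), ((.mul (.mul (.v (nat_lit 5)) (.v (nat_lit 4))) (.v (nat_lit 5))), (.mul (.mul (.mul (.v (nat_lit 1)) (.v (nat_lit 2))) (.v (nat_lit 3))) (.v (nat_lit 4))))] from t)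
    (AllEq.append (show AllEq [z, u, v, a, b, r, p] [((.pw (.v (nat_lit 6)) (nat_lit 3)), .one), ((.mul (.mul (.v (nat_lit 6)) (.v (nat_lit 0))) (.inv (.v (nat_lit 6)))), (.v (nat_lit 1))), ((.mul (.mul (.v (nat_lit 6)) (.v (nat_lit 1))) (.inv (.v (nat_lit 6)))), (.mul (.v (nat_lit 0)) (.v (nat_lit 1))))] from h)
    (AllEq.append (show AllEq [z, u, v, a, b, r, p] [((.mul (.mul (.v (nat_lit 6)) (.v (nat_lit 2))) (.inv (.v (nat_lit 6)))), (.v (nat_lit 2)))] from ⟨e0, trivial⟩)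
    (AllEq.append (show AllEq [z, u, v, a, b, r, p] [((.mul (.mul (.v (nat_lit 6)) (.v (nat_lit 5))) (.inv (.v (nat_lit 6)))), (.mul (.v (nat_lit 3)) (.mul (.v (nat_lit 0)) (.v (nat_lit 1)))))] from ⟨e1, trivial⟩)
    (show AllEq [z, u, v, a, b, r, p] [((.mul (.mul (.v (nat_lit 6)) (.v (nat_lit 3))) (.inv (.v (nat_lit 6)))), (.mul (.mul (.mul (.v (nat_lit 4)) (.v (nat_lit 5))) (.v (nat_lit 4))) (.mul (.v (nat_lit 0)) (.v (nat_lit 1)))))] from ⟨e2, trivial⟩)))))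
    [(.v (nat_lit 0)), (.v (nat_lit 1)), (.v (nat_lit 2)), (.v (nat_lit 3)), (.v (nat_lit 4)), (.v (nat_lit 5)), (.v (nat_lit 6)), (.inv (.v (nat_lit 6)))] (by decide +kernel)
noncomputable def pb33_0_S0 : List ℕ := [nat_lit 0x1f00001c00602c, nat_lit 0x2300000700000c004012, nat_lit 0x27000007000010004014, nat_lit 0x2b000007000014004016, nat_lit 0x33000007000018004018, nat_lit 0x3700000700001c00002e, nat_lit 0x3b00003800602c, nat_lit 0x3f00000b000010004010, nat_lit 0x4300000b00001400401a, nat_lit 0x4700000500002300003000c020, nat_lit 0x4b00000b000018008024, nat_lit 0x4f00000b00001c000015000030, nat_lit 0x5300000b00002000802e, nat_lit 0x5300000b00000800003c00c030, nat_lit 0x5700000900002700002c00c022, nat_lit 0x5f00000f00001c000032, nat_lit 0x6300000f000020008032, nat_lit 0x6700000d000039004014, nat_lit 0x67000013000008000028010022, nat_lit 0x6b00001300000c00004c010026, nat_lit 0x7300007000602c, nat_lit 0x7700002900004d00401a,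 nat_lit 0x7700002900004b00004400c026, nat_lit 0x7f00001500002d008012, nat_lit 0x8b000031000036004012, nat_lit 0x8b00001f00000c000005010030, nat_lit 0x73000013000008000024000065006034, nat_lit 0x9300008c000069008024, nat_lit 0x97000006000040004014, nat_lit 0x9b000006000044004016, nat_lit 0x9b00002300002c00401a, nat_lit 0x9b00000600000b000020000094002034, nat_lit 0x9f00000600004c004018, nat_lit 0x9f000023000034008024, nat_lit 0xa300002700003000401c, nat_lit 0xa700000a00005c004018, nat_lit 0xa700000a00000f00000c00004c010028, nat_lit 0xab00000a00006000002e, nat_lit 0xab000027000038000032, nat_lit 0xaf00000e00007000002e, nat_lit 0xb30000b000602c, nat_lit 0xb300007900007e00802e, nat_lit 0xb3000079000076000043000054010034, nat_lit 0xb7000033000038000016000080000034, nat_lit 0xbb0000b800602c, nat_lit 0xbf000016000088008024, nat_lit 0xc300006100008b000002000088002034, nat_lit 0xc700003b000024000006000044014034, nat_lit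 0xcb00001e000060000095000030, nat_lit 0xcf00001e00006400802e, nat_lit 0xcf00003f000054008032, nat_lit 0xd3000022000068004010, nat_lit 0xd3000043000005000098010022, nat_lit 0xdb0000bd00402c, nat_lit 0xdb00002200007000009d000030, nat_lit 0xe700002a00007c00802e, nat_lit 0xe700002a0000110000bc00c030, nat_lit 0xeb00002e0000c0004018, nat_lit 0xef00005700000f00000c00004c0000e401002a, nat_lit 0xf300003a0000b0000032, nat_lit 0xf700003a0000b4008032, nat_lit 0xf70000f00000ea0000e30000810000860000bc006036, nat_lit 0xfb00008d00009200004d00c022, nat_lit 0xff0000fc0000fa00005500005a0000d801002a]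
noncomputable def pb33_0_S1 : List ℕ := [nat_lit 0x10300005b0000600000950000c1000034, nat_lit 0x10700010400602c, nat_lit 0x1070001000000fe0000d700007500007a0000b4006036, nat_lit 0x5100006d0000a5000109000106010034, nat_lit 0x10b0000950000c1008012, nat_lit 0x10b00003e000080008014, nat_lit 0x10f00010c0001160000ad00c022, nat_lit 0x1130000420000310000a90000f1002028, nat_lit 0x11700011400011e0000f600c026, nat_lit 0x11b0001180001220000e100a026, nat_lit 0x11b0000c50000ca0000360000c8010028, nat_lit 0x11b00006300001d0000710000d1014034, nat_lit 0x11f00004a0000a400401e, nat_lit 0x12300012000013200008a0000250000e001402a, nat_lit 0xc300003b0000240000060000480000e000013501c036, nat_lit 0x1390000ba00402c, nat_lit 0x1270000460000f400002e, nat_lit 0x127000067000070000032, nat_lit 0x12700012400013e0000b50000e5000034, nat_lit 0xae00005e0000ec00014900c026, nat_lit 0xda0000ed00014100014d00011900c028, nat_lit 0x12b0000cd00012d00802e,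 nat_lit 0x12b000067000074008032, nat_lit 0xdd000125000155000016, nat_lit 0x12f00006b00007000009d0000d9000034, nat_lit 0x96000110000151000161012026, nat_lit 0x13300005100006d00c02e, nat_lit 0x13700014500014a0000e6000022, nat_lit 0x13700010e000102000111000026, nat_lit 0x13b00013800016e0000b600008700008401002a, nat_lit 0xdb00004300005000005d00007f00008400017500013b000036, nat_lit 0x1330001790000da000000, nat_lit 0x137000179000161000006, nat_lit 0x520001790000d600000e, nat_lit 0xa200017d00016a00000e, nat_lit 0x16600018100017200000a, nat_lit 0x15a000186000129000004, nat_lit 0x940001890000aa00000a, nat_lit 0x9900018e000116000004, nat_lit 0x19100015a000004, nat_lit 0x12500019100015d000006, nat_lit 0x196000032000000, nat_lit 0x196000036000002, nat_lit 0x19a0000ad000006, nat_lit 0x1a1000125000006, nat_lit 0x13f0001b200019e00006d00009300009001002a, nat_lit 0xb20001ad0000190001a90001a50000900001b500013f000036, nat_lit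 0x7c0001b90000bb00000e, nat_lit 0x180001be00003300000a, nat_lit 0x1c2000007000000]
noncomputable def pb33_0_S : List (List ℕ) := [pb33_0_S0, pb33_0_S1]
noncomputable def pb33_0_defs : List ℕ := [(nat_lit 0x40001600300016007000150060001500400015005000130070001200400012005000110060001000400010002000100070000f0060000f0050000e0030000e0050000d0070000c0060000c0070000a0060000a00600009005000090040000900500008003000080020000800500007004000070010000700500006004000060000000600700005003000050070000400600004005000040020000400700003006000030050000300300003007000020060000200500002004000020030000200200002007000010060000100500001004000010030000100200001001000010070000000600000005000000030000000200000001000000000000000000000),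
  (nat_lit 0x40001e0040001b0030001b0000001b0060001a0070001900600019005000190040001900500018003000180010001800300017000000170070001600600016)]
noncomputable def pb33_0_recs : List ℕ := [(nat_lit 0x5000350003f020001a0003e030002e0003d020002c0003d020002b0003c05000380003b000002f0003a010002e00039000001e00039000002b00036060003100036030002500034010001900034020001400033000001800033000002a0003206000100003107000210003001000210002f070002d0002e030001f0002d05000140002c00000240002c070002b0002c010001b0002b020000d0002a01000170002a020001200029000001600029020000b00028010000c00027000001200027070002400026010000a00026000001000026000000f00025010001c0002405000220001c060000800022000000e0002201000130001f05000100001d010001a0001d070001b0001c03000120001a030000900019000001500019020000700018020000600017020000a00015010000e00014000000700014000000d00013010000500012010000b0001101000040001001000030000f070000d0000e01000060000d00000050000c00000040000a000000300009000000200008070000600007),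
  (nat_lit 0xff0000100000ff0000c00005ff0001e0002e05000230004f03000460001e030002d0000d010000e00007000000700007ff0001e00039020001c00046ff0001f0000dff0001400007ff000460004aff000420002aff000240002cff000310001cff0004b0004dff0002b0004cff0001b0003605000200004e05000420004d020002f0004d06000240004c050004b0002a03000360004b030004a0001e020001c0004a00000460004a05000430003605000490002d030003a00049020001b00049010003c00049060002100048060004800030040003700048030002800047060003400046020003100046030003900046050002e00045050003d00044020002d00043020001f0004201000320004205000400001b030002c00041070004000041030003200040)]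
noncomputable def pb33_0_T : List (List ℕ × ℕ) := [([0], (nat_lit 0x1c5))]
noncomputable def pb33_0_D : H26.Dag := ⟨[0,1,2,3,4,5,7,6], [[0,0],
  [1,1],
  [2,2],
  [3,3],
  [4,4],
  [5,5],
  [6,7],
  [7,6],
  [2,1,2,1],
  [1,0,1,0],
  [2,0,2,0],
  [3,0,3,0],
  [5,0,5,0],
  [3,1,3,1],
  [4,2,4,2],
  [4,3,4,3],
  [1,0,4,1,4],
  [2,0,3,2,3],
  [1,5,1,5],
  [5,1,3,5,3],
  [1,2,0,5,2,5],
  [1,2,3,4,5,4,5],
  [6,6,6],
  [1,7,0,6],
  [0,1,7,1,6],
  [2,7,2,6],
  [3,0,1,7,5,6],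
  [4,5,4,0,1,7,3,6]], [], pb33_0_defs, pb33_0_recs⟩
theorem pb33_0_c : pb33_0_D.check pb33_0_S pb33_0_T = true := by decide +kernel
theorem pb33_0 {G : Type*} [Group G] {g : ℕ → G} (hR : Rels g pb33_r_R) {H : Subgroup G}
    (hH : ∀ k ∈ [], g k ∈ H) : evA g [0] ∈ H :=
  mem_dag (K := 8) (J := [0,1,2,3,4,5,6,7,8,9,10,11,13,14,15,16,17,18,19,20,21,22,23,24,25,26,27,28]) (D := pb33_0_D) (by decide +kernel) pb33_0_c (by decide +kernel) hR hH
theorem pb33 {G : Type*} [Group G] {z u v a b r p : G}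
    (t : TB z u v a b r)
    (h : P0 z u p)
    (e0 : p * v * p⁻¹ = v)
    (e1 : p * r * p⁻¹ = a * (z * u))
    (e2 : p * a * p⁻¹ = b * r * b * (z * u)) :
    z = 1 :=
  mul_inv_eq_one.1 ((evA_eq_tm ((InvI.cons t.1 (InvI.cons t.2.1 (InvI.cons t.2.2.1 (InvI.cons t.2.2.2.1 (InvI.cons t.2.2.2.2.1 (InvI.cons t.2.2.2.2.2.1 InvI.nil)))))) : InvI [z, u, v, a, b, r, p] [(nat_lit 0), (nat_lit 1), (nat_lit 2), (nat_lit 3), (nat_lit 4), (nat_lit 5)]) [(.v (nat_lit 0)), (.v (nat_lit 1)), (.v (nat_lit 2)), (.v (nat_lit 3)), (.v (nat_lit 4)), (.v (nat_lit 5)), (.v (nat_lit 6)), (.inv (.v (nat_lit 6)))] [0] (.mul (.v (nat_lit 0)) (.inv .one)) (by decide +kernel)).symm.trans (Subgroup.mem_bot.1 (pb33_0 (pb33_r t h e0 e1 e2) (H := ⊥) (List.forall_mem_nil _))))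
noncomputable def TB_bad_F : Fm := (.allS TB_lR0 (.imp (.eq (.mul (.v (nat_lit 0)) (.v (nat_lit 3))) (.mul (.v (nat_lit 3)) (.v (nat_lit 0)))) (.qf (.and (.not (.eq (.mul (.mul (.v (nat_lit 0)) (.v (nat_lit 4))) (.inv (.v (nat_lit 0)))) (.mul (.v (nat_lit 4)) (.v (nat_lit 2))))) (.not (.eq (.mul (.mul (.v (nat_lit 0)) (.v (nat_lit 4))) (.inv (.v (nat_lit 0)))) (.mul (.v (nat_lit 4)) (.mul (.v (nat_lit 1)) (.v (nat_lit 2))))))))))
theorem TB_bad_chk : Fm.chk TB_o TB_bad_F TB_cs = true := by decide +kernel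
theorem TB_bad {G : Type*} [Group G] {R : ℕ → G → Prop} {z u v a b r : G} {H : Subgroup G}
    (M : Mdl TB_o TB_cs TB_L R [z, u, v, a, b, r] H) :
    ∀ s ∈ sp [z, u, v, a, r], s * v = v * s → s * a * s⁻¹ ≠ a * u ∧ s * a * s⁻¹ ≠ a * (z * u) :=
  have h : ∀ s, InS R TB_lR0 s → s * v = v * s → s * a * s⁻¹ ≠ a * u ∧ s * a * s⁻¹ ≠ a * (z * u) :=
    Fm.sound M.μ TB_bad_F TB_bad_chk M.reps
  (fun s h0 => (h s ((TB_lR0_E M).iff.2 h0)))
theorem pb_cases {G : Type*} [Group G] {z u v a b r p : G}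
    (t : TB z u v a b r)
    (h : P0 z u p)
    (e0 : p * v * p⁻¹ = v) (z1 : z ≠ 1)
    (hr : p * r * p⁻¹ = a ∨ p * r * p⁻¹ = a * z ∨ p * r * p⁻¹ = a * u ∨ p * r * p⁻¹ = a * (z * u))
    (ha : p * a * p⁻¹ = b * r * b ∨ p * a * p⁻¹ = b * r * b * z ∨ p * a * p⁻¹ = b * r * b * u ∨ p * a * p⁻¹ = b * r * b * (z * u))
    (hb : ∀ s, s * z = z * s → s * u = u * s → s * v = v * s → s * a * s⁻¹ ≠ a * u ∧ s * a * s⁻¹ ≠ a * (z * u)) :
    (p * r * p⁻¹ = a ∧ p * a * p⁻¹ = b * r * b) ∨ (p * (r * z) * p⁻¹ = a ∧ p * a * p⁻¹ = b * (r * z) * b) := by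
  rcases hr with e1 | e1 | e1 | e1 <;> rcases ha with e2 | e2 | e2 | e2
  exacts [Or.inl ⟨e1, e2⟩,
    (z1 (pb01 t h e0 e1 e2)).elim,
    (z1 (pb02 t h e0 e1 e2)).elim,
    (z1 (pb03 t h e0 e1 e2)).elim,
    (z1 (pb10 t h e0 e1 e2)).elim,
    (z1 (pb11 t h e0 e1 e2)).elim,
    (z1 (pb12 t h e0 e1 e2)).elim,
    ((hb _ (pb13 t h e0 e1 e2).1 (pb13 t h e0 e1 e2).2.1 (pb13 t h e0 e1 e2).2.2.1).2 (pb13 t h e0 e1 e2).2.2.2).elim,
    (z1 (pb20 t h e0 e1 e2)).elim,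
    Or.inr (pb21 t h e0 e1 e2),
    (z1 (pb22 t h e0 e1 e2)).elim,
    (z1 (pb23 t h e0 e1 e2)).elim,
    (z1 (pb30 t h e0 e1 e2)).elim,
    (z1 (pb31 t h e0 e1 e2)).elim,
    ((hb _ (pb32 t h e0 e1 e2).1 (pb32 t h e0 e1 e2).2.1 (pb32 t h e0 e1 e2).2.2.1).2 (pb32 t h e0 e1 e2).2.2.2).elim,
    (z1 (pb33 t h e0 e1 e2)).elim]
noncomputable def pb_s_r_R : List (List ℕ) := [[0,0],
  [1,1],
  [2,2],
  [3,3],
  [4,4],
  [5,5],
  [6,7],
  [7,6],
  [2,1,2,1],
  [1,0,1,0],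
  [2,0,2,0],
  [3,0,3,0],
  [4,0,4,0],
  [5,0,5,0],
  [3,1,3,1],
  [4,2,4,2],
  [4,3,4,3],
  [1,0,4,1,4],
  [2,0,3,2,3],
  [1,5,1,5],
  [5,1,3,5,3],
  [1,2,0,5,2,5],
  [1,2,3,4,5,4,5],
  [6,6,6],
  [1,7,0,6],
  [0,1,7,1,6],
  [2,7,2,6],
  [3,7,5,6],
  [4,5,4,7,3,6]]
theorem pb_s_r {G : Type*} [Group G] {z u v a b r p : G}
    (t : TB z u v a b r)
    (h : P0 z u p)
    (e0 : p * v * p⁻¹ = v)
    (e1 : p * r * p⁻¹ = a)
    (e2 : p * a * p⁻¹ = b * r * b) :
    Rels (nthG [z, u, v, a, b, r, p, p⁻¹]) pb_s_r_R :=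
  rels_of_eqs ((InvI.cons t.1 (InvI.cons t.2.1 (InvI.cons t.2.2.1 (InvI.cons t.2.2.2.1 (InvI.cons t.2.2.2.2.1 (InvI.cons t.2.2.2.2.2.1 InvI.nil)))))) : InvI [z, u, v, a, b, r, p] [(nat_lit 0), (nat_lit 1), (nat_lit 2), (nat_lit 3), (nat_lit 4), (nat_lit 5)])
    (AllEq.append (show AllEq [z, u, v, a, b, r, p] [((.mul (.v (nat_lit 0)) (.v (nat_lit 0))), .one), ((.mul (.v (nat_lit 1)) (.v (nat_lit 1))), .one), ((.mul (.v (nat_lit 2)) (.v (nat_lit 2))), .one), ((.mul (.v (nat_lit 3)) (.v (nat_lit 3))), .one), ((.mul (.v (nat_lit 4)) (.v (nat_lit 4))), .one), ((.mul (.v (nat_lit 5)) (.v (nat_lit 5))), .one), ((.mul (.v (nat_lit 1)) (.v (nat_lit 2))), (.mul (.v (nat_lit 2)) (.v (nat_lit 1)))), ((.mul (.v (nat_lit 0)) (.v (nat_lit 1))), (.mul (.v (nat_lit 1)) (.v (nat_lit 0)))), ((.mul (.v (nat_lit 0)) (.v (nat_lit 2))), (.mul (.v (nat_lit 2)) (.v (nat_lit 0)))), ((.mul (.v (nat_lit 0)) (.v (nat_lit 3))), (.mul (.v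 (nat_lit 3)) (.v (nat_lit 0)))), ((.mul (.v (nat_lit 0)) (.v (nat_lit 4))), (.mul (.v (nat_lit 4)) (.v (nat_lit 0)))), ((.mul (.v (nat_lit 0)) (.v (nat_lit 5))), (.mul (.v (nat_lit 5)) (.v (nat_lit 0)))), ((.mul (.v (nat_lit 1)) (.v (nat_lit 3))), (.mul (.v (nat_lit 3)) (.v (nat_lit 1)))), ((.mul (.v (nat_lit 2)) (.v (nat_lit 4))), (.mul (.v (nat_lit 4)) (.v (nat_lit 2)))), ((.mul (.v (nat_lit 3)) (.v (nat_lit 4))), (.mul (.v (nat_lit 4)) (.v (nat_lit 3)))), ((.mul (.mul (.v (nat_lit 4)) (.v (nat_lit 1))) (.v (nat_lit 4))), (.mul (.v (nat_lit 1)) (.v (nat_lit 0)))), ((.mul (.mul (.v (nat_lit 3)) (.v (nat_lit 2))) (.v (nat_lit 3))), (.mul (.v (nat_lit 2)) (.v (nat_lit 0)))), ((.mul (.v (nat_lit 5)) (.v (nat_lit 1))), (.mul (.v (nat_lit 1)) (.v (nat_lit 5)))), ((.mul (.mul (.v (nat_lit 3)) (.v (nat_lit 5))) (.v (nat_lit 3))), (.mul (.v (nat_lit 5)) (.v (nat_lit 1)))), ((.mul (.mul (.v (nat_lit 5)) (.v (nat_lit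 2))) (.v (nat_lit 5))), (.mul (.mul (.v (nat_lit 1)) (.v (nat_lit 2))) (.v (nat_lit 0)))), ((.mul (.mul (.v (nat_lit 5)) (.v (nat_lit 4))) (.v (nat_lit 5))), (.mul (.mul (.mul (.v (nat_lit 1)) (.v (nat_lit 2))) (.v (nat_lit 3))) (.v (nat_lit 4))))] from t)
    (AllEq.append (show AllEq [z, u, v, a, b, r, p] [((.pw (.v (nat_lit 6)) (nat_lit 3)), .one), ((.mul (.mul (.v (nat_lit 6)) (.v (nat_lit 0))) (.inv (.v (nat_lit 6)))), (.v (nat_lit 1))), ((.mul (.mul (.v (nat_lit 6)) (.v (nat_lit 1))) (.inv (.v (nat_lit 6)))), (.mul (.v (nat_lit 0)) (.v (nat_lit 1))))] from h)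
    (AllEq.append (show AllEq [z, u, v, a, b, r, p] [((.mul (.mul (.v (nat_lit 6)) (.v (nat_lit 2))) (.inv (.v (nat_lit 6)))), (.v (nat_lit 2)))] from ⟨e0, trivial⟩)
    (AllEq.append (show AllEq [z, u, v, a, b, r, p] [((.mul (.mul (.v (nat_lit 6)) (.v (nat_lit 5))) (.inv (.v (nat_lit 6)))), (.v (nat_lit 3)))] from ⟨e1, trivial⟩)
    (show AllEq [z, u, v, a, b, r, p] [((.mul (.mul (.v (nat_lit 6)) (.v (nat_lit 3))) (.inv (.v (nat_lit 6)))), (.mul (.mul (.v (nat_lit 4)) (.v (nat_lit 5))) (.v (nat_lit 4))))] from ⟨e2, trivial⟩)))))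
    [(.v (nat_lit 0)), (.v (nat_lit 1)), (.v (nat_lit 2)), (.v (nat_lit 3)), (.v (nat_lit 4)), (.v (nat_lit 5)), (.v (nat_lit 6)), (.inv (.v (nat_lit 6)))] (by decide +kernel)
noncomputable def pb_s_0_S0 : List ℕ := [nat_lit 0xf00000700000c004010, nat_lit 0x2b000014004014, nat_lit 0x2f000018004014, nat_lit 0x2f00000200002c000016, nat_lit 0x3300000500000d00000a004018, nat_lit 0x1b00003400001200002000c012, nat_lit 0x27000015000024008016]
noncomputable def pb_s_0_S : List (List ℕ) := [pb_s_0_S0]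
noncomputable def pb_s_0_defs : List ℕ := [(nat_lit 0x4006000030060000200700007007000060040000500400004007000030070000200400001004000000000000000000000)]
noncomputable def pb_s_0_recs : List ℕ := [(nat_lit 0x80000901000070000601000050000c010000a0000b06000050000b06000040000a000000200003)]
noncomputable def pb_s_0_T : List (List ℕ × ℕ) := [([0,4,7,4,7,0,6,4,6,4], (nat_lit 0xc00001400001c00002400001900002700001f00001700000f000007))]
noncomputable def pb_s_0_D : H26.Dag := ⟨[0,1,2,3,4,5,7,6], [[0,0],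
  [1,1],
  [2,2],
  [3,3],
  [4,4],
  [5,5],
  [6,7],
  [7,6],
  [4,0,4,0],
  [1,0,4,1,4],
  [6,6,6],
  [1,7,0,6],
  [0,1,7,1,6]], [], pb_s_0_defs, pb_s_0_recs⟩
theorem pb_s_0_c : pb_s_0_D.check pb_s_0_S pb_s_0_T = true := by decide +kernel
theorem pb_s_0 {G : Type*} [Group G] {g : ℕ → G} (hR : Rels g pb_s_r_R) {H : Subgroup G}
    (hH : ∀ k ∈ [], g k ∈ H) : evA g [0,4,7,4,7,0,6,4,6,4] ∈ H :=
  mem_dag (K := 8) (J := [0,1,2,3,4,5,6,7,12,17,23,24,25]) (D := pb_s_0_D) (by decide +kernel) pb_s_0_c (by decide +kernel) hR hH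
noncomputable def pb_s_1_S0 : List ℕ := [nat_lit 0x2b00000b000008000010012010, nat_lit 0x1700000100002b00001400c012, nat_lit 0x2f00001b000005000020012010, nat_lit 0x2700000900002f00002400c012]
noncomputable def pb_s_1_S : List (List ℕ) := [pb_s_1_S0]
noncomputable def pb_s_1_defs : List ℕ := [(nat_lit 0x60000000200700007007000060040000500400004007000030070000200400001004000000010000000000000)]
noncomputable def pb_s_1_recs : List ℕ := [(nat_lit 0x1000080000901000070000b01000040000501000030000a)]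
noncomputable def pb_s_1_T : List (List ℕ × ℕ) := [([1,4,7,4,7,1,6,4,6,4], (nat_lit 0xc00001400001c00002400000d00002700001f00001700000f000007))]
noncomputable def pb_s_1_D : H26.Dag := ⟨[0,1,2,3,4,5,7,6], [[0,0],
  [1,1],
  [2,2],
  [3,3],
  [4,4],
  [5,5],
  [6,7],
  [7,6],
  [1,0,4,1,4],
  [0,1,7,1,6]], [], pb_s_1_defs, pb_s_1_recs⟩
theorem pb_s_1_c : pb_s_1_D.check pb_s_1_S pb_s_1_T = true := by decide +kernel
theorem pb_s_1 {G : Type*} [Group G] {g : ℕ → G} (hR : Rels g pb_s_r_R) {H : Subgroup G}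
    (hH : ∀ k ∈ [], g k ∈ H) : evA g [1,4,7,4,7,1,6,4,6,4] ∈ H :=
  mem_dag (K := 8) (J := [0,1,2,3,4,5,6,7,17,25]) (D := pb_s_1_D) (by decide +kernel) pb_s_1_c (by decide +kernel) hR hH
noncomputable def pb_s_2_S0 : List ℕ := [nat_lit 0xf00000700000c004010, nat_lit 0x17000002000014008012, nat_lit 0x1f00000600001c004010, nat_lit 0x2700000a000024008012]
noncomputable def pb_s_2_S : List (List ℕ) := [pb_s_2_S0]
noncomputable def pb_s_2_defs : List ℕ := [(nat_lit 0x700007007000060040000500400004007000030070000200400001004000000020000000000000)]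
noncomputable def pb_s_2_recs : List ℕ := [(nat_lit 0x20000800009020000600007020000400005020000200003)]
noncomputable def pb_s_2_T : List (List ℕ × ℕ) := [([2,4,7,4,7,2,6,4,6,4], (nat_lit 0xc00001400001c00002400000d00002700001f00001700000f000007))]
noncomputable def pb_s_2_D : H26.Dag := ⟨[0,1,2,3,4,5,7,6], [[0,0],
  [1,1],
  [2,2],
  [3,3],
  [4,4],
  [5,5],
  [6,7],
  [7,6],
  [4,2,4,2],
  [2,7,2,6]], [], pb_s_2_defs, pb_s_2_recs⟩
theorem pb_s_2_c : pb_s_2_D.check pb_s_2_S pb_s_2_T = true := by decide +kernel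
theorem pb_s_2 {G : Type*} [Group G] {g : ℕ → G} (hR : Rels g pb_s_r_R) {H : Subgroup G}
    (hH : ∀ k ∈ [], g k ∈ H) : evA g [2,4,7,4,7,2,6,4,6,4] ∈ H :=
  mem_dag (K := 8) (J := [0,1,2,3,4,5,6,7,15,26]) (D := pb_s_2_D) (by decide +kernel) pb_s_2_c (by decide +kernel) hR hH
noncomputable def pb_s_3_S0 : List ℕ := [nat_lit 0xf00000700000c004010, nat_lit 0x17000002000014008012, nat_lit 0x2700001f00000600001c000024010014]
noncomputable def pb_s_3_S : List (List ℕ) := [pb_s_3_S0]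
noncomputable def pb_s_3_defs : List ℕ := [(nat_lit 0x700007007000060040000500400004007000030070000200400001004000000030000000000000)]
noncomputable def pb_s_3_recs : List ℕ := [(nat_lit 0x30000800009050000400005030000200003)]
noncomputable def pb_s_3_T : List (List ℕ × ℕ) := [([3,4,7,4,7,3,6,4,6,4], (nat_lit 0xc00001400001c00002400000900002700001f00001700000f000007))]
noncomputable def pb_s_3_D : H26.Dag := ⟨[0,1,2,3,4,5,7,6], [[0,0],
  [1,1],
  [2,2],
  [3,3],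
  [4,4],
  [5,5],
  [6,7],
  [7,6],
  [4,3,4,3],
  [3,7,5,6],
  [4,5,4,7,3,6]], [], pb_s_3_defs, pb_s_3_recs⟩
theorem pb_s_3_c : pb_s_3_D.check pb_s_3_S pb_s_3_T = true := by decide +kernel
theorem pb_s_3 {G : Type*} [Group G] {g : ℕ → G} (hR : Rels g pb_s_r_R) {H : Subgroup G}
    (hH : ∀ k ∈ [], g k ∈ H) : evA g [3,4,7,4,7,3,6,4,6,4] ∈ H :=
  mem_dag (K := 8) (J := [0,1,2,3,4,5,6,7,16,27,28]) (D := pb_s_3_D) (by decide +kernel) pb_s_3_c (by decide +kernel) hR hH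
noncomputable def pb_s_4_S0 : List ℕ := [nat_lit 0x1700000f00000700000c000014010014, nat_lit 0x1f00000200001c004010, nat_lit 0x27000006000024008012]
noncomputable def pb_s_4_S : List (List ℕ) := [pb_s_4_S0]
noncomputable def pb_s_4_defs : List ℕ := [(nat_lit 0x700007007000060040000500400004007000030070000200400001004000000050000000000000)]
noncomputable def pb_s_4_recs : List ℕ := [(nat_lit 0x50000800009030000600007030000400005)]
noncomputable def pb_s_4_T : List (List ℕ × ℕ) := [([5,4,7,4,7,5,6,4,6,4], (nat_lit 0xc00001400001c00002400000900002700001f00001700000f000007))]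
noncomputable def pb_s_4_D : H26.Dag := ⟨[0,1,2,3,4,5,7,6], [[0,0],
  [1,1],
  [2,2],
  [3,3],
  [4,4],
  [5,5],
  [6,7],
  [7,6],
  [4,3,4,3],
  [3,7,5,6],
  [4,5,4,7,3,6]], [], pb_s_4_defs, pb_s_4_recs⟩
theorem pb_s_4_c : pb_s_4_D.check pb_s_4_S pb_s_4_T = true := by decide +kernel
theorem pb_s_4 {G : Type*} [Group G] {g : ℕ → G} (hR : Rels g pb_s_r_R) {H : Subgroup G}
    (hH : ∀ k ∈ [], g k ∈ H) : evA g [5,4,7,4,7,5,6,4,6,4] ∈ H :=
  mem_dag (K := 8) (J := [0,1,2,3,4,5,6,7,16,27,28]) (D := pb_s_4_D) (by decide +kernel) pb_s_4_c (by decide +kernel) hR hH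
theorem pb_s {G : Type*} [Group G] {z u v a b r p : G}
    (t : TB z u v a b r)
    (h : P0 z u p)
    (e0 : p * v * p⁻¹ = v)
    (e1 : p * r * p⁻¹ = a)
    (e2 : p * a * p⁻¹ = b * r * b) :
    (b * p) ^ 2 * z = z * (b * p) ^ 2 ∧ (b * p) ^ 2 * u = u * (b * p) ^ 2 ∧ (b * p) ^ 2 * v = v * (b * p) ^ 2 ∧ (b * p) ^ 2 * a = a * (b * p) ^ 2 ∧ (b * p) ^ 2 * r = r * (b * p) ^ 2 :=
  ⟨mul_inv_eq_one.1 ((evA_eq_tm ((InvI.cons t.1 (InvI.cons t.2.1 (InvI.cons t.2.2.1 (InvI.cons t.2.2.2.1 (InvI.cons t.2.2.2.2.1 (InvI.cons t.2.2.2.2.2.1 InvI.nil)))))) : InvI [z, u, v, a, b, r, p] [(nat_lit 0), (nat_lit 1), (nat_lit 2), (nat_lit 3), (nat_lit 4), (nat_lit 5)]) [(.v (nat_lit 0)), (.v (nat_lit 1)), (.v (nat_lit 2)), (.v (nat_lit 3)), (.v (nat_lit 4)), (.v (nat_lit 5)), (.v (nat_lit 6)), (.inv (.v (nat_lit 6)))] [0,4,7,4,7,0,6,4,6,4] (.mul (.mul (.pw (.mul (.v (nat_lit 4)) (.v (nat_lit 6))) (nat_lit 2)) (.v (nat_lit 0))) (.inv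 (.mul (.v (nat_lit 0)) (.pw (.mul (.v (nat_lit 4)) (.v (nat_lit 6))) (nat_lit 2))))) (by decide +kernel)).symm.trans (Subgroup.mem_bot.1 (pb_s_0 (pb_s_r t h e0 e1 e2) (H := ⊥) (List.forall_mem_nil _)))),
   mul_inv_eq_one.1 ((evA_eq_tm ((InvI.cons t.1 (InvI.cons t.2.1 (InvI.cons t.2.2.1 (InvI.cons t.2.2.2.1 (InvI.cons t.2.2.2.2.1 (InvI.cons t.2.2.2.2.2.1 InvI.nil)))))) : InvI [z, u, v, a, b, r, p] [(nat_lit 0), (nat_lit 1), (nat_lit 2), (nat_lit 3), (nat_lit 4), (nat_lit 5)]) [(.v (nat_lit 0)), (.v (nat_lit 1)), (.v (nat_lit 2)), (.v (nat_lit 3)), (.v (nat_lit 4)), (.v (nat_lit 5)), (.v (nat_lit 6)), (.inv (.v (nat_lit 6)))] [1,4,7,4,7,1,6,4,6,4] (.mul (.mul (.pw (.mul (.v (nat_lit 4)) (.v (nat_lit 6))) (nat_lit 2)) (.v (nat_lit 1))) (.inv (.mul (.v (nat_lit 1)) (.pw (.mul (.v (nat_lit 4)) (.v (nat_lit 6))) (nat_lit 2))))) (by decide +kernel)).symm.trans (Subgroup.mem_bot.1 (pb_s_1 (pb_s_r t h e0 e1 e2) (H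 := ⊥) (List.forall_mem_nil _)))),
   mul_inv_eq_one.1 ((evA_eq_tm ((InvI.cons t.1 (InvI.cons t.2.1 (InvI.cons t.2.2.1 (InvI.cons t.2.2.2.1 (InvI.cons t.2.2.2.2.1 (InvI.cons t.2.2.2.2.2.1 InvI.nil)))))) : InvI [z, u, v, a, b, r, p] [(nat_lit 0), (nat_lit 1), (nat_lit 2), (nat_lit 3), (nat_lit 4), (nat_lit 5)]) [(.v (nat_lit 0)), (.v (nat_lit 1)), (.v (nat_lit 2)), (.v (nat_lit 3)), (.v (nat_lit 4)), (.v (nat_lit 5)), (.v (nat_lit 6)), (.inv (.v (nat_lit 6)))] [2,4,7,4,7,2,6,4,6,4] (.mul (.mul (.pw (.mul (.v (nat_lit 4)) (.v (nat_lit 6))) (nat_lit 2)) (.v (nat_lit 2))) (.inv (.mul (.v (nat_lit 2)) (.pw (.mul (.v (nat_lit 4)) (.v (nat_lit 6))) (nat_lit 2))))) (by decide +kernel)).symm.trans (Subgroup.mem_bot.1 (pb_s_2 (pb_s_r t h e0 e1 e2) (H := ⊥) (List.forall_mem_nil _)))),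
   mul_inv_eq_one.1 ((evA_eq_tm ((InvI.cons t.1 (InvI.cons t.2.1 (InvI.cons t.2.2.1 (InvI.cons t.2.2.2.1 (InvI.cons t.2.2.2.2.1 (InvI.cons t.2.2.2.2.2.1 InvI.nil)))))) : InvI [z, u, v, a, b, r, p] [(nat_lit 0), (nat_lit 1), (nat_lit 2), (nat_lit 3), (nat_lit 4), (nat_lit 5)]) [(.v (nat_lit 0)), (.v (nat_lit 1)), (.v (nat_lit 2)), (.v (nat_lit 3)), (.v (nat_lit 4)), (.v (nat_lit 5)), (.v (nat_lit 6)), (.inv (.v (nat_lit 6)))] [3,4,7,4,7,3,6,4,6,4] (.mul (.mul (.pw (.mul (.v (nat_lit 4)) (.v (nat_lit 6))) (nat_lit 2)) (.v (nat_lit 3))) (.inv (.mul (.v (nat_lit 3)) (.pw (.mul (.v (nat_lit 4)) (.v (nat_lit 6))) (nat_lit 2))))) (by decide +kernel)).symm.trans (Subgroup.mem_bot.1 (pb_s_3 (pb_s_r t h e0 e1 e2) (H := ⊥) (List.forall_mem_nil _)))),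
   mul_inv_eq_one.1 ((evA_eq_tm ((InvI.cons t.1 (InvI.cons t.2.1 (InvI.cons t.2.2.1 (InvI.cons t.2.2.2.1 (InvI.cons t.2.2.2.2.1 (InvI.cons t.2.2.2.2.2.1 InvI.nil)))))) : InvI [z, u, v, a, b, r, p] [(nat_lit 0), (nat_lit 1), (nat_lit 2), (nat_lit 3), (nat_lit 4), (nat_lit 5)]) [(.v (nat_lit 0)), (.v (nat_lit 1)), (.v (nat_lit 2)), (.v (nat_lit 3)), (.v (nat_lit 4)), (.v (nat_lit 5)), (.v (nat_lit 6)), (.inv (.v (nat_lit 6)))] [5,4,7,4,7,5,6,4,6,4] (.mul (.mul (.pw (.mul (.v (nat_lit 4)) (.v (nat_lit 6))) (nat_lit 2)) (.v (nat_lit 5))) (.inv (.mul (.v (nat_lit 5)) (.pw (.mul (.v (nat_lit 4)) (.v (nat_lit 6))) (nat_lit 2))))) (by decide +kernel)).symm.trans (Subgroup.mem_bot.1 (pb_s_4 (pb_s_r t h e0 e1 e2) (H := ⊥) (List.forall_mem_nil _))))⟩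
noncomputable def pb_z_r_R : List (List ℕ) := [[0,0],
  [1,1],
  [2,2],
  [3,3],
  [4,4],
  [5,5],
  [6,7],
  [7,6],
  [2,1,2,1],
  [1,0,1,0],
  [2,0,2,0],
  [3,0,3,0],
  [4,0,4,0],
  [5,0,5,0],
  [3,1,3,1],
  [4,2,4,2],
  [4,3,4,3],
  [1,0,4,1,4],
  [2,0,3,2,3],
  [1,5,1,5],
  [5,1,3,5,3],
  [1,2,0,5,2,5],
  [1,2,3,4,5,4,5],
  [6,6,6],
  [1,7,0,6],
  [0,1,7,1,6],
  [2,7,2,6],
  [3,7,5,6],
  [4,5,4,7,3,6],
  [0,6,4,6,4]]
theorem pb_z_r {G : Type*} [Group G] {z u v a b r p : G}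
    (t : TB z u v a b r)
    (h : P0 z u p)
    (e0 : p * v * p⁻¹ = v)
    (e1 : p * r * p⁻¹ = a)
    (e2 : p * a * p⁻¹ = b * r * b)
    (e3 : (b * p) ^ 2 = z) :
    Rels (nthG [z, u, v, a, b, r, p, p⁻¹]) pb_z_r_R :=
  rels_of_eqs ((InvI.cons t.1 (InvI.cons t.2.1 (InvI.cons t.2.2.1 (InvI.cons t.2.2.2.1 (InvI.cons t.2.2.2.2.1 (InvI.cons t.2.2.2.2.2.1 InvI.nil)))))) : InvI [z, u, v, a, b, r, p] [(nat_lit 0), (nat_lit 1), (nat_lit 2), (nat_lit 3), (nat_lit 4), (nat_lit 5)])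
    (AllEq.append (show AllEq [z, u, v, a, b, r, p] [((.mul (.v (nat_lit 0)) (.v (nat_lit 0))), .one), ((.mul (.v (nat_lit 1)) (.v (nat_lit 1))), .one), ((.mul (.v (nat_lit 2)) (.v (nat_lit 2))), .one), ((.mul (.v (nat_lit 3)) (.v (nat_lit 3))), .one), ((.mul (.v (nat_lit 4)) (.v (nat_lit 4))), .one), ((.mul (.v (nat_lit 5)) (.v (nat_lit 5))), .one), ((.mul (.v (nat_lit 1)) (.v (nat_lit 2))), (.mul (.v (nat_lit 2)) (.v (nat_lit 1)))), ((.mul (.v (nat_lit 0)) (.v (nat_lit 1))), (.mul (.v (nat_lit 1)) (.v (nat_lit 0)))), ((.mul (.v (nat_lit 0)) (.v (nat_lit 2))), (.mul (.v (nat_lit 2)) (.v (nat_lit 0)))), ((.mul (.v (nat_lit 0)) (.v (nat_lit 3))), (.mul (.v (nat_lit 3)) (.v (nat_lit 0)))), ((.mul (.v (nat_lit 0)) (.v (nat_lit 4))), (.mul (.v (nat_lit 4)) (.v (nat_lit 0)))), ((.mul (.v (nat_lit 0)) (.v (nat_lit 5))), (.mul (.v (nat_lit 5)) (.v (nat_lit 0)))), ((.mul (.v (nat_lit 1)) (.v (nat_lit 3))), (.mul (.v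 (nat_lit 3)) (.v (nat_lit 1)))), ((.mul (.v (nat_lit 2)) (.v (nat_lit 4))), (.mul (.v (nat_lit 4)) (.v (nat_lit 2)))), ((.mul (.v (nat_lit 3)) (.v (nat_lit 4))), (.mul (.v (nat_lit 4)) (.v (nat_lit 3)))), ((.mul (.mul (.v (nat_lit 4)) (.v (nat_lit 1))) (.v (nat_lit 4))), (.mul (.v (nat_lit 1)) (.v (nat_lit 0)))), ((.mul (.mul (.v (nat_lit 3)) (.v (nat_lit 2))) (.v (nat_lit 3))), (.mul (.v (nat_lit 2)) (.v (nat_lit 0)))), ((.mul (.v (nat_lit 5)) (.v (nat_lit 1))), (.mul (.v (nat_lit 1)) (.v (nat_lit 5)))), ((.mul (.mul (.v (nat_lit 3)) (.v (nat_lit 5))) (.v (nat_lit 3))), (.mul (.v (nat_lit 5)) (.v (nat_lit 1)))), ((.mul (.mul (.v (nat_lit 5)) (.v (nat_lit 2))) (.v (nat_lit 5))), (.mul (.mul (.v (nat_lit 1)) (.v (nat_lit 2))) (.v (nat_lit 0)))), ((.mul (.mul (.v (nat_lit 5)) (.v (nat_lit 4))) (.v (nat_lit 5))), (.mul (.mul (.mul (.v (nat_lit 1)) (.v (nat_lit 2))) (.v (nat_lit 3))) (.v (nat_lit 4))))] from t)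
    (AllEq.append (show AllEq [z, u, v, a, b, r, p] [((.pw (.v (nat_lit 6)) (nat_lit 3)), .one), ((.mul (.mul (.v (nat_lit 6)) (.v (nat_lit 0))) (.inv (.v (nat_lit 6)))), (.v (nat_lit 1))), ((.mul (.mul (.v (nat_lit 6)) (.v (nat_lit 1))) (.inv (.v (nat_lit 6)))), (.mul (.v (nat_lit 0)) (.v (nat_lit 1))))] from h)
    (AllEq.append (show AllEq [z, u, v, a, b, r, p] [((.mul (.mul (.v (nat_lit 6)) (.v (nat_lit 2))) (.inv (.v (nat_lit 6)))), (.v (nat_lit 2)))] from ⟨e0, trivial⟩)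
    (AllEq.append (show AllEq [z, u, v, a, b, r, p] [((.mul (.mul (.v (nat_lit 6)) (.v (nat_lit 5))) (.inv (.v (nat_lit 6)))), (.v (nat_lit 3)))] from ⟨e1, trivial⟩)
    (AllEq.append (show AllEq [z, u, v, a, b, r, p] [((.mul (.mul (.v (nat_lit 6)) (.v (nat_lit 3))) (.inv (.v (nat_lit 6)))), (.mul (.mul (.v (nat_lit 4)) (.v (nat_lit 5))) (.v (nat_lit 4))))] from ⟨e2, trivial⟩)
    (show AllEq [z, u, v, a, b, r, p] [((.pw (.mul (.v (nat_lit 4)) (.v (nat_lit 6))) (nat_lit 2)), (.v (nat_lit 0)))] from ⟨e3, trivial⟩))))))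
    [(.v (nat_lit 0)), (.v (nat_lit 1)), (.v (nat_lit 2)), (.v (nat_lit 3)), (.v (nat_lit 4)), (.v (nat_lit 5)), (.v (nat_lit 6)), (.inv (.v (nat_lit 6)))] (by decide +kernel)
noncomputable def pb_z_0_S0 : List ℕ := [nat_lit 0x1700000700000c004010, nat_lit 0x1b000007000010004012, nat_lit 0x2700000b000014008016, nat_lit 0x2b00000f000008000018010014, nat_lit 0x2f00000500001b000024008018, nat_lit 0x1100002f00000f000014000009000018, nat_lit 0x2400001600002700000e, nat_lit 0x800001a000001000000, nat_lit 0xf00001e00000d000008, nat_lit 0x2200002b000002, nat_lit 0x33000025000034008016, nat_lit 0x3300000f00000800002000a018, nat_lit 0x1b00002000002d00002900003300e018, nat_lit 0x1000003100001b000008, nat_lit 0x36000007000000]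
noncomputable def pb_z_0_S : List (List ℕ) := [pb_z_0_S0]
noncomputable def pb_z_0_defs : List ℕ := [(nat_lit 0x700003006000030010000300700002007000010060000100400001001000010070000000400000001000000000000000000000)]
noncomputable def pb_z_0_recs : List ℕ := [(nat_lit 0xff0000100000ff000030000604000070000c000000c0000c010000300003ff0000a00003ff0000500000ff0000200001ff000090000804000080000b04000050000a000000400009000000300006000000200005)]
noncomputable def pb_z_0_T : List (List ℕ × ℕ) := [([0], (nat_lit 0x39))]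
noncomputable def pb_z_0_D : H26.Dag := ⟨[0,1,2,3,4,5,7,6], [[0,0],
  [1,1],
  [2,2],
  [3,3],
  [4,4],
  [5,5],
  [6,7],
  [7,6],
  [1,0,1,0],
  [4,0,4,0],
  [1,0,4,1,4],
  [1,7,0,6],
  [0,6,4,6,4]], [], pb_z_0_defs, pb_z_0_recs⟩
theorem pb_z_0_c : pb_z_0_D.check pb_z_0_S pb_z_0_T = true := by decide +kernel
theorem pb_z_0 {G : Type*} [Group G] {g : ℕ → G} (hR : Rels g pb_z_r_R) {H : Subgroup G}
    (hH : ∀ k ∈ [], g k ∈ H) : evA g [0] ∈ H :=
  mem_dag (K := 8) (J := [0,1,2,3,4,5,6,7,9,12,17,24,29]) (D := pb_z_0_D) (by decide +kernel) pb_z_0_c (by decide +kernel) hR hH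
theorem pb_z {G : Type*} [Group G] {z u v a b r p : G}
    (t : TB z u v a b r)
    (h : P0 z u p)
    (e0 : p * v * p⁻¹ = v)
    (e1 : p * r * p⁻¹ = a)
    (e2 : p * a * p⁻¹ = b * r * b)
    (e3 : (b * p) ^ 2 = z) :
    z = 1 :=
  mul_inv_eq_one.1 ((evA_eq_tm ((InvI.cons t.1 (InvI.cons t.2.1 (InvI.cons t.2.2.1 (InvI.cons t.2.2.2.1 (InvI.cons t.2.2.2.2.1 (InvI.cons t.2.2.2.2.2.1 InvI.nil)))))) : InvI [z, u, v, a, b, r, p] [(nat_lit 0), (nat_lit 1), (nat_lit 2), (nat_lit 3), (nat_lit 4), (nat_lit 5)]) [(.v (nat_lit 0)), (.v (nat_lit 1)), (.v (nat_lit 2)), (.v (nat_lit 3)), (.v (nat_lit 4)), (.v (nat_lit 5)), (.v (nat_lit 6)), (.inv (.v (nat_lit 6)))] [0] (.mul (.v (nat_lit 0)) (.inv .one)) (by decide +kernel)).symm.trans (Subgroup.mem_bot.1 (pb_z_0 (pb_z_r t h e0 e1 e2 e3) (H := ⊥) (List.forall_mem_nil _))))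
noncomputable def pb_zu_r_R : List (List ℕ) := [[0,0],
  [1,1],
  [2,2],
  [3,3],
  [4,4],
  [5,5],
  [6,7],
  [7,6],
  [2,1,2,1],
  [1,0,1,0],
  [2,0,2,0],
  [3,0,3,0],
  [4,0,4,0],
  [5,0,5,0],
  [3,1,3,1],
  [4,2,4,2],
  [4,3,4,3],
  [1,0,4,1,4],
  [2,0,3,2,3],
  [1,5,1,5],
  [5,1,3,5,3],
  [1,2,0,5,2,5],
  [1,2,3,4,5,4,5],
  [6,6,6],
  [1,7,0,6],
  [0,1,7,1,6],
  [2,7,2,6],
  [3,7,5,6],
  [4,5,4,7,3,6],
  [0,1,6,4,6,4]]
theorem pb_zu_r {G : Type*} [Group G] {z u v a b r p : G}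
    (t : TB z u v a b r)
    (h : P0 z u p)
    (e0 : p * v * p⁻¹ = v)
    (e1 : p * r * p⁻¹ = a)
    (e2 : p * a * p⁻¹ = b * r * b)
    (e3 : (b * p) ^ 2 = z * u) :
    Rels (nthG [z, u, v, a, b, r, p, p⁻¹]) pb_zu_r_R :=
  rels_of_eqs ((InvI.cons t.1 (InvI.cons t.2.1 (InvI.cons t.2.2.1 (InvI.cons t.2.2.2.1 (InvI.cons t.2.2.2.2.1 (InvI.cons t.2.2.2.2.2.1 InvI.nil)))))) : InvI [z, u, v, a, b, r, p] [(nat_lit 0), (nat_lit 1), (nat_lit 2), (nat_lit 3), (nat_lit 4), (nat_lit 5)])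
    (AllEq.append (show AllEq [z, u, v, a, b, r, p] [((.mul (.v (nat_lit 0)) (.v (nat_lit 0))), .one), ((.mul (.v (nat_lit 1)) (.v (nat_lit 1))), .one), ((.mul (.v (nat_lit 2)) (.v (nat_lit 2))), .one), ((.mul (.v (nat_lit 3)) (.v (nat_lit 3))), .one), ((.mul (.v (nat_lit 4)) (.v (nat_lit 4))), .one), ((.mul (.v (nat_lit 5)) (.v (nat_lit 5))), .one), ((.mul (.v (nat_lit 1)) (.v (nat_lit 2))), (.mul (.v (nat_lit 2)) (.v (nat_lit 1)))), ((.mul (.v (nat_lit 0)) (.v (nat_lit 1))), (.mul (.v (nat_lit 1)) (.v (nat_lit 0)))), ((.mul (.v (nat_lit 0)) (.v (nat_lit 2))), (.mul (.v (nat_lit 2)) (.v (nat_lit 0)))), ((.mul (.v (nat_lit 0)) (.v (nat_lit 3))), (.mul (.v (nat_lit 3)) (.v (nat_lit 0)))), ((.mul (.v (nat_lit 0)) (.v (nat_lit 4))), (.mul (.v (nat_lit 4)) (.v (nat_lit 0)))), ((.mul (.v (nat_lit 0)) (.v (nat_lit 5))), (.mul (.v (nat_lit 5)) (.v (nat_lit 0)))), ((.mul (.v (nat_lit 1)) (.v (nat_lit 3))), (.mul (.v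 (nat_lit 3)) (.v (nat_lit 1)))), ((.mul (.v (nat_lit 2)) (.v (nat_lit 4))), (.mul (.v (nat_lit 4)) (.v (nat_lit 2)))), ((.mul (.v (nat_lit 3)) (.v (nat_lit 4))), (.mul (.v (nat_lit 4)) (.v (nat_lit 3)))), ((.mul (.mul (.v (nat_lit 4)) (.v (nat_lit 1))) (.v (nat_lit 4))), (.mul (.v (nat_lit 1)) (.v (nat_lit 0)))), ((.mul (.mul (.v (nat_lit 3)) (.v (nat_lit 2))) (.v (nat_lit 3))), (.mul (.v (nat_lit 2)) (.v (nat_lit 0)))), ((.mul (.v (nat_lit 5)) (.v (nat_lit 1))), (.mul (.v (nat_lit 1)) (.v (nat_lit 5)))), ((.mul (.mul (.v (nat_lit 3)) (.v (nat_lit 5))) (.v (nat_lit 3))), (.mul (.v (nat_lit 5)) (.v (nat_lit 1)))), ((.mul (.mul (.v (nat_lit 5)) (.v (nat_lit 2))) (.v (nat_lit 5))), (.mul (.mul (.v (nat_lit 1)) (.v (nat_lit 2))) (.v (nat_lit 0)))), ((.mul (.mul (.v (nat_lit 5)) (.v (nat_lit 4))) (.v (nat_lit 5))), (.mul (.mul (.mul (.v (nat_lit 1)) (.v (nat_lit 2))) (.v (nat_lit 3))) (.v (nat_lit 4))))] from t)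
    (AllEq.append (show AllEq [z, u, v, a, b, r, p] [((.pw (.v (nat_lit 6)) (nat_lit 3)), .one), ((.mul (.mul (.v (nat_lit 6)) (.v (nat_lit 0))) (.inv (.v (nat_lit 6)))), (.v (nat_lit 1))), ((.mul (.mul (.v (nat_lit 6)) (.v (nat_lit 1))) (.inv (.v (nat_lit 6)))), (.mul (.v (nat_lit 0)) (.v (nat_lit 1))))] from h)
    (AllEq.append (show AllEq [z, u, v, a, b, r, p] [((.mul (.mul (.v (nat_lit 6)) (.v (nat_lit 2))) (.inv (.v (nat_lit 6)))), (.v (nat_lit 2)))] from ⟨e0, trivial⟩)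
    (AllEq.append (show AllEq [z, u, v, a, b, r, p] [((.mul (.mul (.v (nat_lit 6)) (.v (nat_lit 5))) (.inv (.v (nat_lit 6)))), (.v (nat_lit 3)))] from ⟨e1, trivial⟩)
    (AllEq.append (show AllEq [z, u, v, a, b, r, p] [((.mul (.mul (.v (nat_lit 6)) (.v (nat_lit 3))) (.inv (.v (nat_lit 6)))), (.mul (.mul (.v (nat_lit 4)) (.v (nat_lit 5))) (.v (nat_lit 4))))] from ⟨e2, trivial⟩)
    (show AllEq [z, u, v, a, b, r, p] [((.pw (.mul (.v (nat_lit 4)) (.v (nat_lit 6))) (nat_lit 2)), (.mul (.v (nat_lit 0)) (.v (nat_lit 1))))] from ⟨e3, trivial⟩))))))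
    [(.v (nat_lit 0)), (.v (nat_lit 1)), (.v (nat_lit 2)), (.v (nat_lit 3)), (.v (nat_lit 4)), (.v (nat_lit 5)), (.v (nat_lit 6)), (.inv (.v (nat_lit 6)))] (by decide +kernel)
noncomputable def pb_zu_0_S0 : List ℕ := [nat_lit 0x1b00000700000c004010, nat_lit 0x1f000007000010004012, nat_lit 0x2700000100001b00002000c014, nat_lit 0x2b00000b000018008016, nat_lit 0x2b00000b00000800002400c018, nat_lit 0x2f000005000009004010, nat_lit 0x2f00000f00000800001c010014, nat_lit 0x3300003000001600002700002c00c01a, nat_lit 0xd00001d00003300000f00001800401a, nat_lit 0x1100000e00002100000d00c010, nat_lit 0x2400002600002b00000e, nat_lit 0x800002a000001000000, nat_lit 0x1f00002a000028000008, nat_lit 0x2e00001b000002, nat_lit 0xf00002e000019000008, nat_lit 0x3200000a000002, nat_lit 0x3a00002f000002, nat_lit 0x37000041000038008016, nat_lit 0x3700000f00000800003500001400a01a, nat_lit 0x3700000f00001400004900004501201a, nat_lit 0x3d00000600003800004d000037008018,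 nat_lit 0x1000005100001f000008, nat_lit 0x56000007000000]
noncomputable def pb_zu_0_S : List (List ℕ) := [pb_zu_0_S0]
noncomputable def pb_zu_0_defs : List ℕ := [(nat_lit 0x70000300600003001000030070000200400002007000010040000100100001007000000060000000400000001000000000000000000000)]
noncomputable def pb_zu_0_recs : List ℕ := [(nat_lit 0xff0000100000ff0000300007010000d0000d04000040000d000000d0000d010000300003010000700007ff0000b00003010000100000ff0000900007ff0000600000ff0000200001ff0000a00008010000500005040000a0000c04000060000b00000090000b01000080000a00000050000a010000700009000000300007000000200006)]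
noncomputable def pb_zu_0_T : List (List ℕ × ℕ) := [([0], (nat_lit 0x59))]
noncomputable def pb_zu_0_D : H26.Dag := ⟨[0,1,2,3,4,5,7,6], [[0,0],
  [1,1],
  [2,2],
  [3,3],
  [4,4],
  [5,5],
  [6,7],
  [7,6],
  [1,0,1,0],
  [4,0,4,0],
  [1,0,4,1,4],
  [1,7,0,6],
  [0,1,7,1,6],
  [0,1,6,4,6,4]], [], pb_zu_0_defs, pb_zu_0_recs⟩
theorem pb_zu_0_c : pb_zu_0_D.check pb_zu_0_S pb_zu_0_T = true := by decide +kernel
theorem pb_zu_0 {G : Type*} [Group G] {g : ℕ → G} (hR : Rels g pb_zu_r_R) {H : Subgroup G}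
    (hH : ∀ k ∈ [], g k ∈ H) : evA g [0] ∈ H :=
  mem_dag (K := 8) (J := [0,1,2,3,4,5,6,7,9,12,17,24,25,29]) (D := pb_zu_0_D) (by decide +kernel) pb_zu_0_c (by decide +kernel) hR hH
theorem pb_zu {G : Type*} [Group G] {z u v a b r p : G}
    (t : TB z u v a b r)
    (h : P0 z u p)
    (e0 : p * v * p⁻¹ = v)
    (e1 : p * r * p⁻¹ = a)
    (e2 : p * a * p⁻¹ = b * r * b)
    (e3 : (b * p) ^ 2 = z * u) :
    z = 1 :=
  mul_inv_eq_one.1 ((evA_eq_tm ((InvI.cons t.1 (InvI.cons t.2.1 (InvI.cons t.2.2.1 (InvI.cons t.2.2.2.1 (InvI.cons t.2.2.2.2.1 (InvI.cons t.2.2.2.2.2.1 InvI.nil)))))) : InvI [z, u, v, a, b, r, p] [(nat_lit 0), (nat_lit 1), (nat_lit 2), (nat_lit 3), (nat_lit 4), (nat_lit 5)]) [(.v (nat_lit 0)), (.v (nat_lit 1)), (.v (nat_lit 2)), (.v (nat_lit 3)), (.v (nat_lit 4)), (.v (nat_lit 5)), (.v (nat_lit 6)), (.inv (.v (nat_lit 6)))] [0] (.mul (.v (nat_lit 0)) (.inv .one)) (by decide +kernel)).symm.trans (Subgroup.mem_bot.1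 (pb_zu_0 (pb_zu_r t h e0 e1 e2 e3) (H := ⊥) (List.forall_mem_nil _))))
noncomputable def pb_u_r_R : List (List ℕ) := [[0,0],
  [1,1],
  [2,2],
  [3,3],
  [4,4],
  [5,5],
  [6,7],
  [7,6],
  [2,1,2,1],
  [1,0,1,0],
  [2,0,2,0],
  [3,0,3,0],
  [4,0,4,0],
  [5,0,5,0],
  [3,1,3,1],
  [4,2,4,2],
  [4,3,4,3],
  [1,0,4,1,4],
  [2,0,3,2,3],
  [1,5,1,5],
  [5,1,3,5,3],
  [1,2,0,5,2,5],
  [1,2,3,4,5,4,5],
  [6,6,6],
  [1,7,0,6],
  [0,1,7,1,6],
  [2,7,2,6],
  [3,7,5,6],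
  [4,5,4,7,3,6],
  [1,6,4,6,4]]
theorem pb_u_r {G : Type*} [Group G] {z u v a b r p : G}
    (t : TB z u v a b r)
    (h : P0 z u p)
    (e0 : p * v * p⁻¹ = v)
    (e1 : p * r * p⁻¹ = a)
    (e2 : p * a * p⁻¹ = b * r * b)
    (e3 : (b * p) ^ 2 = u) :
    Rels (nthG [z, u, v, a, b, r, p, p⁻¹]) pb_u_r_R :=
  rels_of_eqs ((InvI.cons t.1 (InvI.cons t.2.1 (InvI.cons t.2.2.1 (InvI.cons t.2.2.2.1 (InvI.cons t.2.2.2.2.1 (InvI.cons t.2.2.2.2.2.1 InvI.nil)))))) : InvI [z, u, v, a, b, r, p] [(nat_lit 0), (nat_lit 1), (nat_lit 2), (nat_lit 3), (nat_lit 4), (nat_lit 5)])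
    (AllEq.append (show AllEq [z, u, v, a, b, r, p] [((.mul (.v (nat_lit 0)) (.v (nat_lit 0))), .one), ((.mul (.v (nat_lit 1)) (.v (nat_lit 1))), .one), ((.mul (.v (nat_lit 2)) (.v (nat_lit 2))), .one), ((.mul (.v (nat_lit 3)) (.v (nat_lit 3))), .one), ((.mul (.v (nat_lit 4)) (.v (nat_lit 4))), .one), ((.mul (.v (nat_lit 5)) (.v (nat_lit 5))), .one), ((.mul (.v (nat_lit 1)) (.v (nat_lit 2))), (.mul (.v (nat_lit 2)) (.v (nat_lit 1)))), ((.mul (.v (nat_lit 0)) (.v (nat_lit 1))), (.mul (.v (nat_lit 1)) (.v (nat_lit 0)))), ((.mul (.v (nat_lit 0)) (.v (nat_lit 2))), (.mul (.v (nat_lit 2)) (.v (nat_lit 0)))), ((.mul (.v (nat_lit 0)) (.v (nat_lit 3))), (.mul (.v (nat_lit 3)) (.v (nat_lit 0)))), ((.mul (.v (nat_lit 0)) (.v (nat_lit 4))), (.mul (.v (nat_lit 4)) (.v (nat_lit 0)))), ((.mul (.v (nat_lit 0)) (.v (nat_lit 5))), (.mul (.v (nat_lit 5)) (.v (nat_lit 0)))), ((.mul (.v (nat_lit 1)) (.v (nat_lit 3))), (.mul (.v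 (nat_lit 3)) (.v (nat_lit 1)))), ((.mul (.v (nat_lit 2)) (.v (nat_lit 4))), (.mul (.v (nat_lit 4)) (.v (nat_lit 2)))), ((.mul (.v (nat_lit 3)) (.v (nat_lit 4))), (.mul (.v (nat_lit 4)) (.v (nat_lit 3)))), ((.mul (.mul (.v (nat_lit 4)) (.v (nat_lit 1))) (.v (nat_lit 4))), (.mul (.v (nat_lit 1)) (.v (nat_lit 0)))), ((.mul (.mul (.v (nat_lit 3)) (.v (nat_lit 2))) (.v (nat_lit 3))), (.mul (.v (nat_lit 2)) (.v (nat_lit 0)))), ((.mul (.v (nat_lit 5)) (.v (nat_lit 1))), (.mul (.v (nat_lit 1)) (.v (nat_lit 5)))), ((.mul (.mul (.v (nat_lit 3)) (.v (nat_lit 5))) (.v (nat_lit 3))), (.mul (.v (nat_lit 5)) (.v (nat_lit 1)))), ((.mul (.mul (.v (nat_lit 5)) (.v (nat_lit 2))) (.v (nat_lit 5))), (.mul (.mul (.v (nat_lit 1)) (.v (nat_lit 2))) (.v (nat_lit 0)))), ((.mul (.mul (.v (nat_lit 5)) (.v (nat_lit 4))) (.v (nat_lit 5))), (.mul (.mul (.mul (.v (nat_lit 1)) (.v (nat_lit 2))) (.v (nat_lit 3))) (.v (nat_lit 4))))] from t)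
    (AllEq.append (show AllEq [z, u, v, a, b, r, p] [((.pw (.v (nat_lit 6)) (nat_lit 3)), .one), ((.mul (.mul (.v (nat_lit 6)) (.v (nat_lit 0))) (.inv (.v (nat_lit 6)))), (.v (nat_lit 1))), ((.mul (.mul (.v (nat_lit 6)) (.v (nat_lit 1))) (.inv (.v (nat_lit 6)))), (.mul (.v (nat_lit 0)) (.v (nat_lit 1))))] from h)
    (AllEq.append (show AllEq [z, u, v, a, b, r, p] [((.mul (.mul (.v (nat_lit 6)) (.v (nat_lit 2))) (.inv (.v (nat_lit 6)))), (.v (nat_lit 2)))] from ⟨e0, trivial⟩)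
    (AllEq.append (show AllEq [z, u, v, a, b, r, p] [((.mul (.mul (.v (nat_lit 6)) (.v (nat_lit 5))) (.inv (.v (nat_lit 6)))), (.v (nat_lit 3)))] from ⟨e1, trivial⟩)
    (AllEq.append (show AllEq [z, u, v, a, b, r, p] [((.mul (.mul (.v (nat_lit 6)) (.v (nat_lit 3))) (.inv (.v (nat_lit 6)))), (.mul (.mul (.v (nat_lit 4)) (.v (nat_lit 5))) (.v (nat_lit 4))))] from ⟨e2, trivial⟩)
    (show AllEq [z, u, v, a, b, r, p] [((.pw (.mul (.v (nat_lit 4)) (.v (nat_lit 6))) (nat_lit 2)), (.v (nat_lit 1)))] from ⟨e3, trivial⟩))))))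
    [(.v (nat_lit 0)), (.v (nat_lit 1)), (.v (nat_lit 2)), (.v (nat_lit 3)), (.v (nat_lit 4)), (.v (nat_lit 5)), (.v (nat_lit 6)), (.inv (.v (nat_lit 6)))] (by decide +kernel)
noncomputable def pb_u_0_S0 : List ℕ := [nat_lit 0xf00000c006010]
noncomputable def pb_u_0_S : List (List ℕ) := [pb_u_0_S0]
noncomputable def pb_u_0_defs : List ℕ := [(nat_lit 0x700001006000010010000000000000)]
noncomputable def pb_u_0_recs : List ℕ := [(nat_lit 0x70000200003)]
noncomputable def pb_u_0_T : List (List ℕ × ℕ) := [([1,6,6,6,1], (nat_lit 0x800001000000200000b000007))]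
noncomputable def pb_u_0_D : H26.Dag := ⟨[0,1,2,3,4,5,7,6], [[0,0],
  [1,1],
  [2,2],
  [3,3],
  [4,4],
  [5,5],
  [6,7],
  [7,6],
  [6,6,6]], [], pb_u_0_defs, pb_u_0_recs⟩
theorem pb_u_0_c : pb_u_0_D.check pb_u_0_S pb_u_0_T = true := by decide +kernel
theorem pb_u_0 {G : Type*} [Group G] {g : ℕ → G} (hR : Rels g pb_u_r_R) {H : Subgroup G}
    (hH : ∀ k ∈ [], g k ∈ H) : evA g [1,6,6,6,1] ∈ H :=
  mem_dag (K := 8) (J := [0,1,2,3,4,5,6,7,23]) (D := pb_u_0_D) (by decide +kernel) pb_u_0_c (by decide +kernel) hR hH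
noncomputable def pb_u_1_S0 : List ℕ := [nat_lit 0x1300000b000008008012, nat_lit 0x1700000f000001008010]
noncomputable def pb_u_1_S : List (List ℕ) := [pb_u_1_S0]
noncomputable def pb_u_1_defs : List ℕ := [(nat_lit 0x30070000200100001001000000070000000000000)]
noncomputable def pb_u_1_recs : List ℕ := [(nat_lit 0x10000400005000000100004)]
noncomputable def pb_u_1_T : List (List ℕ × ℕ) := [([7,1,0,1,6,1], (nat_lit 0xc00001400000500001700000f000007))]
noncomputable def pb_u_1_D : H26.Dag := ⟨[0,1,2,3,4,5,7,6], [[0,0],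
  [1,1],
  [2,2],
  [3,3],
  [4,4],
  [5,5],
  [6,7],
  [7,6],
  [1,0,1,0],
  [1,7,0,6]], [], pb_u_1_defs, pb_u_1_recs⟩
theorem pb_u_1_c : pb_u_1_D.check pb_u_1_S pb_u_1_T = true := by decide +kernel
theorem pb_u_1 {G : Type*} [Group G] {g : ℕ → G} (hR : Rels g pb_u_r_R) {H : Subgroup G}
    (hH : ∀ k ∈ [], g k ∈ H) : evA g [7,1,0,1,6,1] ∈ H :=
  mem_dag (K := 8) (J := [0,1,2,3,4,5,6,7,9,24]) (D := pb_u_1_D) (by decide +kernel) pb_u_1_c (by decide +kernel) hR hH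
noncomputable def pb_u_2_S0 : List ℕ := [nat_lit 0x1300000b00000800001000c010]
noncomputable def pb_u_2_S : List (List ℕ) := [pb_u_2_S0]
noncomputable def pb_u_2_defs : List ℕ := [(nat_lit 0x70000200700001001000000000000000000000)]
noncomputable def pb_u_2_recs : List ℕ := [(nat_lit 0x10000300004)]
noncomputable def pb_u_2_T : List (List ℕ × ℕ) := [([0,7,1,6,1], (nat_lit 0xc00001400000200000f000007))]
noncomputable def pb_u_2_D : H26.Dag := ⟨[0,1,2,3,4,5,7,6], [[0,0],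
  [1,1],
  [2,2],
  [3,3],
  [4,4],
  [5,5],
  [6,7],
  [7,6],
  [0,1,7,1,6]], [], pb_u_2_defs, pb_u_2_recs⟩
theorem pb_u_2_c : pb_u_2_D.check pb_u_2_S pb_u_2_T = true := by decide +kernel
theorem pb_u_2 {G : Type*} [Group G] {g : ℕ → G} (hR : Rels g pb_u_r_R) {H : Subgroup G}
    (hH : ∀ k ∈ [], g k ∈ H) : evA g [0,7,1,6,1] ∈ H :=
  mem_dag (K := 8) (J := [0,1,2,3,4,5,6,7,25]) (D := pb_u_2_D) (by decide +kernel) pb_u_2_c (by decide +kernel) hR hH
noncomputable def pb_u_3_S0 : List ℕ := [nat_lit 0xf00000700000c008010, nat_lit 0x17000002000014008012, nat_lit 0x1f00000600001c008010]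
noncomputable def pb_u_3_S : List (List ℕ) := [pb_u_3_S0]
noncomputable def pb_u_3_defs : List ℕ := [(nat_lit 0x10000500100004007000030070000200100001001000000020000000000000)]
noncomputable def pb_u_3_recs : List ℕ := [(nat_lit 0x20000600007020000400005020000200003)]
noncomputable def pb_u_3_T : List (List ℕ × ℕ) := [([2,1,7,1,2,1,6,1], (nat_lit 0xc00001400001c00000900001f00001700000f000007))]
noncomputable def pb_u_3_D : H26.Dag := ⟨[0,1,2,3,4,5,7,6], [[0,0],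
  [1,1],
  [2,2],
  [3,3],
  [4,4],
  [5,5],
  [6,7],
  [7,6],
  [2,1,2,1],
  [2,7,2,6]], [], pb_u_3_defs, pb_u_3_recs⟩
theorem pb_u_3_c : pb_u_3_D.check pb_u_3_S pb_u_3_T = true := by decide +kernel
theorem pb_u_3 {G : Type*} [Group G] {g : ℕ → G} (hR : Rels g pb_u_r_R) {H : Subgroup G}
    (hH : ∀ k ∈ [], g k ∈ H) : evA g [2,1,7,1,2,1,6,1] ∈ H :=
  mem_dag (K := 8) (J := [0,1,2,3,4,5,6,7,8,26]) (D := pb_u_3_D) (by decide +kernel) pb_u_3_c (by decide +kernel) hR hH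
noncomputable def pb_u_4_S0 : List ℕ := [nat_lit 0xf00000700000c008010, nat_lit 0x17000002000014008014, nat_lit 0x1f00000600001c004012]
noncomputable def pb_u_4_S : List (List ℕ) := [pb_u_4_S0]
noncomputable def pb_u_4_defs : List ℕ := [(nat_lit 0x10000500100004007000030070000200100001001000000030000000000000)]
noncomputable def pb_u_4_recs : List ℕ := [(nat_lit 0x50000600007050000400005030000200003)]
noncomputable def pb_u_4_T : List (List ℕ × ℕ) := [([3,1,7,1,5,1,6,1], (nat_lit 0xc00001400001c00000900001f00001700000f000007))]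
noncomputable def pb_u_4_D : H26.Dag := ⟨[0,1,2,3,4,5,7,6], [[0,0],
  [1,1],
  [2,2],
  [3,3],
  [4,4],
  [5,5],
  [6,7],
  [7,6],
  [3,1,3,1],
  [1,5,1,5],
  [3,7,5,6]], [], pb_u_4_defs, pb_u_4_recs⟩
theorem pb_u_4_c : pb_u_4_D.check pb_u_4_S pb_u_4_T = true := by decide +kernel
theorem pb_u_4 {G : Type*} [Group G] {g : ℕ → G} (hR : Rels g pb_u_r_R) {H : Subgroup G}
    (hH : ∀ k ∈ [], g k ∈ H) : evA g [3,1,7,1,5,1,6,1] ∈ H :=
  mem_dag (K := 8) (J := [0,1,2,3,4,5,6,7,14,19,27]) (D := pb_u_4_D) (by decide +kernel) pb_u_4_c (by decide +kernel) hR hH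
noncomputable def pb_u_5_S0 : List ℕ := [nat_lit 0x2b00000c00001400001c002016, nat_lit 0x2f00000700002c008010, nat_lit 0x3300000f000030008012, nat_lit 0x3700001c000024004014, nat_lit 0x3b000017000034008010, nat_lit 0x23000001000005000009000011014018, nat_lit 0x2700001f00003c00001500000d00c016, nat_lit 0x1a00000e000002]
noncomputable def pb_u_5_S : List (List ℕ) := [pb_u_5_S0]
noncomputable def pb_u_5_defs : List ℕ := [(nat_lit 0x50030000400000003000000010000000000700007003000060010000500100004004000030070000200500001001000000040000000000000)]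
noncomputable def pb_u_5_recs : List ℕ := [(nat_lit 0x10000800009ff0000d00009060000e00008040000c0000e01000080000d050000b0000c040000a0000b07000060000a)]
noncomputable def pb_u_5_T : List (List ℕ × ℕ) := [([4,5,4,1,7,1,3,1,6,1], (nat_lit 0xc00001400001c00002400001d00002700001f00001700000f000007))]
noncomputable def pb_u_5_D : H26.Dag := ⟨[0,1,2,3,4,5,7,6], [[0,0],
  [1,1],
  [2,2],
  [3,3],
  [4,4],
  [5,5],
  [6,7],
  [7,6],
  [4,0,4,0],
  [5,0,5,0],
  [3,1,3,1],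
  [0,1,7,1,6],
  [4,5,4,7,3,6]], [], pb_u_5_defs, pb_u_5_recs⟩
theorem pb_u_5_c : pb_u_5_D.check pb_u_5_S pb_u_5_T = true := by decide +kernel
theorem pb_u_5 {G : Type*} [Group G] {g : ℕ → G} (hR : Rels g pb_u_r_R) {H : Subgroup G}
    (hH : ∀ k ∈ [], g k ∈ H) : evA g [4,5,4,1,7,1,3,1,6,1] ∈ H :=
  mem_dag (K := 8) (J := [0,1,2,3,4,5,6,7,12,13,14,25,28]) (D := pb_u_5_D) (by decide +kernel) pb_u_5_c (by decide +kernel) hR hH
noncomputable def pb_u_6_S0 : List ℕ := [nat_lit 0x2300001000001800c012, nat_lit 0x2300000700000c000014008010, nat_lit 0x1b000005000002000020012014]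
noncomputable def pb_u_6_S : List (List ℕ) := [pb_u_6_S0]
noncomputable def pb_u_6_defs : List ℕ := [(nat_lit 0x10040000500700004001000030010000200600001004000000010000000000000)]
noncomputable def pb_u_6_recs : List ℕ := [(nat_lit 0x10000700006040000400008060000500008)]
noncomputable def pb_u_6_T : List (List ℕ × ℕ) := [([1,6,1,4,1,6,1,4], (nat_lit 0xc00001400001c00000a00001f00001700000f000007))]
noncomputable def pb_u_6_D : H26.Dag := ⟨[0,1,2,3,4,5,7,6], [[0,0],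
  [1,1],
  [2,2],
  [3,3],
  [4,4],
  [5,5],
  [6,7],
  [7,6],
  [1,0,4,1,4],
  [1,7,0,6],
  [1,6,4,6,4]], [], pb_u_6_defs, pb_u_6_recs⟩
theorem pb_u_6_c : pb_u_6_D.check pb_u_6_S pb_u_6_T = true := by decide +kernel
theorem pb_u_6 {G : Type*} [Group G] {g : ℕ → G} (hR : Rels g pb_u_r_R) {H : Subgroup G}
    (hH : ∀ k ∈ [], g k ∈ H) : evA g [1,6,1,4,1,6,1,4] ∈ H :=
  mem_dag (K := 8) (J := [0,1,2,3,4,5,6,7,17,24,29]) (D := pb_u_6_D) (by decide +kernel) pb_u_6_c (by decide +kernel) hR hH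
theorem pb_u {G : Type*} [Group G] {z u v a b r p : G}
    (t : TB z u v a b r)
    (h : P0 z u p)
    (e0 : p * v * p⁻¹ = v)
    (e1 : p * r * p⁻¹ = a)
    (e2 : p * a * p⁻¹ = b * r * b)
    (e3 : (b * p) ^ 2 = u) :
    (u * p * u) ^ 3 = 1 ∧ u * p * u * z * (u * p * u)⁻¹ = u ∧ u * p * u * u * (u * p * u)⁻¹ = z * u ∧ u * p * u * v * (u * p * u)⁻¹ = v ∧ u * p * u * r * (u * p * u)⁻¹ = a ∧ u * p * u * a * (u * p * u)⁻¹ = b * r * b ∧ (b * (u * p * u)) ^ 2 = 1 :=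
  ⟨mul_inv_eq_one.1 ((evA_eq_tm ((InvI.cons t.1 (InvI.cons t.2.1 (InvI.cons t.2.2.1 (InvI.cons t.2.2.2.1 (InvI.cons t.2.2.2.2.1 (InvI.cons t.2.2.2.2.2.1 InvI.nil)))))) : InvI [z, u, v, a, b, r, p] [(nat_lit 0), (nat_lit 1), (nat_lit 2), (nat_lit 3), (nat_lit 4), (nat_lit 5)]) [(.v (nat_lit 0)), (.v (nat_lit 1)), (.v (nat_lit 2)), (.v (nat_lit 3)), (.v (nat_lit 4)), (.v (nat_lit 5)), (.v (nat_lit 6)), (.inv (.v (nat_lit 6)))] [1,6,6,6,1] (.mul (.pw (.mul (.mul (.v (nat_lit 1)) (.v (nat_lit 6))) (.v (nat_lit 1))) (nat_lit 3)) (.inv .one)) (by decide +kernel)).symm.trans (Subgroup.mem_bot.1 (pb_u_0 (pb_u_r t h e0 e1 e2 e3) (H := ⊥) (List.forall_mem_nil _)))),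
   mul_inv_eq_one.1 ((evA_eq_tm ((InvI.cons t.1 (InvI.cons t.2.1 (InvI.cons t.2.2.1 (InvI.cons t.2.2.2.1 (InvI.cons t.2.2.2.2.1 (InvI.cons t.2.2.2.2.2.1 InvI.nil)))))) : InvI [z, u, v, a, b, r, p] [(nat_lit 0), (nat_lit 1), (nat_lit 2), (nat_lit 3), (nat_lit 4), (nat_lit 5)]) [(.v (nat_lit 0)), (.v (nat_lit 1)), (.v (nat_lit 2)), (.v (nat_lit 3)), (.v (nat_lit 4)), (.v (nat_lit 5)), (.v (nat_lit 6)), (.inv (.v (nat_lit 6)))] [7,1,0,1,6,1] (.mul (.mul (.mul (.mul (.mul (.v (nat_lit 1)) (.v (nat_lit 6))) (.v (nat_lit 1))) (.v (nat_lit 0))) (.inv (.mul (.mul (.v (nat_lit 1)) (.v (nat_lit 6))) (.v (nat_lit 1))))) (.inv (.v (nat_lit 1)))) (by decide +kernel)).symm.trans (Subgroup.mem_bot.1 (pb_u_1 (pb_u_r t h e0 e1 e2 e3) (H := ⊥) (List.forall_mem_nil _)))),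
   mul_inv_eq_one.1 ((evA_eq_tm ((InvI.cons t.1 (InvI.cons t.2.1 (InvI.cons t.2.2.1 (InvI.cons t.2.2.2.1 (InvI.cons t.2.2.2.2.1 (InvI.cons t.2.2.2.2.2.1 InvI.nil)))))) : InvI [z, u, v, a, b, r, p] [(nat_lit 0), (nat_lit 1), (nat_lit 2), (nat_lit 3), (nat_lit 4), (nat_lit 5)]) [(.v (nat_lit 0)), (.v (nat_lit 1)), (.v (nat_lit 2)), (.v (nat_lit 3)), (.v (nat_lit 4)), (.v (nat_lit 5)), (.v (nat_lit 6)), (.inv (.v (nat_lit 6)))] [0,7,1,6,1] (.mul (.mul (.mul (.mul (.mul (.v (nat_lit 1)) (.v (nat_lit 6))) (.v (nat_lit 1))) (.v (nat_lit 1))) (.inv (.mul (.mul (.v (nat_lit 1)) (.v (nat_lit 6))) (.v (nat_lit 1))))) (.inv (.mul (.v (nat_lit 0)) (.v (nat_lit 1))))) (by decide +kernel)).symm.trans (Subgroup.mem_bot.1 (pb_u_2 (pb_u_r t h e0 e1 e2 e3) (H := ⊥) (List.forall_mem_nil _)))),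
   mul_inv_eq_one.1 ((evA_eq_tm ((InvI.cons t.1 (InvI.cons t.2.1 (InvI.cons t.2.2.1 (InvI.cons t.2.2.2.1 (InvI.cons t.2.2.2.2.1 (InvI.cons t.2.2.2.2.2.1 InvI.nil)))))) : InvI [z, u, v, a, b, r, p] [(nat_lit 0), (nat_lit 1), (nat_lit 2), (nat_lit 3), (nat_lit 4), (nat_lit 5)]) [(.v (nat_lit 0)), (.v (nat_lit 1)), (.v (nat_lit 2)), (.v (nat_lit 3)), (.v (nat_lit 4)), (.v (nat_lit 5)), (.v (nat_lit 6)), (.inv (.v (nat_lit 6)))] [2,1,7,1,2,1,6,1] (.mul (.mul (.mul (.mul (.mul (.v (nat_lit 1)) (.v (nat_lit 6))) (.v (nat_lit 1))) (.v (nat_lit 2))) (.inv (.mul (.mul (.v (nat_lit 1)) (.v (nat_lit 6))) (.v (nat_lit 1))))) (.inv (.v (nat_lit 2)))) (by decide +kernel)).symm.trans (Subgroup.mem_bot.1 (pb_u_3 (pb_u_r t h e0 e1 e2 e3) (H := ⊥) (List.forall_mem_nil _)))),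
   mul_inv_eq_one.1 ((evA_eq_tm ((InvI.cons t.1 (InvI.cons t.2.1 (InvI.cons t.2.2.1 (InvI.cons t.2.2.2.1 (InvI.cons t.2.2.2.2.1 (InvI.cons t.2.2.2.2.2.1 InvI.nil)))))) : InvI [z, u, v, a, b, r, p] [(nat_lit 0), (nat_lit 1), (nat_lit 2), (nat_lit 3), (nat_lit 4), (nat_lit 5)]) [(.v (nat_lit 0)), (.v (nat_lit 1)), (.v (nat_lit 2)), (.v (nat_lit 3)), (.v (nat_lit 4)), (.v (nat_lit 5)), (.v (nat_lit 6)), (.inv (.v (nat_lit 6)))] [3,1,7,1,5,1,6,1] (.mul (.mul (.mul (.mul (.mul (.v (nat_lit 1)) (.v (nat_lit 6))) (.v (nat_lit 1))) (.v (nat_lit 5))) (.inv (.mul (.mul (.v (nat_lit 1)) (.v (nat_lit 6))) (.v (nat_lit 1))))) (.inv (.v (nat_lit 3)))) (by decide +kernel)).symm.trans (Subgroup.mem_bot.1 (pb_u_4 (pb_u_r t h e0 e1 e2 e3) (H := ⊥) (List.forall_mem_nil _)))),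
   mul_inv_eq_one.1 ((evA_eq_tm ((InvI.cons t.1 (InvI.cons t.2.1 (InvI.cons t.2.2.1 (InvI.cons t.2.2.2.1 (InvI.cons t.2.2.2.2.1 (InvI.cons t.2.2.2.2.2.1 InvI.nil)))))) : InvI [z, u, v, a, b, r, p] [(nat_lit 0), (nat_lit 1), (nat_lit 2), (nat_lit 3), (nat_lit 4), (nat_lit 5)]) [(.v (nat_lit 0)), (.v (nat_lit 1)), (.v (nat_lit 2)), (.v (nat_lit 3)), (.v (nat_lit 4)), (.v (nat_lit 5)), (.v (nat_lit 6)), (.inv (.v (nat_lit 6)))] [4,5,4,1,7,1,3,1,6,1] (.mul (.mul (.mul (.mul (.mul (.v (nat_lit 1)) (.v (nat_lit 6))) (.v (nat_lit 1))) (.v (nat_lit 3))) (.inv (.mul (.mul (.v (nat_lit 1)) (.v (nat_lit 6))) (.v (nat_lit 1))))) (.inv (.mul (.mul (.v (nat_lit 4)) (.v (nat_lit 5))) (.v (nat_lit 4))))) (by decide +kernel)).symm.trans (Subgroup.mem_bot.1 (pb_u_5 (pb_u_r t h e0 e1 e2 e3) (H := ⊥) (List.forall_mem_nil _)))),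
   mul_inv_eq_one.1 ((evA_eq_tm ((InvI.cons t.1 (InvI.cons t.2.1 (InvI.cons t.2.2.1 (InvI.cons t.2.2.2.1 (InvI.cons t.2.2.2.2.1 (InvI.cons t.2.2.2.2.2.1 InvI.nil)))))) : InvI [z, u, v, a, b, r, p] [(nat_lit 0), (nat_lit 1), (nat_lit 2), (nat_lit 3), (nat_lit 4), (nat_lit 5)]) [(.v (nat_lit 0)), (.v (nat_lit 1)), (.v (nat_lit 2)), (.v (nat_lit 3)), (.v (nat_lit 4)), (.v (nat_lit 5)), (.v (nat_lit 6)), (.inv (.v (nat_lit 6)))] [1,6,1,4,1,6,1,4] (.mul (.pw (.mul (.v (nat_lit 4)) (.mul (.mul (.v (nat_lit 1)) (.v (nat_lit 6))) (.v (nat_lit 1)))) (nat_lit 2)) (.inv .one)) (by decide +kernel)).symm.trans (Subgroup.mem_bot.1 (pb_u_6 (pb_u_r t h e0 e1 e2 e3) (H := ⊥) (List.forall_mem_nil _))))⟩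

end H10.X
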