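import Cfsg.Agent.H10.X4g

/-! Generated: the involution centralizer of type M12. -/

set_option maxRecDepth 100000
set_option maxHeartbeats 4000000
set_option linter.unusedVariables false

open Subgroup
open scoped commutatorElement
namespace H10.X
open H0 H0.PM H16 H19

noncomputable def HB_r_R : List (List ℕ) := [[0,0],
  [1,1],
  [2,2],
  [3,3],
  [4,4],
  [5,5],
  [6,7],
  [7,6],
  [6,6,6],
  [3,7,1,6],
  [4,7,2,6],
  [6,1,6,1,6,1],
  [6,2,6,2,6,2],
  [2,1,2,1],
  [0,4,1,4,1],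
  [7,0,6,0],
  [1,0,1,0],
  [2,0,2,0],
  [6,5,6,5],
  [1,5,1,5],
  [1,2,0,5,2,5],
  [0,5,0,5]]
theorem HB_r {G : Type*} [Group G] {z u v a b r x : G}
    (h : Q3 z u v a b x)
    (k : RB z u v r x) :
    Rels (nthG [z, u, v, a, b, r, x, x⁻¹]) HB_r_R :=
  rels_of_eqs ((InvI.cons h.1 (InvI.cons h.2.1 (InvI.cons h.2.2.1 (InvI.cons h.2.2.2.1 (InvI.cons h.2.2.2.2.1 (InvI.cons k.1 InvI.nil)))))) : InvI [z, u, v, a, b, r, x] [(nat_lit 0), (nat_lit 1), (nat_lit 2), (nat_lit 3), (nat_lit 4), (nat_lit 5)])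
    (AllEq.append (show AllEq [z, u, v, a, b, r, x] [((.mul (.v (nat_lit 0)) (.v (nat_lit 0))), .one), ((.mul (.v (nat_lit 1)) (.v (nat_lit 1))), .one), ((.mul (.v (nat_lit 2)) (.v (nat_lit 2))), .one), ((.mul (.v (nat_lit 3)) (.v (nat_lit 3))), .one), ((.mul (.v (nat_lit 4)) (.v (nat_lit 4))), .one), ((.pw (.v (nat_lit 6)) (nat_lit 3)), .one), ((.mul (.mul (.v (nat_lit 6)) (.v (nat_lit 1))) (.inv (.v (nat_lit 6)))), (.v (nat_lit 3))), ((.mul (.mul (.v (nat_lit 6)) (.v (nat_lit 2))) (.inv (.v (nat_lit 6)))), (.v (nat_lit 4))), ((.pw (.mul (.v (nat_lit 1)) (.v (nat_lit 6))) (nat_lit 3)), .one), ((.pw (.mul (.v (nat_lit 2)) (.v (nat_lit 6))) (nat_lit 3)), .one), ((.mul (.v (nat_lit 1)) (.v (nat_lit 2))), (.mul (.v (nat_lit 2)) (.v (nat_lit 1)))), ((.mul (.mul (.mul (.v (nat_lit 1)) (.v (nat_lit 4))) (.inv (.v (nat_lit 1)))) (.inv (.v (nat_lit 4)))), (.v (nat_lit 0))), ((.mul (.v (nat_lit 0)) (.v (nat_lit 6))), (.mul (.v (nat_lit 6)) (.v (nat_lit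 0)))), ((.mul (.v (nat_lit 0)) (.v (nat_lit 1))), (.mul (.v (nat_lit 1)) (.v (nat_lit 0)))), ((.mul (.v (nat_lit 0)) (.v (nat_lit 2))), (.mul (.v (nat_lit 2)) (.v (nat_lit 0))))] from h)
    (show AllEq [z, u, v, a, b, r, x] [((.mul (.v (nat_lit 5)) (.v (nat_lit 5))), .one), ((.mul (.mul (.v (nat_lit 5)) (.v (nat_lit 6))) (.inv (.v (nat_lit 5)))), (.inv (.v (nat_lit 6)))), ((.mul (.v (nat_lit 5)) (.v (nat_lit 1))), (.mul (.v (nat_lit 1)) (.v (nat_lit 5)))), ((.mul (.mul (.v (nat_lit 5)) (.v (nat_lit 2))) (.inv (.v (nat_lit 5)))), (.mul (.mul (.v (nat_lit 1)) (.v (nat_lit 2))) (.v (nat_lit 0)))), ((.mul (.v (nat_lit 5)) (.v (nat_lit 0))), (.mul (.v (nat_lit 0)) (.v (nat_lit 5))))] from k))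
    [(.v (nat_lit 0)), (.v (nat_lit 1)), (.v (nat_lit 2)), (.v (nat_lit 3)), (.v (nat_lit 4)), (.v (nat_lit 5)), (.v (nat_lit 6)), (.inv (.v (nat_lit 6)))] (by decide +kernel)
noncomputable abbrev HB_o : Ops := pops (nat_lit 12) (nat_lit 4) (nat_lit 15) (nat_lit 0xba9876543210)
noncomputable def HB_cs : List ℕ := [(nat_lit 0xb25867934a10), (nat_lit 0xa916753428b), (nat_lit 0x152034a679b8), (nat_lit 0x8a5b76934201), (nat_lit 0x741a239568b), (nat_lit 0xa584397621b), (nat_lit 0xa68347952b1), (nat_lit 0x1a485936720b)]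
noncomputable def HB_L : List (List ℕ) := [[(nat_lit 0xba9876543210), (nat_lit 0xb25867934a10), (nat_lit 0x152034a679b8), (nat_lit 0x741a239568b), (nat_lit 0x19a0432765b8), (nat_lit 0x6312a45978b), (nat_lit 0x836b5972a401), (nat_lit 0xb471a2659380)],
  [(nat_lit 0xba9876543210), (nat_lit 0xa916753428b), (nat_lit 0xa584397621b), (nat_lit 0xa68347952b1), (nat_lit 0x1a485936720b), (nat_lit 0x1a6b43759280)],
  [(nat_lit 0xba9876543210), (nat_lit 0x1a50679432b8), (nat_lit 0xa7b59643281), (nat_lit 0x8a619574320b)]]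
noncomputable def HB_WW : List (List (List ℕ)) := [[[],
  [(nat_lit 0)],
  [(nat_lit 2)],
  [(nat_lit 4)],
  [(nat_lit 0), (nat_lit 2)],
  [(nat_lit 0), (nat_lit 4)],
  [(nat_lit 2), (nat_lit 4)],
  [(nat_lit 4), (nat_lit 5)]],
  [[],
  [(nat_lit 1)],
  [(nat_lit 5)],
  [(nat_lit 6)],
  [(nat_lit 7)],
  [(nat_lit 1), (nat_lit 6)]],
  [[],
  [(nat_lit 1), (nat_lit 3)],
  [(nat_lit 1), (nat_lit 5), (nat_lit 6)],
  [(nat_lit 3), (nat_lit 5), (nat_lit 6)]]]
noncomputable def HB_b6_S0 : List ℕ := [nat_lit 0xb000007008010, nat_lit 0x1300000f000001008012, nat_lit 0x1b000017000001008014, nat_lit 0x2b00002700002300001f000007014016, nat_lit 0x3b00003700003300002f000007014018, nat_lit 0x3300002f00000c000014, nat_lit 0x3f00001200000d00801a, nat_lit 0x4b00004700004300000d00c01c, nat_lit 0x1700000d00001d00004b01201c, nat_lit 0x4f00000200004400801e, nat_lit 0x5300000e000044008020, nat_lit 0x57000012000044008022, nat_lit 0x5f00005b00000700c024, nat_lit 0x6300000e000031008026,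 nat_lit 0x6b00006700001a00000e000031010028, nat_lit 0x2e00004300003100003900006b016028, nat_lit 0x3d00002e00002900801a, nat_lit 0x6f00004300003100802a, nat_lit 0x7300000700000d004012, nat_lit 0x2c00004900a010, nat_lit 0x77000007000011004014, nat_lit 0x3c00005100a010, nat_lit 0x7b00001400000600000b000020010016, nat_lit 0x23000059008010, nat_lit 0x5d00002800002c000012, nat_lit 0x7f00001c00000a00000b000030010018, nat_lit 0x33000065008010, nat_lit 0x6900003800003c000014, nat_lit 0x8300002f00002000801a, nat_lit 0x8f00008b00008700002000c01c, nat_lit 0x7700002000007500008f01201c, nat_lit 0x7900005200005800001e, nat_lit 0x2d00007d00008b00c014, nat_lit 0x81000025004010, nat_lit 0x9300001f000088008020, nat_lit 0x9700002f000088008022, nat_lit 0x9b00000b00005c008024, nat_lit 0x5f000091008010, nat_lit 0x9f00001f00005c008026, nat_lit 0xa70000a300007200001f00005c010028, nat_lit 0x8e00008700005c00009d0000a7016028, nat_lit 0xa100008e00008900801a, nat_lit 0xab00008700005c00802a,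 nat_lit 0x4600005f0000a900001e, nat_lit 0xaf00004a00000e000001000005010016, nat_lit 0x140000b1008010, nat_lit 0xb3000052000012000001000009010018, nat_lit 0x1c0000b9008010, nat_lit 0xb90000b3000055000014, nat_lit 0xbd000080000066000014, nat_lit 0xb700000a00000500801a, nat_lit 0xbf0000bb00004f00000500c01c, nat_lit 0x160000050000cd0000bf01201c, nat_lit 0xd100003300009800001e, nat_lit 0xc3000006000050008020, nat_lit 0xc700000a000050008022, nat_lit 0x470000250000dd004014, nat_lit 0xcb00000600009c008026, nat_lit 0xd30000cf0000ca00000600009c010028, nat_lit 0xde00004f00009c0000e90000d3016028, nat_lit 0xed0000de0000d900801a, nat_lit 0xd700004f00009c00802a, nat_lit 0xaa0000910000f500001e, nat_lit 0x460000960000f500801e]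
noncomputable def HB_b6_S1 : List ℕ := [nat_lit 0xdb0000140000c9004014, nat_lit 0x1c0000b8000101000012, nat_lit 0xeb0000e70000e30000df0000b5014018, nat_lit 0xe30000df0000b20000cd000014, nat_lit 0x10d0000e8000004, nat_lit 0x10d0000e300000e, nat_lit 0xef00010a00007c00801a, nat_lit 0x76000059000119004014, nat_lit 0xfb0000f70000f300007c00c01c, nat_lit 0xdb00007c0001210000fb01201c, nat_lit 0x1250001020000d000001e, nat_lit 0xe20000ee000129000012, nat_lit 0xf10001290000f700c014, nat_lit 0x1310000da000026000012, nat_lit 0xff00007b0000f4008020, nat_lit 0x8a0000860000d9000132000139016016, nat_lit 0x10300010a0000f4008022, nat_lit 0x10b0001070000b500c024, nat_lit 0xcb00001300014500e024, nat_lit 0x10c00014900a010, nat_lit 0x10f00007b000145008026, nat_lit 0x9a0000910000e500014a000151000016, nat_lit 0x15500009a000060000012, nat_lit 0x11700011300011a00007b000145010028, nat_lit 0x1420000f300014500015d000117016028, nat_lit 0x16100014200013900801a, nat_lit 0x11b0000f300014500802a,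 nat_lit 0x12300011f00010a0000140000c9010018, nat_lit 0x10200016d008010, nat_lit 0x11f0000eb004010, nat_lit 0x17500012400016e000014, nat_lit 0x1270000c300000600001500801c, nat_lit 0xbf0000d100017d00c020, nat_lit 0x12b0000b20000c400801e, nat_lit 0x131000185008010, nat_lit 0x12f0000c700000a0000050000cc010028, nat_lit 0xea0000e500018d00c01a, nat_lit 0x1330000c30000cc00802a, nat_lit 0x16a00014900019500801e, nat_lit 0xf60000e5000195000020, nat_lit 0x14300013f00013b0001370000bd014016, nat_lit 0x4b0000210001a100c020, nat_lit 0x5300000e0000180001a100401c, nat_lit 0x1370000c60000980000a200c01c, nat_lit 0x14700007f0001a100801a, nat_lit 0x14700006e00005800003e00c01c, nat_lit 0x14b00007f000022008022, nat_lit 0x8e0000860000dd0000e10001b9016018, nat_lit 0x1bd0000d5006010, nat_lit 0x14b0001480001b600003d00401c, nat_lit 0x15300014f0000bd00c024, nat_lit 0x1570001a20001c9008026, nat_lit 0x15f00015b0001b20001a20001c9010028, nat_lit 0x1ba0000210001c90001d100015f016028,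 nat_lit 0x1d50001ba00004c00801a, nat_lit 0x1d50001c600005700004000c01c, nat_lit 0x1630000210001c900802a, nat_lit 0x1630000e2000130008024, nat_lit 0x1670001a200001c0000b800016d00c016, nat_lit 0x167000143004010, nat_lit 0x16b0000c70000b800017900801c, nat_lit 0xc10000b80001790001f101201c, nat_lit 0x9000011e0000ef0000eb0001f1000016, nat_lit 0x1f900007e004010]
noncomputable def HB_b6_S2 : List ℕ := [nat_lit 0x1fd0001f20000ec000012, nat_lit 0x16f0000ba0000c800801e, nat_lit 0xe2000205008010, nat_lit 0x17b000177000173000023000071010018, nat_lit 0x17700017300005e000121000014, nat_lit 0x21100017c000004, nat_lit 0x21100017700000e, nat_lit 0x17f00009300001f00007800801c, nat_lit 0x1370000b300021d00001a, nat_lit 0x8f00007900021d00c020, nat_lit 0x22500011e00011400001e, nat_lit 0x1830000230000a0008024, nat_lit 0x18700009700002f0000200000a0010028, nat_lit 0x9e00009900023100c01a, nat_lit 0x18b0000930000a000802a, nat_lit 0xaa000099000239000020, nat_lit 0x18f000023000071004014,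 nat_lit 0x20e00024100a010, nat_lit 0x19300011e00011a00005d000174010018, nat_lit 0x21a000249008010, nat_lit 0x24d0000fb00012a0000ed000205004016, nat_lit 0x13700017000025100c020, nat_lit 0x24900025500013c00c01e, nat_lit 0x19700017300002800801a, nat_lit 0x1e00002b00025d004014, nat_lit 0x21a000198000261000012, nat_lit 0x1a300019f00019b00002800c01c, nat_lit 0x18f0000280002690001a301201c, nat_lit 0x26d0002420000a400001e, nat_lit 0xa500027100019f00c014, nat_lit 0x1d50001bd0000a20002710001a4016016, nat_lit 0x27500013e004010, nat_lit 0x1a700002700019c008020, nat_lit 0x2a000082000089000276000281016016, nat_lit 0x28600028200027e000012, nat_lit 0x1ab000027000184008026, nat_lit 0x3600005f00009900022d00028d000016, nat_lit 0x1af00019b00018400802a, nat_lit 0x23a00022d00029500001e, nat_lit 0x1b300026a00004e008014, nat_lit 0xdf0000af00029d00c01a, nat_lit 0x1da00026200025e00004e00029d000018, nat_lit 0x1bb0001b700001a00002b00025d010018, nat_lit 0x2620002a9008010,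 nat_lit 0x1bf0001a700002700019000801c, nat_lit 0x1470000660000840002410002b1016016, nat_lit 0x2b60002b2000245000012, nat_lit 0x1c300004d0001a800801e, nat_lit 0x2860002bd008010, nat_lit 0x1c70002590001730000280001ac010028, nat_lit 0x1cb0001a70001ac00802a, nat_lit 0x29600028d0002c9000020, nat_lit 0x1cf0001b400029e00004a000019010018, nat_lit 0x1d300004a000064008024, nat_lit 0x14e0000e60000950000350002d5014016, nat_lit 0x10b0002da0002d6000012, nat_lit 0x1d700005700001200000d000064010028, nat_lit 0x3a0000350002e100c01a, nat_lit 0x1db00005300006400802a, nat_lit 0x2ca0002910002e900001e, nat_lit 0x460000350002e9000020, nat_lit 0x1df000065000148004012, nat_lit 0x2a500015b0002f500c01e, nat_lit 0x1e300017e00003300008400020d00c016]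
noncomputable def HB_b6_S3 : List ℕ := [nat_lit 0xfc0002160002fd00001a, nat_lit 0x1e300017e00006a000012, nat_lit 0x1eb0001e700003300c024, nat_lit 0x18700009700030900002a, nat_lit 0x18b000093000071000083000309010028, nat_lit 0x1ef000083000309008026, nat_lit 0x23600030e00031500c020, nat_lit 0x1f30002f600014700006900017d010016, nat_lit 0x18600012800031d008014, nat_lit 0x1f700003700017d00801a, nat_lit 0x11100018200032500c022, nat_lit 0x14200018a00032200031e000325016018, nat_lit 0x32e0003260001e4000014, nat_lit 0x2fd0003310001030000f000c01c, nat_lit 0x3b0001f800032d000012, nat_lit 0x1fb0000690001e8008024, nat_lit 0x1eb00033d008010, nat_lit 0x1ff00017e0001e8008026, nat_lit 0x20300032a00032600017e0001e8010028, nat_lit 0x2070000d10001e800802a, nat_lit 0x20b00005600021d004012, nat_lit 0x22900035100a010, nat_lit 0x2d200003f00005100021d000351002016, nat_lit 0x3560003590002d2000012, nat_lit 0x3590001cf0001a300801a, nat_lit 0x21300020f00003b00c024, nat_lit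 0x20f0000580001d800802a, nat_lit 0x20f00005800002e0000290001dc010028, nat_lit 0x2170001f7000365008026, nat_lit 0x34e0001e7000038000365000371012028, nat_lit 0x37500034e000349004022, nat_lit 0x21f0001f500036500802a, nat_lit 0x36900021400037d00801e, nat_lit 0x37900037200037d000020, nat_lit 0x223000052000210008024, nat_lit 0x22700003f000210008026, nat_lit 0x2f200036d00038d00001a, nat_lit 0x2e600036900038d00c020, nat_lit 0x22b0002d200006800801e, nat_lit 0x22f0001b7000228008024, nat_lit 0x233000209000164008024, nat_lit 0x1e50003a1008010, nat_lit 0x1540001e10003a100401e, nat_lit 0x23700004b000164008026, nat_lit 0x1ce0001e10003ad00c020, nat_lit 0x2370001a60001b10001470001fc010028, nat_lit 0x23b00015c0001da00004b000164010028, nat_lit 0x3b50003ae0003b900c01a, nat_lit 0x1d20001e10003b900c022, nat_lit 0x23f0002ad00004b0000e20000ee008016, nat_lit 0x12a0003c5008010, nat_lit 0x16e0000d00003c500401e, nat_lit 0x2430002ad000238008024, nat_lit 0x2470002c10001dc008024,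 nat_lit 0x2ee0003d5008010, nat_lit 0x24b00008f00007e00003e00039900c016, nat_lit 0x35900022c0003dd00c020, nat_lit 0x3e100035500011300801e, nat_lit 0x3e50003de00039a000012, nat_lit 0x24f00007e0001d8008024, nat_lit 0x3810003ed008010, nat_lit 0x38a00036a0003ed00401e, nat_lit 0x2530000910000e9004014, nat_lit 0x3c60000d40003f9002024]
noncomputable def HB_b6_S4 : List ℕ := [nat_lit 0x3d20003ae0001e60001910003f9002016, nat_lit 0x25b00025700003a00005f00009d010018, nat_lit 0x26300025f0000aa00009900c01c, nat_lit 0x25300009900040900026301201c, nat_lit 0x40d0003fd0003cd00402a, nat_lit 0x1ea00041100026400c026, nat_lit 0x415000167000158008024, nat_lit 0x26700005f00009d004014, nat_lit 0x40600041d00a010, nat_lit 0x26b0003fa0000ea000095000039010018, nat_lit 0x257000425008010, nat_lit 0x39e00039500042500401e, nat_lit 0x42900025c000406000014, nat_lit 0x27300026f00004600003500c01c, nat_lit 0x26700003500043500027301201c, nat_lit 0x43900041e00031a00001e, nat_lit 0x34100031500043d000012,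 nat_lit 0x20e0001f000043d002024, nat_lit 0x3460001ec00031500043d000274016016, nat_lit 0x4490001ff0001e400a024, nat_lit 0x2770004360002d5008014, nat_lit 0x27b0002c60002910002e10003ed00c018, nat_lit 0x14f0000b30002240003f6000455000028, nat_lit 0x27f0002ea00003600026800801c, nat_lit 0x27300043900045d00c020, nat_lit 0x287000283000425008012, nat_lit 0x40200026c00046500001a, nat_lit 0x30d00023500043100046500401c, nat_lit 0x42e00046500046d00031500401c, nat_lit 0x3860003810002e5000425000465000016, nat_lit 0x288000475008010, nat_lit 0xeb00020400047900c024, nat_lit 0x2880004690003d2000014, nat_lit 0x28b00042500026b004014, nat_lit 0x3f900048500a010, nat_lit 0x3d1000402000485000012, nat_lit 0x3ca0003fe000485002024, nat_lit 0x42100025b00042a00026b000485002018, nat_lit 0x29300028f0002570002e60003ed00c016, nat_lit 0x29b0002970003950002e600c01c, nat_lit 0x4560003ee00049d00c014, nat_lit 0x28b0002e600049d00029b01201c, nat_lit 0x4a500048600040e00001e, nat_lit 0x4a500049500043a008022,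 nat_lit 0x4a500049100012500402a, nat_lit 0x2730004ad00029c00801a, nat_lit 0x4190002630004a9000012, nat_lit 0x4a1000459000154000012, nat_lit 0x29f0000ae00023e004012, nat_lit 0x2990004c100a010, nat_lit 0x3410003110004c1000014, nat_lit 0x1550002390004c100c01e, nat_lit 0x13d00018c0004c1002024, nat_lit 0x19a00019d0000f900023e0004c1002016, nat_lit 0x47a00034a0001ec0003110004c1002018, nat_lit 0x3c20003bd0004ca0004d500401c, nat_lit 0x3bd0004ca0004d500016a00e01c, nat_lit 0x2a300019d0000fd0002f20003d500c016, nat_lit 0x4d60004c50002ce0003da0004e5016016, nat_lit 0x4ea0004e60003d6000012, nat_lit 0x2a700021e000224008026, nat_lit 0x3a900014f0000b30002240004f1012028, nat_lit 0x4f50003a500018e00014a00015d008018, nat_lit 0x3a10004f60004fa000014]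
noncomputable def HB_b6_S5 : List ℕ := [nat_lit 0x4f90004f200038a000012, nat_lit 0x2ab00025500022200021e000224010028, nat_lit 0x4f60004f200050500c01a, nat_lit 0x2af0000ff00007b0000dc00801c, nat_lit 0xfb00012500050d00c020, nat_lit 0x29b0004b200050d00c026, nat_lit 0x1400001ed0001ea00017100050d000016, nat_lit 0x1370000ba0000b800010100050d016016, nat_lit 0x519000140000144000012, nat_lit 0x2b300010300010a00007c000110010028, nat_lit 0x15e00015100052500c01a, nat_lit 0x4da0004cd00052500c022, nat_lit 0x5290004fd0001e20001cd00c01c, nat_lit 0x2b700014b0001fc00802a, nat_lit 0x30e00034200053500801e, nat_lit 0x3c20003bd000535000020, nat_lit 0x3b20003b6000535000022, nat_lit 0x1520004e10003bd00053500e01c, nat_lit 0x53900023500041d000012, nat_lit 0x2bb00020e0000a400801e, nat_lit 0x27200054d008010, nat_lit 0x51d0001ae00054d008014, nat_lit 0x41e0000a700054d00c024, nat_lit 0x5510001a4000279000012, nat_lit 0x551000361000355000014, nat_lit 0x2bf0000bf0000d60000a200054d00c016,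 nat_lit 0x50d00055600056500001a, nat_lit 0x2fe0002bc00056500c020, nat_lit 0x45e00055a00056500c026, nat_lit 0x10400016200056100056500401c, nat_lit 0x2a20001b30001a3000552000565016016, nat_lit 0x2bf0000bf0001c1000012, nat_lit 0x2c70002c3000405008012, nat_lit 0x53e000539000235000405000581000016, nat_lit 0x2c8000585008010, nat_lit 0x2a500016000058900c024, nat_lit 0x2cb00047200031900023600c01c, nat_lit 0x46600043200023600059100001c, nat_lit 0x59500028700052e00801e, nat_lit 0x5990002cb00039e000012, nat_lit 0x2cf0002f900029e0000b0000108010028, nat_lit 0x4e200010b0005a1004014, nat_lit 0x4520002d90005a100c01a, nat_lit 0x5a60005a9000277000012, nat_lit 0x2d70002d300048a008012, nat_lit 0x45e0004960005b100001a, nat_lit 0x29b0004a50005b100c020, nat_lit 0xfb0004920005b100c026, nat_lit 0x36a0002e500028c0005b100401c, nat_lit 0x5090003a500019100048a0005b1000016, nat_lit 0x5c50005090003a2000012, nat_lit 0x2db00021b00011600c024, nat_lit 0x5720005790005cd00e024, nat_lit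 0x58d0002a10005cd000026, nat_lit 0x5d20005d500058a000012, nat_lit 0x2df0000ef00047e008026, nat_lit 0x4d60004d90005dd00001a, nat_lit 0x52a00052d0005dd00c020, nat_lit 0x1e10003ad0004810005dd00401c, nat_lit 0x49a0003f10003850004790005dd000016, nat_lit 0x5ed00049a0003ee000012]
noncomputable def HB_b6_S : List (List ℕ) := [HB_b6_S0, HB_b6_S1, HB_b6_S2, HB_b6_S3, HB_b6_S4, HB_b6_S5]
noncomputable def HB_b6_defs : List ℕ := [(nat_lit 0x1e0010003d0040003c000000030010003a0060003900200038006000370020002b0040000300500013005000330000002d0050000400000006000000040010002e00400013001000060020001d0010001c00500021005000280000002000500007005000020000000b000000070010002200400021000000010010000b0020000500100003004000010030000100500010005000190000000f0050000a00600016005000010000000e0000000a000000020010001100400010000000000010000e0060000d0020000c0060000b002000010060000900100008006000070010000100700005004000000070000300300000006000010060000000000000),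
  (nat_lit 0x5000490050001f0010000d0010007700500020006000790050000c006000490030000b00500014005000150050001c00200068005000690050004e0000001c004000690020006d0060000f007000680050006600500009000000090010006700400066000000080010005c0020002300400008005000240050002500500008004000240020005d0060005c002000080000002c004000310060005000500011005000560000005100500050006000530050002c0000001f0010001f0060004f0010004e0060004d0010002c00500030005000310000002b00400030002000470060003a0050003c005000440000003b0050001e006000410050002b0000003a),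
  (nat_lit 0x50003b00600086007000b400300034005000770010008b007000b0003000290060002f0000005e00500052005000400040003f005000640050005f0060004c0030001b001000a500400089006000a3001000950040001a007000a00030001a00400076006000710070009c0010009b0040001b0020009400400017001000970040002a002000950060001a004000160050002200600023005000700050006e0010006e00500051005000120050005b0050006d000000730050000f0050001d0050005a0050002f0050007d006000830050000e0030000d0050002e00500039)]
noncomputable def HB_b6_recs : List ℕ := [(nat_lit 0x6000350001b07000350002a00000260003502000300003301000330003102000260003401000260003207000310001102000130003101000130003007000250002e000002e0000c04000040002f02000040002d040000b0002c040000d00006060002c0000506000060002c060002b0000306000040002b070002a0001b00000160002a02000240002801000280002502000160002901000160002706000260001706000160002602000210002501000210002406000130002106000210001007000150002200000220001d040000700023020000700020040000e0001f060001f0000c060000b0001f030000a0001e060001e0000806000070001e070001d0000d070000e0001d070001c00009070000a0001c00000170001b02000140001901000190001502000170001a010001700018050000000017020001000015010001000014060001000013000001100005040000a00012020000a0000f04000020000c02000000000e01000000000a020000200006010000200004060000000002),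
  (nat_lit 0x6000150005a060005a00022000005a0000d01000390005a060004f00059010004800059060004b00058000005400058040000f00056020001200056010005600052020005400057010005400055050000500054040001500052070002e0005207000520002502000110005204000190005102000500005104000280004d040005000014000005000012010000500050010004c00035060004c0004600000320004c010004b0003402000320004b060004a0003c06000300004a00000490002f010000c00049040002d00039060003900047060004800036060002d00048000004200046020003f00044010004400040020004200045030001700043060004300027010004200043070003200041070004200032050000300042020003c00040070003f00024010003c0003f03000100003c060003c00030030003d0001107000330003d000003d00036040001e0003e070003b00023020001e0003b07000370002f02000390002fff0002f0003802000030003a030003600005070002d00036),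
  (nat_lit 0x10005e0007800000770006c07000510007701000760001b07000760007200000180007601000750001a020001800075030001800042010007400041060001800074060000f0007301000720006b000006a00072020006a00071060007000014060006900070030005e00051070006f0005101000630006f060006e0001206000650006e060006c00056010006c00037020001c0006c070006b0006200000600006b060006a0001801000600006a030003f00014070006900014010006600069060003f0006607000680005606000660002407000280006700000670006304000090006803000120003e070006500012020000900065000004e0005c00000640004d010005b0006406000640003e060005c0006407000630005e07000200006301000620002a00000270006201000610002902000270006106000270006007000440005f000005f00023020005f0004d010001d0005f070005c0003e020005e0003eff0003e0005d06000200005e060005b0001106000310005b030003a00015),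
  (nat_lit 0x5000940008f07000340009400000930008806000930008706000750009303000190003b060003b00092000009200082010008a00092060009100072060007600091060008d00090000008f00048060008f0003d06000330008f000008e00057010008e0007e02000580008e020007e0008d000008d0005501000580008d000008c00053060008c0004b06000580008c06000890008b06000190008a00000890001a02000890001b010008300089060008300088010008700080060008700075000008400087000008000085020008500081010008400085020007600083000007500083050000d00084020006700082030000f00044010008200073070008200044070005f0008200000790008102000790008001000790007f060007e0007a06000790007e03000400000e040003b0005e040007800040070007d00040000007d0003902000490007d020007c0004a06000490007c000007b00029010007a0007b020007a00062000007a00061050000b0007a030001f0007802000780003d),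
  (nat_lit 0x400045000580600045000a902000a90008c0100088000a903000760004607000a8000460100091000a804000420008e04000460005702000a7000a001000a70004605000a70003f00000a70004304000a70007e07000a70006b0700062000a70300054000a603000a50005502000a60009c0500036000a5020009b000a50700097000a500000a5000a206000a60009e0400075000a60100093000a402000a20009905000a20003d03000a20008d07000a2000340700094000a2040008d000a005000a00003a0600080000a006000a100080040007b0008b04000a10007a02000a100090010009a000a1000009f0009c01000990009f010009e0005302000930009e02000740009d05000780009c070009c0007f050009b0005e030009b0007e070007b0009b000009b0009904000180009c04000290009a000009a0008b060009a00095060001a0009a070009900096070002900099060005500098050009800059050004800097000009700094040002700098060002900096010009400090),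
  (nat_lit 0x300075000b706000b7000a404000b70005400000b70004502000b70004601000a0000b703000570009f01000b6000b007000b60009f0500037000b60300058000b506000b5000aa04000b50008305000b50003e00000b5000a602000b50009f01000a2000b5030009c0008e01000b30009d07000b30008e0200041000b30300089000ac06000ac000b200000b2000a10400061000b205000b00006c0600057000b006000b1000570100096000b10300052000af07000af0003704000af0003a05000af0009f00000af0007802000af0003601000ae000af0400044000ae0300056000ae05000ae0009902000ae000ab06000ae000670600028000ae0300099000ad04000ad0004302000ad0005501000ad0005706000ad00061000007e000ad0400055000ac00000ac000a001000ac000450200043000ac0300050000ab07000ab0004d06000ab0004e05000ab000a600000ab0003e0100036000ab01000aa0008c0200088000aa030008300045)]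
noncomputable def HB_b6_L0 : List ℕ := [nat_lit 0x4300000100000e00000200001200000300000f000004000017000005000032000006, nat_lit 0x4400000000002a00000700002e00000800013600000900004700000a00006f00000b, nat_lit 0x5300000700000d00000000001a00000c00006200000d00001e00000e00006300000f, nat_lit 0x5700000800003f00000c00001100000000033900001000006e00001100020f000012, nat_lit 0xf300000900007b00000d00010a0000130000100000000000db000014000146000015, nat_lit 0x2100000a0001a200001600007f0000110001050000140000180000000001ca000017, nat_lit 0x4600000b00003600000f00003a00001800015a00001900026700001a000031000000, nat_lit 0x5400000200002900000100004200001b00028900001c0001a90000160001db00001d, nat_lit 0x5800000300003d00001b00002d0000010002010000130001c600001e0001d700001f, nat_lit 0xf400000400013a00001c0001420000100001350000010000f700002000011b000021, nat_lit 0x2200000500004b00000e0001ba00001e00012d000020000048000001000163000022, nat_lit 0x450000060002f100001d00039100002300029f00002400026f000025000070000001,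 nat_lit 0x6700001b00004000000300001900000200035e0000260001de000027000227000023, nat_lit 0xff00001c00007c00000400011a00002800006100000200012200002900010f000019, nat_lit 0x1a500001600004c00000a0001da00002700026600002900001d00000200023700002a, nat_lit 0x2ea00001d0000350000060002e200001f0002de00001500043600002b000064000002, nat_lit 0x10400001300016100002600014100000900033a00000300033100002c0002b300002d, nat_lit 0x14b00001e00014700002e00008000000500030600002c00006d0000030001fb00002f, nat_lit 0x36900001f00038e00002300036d00001d0005020000300005c1000031000210000003, nat_lit 0x1030000100000ef00002800010900000400020200000800057500003200047d000033, nat_lit 0x12500002000050e0000340005690000320001060000050000dc0000040004b2000035, nat_lit 0x16a00002100015200001900015e0000300002dd00000f0004e2000036000145000004, nat_lit 0x1a600000e0001a10000050001b200002e0005220000340001aa000007000157000037, nat_lit 0x1e20000220001ce0000370001d20000380004be0000390005e900003a0001c9000005,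 nat_lit 0x3950000230002e500001f00003900000600028300003300028b00003b00006c00001b, nat_lit 0x4cd00002400015100001500052600002d00015900000600054500003c00011000000d, nat_lit 0x43900002500045e00003d00049500003b00054a00003c00026800000600055900003e, nat_lit 0x6800000c00003e0000080000410000070003ea0000280001b600002e00006b000018, nat_lit 0x10000000d00013900000900016600002600028a0000070002af0000340004d1000024, nat_lit 0x2e900000f0002f200000b00036e0000120004ee00002100027f00003d0001dc000007, nat_lit 0x14c0000110001d50000270001b900000a00057e0000320001c50000080002b700003c, nat_lit 0x36a0000120002e60000180002e100000f0005f200003a00049e0000390001d8000008, nat_lit 0x1260000140000fb00002900030100002c00012e00000a0000f800000900049100003b, nat_lit 0x1690000150004d50000240005e100003a0004ed00001d0004de00003800011c000009, nat_lit 0x1e10000170003ae00002a0003ba0000360005ca0000310004fd00003000016400000a, nat_lit 0x39600001800038d00001200039200000b00059e00002d00029700003500022800000c,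 nat_lit 0x4ce0000190004d60000210004da0000330002a000000b0004ca00002f0004d200001c, nat_lit 0x43a00001a00027300002b0004ae00003500044200002f00027000000b00044600003f, nat_lit 0x11400002800016200001000016500001c00035d00000c00056200003e000117000030, nat_lit 0x15c00002e0001d600001e0001d900000e00055e00003e0001dd00000c00015f000038, nat_lit 0x1130000260000f000001300011900000d0003e900001b00033600003f0002df00003a, nat_lit 0x5110000340000fc00002000021500003f00026500000e00012100000d0005bd000031, nat_lit 0x3b20000370003ad0000220003b500002f00048d00003b00048200003300023800000e, nat_lit 0x46100003d0002740000250004b50000390005ae00003600043500000f00044d00002c, nat_lit 0x56d0000320002fd00003f00030200002000030500001100033200001000044e00002b, nat_lit 0x52e00003300052a00003000052500001900059d0000230005310000370002b4000010, nat_lit 0x15b0000270001480000110001b10000160002b900003f0001b500001b00023b000036, nat_lit 0x53600003c0003bd0000360003b600002a0004410000250004c90000240001fc000011,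 nat_lit 0x5e500003a00052900002d00015d0000150005010000120004fe000022000118000026, nat_lit 0x5ba0000390005b100003b0005b600003d0005c90000220005c20000120005be000029, nat_lit 0x56e00002c00056500003e00056a00001400057d00001e00057600001300057200003d, nat_lit 0x52d00002d0005de00003a0004d900002400028400001800048100002a00047e000013, nat_lit 0x51200002900050d00001400055500003e0005210000160002b000001c000516000039, nat_lit 0x4a600003b00029b0000390004ad0000250004ba0000370002980000230004b1000014, nat_lit 0x3c20000380003be00002f0003b90000220005ad00002b0004e100001500023c00002e, nat_lit 0x3b100002a0001cd00001700054100003c0004b900003500053200002d000158000016, nat_lit 0x3c100003600053d00003c0001d10000170005da00003d0004dd000021000160000027, nat_lit 0x5b900003100029c0000350004b600002b0004bd00001700049d00001f000515000034, nat_lit 0x5e60000300005dd0000330005e20000210005f100001f0005ea0000170002e0000028, nat_lit 0x4a50000350005b200003100049600001a00048e00002a00028c000018000492000020,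 nat_lit 0x53500002f00053e00003800054200003700054900001a0005460000190002b800001e, nat_lit 0x46200002b00045d00001a0005b50000310005d900003800028000001d000571000032, nat_lit 0x2bc00003f00056600003200055600003400055d00002700056100002600055a00001a, nat_lit 0x2bb00003e0002fe00002c0002160000290002ba00002e000335000028000445000025]
noncomputable def HB_b6_L : List (List ℕ) := [HB_b6_L0]
noncomputable def HB_b6_V : List ℕ := [(nat_lit 0x5e000000ae0000009f000000ad000000a2000000b7000000a600000057000000550000008e000000a5000000ab000000a0000000af000000b5000000450000007e00000051000000ac000000780000009c0000008d0000003e0000003b00000056000000440000009b000000a70000008900000058000000460000003d0000007500000052000000760000003f0000001900000099000000430000001a000000540000005000000042000000360000003a000000830000001f0000004000000018000000120000001e0000000f0000001b000000110000003c00000015000000140000001700000005000000030000000e0000000a0000001000000000)]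
noncomputable def HB_b6_D : H26.Dag := ⟨[0,1,2,3,4,5,7,6], [[0,0],
  [1,1],
  [2,2],
  [3,3],
  [4,4],
  [5,5],
  [6,7],
  [7,6],
  [6,6,6],
  [3,7,1,6],
  [4,7,2,6],
  [6,1,6,1,6,1],
  [6,2,6,2,6,2],
  [2,1,2,1],
  [0,4,1,4,1],
  [7,0,6,0],
  [1,0,1,0],
  [2,0,2,0],
  [6,5,6,5],
  [1,5,1,5],
  [1,2,0,5,2,5],
  [0,5,0,5]], [], HB_b6_defs, HB_b6_recs⟩
theorem HB_b6_c : HB_b6_D.checkTab HB_b6_S 64 6 HB_b6_V HB_b6_L = true := by decide +kernel
theorem HB_b6 : Bound HB_r_R 6 64 :=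
  bound_dag (Bound.zero HB_r_R) (K := 8) (J := [0,1,2,3,4,5,6,7,8,9,10,11,12,13,14,15,16,17,18,19,20,21]) (by decide +kernel) HB_b6_c (by decide +kernel)
noncomputable def HB_b8_S0 : List ℕ := [nat_lit 0x1, nat_lit 0x1, nat_lit 0x1, nat_lit 0x1, nat_lit 0x1, nat_lit 0x1, nat_lit 0x7000005000008000012, nat_lit 0x7000009000008000014, nat_lit 0x700000100000800c01a, nat_lit 0xb000008006010, nat_lit 0xb00000d00000c008012, nat_lit 0xb00001100000c008014, nat_lit 0xb00000100000c00401a, nat_lit 0xb00001500000800a01c, nat_lit 0x2500002900000b000005000008012016, nat_lit 0x2500002d00000b000009000008012018, nat_lit 0x2600003d000025000014, nat_lit 0x26000039000025000012]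
noncomputable def HB_b8_S : List (List ℕ) := [HB_b8_S0]
noncomputable def HB_b8_defs : List ℕ := [(nat_lit 0x7000000060000000000000)]
noncomputable def HB_b8_recs : List ℕ := [(nat_lit 0x30000200002040000200002020000100001010000100001050000100002000000200002020000200002010000200002070000100002000000100001040000100001030000100001050000000000040000000000030000000000020000000000010000000000000000000000)]
noncomputable def HB_b8_L0 : List ℕ := [nat_lit 0x100000000000500000000000900000000000d00000000001100000000001500000000000700000100000b000002, nat_lit 0x2100000100003900000100003d00000100001900000100001d000001000036000002000026000002000008000000, nat_lit 0x3100000200002900000200002d00000200004500000200004100000200003500000100000c000000000025000001]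
noncomputable def HB_b8_L : List (List ℕ) := [HB_b8_L0]
noncomputable def HB_b8_V : List ℕ := [(nat_lit 0x20000000100000000)]
noncomputable def HB_b8_D : H26.Dag := ⟨[0,1,2,3,4,5,7,6], [[0,0],
  [1,1],
  [2,2],
  [3,3],
  [4,4],
  [5,5],
  [6,7],
  [7,6],
  [6,6,6],
  [3,7,1,6],
  [4,7,2,6],
  [6,1,6,1,6,1],
  [6,2,6,2,6,2],
  [7,0,6,0],
  [6,5,6,5]], [0,1,2,3,4,5], HB_b8_defs, HB_b8_recs⟩
theorem HB_b8_c : HB_b8_D.checkTab HB_b8_S 3 8 HB_b8_V HB_b8_L = true := by decide +kernel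
theorem HB_b8 : Bound HB_r_R 8 192 :=
  bound_dag HB_b6 (K := 8) (J := [0,1,2,3,4,5,6,7,8,9,10,11,12,15,18]) (by decide +kernel) HB_b8_c (by decide +kernel)
theorem HB_P : PModel (nat_lit 12) (nat_lit 4) (nat_lit 15) (nat_lit 0xba9876543210) HB_cs HB_r_R HB_L 192 :=
  ⟨PkOK.of (by decide +kernel), by decide +kernel, by decide +kernel, HB_b8, ⟨HB_WW, by decide +kernel⟩,
    ⟨fun c => Nat.mod c (nat_lit 5939), by decide +kernel⟩⟩
noncomputable def HB_soc_t0 : ST := (.node (nat_lit 2924) (.node (nat_lit 1578) (.node (nat_lit 853) (.node (nat_lit 388) (.node (nat_lit 230) (.node (nat_lit 113) (.leaf (nat_lit 0)) (.node (nat_lit 143) (.leaf (nat_lit 2)) (.leaf (nat_lit 0)))) (.node (nat_lit 239) (.leaf (nat_lit 3)) (.node (nat_lit 327) (.leaf (nat_lit 0)) (.leaf (nat_lit 3))))) (.node (nat_lit 612) (.node (nat_lit 565) (.leaf (nat_lit 2)) (.node (nat_lit 585) (.leaf (nat_lit 0)) (.leaf (nat_lit 3)))) (.node (nat_lit 793) (.node (nat_lit 782) (.leaf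 (nat_lit 2)) (.leaf (nat_lit 0))) (.node (nat_lit 794) (.leaf (nat_lit 2)) (.leaf (nat_lit 0)))))) (.node (nat_lit 1298) (.node (nat_lit 1041) (.node (nat_lit 935) (.leaf (nat_lit 2)) (.node (nat_lit 941) (.leaf (nat_lit 3)) (.leaf (nat_lit 2)))) (.node (nat_lit 1257) (.node (nat_lit 1097) (.leaf (nat_lit 3)) (.leaf (nat_lit 2))) (.node (nat_lit 1283) (.leaf (nat_lit 0)) (.leaf (nat_lit 2))))) (.node (nat_lit 1349) (.node (nat_lit 1299) (.leaf (nat_lit 0)) (.node (nat_lit 1324) (.leaf (nat_lit 2)) (.leaf (nat_lit 0)))) (.node (nat_lit 1523) (.node (nat_lit 1408) (.leaf (nat_lit 2)) (.leaf (nat_lit 3))) (.node (nat_lit 1577) (.leaf (nat_lit 0)) (.leaf (nat_lit 2))))))) (.node (nat_lit 1978) (.node (nat_lit 1801) (.node (nat_lit 1670) (.node (nat_lit 1634) (.leaf (nat_lit 0)) (.node (nat_lit 1648) (.leaf (nat_lit 3)) (.leaf (nat_lit 2)))) (.node (nat_lit 1711) (.node (nat_lit 1677) (.leaf (nat_lit 3)) (.leaf (nat_lit 2))) (.node (nat_lit 1780) (.leaf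 (nat_lit 3)) (.leaf (nat_lit 2))))) (.node (nat_lit 1931) (.node (nat_lit 1833) (.leaf (nat_lit 0)) (.node (nat_lit 1872) (.leaf (nat_lit 2)) (.leaf (nat_lit 0)))) (.node (nat_lit 1960) (.node (nat_lit 1950) (.leaf (nat_lit 2)) (.leaf (nat_lit 3))) (.node (nat_lit 1975) (.leaf (nat_lit 2)) (.leaf (nat_lit 0)))))) (.node (nat_lit 2601) (.node (nat_lit 2355) (.node (nat_lit 2042) (.leaf (nat_lit 2)) (.node (nat_lit 2217) (.leaf (nat_lit 3)) (.leaf (nat_lit 2)))) (.node (nat_lit 2459) (.node (nat_lit 2442) (.leaf (nat_lit 3)) (.leaf (nat_lit 0))) (.node (nat_lit 2561) (.leaf (nat_lit 3)) (.leaf (nat_lit 2))))) (.node (nat_lit 2682) (.node (nat_lit 2647) (.leaf (nat_lit 3)) (.node (nat_lit 2663) (.leaf (nat_lit 2)) (.leaf (nat_lit 0)))) (.node (nat_lit 2783) (.node (nat_lit 2712) (.leaf (nat_lit 3)) (.leaf (nat_lit 0))) (.node (nat_lit 2830) (.leaf (nat_lit 3)) (.leaf (nat_lit 2)))))))) (.node (nat_lit 4305) (.node (nat_lit 3703) (.node (nat_lit 3232)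 (.node (nat_lit 3063) (.node (nat_lit 2938) (.leaf (nat_lit 0)) (.node (nat_lit 2997) (.leaf (nat_lit 2)) (.leaf (nat_lit 3)))) (.node (nat_lit 3162) (.node (nat_lit 3140) (.leaf (nat_lit 2)) (.leaf (nat_lit 3))) (.node (nat_lit 3183) (.leaf (nat_lit 2)) (.leaf (nat_lit 0))))) (.node (nat_lit 3429) (.node (nat_lit 3242) (.leaf (nat_lit 2)) (.node (nat_lit 3400) (.leaf (nat_lit 0)) (.leaf (nat_lit 3)))) (.node (nat_lit 3548) (.node (nat_lit 3507) (.leaf (nat_lit 2)) (.leaf (nat_lit 3))) (.node (nat_lit 3622) (.leaf (nat_lit 2)) (.leaf (nat_lit 3)))))) (.node (nat_lit 3853) (.node (nat_lit 3766) (.node (nat_lit 3746) (.leaf (nat_lit 2)) (.node (nat_lit 3750) (.leaf (nat_lit 3)) (.leaf (nat_lit 0)))) (.node (nat_lit 3827) (.node (nat_lit 3814) (.leaf (nat_lit 3)) (.leaf (nat_lit 2))) (.node (nat_lit 3850) (.leaf (nat_lit 0)) (.leaf (nat_lit 2))))) (.node (nat_lit 3940) (.node (nat_lit 3891) (.leaf (nat_lit 3)) (.node (nat_lit 3895) (.leaf (nat_lit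 2)) (.leaf (nat_lit 3)))) (.node (nat_lit 4084) (.node (nat_lit 3997) (.leaf (nat_lit 2)) (.leaf (nat_lit 0))) (.node (nat_lit 4094) (.leaf (nat_lit 3)) (.leaf (nat_lit 2))))))) (.node (nat_lit 4953) (.node (nat_lit 4739) (.node (nat_lit 4526) (.node (nat_lit 4415) (.leaf (nat_lit 3)) (.node (nat_lit 4462) (.leaf (nat_lit 2)) (.leaf (nat_lit 3)))) (.node (nat_lit 4616) (.node (nat_lit 4598) (.leaf (nat_lit 2)) (.leaf (nat_lit 3))) (.node (nat_lit 4681) (.leaf (nat_lit 0)) (.leaf (nat_lit 3))))) (.node (nat_lit 4817) (.node (nat_lit 4751) (.leaf (nat_lit 0)) (.node (nat_lit 4797) (.leaf (nat_lit 2)) (.leaf (nat_lit 3)))) (.node (nat_lit 4854) (.node (nat_lit 4837) (.leaf (nat_lit 2)) (.leaf (nat_lit 0))) (.node (nat_lit 4934) (.leaf (nat_lit 3)) (.leaf (nat_lit 2)))))) (.node (nat_lit 5408) (.node (nat_lit 5141) (.node (nat_lit 5026) (.leaf (nat_lit 3)) (.node (nat_lit 5030) (.leaf (nat_lit 2)) (.leaf (nat_lit 3)))) (.node (nat_lit 5317) (.node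 (nat_lit 5259) (.leaf (nat_lit 0)) (.leaf (nat_lit 2))) (.node (nat_lit 5389) (.leaf (nat_lit 0)) (.leaf (nat_lit 3))))) (.node (nat_lit 5611) (.node (nat_lit 5504) (.leaf (nat_lit 2)) (.node (nat_lit 5534) (.leaf (nat_lit 3)) (.leaf (nat_lit 2)))) (.node (nat_lit 5629) (.node (nat_lit 5616) (.leaf (nat_lit 0)) (.leaf (nat_lit 3))) (.node (nat_lit 5711) (.leaf (nat_lit 2)) (.leaf (nat_lit 3)))))))))
noncomputable def HB_soc_t1 : ST := (.node (nat_lit 702) (.node (nat_lit 456) (.node (nat_lit 137) (.node (nat_lit 66) (.node (nat_lit 12) (.leaf (nat_lit 48)) (.node (nat_lit 25) (.leaf (nat_lit 96)) (.leaf (nat_lit 48)))) (.node (nat_lit 76) (.node (nat_lit 74) (.leaf (nat_lit 8)) (.leaf (nat_lit 48))) (.node (nat_lit 85) (.leaf (nat_lit 96)) (.leaf (nat_lit 48))))) (.node (nat_lit 172) (.node (nat_lit 138) (.leaf (nat_lit 8)) (.node (nat_lit 159) (.leaf (nat_lit 48)) (.leaf (nat_lit 96)))) (.node (nat_lit 239) (.node (nat_lit 226) (.leaf (nat_lit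 48)) (.leaf (nat_lit 96))) (.node (nat_lit 444) (.leaf (nat_lit 48)) (.leaf (nat_lit 96)))))) (.node (nat_lit 567) (.node (nat_lit 489) (.node (nat_lit 486) (.leaf (nat_lit 48)) (.node (nat_lit 488) (.leaf (nat_lit 96)) (.leaf (nat_lit 8)))) (.node (nat_lit 492) (.node (nat_lit 490) (.leaf (nat_lit 48)) (.leaf (nat_lit 8))) (.node (nat_lit 556) (.leaf (nat_lit 48)) (.leaf (nat_lit 96))))) (.node (nat_lit 678) (.node (nat_lit 570) (.leaf (nat_lit 48)) (.node (nat_lit 579) (.leaf (nat_lit 8)) (.leaf (nat_lit 48)))) (.node (nat_lit 682) (.node (nat_lit 680) (.leaf (nat_lit 8)) (.leaf (nat_lit 48))) (.node (nat_lit 684) (.leaf (nat_lit 96)) (.leaf (nat_lit 48))))))) (.node (nat_lit 1095) (.node (nat_lit 887) (.node (nat_lit 782) (.node (nat_lit 705) (.leaf (nat_lit 96)) (.node (nat_lit 712) (.leaf (nat_lit 8)) (.leaf (nat_lit 48)))) (.node (nat_lit 819) (.node (nat_lit 798) (.leaf (nat_lit 96)) (.leaf (nat_lit 48))) (.node (nat_lit 835) (.leaf (nat_lit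 96)) (.leaf (nat_lit 48))))) (.node (nat_lit 1012) (.node (nat_lit 888) (.leaf (nat_lit 8)) (.node (nat_lit 997) (.leaf (nat_lit 48)) (.leaf (nat_lit 8)))) (.node (nat_lit 1022) (.node (nat_lit 1018) (.leaf (nat_lit 96)) (.leaf (nat_lit 48))) (.node (nat_lit 1025) (.leaf (nat_lit 0)) (.leaf (nat_lit 48)))))) (.node (nat_lit 1189) (.node (nat_lit 1129) (.node (nat_lit 1097) (.leaf (nat_lit 8)) (.node (nat_lit 1105) (.leaf (nat_lit 48)) (.leaf (nat_lit 16)))) (.node (nat_lit 1151) (.node (nat_lit 1140) (.leaf (nat_lit 8)) (.leaf (nat_lit 48))) (.node (nat_lit 1152) (.leaf (nat_lit 96)) (.leaf (nat_lit 48))))) (.node (nat_lit 1294) (.node (nat_lit 1202) (.node (nat_lit 1192) (.leaf (nat_lit 96)) (.leaf (nat_lit 48))) (.node (nat_lit 1212) (.leaf (nat_lit 8)) (.leaf (nat_lit 48)))) (.node (nat_lit 1321) (.node (nat_lit 1299) (.leaf (nat_lit 96)) (.leaf (nat_lit 48))) (.node (nat_lit 1347) (.leaf (nat_lit 16)) (.leaf (nat_lit 48))))))))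
noncomputable def HB_soc_F : Fm := (.all HB_L (.or (.qf (.eq (.v (nat_lit 0)) .one)) (.exF HB_L (fun cs => HB_soc_t1.find (Nat.mod (nth (nat_lit 0) cs (nat_lit 0)) (nat_lit 1427))) (.exF HB_L (fun cs => HB_soc_t0.find (Nat.mod (Nat.add (nth (nat_lit 0) cs (nat_lit 0)) (Nat.mul (nat_lit 7919) (nth (nat_lit 0) cs (nat_lit 1)))) (nat_lit 5806))) (.qf (.or (.eq (.mul (.mul (.v (nat_lit 0)) (.v (nat_lit 2))) (.inv (.v (nat_lit 0)))) (.v (nat_lit 3))) (.or (.eq (.mul (.mul (.v (nat_lit 0)) (.v (nat_lit 2))) (.inv (.v (nat_lit 0)))) (.v (nat_lit 3))) (.or (.eq (.mul (.mul (.v (nat_lit 0)) (.mul (.mul (.mul (.v (nat_lit 2)) (.v (nat_lit 1))) (.inv (.v (nat_lit 2)))) (.inv (.v (nat_lit 1))))) (.inv (.v (nat_lit 0)))) (.v (nat_lit 3))) (.or (.eq (.mul (.mul (.v (nat_lit 0)) (.mul (.mul (.mul (.v (nat_lit 2)) (.v (nat_lit 1))) (.inv (.v (nat_lit 2)))) (.inv (.v (nat_lit 1))))) (.inv (.v (nat_lit 0)))) (.v (nat_lit 3))) (.or (.eq (.mul (.mul (.mul (.mul (.mul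 (.mul (.v (nat_lit 2)) (.v (nat_lit 1))) (.inv (.v (nat_lit 2)))) (.inv (.v (nat_lit 1)))) (.v (nat_lit 0))) (.inv (.mul (.mul (.mul (.v (nat_lit 2)) (.v (nat_lit 1))) (.inv (.v (nat_lit 2)))) (.inv (.v (nat_lit 1)))))) (.inv (.v (nat_lit 0)))) (.v (nat_lit 3))) (.eq (.mul (.mul (.mul (.mul (.mul (.mul (.v (nat_lit 2)) (.v (nat_lit 1))) (.inv (.v (nat_lit 2)))) (.inv (.v (nat_lit 1)))) (.v (nat_lit 0))) (.inv (.mul (.mul (.mul (.v (nat_lit 2)) (.v (nat_lit 1))) (.inv (.v (nat_lit 2)))) (.inv (.v (nat_lit 1)))))) (.inv (.v (nat_lit 0)))) (.v (nat_lit 3)))))))))))))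
theorem HB_soc_chk : Fm.chk HB_o HB_soc_F HB_cs = true := by decide +kernel
theorem HB_soc {G : Type*} [Group G] {R : ℕ → G → Prop} {z u v a b r x X_ : G} {H : Subgroup G}
    (M : Mdl HB_o HB_cs HB_L R [z, u, v, a, b, r, x, X_] H) :
    ∀ y_ ∈ H, y_ = 1 ∨ (∃ q_ ∈ H, ∃ k_ ∈ H, k_ * y_ * k_⁻¹ = z ∨ k_ * y_ * k_⁻¹ = z ∨ k_ * ⁅y_, q_⁆ * k_⁻¹ = z ∨ k_ * ⁅y_, q_⁆ * k_⁻¹ = z ∨ ⁅⁅y_, q_⁆, k_⁆ = z ∨ ⁅⁅y_, q_⁆, k_⁆ = z) :=
  have h : ∀ y_, InL HB_o R HB_L y_ → y_ = 1 ∨ (Good HB_o R HB_L → prods HB_o HB_L HB_o.one ≠ [] → ∃ q_, InL HB_o R HB_L q_ ∧ (Good HB_o R HB_L → prods HB_o HB_L HB_o.one ≠ [] → ∃ k_, InL HB_o R HB_L k_ ∧ (k_ * y_ * k_⁻¹ = z ∨ k_ * y_ * k_⁻¹ = z ∨ k_ * ⁅y_, q_⁆ * k_⁻¹ = z ∨ k_ * ⁅y_, q_⁆ * k_⁻¹ = z ∨ ⁅⁅y_, q_⁆, k_⁆ = z ∨ ⁅⁅y_, q_⁆, k_⁆ = z))) :=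
    Fm.sound M.μ HB_soc_F HB_soc_chk M.reps
  (fun y_ h0 => (Or.imp (fun h1 => h1) (fun h1 => (Exists.imp (fun q_ h2 => ⟨M.H.iff.1 h2.1, (Exists.imp (fun k_ h3 => ⟨M.H.iff.1 h3.1, h3.2⟩) (h2.2 M.H.good M.H.ne))⟩) (h1 M.H.good M.H.ne))) (h y_ (M.H.iff.2 h0))))
theorem HB_mdl {G : Type*} [Group G] {z u v a b r x : G}
    (h : Q3 z u v a b x)
    (k : RB z u v r x)
    (n1 : z ≠ 1) :
    ∃ R, Mdl HB_o HB_cs HB_L R [z, u, v, a, b, r, x, x⁻¹] (sp [z, u, v, a, b, r, x, x⁻¹]) ∧ #(sp [z, u, v, a, b, r, x, x⁻¹]) = 192 :=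
  mdl_of HB_P rfl (HB_r h k) (.v (nat_lit 0)) (.v (nat_lit 0)) n1 n1 
    fun _ ms _ M hl => match ms, M, (hl : ms.length = 8) with
      | [_, _, _, _, _, _, _, _], M, _ => HB_soc M
noncomputable def HB_lQ : List ℕ := [(nat_lit 0xba9876543210), (nat_lit 0xb25867934a10), (nat_lit 0xa916753428b), (nat_lit 0x152034a679b8), (nat_lit 0x8a5b76934201), (nat_lit 0x741a239568b), (nat_lit 0x25176943a8b), (nat_lit 0x19a0432765b8), (nat_lit 0x829b67543a01), (nat_lit 0x6312a45978b), (nat_lit 0x852b43a76901), (nat_lit 0x1a50679432b8), (nat_lit 0xb7482a359610), (nat_lit 0x92143a6758b), (nat_lit 0x836b5972a401), (nat_lit 0x5a13427698b), (nat_lit 0x1730a24596b8), (nat_lit 0xb638a2495710), (nat_lit 0x89ab34267501), (nat_lit 0x129076534ab8), (nat_lit 0x847b956a2301), (nat_lit 0x16402a3957b8), (nat_lit 0xb92834a76510), (nat_lit 0x1360957a24b8), (nat_lit 0xb5a843267910), (nat_lit 0x873b2a495601), (nat_lit 0xb4689572a310), (nat_lit 0x14705962a3b8), (nat_lit 0xb378596a2410),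 (nat_lit 0x864ba2359701), (nat_lit 0x461597a238b), (nat_lit 0x3719562a48b)]
noncomputable def HB_lQ_W : List (List ℕ) := [[],
  [(nat_lit 0)],
  [(nat_lit 1)],
  [(nat_lit 2)],
  [(nat_lit 3)],
  [(nat_lit 4)],
  [(nat_lit 0), (nat_lit 1)],
  [(nat_lit 0), (nat_lit 2)],
  [(nat_lit 0), (nat_lit 3)],
  [(nat_lit 0), (nat_lit 4)],
  [(nat_lit 1), (nat_lit 2)],
  [(nat_lit 1), (nat_lit 3)],
  [(nat_lit 1), (nat_lit 4)],
  [(nat_lit 2), (nat_lit 3)],
  [(nat_lit 2), (nat_lit 4)],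
  [(nat_lit 3), (nat_lit 2)],
  [(nat_lit 3), (nat_lit 4)],
  [(nat_lit 4), (nat_lit 1)],
  [(nat_lit 0), (nat_lit 1), (nat_lit 2)],
  [(nat_lit 0), (nat_lit 1), (nat_lit 3)],
  [(nat_lit 0), (nat_lit 2), (nat_lit 4)],
  [(nat_lit 0), (nat_lit 3), (nat_lit 4)],
  [(nat_lit 1), (nat_lit 2), (nat_lit 3)],
  [(nat_lit 1), (nat_lit 2), (nat_lit 4)],
  [(nat_lit 1), (nat_lit 3), (nat_lit 2)],
  [(nat_lit 1), (nat_lit 3), (nat_lit 4)],
  [(nat_lit 2), (nat_lit 3), (nat_lit 4)],
  [(nat_lit 2), (nat_lit 4), (nat_lit 1)],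
  [(nat_lit 3), (nat_lit 2), (nat_lit 4)],
  [(nat_lit 3), (nat_lit 4), (nat_lit 1)],
  [(nat_lit 1), (nat_lit 2), (nat_lit 3), (nat_lit 4)],
  [(nat_lit 1), (nat_lit 3), (nat_lit 2), (nat_lit 4)]]
noncomputable def HB_lQ_h (c : ℕ) : ℕ := Nat.mod c (nat_lit 502)
theorem HB_lQ_E {G : Type*} [Group G] {R : ℕ → G → Prop} {z u v a b r x : G} {H : Subgroup G}
    (M : Mdl HB_o HB_cs HB_L R [z, u, v, a, b, r, x, x⁻¹] H) :
    EnumS R HB_lQ (sp [z, u, v, a, b]) :=
  enumS_sp M.μ.1 (M.reps.tms M.μ.1 [(.v (nat_lit 0)), (.v (nat_lit 1)), (.v (nat_lit 2)), (.v (nat_lit 3)), (.v (nat_lit 4))] (cs' := [(nat_lit 0xb25867934a10), (nat_lit 0xa916753428b), (nat_lit 0x152034a679b8), (nat_lit 0x8a5b76934201), (nat_lit 0x741a239568b)]) (by decide +kernel))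
    (Ws := HB_lQ_W) (by decide +kernel) (by decide +kernel)
theorem HB_lQ_c {G : Type*} [Group G] {R : ℕ → G → Prop} {z u v a b r x : G} {H : Subgroup G}
    (M : Mdl HB_o HB_cs HB_L R [z, u, v, a, b, r, x, x⁻¹] H) :
    #(sp [z, u, v, a, b]) = 32 :=
  (HB_lQ_E M).card M.μ (h := HB_lQ_h) (by decide +kernel)
noncomputable def HB_lT : List ℕ := [(nat_lit 0xba9876543210), (nat_lit 0xb25867934a10), (nat_lit 0xa916753428b), (nat_lit 0x152034a679b8), (nat_lit 0x8a5b76934201), (nat_lit 0x741a239568b), (nat_lit 0xa584397621b), (nat_lit 0x25176943a8b), (nat_lit 0x19a0432765b8), (nat_lit 0x829b67543a01), (nat_lit 0x6312a45978b), (nat_lit 0x29834567a1b), (nat_lit 0x852b43a76901), (nat_lit 0x1a50679432b8), (nat_lit 0xb7482a359610), (nat_lit 0xba5134967280), (nat_lit 0x92143a6758b), (nat_lit 0x836b5972a401), (nat_lit 0x192b67a34508), (nat_lit 0x5a13427698b), (nat_lit 0x1730a24596b8), (nat_lit 0x8a90435672b1), (nat_lit 0xb638a2495710), (nat_lit 0xb471a2659380),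 (nat_lit 0x85a0672349b1), (nat_lit 0x1a9b34576208), (nat_lit 0xb731954a2680), (nat_lit 0x89ab34267501), (nat_lit 0x129076534ab8), (nat_lit 0xb29143576a80), (nat_lit 0x847b956a2301), (nat_lit 0x15ab76243908), (nat_lit 0x16402a3957b8), (nat_lit 0x825034976ab1), (nat_lit 0xb3612a795480), (nat_lit 0x892076a435b1), (nat_lit 0x125b43967a08), (nat_lit 0xb6415932a780), (nat_lit 0xb92834a76510), (nat_lit 0x1360957a24b8), (nat_lit 0xb5a843267910), (nat_lit 0x873b2a495601), (nat_lit 0x4782a69531b), (nat_lit 0x7385942a61b), (nat_lit 0xb4689572a310), (nat_lit 0xb52176a34980), (nat_lit 0x14705962a3b8), (nat_lit 0x86309542a7b1), (nat_lit 0x52867a4391b), (nat_lit 0x84602a7593b1), (nat_lit 0xb378596a2410), (nat_lit 0xb9a167243580), (nat_lit 0x864ba2359701), (nat_lit 0x146ba2795308), (nat_lit 0x174b9532a608), (nat_lit 0x368a275941b), (nat_lit 0x163b594a2708), (nat_lit 0x8370a26954b1), (nat_lit 0x9a87623451b), (nat_lit 0x137b2a659408), (nat_lit 0x8740593a26b1),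 (nat_lit 0x648953a271b), (nat_lit 0x461597a238b), (nat_lit 0x3719562a48b)]
noncomputable def HB_lT_W : List (List ℕ) := [[],
  [(nat_lit 0)],
  [(nat_lit 1)],
  [(nat_lit 2)],
  [(nat_lit 3)],
  [(nat_lit 4)],
  [(nat_lit 5)],
  [(nat_lit 0), (nat_lit 1)],
  [(nat_lit 0), (nat_lit 2)],
  [(nat_lit 0), (nat_lit 3)],
  [(nat_lit 0), (nat_lit 4)],
  [(nat_lit 0), (nat_lit 5)],
  [(nat_lit 1), (nat_lit 2)],
  [(nat_lit 1), (nat_lit 3)],
  [(nat_lit 1), (nat_lit 4)],
  [(nat_lit 1), (nat_lit 5)],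
  [(nat_lit 2), (nat_lit 3)],
  [(nat_lit 2), (nat_lit 4)],
  [(nat_lit 2), (nat_lit 5)],
  [(nat_lit 3), (nat_lit 2)],
  [(nat_lit 3), (nat_lit 4)],
  [(nat_lit 3), (nat_lit 5)],
  [(nat_lit 4), (nat_lit 1)],
  [(nat_lit 4), (nat_lit 5)],
  [(nat_lit 5), (nat_lit 2)],
  [(nat_lit 5), (nat_lit 3)],
  [(nat_lit 5), (nat_lit 4)],
  [(nat_lit 0), (nat_lit 1), (nat_lit 2)],
  [(nat_lit 0), (nat_lit 1), (nat_lit 3)],
  [(nat_lit 0), (nat_lit 1), (nat_lit 5)],
  [(nat_lit 0), (nat_lit 2), (nat_lit 4)],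
  [(nat_lit 0), (nat_lit 2), (nat_lit 5)],
  [(nat_lit 0), (nat_lit 3), (nat_lit 4)],
  [(nat_lit 0), (nat_lit 3), (nat_lit 5)],
  [(nat_lit 0), (nat_lit 4), (nat_lit 5)],
  [(nat_lit 0), (nat_lit 5), (nat_lit 2)],
  [(nat_lit 0), (nat_lit 5), (nat_lit 3)],
  [(nat_lit 0), (nat_lit 5), (nat_lit 4)],
  [(nat_lit 1), (nat_lit 2), (nat_lit 3)],
  [(nat_lit 1), (nat_lit 2), (nat_lit 4)],
  [(nat_lit 1), (nat_lit 3), (nat_lit 2)],
  [(nat_lit 1), (nat_lit 3), (nat_lit 4)],
  [(nat_lit 1), (nat_lit 4), (nat_lit 5)],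
  [(nat_lit 1), (nat_lit 5), (nat_lit 4)],
  [(nat_lit 2), (nat_lit 3), (nat_lit 4)],
  [(nat_lit 2), (nat_lit 3), (nat_lit 5)],
  [(nat_lit 2), (nat_lit 4), (nat_lit 1)],
  [(nat_lit 2), (nat_lit 4), (nat_lit 5)],
  [(nat_lit 2), (nat_lit 5), (nat_lit 3)],
  [(nat_lit 2), (nat_lit 5), (nat_lit 4)],
  [(nat_lit 3), (nat_lit 2), (nat_lit 4)],
  [(nat_lit 3), (nat_lit 2), (nat_lit 5)],
  [(nat_lit 3), (nat_lit 4), (nat_lit 1)],
  [(nat_lit 3), (nat_lit 4), (nat_lit 5)],
  [(nat_lit 3), (nat_lit 5), (nat_lit 4)],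
  [(nat_lit 4), (nat_lit 1), (nat_lit 5)],
  [(nat_lit 4), (nat_lit 5), (nat_lit 2)],
  [(nat_lit 4), (nat_lit 5), (nat_lit 3)],
  [(nat_lit 4), (nat_lit 5), (nat_lit 4)],
  [(nat_lit 5), (nat_lit 2), (nat_lit 4)],
  [(nat_lit 5), (nat_lit 3), (nat_lit 4)],
  [(nat_lit 5), (nat_lit 4), (nat_lit 1)],
  [(nat_lit 5), (nat_lit 4), (nat_lit 5)],
  [(nat_lit 0), (nat_lit 5), (nat_lit 4), (nat_lit 5)]]
noncomputable def HB_lT_h (c : ℕ) : ℕ := Nat.mod c (nat_lit 391)
theorem HB_lT_E {G : Type*} [Group G] {R : ℕ → G → Prop} {z u v a b r x : G} {H : Subgroup G}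
    (M : Mdl HB_o HB_cs HB_L R [z, u, v, a, b, r, x, x⁻¹] H) :
    EnumS R HB_lT (sp [z, u, v, a, b, r]) :=
  enumS_sp M.μ.1 (M.reps.tms M.μ.1 [(.v (nat_lit 0)), (.v (nat_lit 1)), (.v (nat_lit 2)), (.v (nat_lit 3)), (.v (nat_lit 4)), (.v (nat_lit 5))] (cs' := [(nat_lit 0xb25867934a10), (nat_lit 0xa916753428b), (nat_lit 0x152034a679b8), (nat_lit 0x8a5b76934201), (nat_lit 0x741a239568b), (nat_lit 0xa584397621b)]) (by decide +kernel))
    (Ws := HB_lT_W) (by decide +kernel) (by decide +kernel)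
theorem HB_lT_c {G : Type*} [Group G] {R : ℕ → G → Prop} {z u v a b r x : G} {H : Subgroup G}
    (M : Mdl HB_o HB_cs HB_L R [z, u, v, a, b, r, x, x⁻¹] H) :
    #(sp [z, u, v, a, b, r]) = 64 :=
  (HB_lT_E M).card M.μ (h := HB_lT_h) (by decide +kernel)
noncomputable def HB_lR0 : List ℕ := [(nat_lit 0xba9876543210), (nat_lit 0xb25867934a10), (nat_lit 0xa916753428b), (nat_lit 0x152034a679b8), (nat_lit 0x8a5b76934201), (nat_lit 0xa584397621b), (nat_lit 0x25176943a8b), (nat_lit 0x19a0432765b8), (nat_lit 0x829b67543a01), (nat_lit 0x29834567a1b), (nat_lit 0x852b43a76901), (nat_lit 0x1a50679432b8), (nat_lit 0xba5134967280), (nat_lit 0x92143a6758b), (nat_lit 0x192b67a34508), (nat_lit 0x5a13427698b), (nat_lit 0x8a90435672b1), (nat_lit 0x85a0672349b1), (nat_lit 0x1a9b34576208), (nat_lit 0x89ab34267501), (nat_lit 0x129076534ab8), (nat_lit 0xb29143576a80), (nat_lit 0x15ab76243908), (nat_lit 0x825034976ab1), (nat_lit 0x892076a435b1), (nat_lit 0x125b43967a08),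 (nat_lit 0xb92834a76510), (nat_lit 0xb5a843267910), (nat_lit 0xb52176a34980), (nat_lit 0x52867a4391b), (nat_lit 0xb9a167243580), (nat_lit 0x9a87623451b)]
noncomputable def HB_lR0_W : List (List ℕ) := [[],
  [(nat_lit 0)],
  [(nat_lit 1)],
  [(nat_lit 2)],
  [(nat_lit 3)],
  [(nat_lit 4)],
  [(nat_lit 0), (nat_lit 1)],
  [(nat_lit 0), (nat_lit 2)],
  [(nat_lit 0), (nat_lit 3)],
  [(nat_lit 0), (nat_lit 4)],
  [(nat_lit 1), (nat_lit 2)],
  [(nat_lit 1), (nat_lit 3)],
  [(nat_lit 1), (nat_lit 4)],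
  [(nat_lit 2), (nat_lit 3)],
  [(nat_lit 2), (nat_lit 4)],
  [(nat_lit 3), (nat_lit 2)],
  [(nat_lit 3), (nat_lit 4)],
  [(nat_lit 4), (nat_lit 2)],
  [(nat_lit 4), (nat_lit 3)],
  [(nat_lit 0), (nat_lit 1), (nat_lit 2)],
  [(nat_lit 0), (nat_lit 1), (nat_lit 3)],
  [(nat_lit 0), (nat_lit 1), (nat_lit 4)],
  [(nat_lit 0), (nat_lit 2), (nat_lit 4)],
  [(nat_lit 0), (nat_lit 3), (nat_lit 4)],
  [(nat_lit 0), (nat_lit 4), (nat_lit 2)],
  [(nat_lit 0), (nat_lit 4), (nat_lit 3)],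
  [(nat_lit 1), (nat_lit 2), (nat_lit 3)],
  [(nat_lit 1), (nat_lit 3), (nat_lit 2)],
  [(nat_lit 2), (nat_lit 3), (nat_lit 4)],
  [(nat_lit 2), (nat_lit 4), (nat_lit 3)],
  [(nat_lit 3), (nat_lit 2), (nat_lit 4)],
  [(nat_lit 0), (nat_lit 2), (nat_lit 4), (nat_lit 3)]]
noncomputable def HB_lR0_h (c : ℕ) : ℕ := Nat.mod c (nat_lit 226)
theorem HB_lR0_E {G : Type*} [Group G] {R : ℕ → G → Prop} {z u v a b r x : G} {H : Subgroup G}
    (M : Mdl HB_o HB_cs HB_L R [z, u, v, a, b, r, x, x⁻¹] H) :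
    EnumS R HB_lR0 (sp [z, u, v, a, r]) :=
  enumS_sp M.μ.1 (M.reps.tms M.μ.1 [(.v (nat_lit 0)), (.v (nat_lit 1)), (.v (nat_lit 2)), (.v (nat_lit 3)), (.v (nat_lit 5))] (cs' := [(nat_lit 0xb25867934a10), (nat_lit 0xa916753428b), (nat_lit 0x152034a679b8), (nat_lit 0x8a5b76934201), (nat_lit 0xa584397621b)]) (by decide +kernel))
    (Ws := HB_lR0_W) (by decide +kernel) (by decide +kernel)
theorem HB_lR0_c {G : Type*} [Group G] {R : ℕ → G → Prop} {z u v a b r x : G} {H : Subgroup G}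
    (M : Mdl HB_o HB_cs HB_L R [z, u, v, a, b, r, x, x⁻¹] H) :
    #(sp [z, u, v, a, r]) = 32 :=
  (HB_lR0_E M).card M.μ (h := HB_lR0_h) (by decide +kernel)
noncomputable def HB_lE1 : List ℕ := [(nat_lit 0xba9876543210), (nat_lit 0xb25867934a10), (nat_lit 0xa916753428b), (nat_lit 0x8a5b76934201), (nat_lit 0x25176943a8b), (nat_lit 0x829b67543a01), (nat_lit 0x1a50679432b8), (nat_lit 0x129076534ab8)]
noncomputable def HB_lE1_W : List (List ℕ) := [[],
  [(nat_lit 0)],
  [(nat_lit 1)],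
  [(nat_lit 2)],
  [(nat_lit 0), (nat_lit 1)],
  [(nat_lit 0), (nat_lit 2)],
  [(nat_lit 1), (nat_lit 2)],
  [(nat_lit 0), (nat_lit 1), (nat_lit 2)]]
noncomputable def HB_lE1_h (c : ℕ) : ℕ := Nat.mod c (nat_lit 29)
theorem HB_lE1_E {G : Type*} [Group G] {R : ℕ → G → Prop} {z u v a b r x : G} {H : Subgroup G}
    (M : Mdl HB_o HB_cs HB_L R [z, u, v, a, b, r, x, x⁻¹] H) :
    EnumS R HB_lE1 (sp [z, u, a]) :=
  enumS_sp M.μ.1 (M.reps.tms M.μ.1 [(.v (nat_lit 0)), (.v (nat_lit 1)), (.v (nat_lit 3))] (cs' := [(nat_lit 0xb25867934a10), (nat_lit 0xa916753428b), (nat_lit 0x8a5b76934201)]) (by decide +kernel))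
    (Ws := HB_lE1_W) (by decide +kernel) (by decide +kernel)
theorem HB_lE1_c {G : Type*} [Group G] {R : ℕ → G → Prop} {z u v a b r x : G} {H : Subgroup G}
    (M : Mdl HB_o HB_cs HB_L R [z, u, v, a, b, r, x, x⁻¹] H) :
    #(sp [z, u, a]) = 8 :=
  (HB_lE1_E M).card M.μ (h := HB_lE1_h) (by decide +kernel)
noncomputable def HB_lS2 : List ℕ := [(nat_lit 0xba9876543210), (nat_lit 0xb25867934a10), (nat_lit 0xa916753428b), (nat_lit 0x152034a679b8), (nat_lit 0x741a239568b), (nat_lit 0x25176943a8b), (nat_lit 0x19a0432765b8), (nat_lit 0x6312a45978b), (nat_lit 0x852b43a76901), (nat_lit 0xb7482a359610), (nat_lit 0x836b5972a401), (nat_lit 0xb638a2495710), (nat_lit 0x89ab34267501), (nat_lit 0x847b956a2301), (nat_lit 0x1360957a24b8), (nat_lit 0x14705962a3b8)]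
noncomputable def HB_lS2_W : List (List ℕ) := [[],
  [(nat_lit 0)],
  [(nat_lit 1)],
  [(nat_lit 2)],
  [(nat_lit 3)],
  [(nat_lit 0), (nat_lit 1)],
  [(nat_lit 0), (nat_lit 2)],
  [(nat_lit 0), (nat_lit 3)],
  [(nat_lit 1), (nat_lit 2)],
  [(nat_lit 1), (nat_lit 3)],
  [(nat_lit 2), (nat_lit 3)],
  [(nat_lit 3), (nat_lit 1)],
  [(nat_lit 0), (nat_lit 1), (nat_lit 2)],
  [(nat_lit 0), (nat_lit 2), (nat_lit 3)],
  [(nat_lit 1), (nat_lit 2), (nat_lit 3)],
  [(nat_lit 2), (nat_lit 3), (nat_lit 1)]]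
noncomputable def HB_lS2_h (c : ℕ) : ℕ := Nat.mod c (nat_lit 91)
theorem HB_lS2_E {G : Type*} [Group G] {R : ℕ → G → Prop} {z u v a b r x : G} {H : Subgroup G}
    (M : Mdl HB_o HB_cs HB_L R [z, u, v, a, b, r, x, x⁻¹] H) :
    EnumS R HB_lS2 (sp [z, u, v, b]) :=
  enumS_sp M.μ.1 (M.reps.tms M.μ.1 [(.v (nat_lit 0)), (.v (nat_lit 1)), (.v (nat_lit 2)), (.v (nat_lit 4))] (cs' := [(nat_lit 0xb25867934a10), (nat_lit 0xa916753428b), (nat_lit 0x152034a679b8), (nat_lit 0x741a239568b)]) (by decide +kernel))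
    (Ws := HB_lS2_W) (by decide +kernel) (by decide +kernel)
theorem HB_lS2_c {G : Type*} [Group G] {R : ℕ → G → Prop} {z u v a b r x : G} {H : Subgroup G}
    (M : Mdl HB_o HB_cs HB_L R [z, u, v, a, b, r, x, x⁻¹] H) :
    #(sp [z, u, v, b]) = 16 :=
  (HB_lS2_E M).card M.μ (h := HB_lS2_h) (by decide +kernel)
noncomputable def HB_z_F : Fm := (.all HB_L (.qf (.eq (.mul (.v (nat_lit 0)) (.v (nat_lit 1))) (.mul (.v (nat_lit 1)) (.v (nat_lit 0))))))
theorem HB_z_chk : Fm.chk HB_o HB_z_F HB_cs = true := by decide +kernel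
theorem HB_z {G : Type*} [Group G] {R : ℕ → G → Prop} {z u v a b r x : G} {H : Subgroup G}
    (M : Mdl HB_o HB_cs HB_L R [z, u, v, a, b, r, x, x⁻¹] H) :
    ∀ y ∈ H, y * z = z * y :=
  have h : ∀ y, InL HB_o R HB_L y → y * z = z * y :=
    Fm.sound M.μ HB_z_F HB_z_chk M.reps
  (fun y h0 => (h y (M.H.iff.2 h0)))
noncomputable def HB_T_f_F : Fm := (.qf (.and (.eq (.mul (.v (nat_lit 0)) (.v (nat_lit 0))) .one) (.and (.eq (.mul (.v (nat_lit 1)) (.v (nat_lit 1))) .one) (.and (.eq (.mul (.v (nat_lit 2)) (.v (nat_lit 2))) .one) (.and (.eq (.mul (.v (nat_lit 3)) (.v (nat_lit 3))) .one) (.and (.eq (.mul (.v (nat_lit 4)) (.v (nat_lit 4))) .one) (.and (.eq (.mul (.v (nat_lit 5)) (.v (nat_lit 5))) .one) (.and (.eq (.mul (.v (nat_lit 1)) (.v (nat_lit 2))) (.mul (.v (nat_lit 2)) (.v (nat_lit 1)))) (.and (.eq (.mul (.v (nat_lit 0)) (.v (nat_lit 1))) (.mul (.v (nat_lit 1)) (.v (nat_lit 0)))) (.and (.eq (.mul (.v (nat_lit 0)) (.v (nat_lit 2))) (.mul (.v (nat_lit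 2)) (.v (nat_lit 0)))) (.and (.eq (.mul (.v (nat_lit 0)) (.v (nat_lit 3))) (.mul (.v (nat_lit 3)) (.v (nat_lit 0)))) (.and (.eq (.mul (.v (nat_lit 0)) (.v (nat_lit 4))) (.mul (.v (nat_lit 4)) (.v (nat_lit 0)))) (.and (.eq (.mul (.v (nat_lit 0)) (.v (nat_lit 5))) (.mul (.v (nat_lit 5)) (.v (nat_lit 0)))) (.and (.eq (.mul (.v (nat_lit 1)) (.v (nat_lit 3))) (.mul (.v (nat_lit 3)) (.v (nat_lit 1)))) (.and (.eq (.mul (.v (nat_lit 2)) (.v (nat_lit 4))) (.mul (.v (nat_lit 4)) (.v (nat_lit 2)))) (.and (.eq (.mul (.v (nat_lit 3)) (.v (nat_lit 4))) (.mul (.v (nat_lit 4)) (.v (nat_lit 3)))) (.and (.eq (.mul (.mul (.v (nat_lit 4)) (.v (nat_lit 1))) (.v (nat_lit 4))) (.mul (.v (nat_lit 1)) (.v (nat_lit 0)))) (.and (.eq (.mul (.mul (.v (nat_lit 3)) (.v (nat_lit 2))) (.v (nat_lit 3))) (.mul (.v (nat_lit 2)) (.v (nat_lit 0)))) (.and (.eq (.mul (.v (nat_lit 5)) (.v (nat_lit 1))) (.mul (.v (nat_lit 1)) (.v (nat_lit 5)))) (.and (.eq (.mul (.mul (.v (nat_lit 3))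 (.v (nat_lit 5))) (.v (nat_lit 3))) (.mul (.v (nat_lit 5)) (.v (nat_lit 1)))) (.and (.eq (.mul (.mul (.v (nat_lit 5)) (.v (nat_lit 2))) (.v (nat_lit 5))) (.mul (.mul (.v (nat_lit 1)) (.v (nat_lit 2))) (.v (nat_lit 0)))) (.eq (.mul (.mul (.v (nat_lit 5)) (.v (nat_lit 4))) (.v (nat_lit 5))) (.mul (.mul (.mul (.v (nat_lit 1)) (.v (nat_lit 2))) (.v (nat_lit 3))) (.v (nat_lit 4)))))))))))))))))))))))))
theorem HB_T_f_chk : Fm.chk HB_o HB_T_f_F HB_cs = true := by decide +kernel
theorem HB_T_f {G : Type*} [Group G] {R : ℕ → G → Prop} {z u v a b r x : G} {H : Subgroup G}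
    (M : Mdl HB_o HB_cs HB_L R [z, u, v, a, b, r, x, x⁻¹] H) :
    z * z = 1 ∧ u * u = 1 ∧ v * v = 1 ∧ a * a = 1 ∧ b * b = 1 ∧ r * r = 1 ∧ u * v = v * u ∧ z * u = u * z ∧ z * v = v * z ∧ z * a = a * z ∧ z * b = b * z ∧ z * r = r * z ∧ u * a = a * u ∧ v * b = b * v ∧ a * b = b * a ∧ b * u * b = u * z ∧ a * v * a = v * z ∧ r * u = u * r ∧ a * r * a = r * u ∧ r * v * r = u * v * z ∧ r * b * r = u * v * a * b :=
  Fm.sound M.μ HB_T_f_F HB_T_f_chk M.reps
theorem HB_T {G : Type*} [Group G] {R : ℕ → G → Prop} {z u v a b r x : G} {H : Subgroup G}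
    (M : Mdl HB_o HB_cs HB_L R [z, u, v, a, b, r, x, x⁻¹] H) :
    TB z u v a b r :=
  have h := HB_T_f M
  ⟨h.1, h.2.1, h.2.2.1, h.2.2.2.1, h.2.2.2.2.1, h.2.2.2.2.2.1, h.2.2.2.2.2.2.1, h.2.2.2.2.2.2.2.1, h.2.2.2.2.2.2.2.2.1, h.2.2.2.2.2.2.2.2.2.1, h.2.2.2.2.2.2.2.2.2.2.1, h.2.2.2.2.2.2.2.2.2.2.2.1, h.2.2.2.2.2.2.2.2.2.2.2.2.1, h.2.2.2.2.2.2.2.2.2.2.2.2.2.1, h.2.2.2.2.2.2.2.2.2.2.2.2.2.2.1, h.2.2.2.2.2.2.2.2.2.2.2.2.2.2.2.1, h.2.2.2.2.2.2.2.2.2.2.2.2.2.2.2.2.1, h.2.2.2.2.2.2.2.2.2.2.2.2.2.2.2.2.2.1, h.2.2.2.2.2.2.2.2.2.2.2.2.2.2.2.2.2.2.1, h.2.2.2.2.2.2.2.2.2.2.2.2.2.2.2.2.2.2.2.1, h.2.2.2.2.2.2.2.2.2.2.2.2.2.2.2.2.2.2.2.2, trivial⟩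
noncomputable def HB_rz_f_F : Fm := (.qf (.and (.eq (.mul (.mul (.v (nat_lit 5)) (.v (nat_lit 0))) (.mul (.v (nat_lit 5)) (.v (nat_lit 0)))) .one) (.and (.eq (.mul (.mul (.mul (.v (nat_lit 5)) (.v (nat_lit 0))) (.v (nat_lit 6))) (.inv (.mul (.v (nat_lit 5)) (.v (nat_lit 0))))) (.v (nat_lit 7))) (.and (.eq (.mul (.mul (.v (nat_lit 5)) (.v (nat_lit 0))) (.v (nat_lit 1))) (.mul (.v (nat_lit 1)) (.mul (.v (nat_lit 5)) (.v (nat_lit 0))))) (.and (.eq (.mul (.mul (.mul (.v (nat_lit 5)) (.v (nat_lit 0))) (.v (nat_lit 2))) (.inv (.mul (.v (nat_lit 5)) (.v (nat_lit 0))))) (.mul (.mul (.v (nat_lit 1)) (.v (nat_lit 2))) (.v (nat_lit 0)))) (.eq (.mul (.mul (.v (nat_lit 5)) (.v (nat_lit 0))) (.v (nat_lit 0))) (.mul (.v (nat_lit 0)) (.mul (.v (nat_lit 5)) (.v (nat_lit 0))))))))))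
theorem HB_rz_f_chk : Fm.chk HB_o HB_rz_f_F HB_cs = true := by decide +kernel
theorem HB_rz_f {G : Type*} [Group G] {R : ℕ → G → Prop} {z u v a b r x : G} {H : Subgroup G}
    (M : Mdl HB_o HB_cs HB_L R [z, u, v, a, b, r, x, x⁻¹] H) :
    r * z * (r * z) = 1 ∧ r * z * x * (r * z)⁻¹ = x⁻¹ ∧ r * z * u = u * (r * z) ∧ r * z * v * (r * z)⁻¹ = u * v * z ∧ r * z * z = z * (r * z) :=
  Fm.sound M.μ HB_rz_f_F HB_rz_f_chk M.reps
theorem HB_rz {G : Type*} [Group G] {R : ℕ → G → Prop} {z u v a b r x : G} {H : Subgroup G}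
    (M : Mdl HB_o HB_cs HB_L R [z, u, v, a, b, r, x, x⁻¹] H) :
    RB z u v (r * z) x :=
  have h := HB_rz_f M
  ⟨h.1, h.2.1, h.2.2.1, h.2.2.2.1, h.2.2.2.2, trivial⟩
noncomputable def HB_cQ_F : Fm := (.all HB_L (.imp (.eq (.mul (.v (nat_lit 0)) (.v (nat_lit 2))) (.mul (.v (nat_lit 2)) (.v (nat_lit 0)))) (.imp (.eq (.mul (.v (nat_lit 0)) (.v (nat_lit 3))) (.mul (.v (nat_lit 3)) (.v (nat_lit 0)))) (.imp (.eq (.mul (.v (nat_lit 0)) (.v (nat_lit 4))) (.mul (.v (nat_lit 4)) (.v (nat_lit 0)))) (.imp (.eq (.mul (.v (nat_lit 0)) (.v (nat_lit 5))) (.mul (.v (nat_lit 5)) (.v (nat_lit 0)))) (.qf (.mem (.v (nat_lit 0)) HB_lQ)))))))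
theorem HB_cQ_chk : Fm.chk HB_o HB_cQ_F HB_cs = true := by decide +kernel
theorem HB_cQ {G : Type*} [Group G] {R : ℕ → G → Prop} {z u v a b r x : G} {H : Subgroup G}
    (M : Mdl HB_o HB_cs HB_L R [z, u, v, a, b, r, x, x⁻¹] H) :
    ∀ y ∈ H, y * u = u * y → y * v = v * y → y * a = a * y → y * b = b * y → y ∈ sp [z, u, v, a, b] :=
  have h : ∀ y, InL HB_o R HB_L y → y * u = u * y → y * v = v * y → y * a = a * y → y * b = b * y → InS R HB_lQ (y) :=
    Fm.sound M.μ HB_cQ_F HB_cQ_chk M.reps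
  (fun y h0 => (fun h1 => (fun h2 => (fun h3 => (fun h4 => ((HB_lQ_E M).iff.1 (((((h y (M.H.iff.2 h0)) h1) h2) h3) h4)))))))
noncomputable def HB_nQ_F : Fm := (.all HB_L (.allS HB_lQ (.qf (.mem (.mul (.mul (.v (nat_lit 1)) (.v (nat_lit 0))) (.inv (.v (nat_lit 1)))) HB_lQ))))
theorem HB_nQ_chk : Fm.chk HB_o HB_nQ_F HB_cs = true := by decide +kernel
theorem HB_nQ {G : Type*} [Group G] {R : ℕ → G → Prop} {z u v a b r x : G} {H : Subgroup G}
    (M : Mdl HB_o HB_cs HB_L R [z, u, v, a, b, r, x, x⁻¹] H) :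
    ∀ y ∈ H, ∀ e ∈ sp [z, u, v, a, b], y * e * y⁻¹ ∈ sp [z, u, v, a, b] :=
  have h : ∀ y, InL HB_o R HB_L y → ∀ e, InS R HB_lQ e → InS R HB_lQ (y * e * y⁻¹) :=
    Fm.sound M.μ HB_nQ_F HB_nQ_chk M.reps
  (fun y h0 => (fun e h1 => ((HB_lQ_E M).iff.1 ((h y (M.H.iff.2 h0)) e ((HB_lQ_E M).iff.2 h1)))))
noncomputable def HB_R0_F : Fm := (.all HB_L (.imp (.eq (.mul (.v (nat_lit 0)) (.v (nat_lit 2))) (.mul (.v (nat_lit 2)) (.v (nat_lit 0)))) (.qf (.mem (.v (nat_lit 0)) HB_lR0))))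
theorem HB_R0_chk : Fm.chk HB_o HB_R0_F HB_cs = true := by decide +kernel
theorem HB_R0 {G : Type*} [Group G] {R : ℕ → G → Prop} {z u v a b r x : G} {H : Subgroup G}
    (M : Mdl HB_o HB_cs HB_L R [z, u, v, a, b, r, x, x⁻¹] H) :
    ∀ y ∈ H, y * u = u * y → y ∈ sp [z, u, v, a, r] :=
  have h : ∀ y, InL HB_o R HB_L y → y * u = u * y → InS R HB_lR0 (y) :=
    Fm.sound M.μ HB_R0_F HB_R0_chk M.reps
  (fun y h0 => (fun h1 => ((HB_lR0_E M).iff.1 ((h y (M.H.iff.2 h0)) h1))))
noncomputable def HB_clsQ_t0 : ST := (.node (nat_lit 20) (.node (nat_lit 8) (.node (nat_lit 3) (.node (nat_lit 1) (.leaf (nat_lit 3)) (.leaf (nat_lit 48))) (.node (nat_lit 7) (.leaf (nat_lit 64)) (.leaf (nat_lit 0)))) (.node (nat_lit 15) (.node (nat_lit 12) (.leaf (nat_lit 136)) (.leaf (nat_lit 24))) (.node (nat_lit 16) (.leaf (nat_lit 160)) (.node (nat_lit 17) (.leaf (nat_lit 40)) (.leaf (nat_lit 120)))))) (.node (nat_lit 34) (.node (nat_lit 26) (.node (nat_lit 25) (.leaf (nat_lit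 112)) (.leaf (nat_lit 96))) (.node (nat_lit 31) (.leaf (nat_lit 16)) (.leaf (nat_lit 24)))) (.node (nat_lit 42) (.node (nat_lit 37) (.leaf (nat_lit 27)) (.leaf (nat_lit 144))) (.node (nat_lit 45) (.leaf (nat_lit 99)) (.node (nat_lit 58) (.leaf (nat_lit 0)) (.leaf (nat_lit 96)))))))
noncomputable def HB_clsQ_F : Fm := (.allS HB_lQ (.imp (.eq (.mul (.v (nat_lit 0)) (.v (nat_lit 0))) .one) (.or (.qf (.eq (.v (nat_lit 0)) .one)) (.or (.qf (.eq (.v (nat_lit 0)) (.v (nat_lit 1)))) (.exF HB_L (fun cs => HB_clsQ_t0.find (Nat.mod (nth (nat_lit 0) cs (nat_lit 0)) (nat_lit 59))) (.qf (.or (.eq (.mul (.mul (.v (nat_lit 0)) (.v (nat_lit 1))) (.inv (.v (nat_lit 0)))) (.v (nat_lit 3))) (.eq (.mul (.mul (.v (nat_lit 0)) (.v (nat_lit 1))) (.inv (.v (nat_lit 0)))) (.v (nat_lit 4))))))))))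
theorem HB_clsQ_chk : Fm.chk HB_o HB_clsQ_F HB_cs = true := by decide +kernel
theorem HB_clsQ {G : Type*} [Group G] {R : ℕ → G → Prop} {z u v a b r x : G} {H : Subgroup G}
    (M : Mdl HB_o HB_cs HB_L R [z, u, v, a, b, r, x, x⁻¹] H) :
    ∀ y ∈ sp [z, u, v, a, b], y * y = 1 → y = 1 ∨ y = z ∨ (∃ h ∈ H, h * y * h⁻¹ = u ∨ h * y * h⁻¹ = v) :=
  have h : ∀ y, InS R HB_lQ y → y * y = 1 → y = 1 ∨ y = z ∨ (Good HB_o R HB_L → prods HB_o HB_L HB_o.one ≠ [] → ∃ h, InL HB_o R HB_L h ∧ (h * y * h⁻¹ = u ∨ h * y * h⁻¹ = v)) :=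
    Fm.sound M.μ HB_clsQ_F HB_clsQ_chk M.reps
  (fun y h0 => (fun h1 => (Or.imp (fun h2 => h2) (fun h2 => (Or.imp (fun h3 => h3) (fun h3 => (Exists.imp (fun h h4 => ⟨M.H.iff.1 h4.1, h4.2⟩) (h3 M.H.good M.H.ne))) h2)) ((h y ((HB_lQ_E M).iff.2 h0)) h1))))
noncomputable def HB_cls_t0 : ST := (.node (nat_lit 143) (.node (nat_lit 51) (.node (nat_lit 26) (.node (nat_lit 8) (.node (nat_lit 4) (.leaf (nat_lit 67)) (.leaf (nat_lit 43))) (.node (nat_lit 17) (.leaf (nat_lit 27)) (.node (nat_lit 19) (.leaf (nat_lit 40)) (.leaf (nat_lit 99))))) (.node (nat_lit 42) (.node (nat_lit 29) (.leaf (nat_lit 48)) (.leaf (nat_lit 3))) (.node (nat_lit 44) (.leaf (nat_lit 48)) (.node (nat_lit 50) (.leaf (nat_lit 115)) (.leaf (nat_lit 123)))))) (.node (nat_lit 101) (.node (nat_lit 71) (.node (nat_lit 65) (.leaf (nat_lit 144)) (.leaf (nat_lit 136))) (.node (nat_lit 76) (.leaf (nat_lit 98)) (.node (nat_lit 100) (.leaf (nat_lit 0)) (.leaf (nat_lit 122))))) (.node (nat_lit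 110) (.node (nat_lit 103) (.leaf (nat_lit 50)) (.leaf (nat_lit 24))) (.node (nat_lit 118) (.leaf (nat_lit 139)) (.node (nat_lit 142) (.leaf (nat_lit 26)) (.leaf (nat_lit 99))))))) (.node (nat_lit 207) (.node (nat_lit 179) (.node (nat_lit 157) (.node (nat_lit 151) (.leaf (nat_lit 120)) (.leaf (nat_lit 147))) (.node (nat_lit 174) (.leaf (nat_lit 160)) (.node (nat_lit 176) (.leaf (nat_lit 27)) (.leaf (nat_lit 51))))) (.node (nat_lit 191) (.node (nat_lit 183) (.leaf (nat_lit 0)) (.leaf (nat_lit 16))) (.node (nat_lit 198) (.leaf (nat_lit 3)) (.node (nat_lit 199) (.leaf (nat_lit 2)) (.leaf (nat_lit 0)))))) (.node (nat_lit 238) (.node (nat_lit 213) (.node (nat_lit 212) (.leaf (nat_lit 19)) (.leaf (nat_lit 24))) (.node (nat_lit 226) (.leaf (nat_lit 64)) (.node (nat_lit 233) (.leaf (nat_lit 96)) (.leaf (nat_lit 163))))) (.node (nat_lit 247) (.node (nat_lit 240) (.leaf (nat_lit 120)) (.node (nat_lit 246) (.leaf (nat_lit 96)) (.leaf (nat_lit 146)))) (.node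 (nat_lit 254) (.leaf (nat_lit 112)) (.node (nat_lit 263) (.leaf (nat_lit 24)) (.leaf (nat_lit 96))))))))
noncomputable def HB_cls_F : Fm := (.all HB_L (.imp (.eq (.mul (.v (nat_lit 0)) (.v (nat_lit 0))) .one) (.or (.qf (.eq (.v (nat_lit 0)) .one)) (.or (.qf (.eq (.v (nat_lit 0)) (.v (nat_lit 1)))) (.exF HB_L (fun cs => HB_cls_t0.find (Nat.mod (nth (nat_lit 0) cs (nat_lit 0)) (nat_lit 274))) (.qf (.or (.eq (.mul (.mul (.v (nat_lit 0)) (.v (nat_lit 1))) (.inv (.v (nat_lit 0)))) (.v (nat_lit 3))) (.or (.eq (.mul (.mul (.v (nat_lit 0)) (.v (nat_lit 1))) (.inv (.v (nat_lit 0)))) (.v (nat_lit 4))) (.eq (.mul (.mul (.v (nat_lit 0)) (.v (nat_lit 1))) (.inv (.v (nat_lit 0)))) (.v (nat_lit 7)))))))))))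
theorem HB_cls_chk : Fm.chk HB_o HB_cls_F HB_cs = true := by decide +kernel
theorem HB_cls {G : Type*} [Group G] {R : ℕ → G → Prop} {z u v a b r x : G} {H : Subgroup G}
    (M : Mdl HB_o HB_cs HB_L R [z, u, v, a, b, r, x, x⁻¹] H) :
    ∀ y ∈ H, y * y = 1 → y = 1 ∨ y = z ∨ (∃ h ∈ H, h * y * h⁻¹ = u ∨ h * y * h⁻¹ = v ∨ h * y * h⁻¹ = r) :=
  have h : ∀ y, InL HB_o R HB_L y → y * y = 1 → y = 1 ∨ y = z ∨ (Good HB_o R HB_L → prods HB_o HB_L HB_o.one ≠ [] → ∃ h, InL HB_o R HB_L h ∧ (h * y * h⁻¹ = u ∨ h * y * h⁻¹ = v ∨ h * y * h⁻¹ = r)) :=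
    Fm.sound M.μ HB_cls_F HB_cls_chk M.reps
  (fun y h0 => (fun h1 => (Or.imp (fun h2 => h2) (fun h2 => (Or.imp (fun h3 => h3) (fun h3 => (Exists.imp (fun h h4 => ⟨M.H.iff.1 h4.1, h4.2⟩) (h3 M.H.good M.H.ne))) h2)) ((h y (M.H.iff.2 h0)) h1))))
noncomputable def HB_clsE_t0 : ST := (.node (nat_lit 142) (.node (nat_lit 51) (.node (nat_lit 29) (.node (nat_lit 17) (.node (nat_lit 4) (.leaf (nat_lit 67)) (.leaf (nat_lit 43))) (.node (nat_lit 26) (.leaf (nat_lit 40)) (.leaf (nat_lit 48)))) (.node (nat_lit 44) (.node (nat_lit 42) (.leaf (nat_lit 3)) (.leaf (nat_lit 48))) (.node (nat_lit 50) (.leaf (nat_lit 115)) (.leaf (nat_lit 123))))) (.node (nat_lit 100) (.node (nat_lit 71) (.node (nat_lit 65) (.leaf (nat_lit 144)) (.leaf (nat_lit 136))) (.node (nat_lit 76) (.leaf (nat_lit 98)) (.leaf (nat_lit 0)))) (.node (nat_lit 103) (.node (nat_lit 101) (.leaf (nat_lit 122)) (.leaf (nat_lit 50))) (.node (nat_lit 110) (.leaf (nat_lit 24)) (.node (nat_lit 118) (.leaf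 (nat_lit 139)) (.leaf (nat_lit 26))))))) (.node (nat_lit 207) (.node (nat_lit 174) (.node (nat_lit 151) (.node (nat_lit 143) (.leaf (nat_lit 99)) (.leaf (nat_lit 120))) (.node (nat_lit 157) (.leaf (nat_lit 147)) (.leaf (nat_lit 160)))) (.node (nat_lit 183) (.node (nat_lit 176) (.leaf (nat_lit 27)) (.leaf (nat_lit 51))) (.node (nat_lit 198) (.leaf (nat_lit 16)) (.node (nat_lit 199) (.leaf (nat_lit 2)) (.leaf (nat_lit 0)))))) (.node (nat_lit 233) (.node (nat_lit 213) (.node (nat_lit 212) (.leaf (nat_lit 19)) (.leaf (nat_lit 24))) (.node (nat_lit 226) (.leaf (nat_lit 64)) (.leaf (nat_lit 96)))) (.node (nat_lit 240) (.node (nat_lit 238) (.leaf (nat_lit 163)) (.leaf (nat_lit 120))) (.node (nat_lit 246) (.leaf (nat_lit 96)) (.node (nat_lit 247) (.leaf (nat_lit 146)) (.leaf (nat_lit 112))))))))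
noncomputable def HB_clsE_F : Fm := (.all HB_L (.imp (.eq (.mul (.v (nat_lit 0)) (.v (nat_lit 0))) .one) (.or (.qf (.mem (.v (nat_lit 0)) HB_lE1)) (.exF HB_L (fun cs => HB_clsE_t0.find (Nat.mod (nth (nat_lit 0) cs (nat_lit 0)) (nat_lit 274))) (.qf (.or (.eq (.mul (.mul (.v (nat_lit 0)) (.v (nat_lit 1))) (.inv (.v (nat_lit 0)))) (.v (nat_lit 4))) (.eq (.mul (.mul (.v (nat_lit 0)) (.v (nat_lit 1))) (.inv (.v (nat_lit 0)))) (.v (nat_lit 7)))))))))
theorem HB_clsE_chk : Fm.chk HB_o HB_clsE_F HB_cs = true := by decide +kernel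
theorem HB_clsE {G : Type*} [Group G] {R : ℕ → G → Prop} {z u v a b r x : G} {H : Subgroup G}
    (M : Mdl HB_o HB_cs HB_L R [z, u, v, a, b, r, x, x⁻¹] H) :
    ∀ y ∈ H, y * y = 1 → y ∈ sp [z, u, a] ∨ (∃ h ∈ H, h * y * h⁻¹ = v ∨ h * y * h⁻¹ = r) :=
  have h : ∀ y, InL HB_o R HB_L y → y * y = 1 → InS R HB_lE1 (y) ∨ (Good HB_o R HB_L → prods HB_o HB_L HB_o.one ≠ [] → ∃ h, InL HB_o R HB_L h ∧ (h * y * h⁻¹ = v ∨ h * y * h⁻¹ = r)) :=
    Fm.sound M.μ HB_clsE_F HB_clsE_chk M.reps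
  (fun y h0 => (fun h1 => (Or.imp (fun h2 => ((HB_lE1_E M).iff.1 h2)) (fun h2 => (Exists.imp (fun h h3 => ⟨M.H.iff.1 h3.1, h3.2⟩) (h2 M.H.good M.H.ne))) ((h y (M.H.iff.2 h0)) h1))))
noncomputable def HB_E2_F : Fm := (.allS HB_lE1 (.qf (.eq (.mul (.v (nat_lit 0)) (.v (nat_lit 0))) .one)))
theorem HB_E2_chk : Fm.chk HB_o HB_E2_F HB_cs = true := by decide +kernel
theorem HB_E2 {G : Type*} [Group G] {R : ℕ → G → Prop} {z u v a b r x : G} {H : Subgroup G}
    (M : Mdl HB_o HB_cs HB_L R [z, u, v, a, b, r, x, x⁻¹] H) :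
    ∀ y ∈ sp [z, u, a], y * y = 1 :=
  have h : ∀ y, InS R HB_lE1 y → y * y = 1 :=
    Fm.sound M.μ HB_E2_F HB_E2_chk M.reps
  (fun y h0 => (h y ((HB_lE1_E M).iff.2 h0)))
noncomputable def HB_nE_F : Fm := (.all HB_L (.allS HB_lE1 (.qf (.mem (.mul (.mul (.v (nat_lit 1)) (.v (nat_lit 0))) (.inv (.v (nat_lit 1)))) HB_lE1))))
theorem HB_nE_chk : Fm.chk HB_o HB_nE_F HB_cs = true := by decide +kernel
theorem HB_nE {G : Type*} [Group G] {R : ℕ → G → Prop} {z u v a b r x : G} {H : Subgroup G}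
    (M : Mdl HB_o HB_cs HB_L R [z, u, v, a, b, r, x, x⁻¹] H) :
    ∀ y ∈ H, ∀ e ∈ sp [z, u, a], y * e * y⁻¹ ∈ sp [z, u, a] :=
  have h : ∀ y, InL HB_o R HB_L y → ∀ e, InS R HB_lE1 e → InS R HB_lE1 (y * e * y⁻¹) :=
    Fm.sound M.μ HB_nE_F HB_nE_chk M.reps
  (fun y h0 => (fun e h1 => ((HB_lE1_E M).iff.1 ((h y (M.H.iff.2 h0)) e ((HB_lE1_E M).iff.2 h1)))))
noncomputable def HB_cE_F : Fm := (.all HB_L (.imp (.eq (.mul (.v (nat_lit 0)) (.v (nat_lit 2))) (.mul (.v (nat_lit 2)) (.v (nat_lit 0)))) (.imp (.eq (.mul (.v (nat_lit 0)) (.v (nat_lit 4))) (.mul (.v (nat_lit 4)) (.v (nat_lit 0)))) (.qf (.mem (.v (nat_lit 0)) HB_lE1)))))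
theorem HB_cE_chk : Fm.chk HB_o HB_cE_F HB_cs = true := by decide +kernel
theorem HB_cE {G : Type*} [Group G] {R : ℕ → G → Prop} {z u v a b r x : G} {H : Subgroup G}
    (M : Mdl HB_o HB_cs HB_L R [z, u, v, a, b, r, x, x⁻¹] H) :
    ∀ y ∈ H, y * u = u * y → y * a = a * y → y ∈ sp [z, u, a] :=
  have h : ∀ y, InL HB_o R HB_L y → y * u = u * y → y * a = a * y → InS R HB_lE1 (y) :=
    Fm.sound M.μ HB_cE_F HB_cE_chk M.reps
  (fun y h0 => (fun h1 => (fun h2 => ((HB_lE1_E M).iff.1 (((h y (M.H.iff.2 h0)) h1) h2)))))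
noncomputable def HB_E1_t0 : ST := (.node (nat_lit 20) (.node (nat_lit 13) (.leaf (nat_lit 0)) (.node (nat_lit 14) (.leaf (nat_lit 3)) (.leaf (nat_lit 114)))) (.node (nat_lit 22) (.leaf (nat_lit 96)) (.node (nat_lit 24) (.leaf (nat_lit 112)) (.leaf (nat_lit 98)))))
noncomputable def HB_E1_F : Fm := (.allS HB_lE1 (.or (.qf (.eq (.v (nat_lit 0)) .one)) (.or (.qf (.eq (.v (nat_lit 0)) (.v (nat_lit 1)))) (.exF HB_L (fun cs => HB_E1_t0.find (Nat.mod (nth (nat_lit 0) cs (nat_lit 0)) (nat_lit 31))) (.qf (.eq (.mul (.mul (.v (nat_lit 0)) (.v (nat_lit 3))) (.inv (.v (nat_lit 0)))) (.v (nat_lit 1))))))))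
theorem HB_E1_chk : Fm.chk HB_o HB_E1_F HB_cs = true := by decide +kernel
theorem HB_E1 {G : Type*} [Group G] {R : ℕ → G → Prop} {z u v a b r x : G} {H : Subgroup G}
    (M : Mdl HB_o HB_cs HB_L R [z, u, v, a, b, r, x, x⁻¹] H) :
    ∀ e ∈ sp [z, u, a], e = 1 ∨ e = z ∨ (∃ h ∈ H, h * u * h⁻¹ = e) :=
  have h : ∀ e, InS R HB_lE1 e → e = 1 ∨ e = z ∨ (Good HB_o R HB_L → prods HB_o HB_L HB_o.one ≠ [] → ∃ h, InL HB_o R HB_L h ∧ h * u * h⁻¹ = e) :=
    Fm.sound M.μ HB_E1_F HB_E1_chk M.reps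
  (fun e h0 => (Or.imp (fun h1 => h1) (fun h1 => (Or.imp (fun h2 => h2) (fun h2 => (Exists.imp (fun h h3 => ⟨M.H.iff.1 h3.1, h3.2⟩) (h2 M.H.good M.H.ne))) h1)) (h e ((HB_lE1_E M).iff.2 h0))))
noncomputable def HB_v_F : Fm := (.all HB_L (.imp (.eq (.mul (.v (nat_lit 0)) (.v (nat_lit 3))) (.mul (.v (nat_lit 3)) (.v (nat_lit 0)))) (.qf (.and (.mem (.v (nat_lit 0)) HB_lQ) (.mem (.v (nat_lit 0)) HB_lS2)))))
theorem HB_v_chk : Fm.chk HB_o HB_v_F HB_cs = true := by decide +kernel
theorem HB_v {G : Type*} [Group G] {R : ℕ → G → Prop} {z u v a b r x : G} {H : Subgroup G}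
    (M : Mdl HB_o HB_cs HB_L R [z, u, v, a, b, r, x, x⁻¹] H) :
    ∀ y ∈ H, y * v = v * y → y ∈ sp [z, u, v, a, b] ∧ y ∈ sp [z, u, v, b] :=
  have h : ∀ y, InL HB_o R HB_L y → y * v = v * y → InS R HB_lQ (y) ∧ InS R HB_lS2 (y) :=
    Fm.sound M.μ HB_v_F HB_v_chk M.reps
  (fun y h0 => (fun h1 => ((and_congr (HB_lQ_E M).iff (HB_lS2_E M).iff).1 ((h y (M.H.iff.2 h0)) h1))))
noncomputable def HB_e_F : Fm := (.qf (.and (.eq (.mul (.mul (.v (nat_lit 6)) (.v (nat_lit 2))) (.v (nat_lit 7))) (.v (nat_lit 4))) (.and (.eq (.mul (.mul (.v (nat_lit 6)) (.v (nat_lit 4))) (.v (nat_lit 7))) (.mul (.v (nat_lit 4)) (.v (nat_lit 2)))) (.and (.eq (.mul (.mul (.v (nat_lit 3)) (.mul (.v (nat_lit 0)) (.v (nat_lit 2)))) (.inv (.v (nat_lit 3)))) (.v (nat_lit 2))) (.and (.not (.eq (.v (nat_lit 2)) .one)) (.and (.not (.eq (.v (nat_lit 2)) (.v (nat_lit 0)))) (.and (.eq (.mul (.v (nat_lit 0)) (.v (nat_lit 2))) (.mul (.v (nat_lit 2)) (.v (nat_lit 0)))) (.eq (.mul (.mul (.mul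 (.mul (.v (nat_lit 3)) (.v (nat_lit 5))) (.inv (.v (nat_lit 3)))) (.v (nat_lit 4))) (.inv (.mul (.mul (.mul (.v (nat_lit 3)) (.v (nat_lit 5))) (.inv (.v (nat_lit 3)))) (.v (nat_lit 4))))) .one))))))))
theorem HB_e_chk : Fm.chk HB_o HB_e_F HB_cs = true := by decide +kernel
theorem HB_e {G : Type*} [Group G] {R : ℕ → G → Prop} {z u v a b r x : G} {H : Subgroup G}
    (M : Mdl HB_o HB_cs HB_L R [z, u, v, a, b, r, x, x⁻¹] H) :
    x * v * x⁻¹ = b ∧ x * b * x⁻¹ = b * v ∧ a * (z * v) * a⁻¹ = v ∧ v ≠ 1 ∧ v ≠ z ∧ z * v = v * z ∧ a * r * a⁻¹ * b * (a * r * a⁻¹ * b)⁻¹ = 1 :=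
  Fm.sound M.μ HB_e_F HB_e_chk M.reps
noncomputable def HB_d_F : Fm := (.qf (.and (.not (.eq (.mul (.mul (.mul (.v (nat_lit 6)) (.v (nat_lit 5))) (.v (nat_lit 7))) (.mul (.v (nat_lit 0)) (.v (nat_lit 1)))) (.mul (.mul (.v (nat_lit 0)) (.v (nat_lit 1))) (.mul (.mul (.v (nat_lit 6)) (.v (nat_lit 5))) (.v (nat_lit 7)))))) (.and (.not (.eq (.mul (.mul (.mul (.v (nat_lit 6)) (.v (nat_lit 5))) (.v (nat_lit 7))) (.v (nat_lit 5))) (.mul (.v (nat_lit 5)) (.mul (.mul (.v (nat_lit 6)) (.v (nat_lit 5))) (.v (nat_lit 7)))))) (.not (.eq (.mul (.mul (.mul (.v (nat_lit 6)) (.v (nat_lit 5))) (.v (nat_lit 7))) (.mul (.mul (.v (nat_lit 0)) (.v (nat_lit 1))) (.v (nat_lit 5)))) (.mul (.mul (.mul (.v (nat_lit 0)) (.v (nat_lit 1))) (.v (nat_lit 5))) (.mul (.mul (.v (nat_lit 6)) (.v (nat_lit 5))) (.v (nat_lit 7)))))))))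
theorem HB_d_chk : Fm.chk HB_o HB_d_F HB_cs = true := by decide +kernel
theorem HB_d {G : Type*} [Group G] {R : ℕ → G → Prop} {z u v a b r x : G} {H : Subgroup G}
    (M : Mdl HB_o HB_cs HB_L R [z, u, v, a, b, r, x, x⁻¹] H) :
    x * r * x⁻¹ * (z * u) ≠ z * u * (x * r * x⁻¹) ∧ x * r * x⁻¹ * r ≠ r * (x * r * x⁻¹) ∧ x * r * x⁻¹ * (z * u * r) ≠ z * u * r * (x * r * x⁻¹) :=
  Fm.sound M.μ HB_d_F HB_d_chk M.reps
noncomputable def PB_r_R : List (List ℕ) := [[0,0],
  [1,1],
  [2,2],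
  [3,3],
  [4,4],
  [5,5],
  [6,7],
  [7,6],
  [2,1,2,1],
  [1,0,1,0],
  [2,0,2,0],
  [3,0,3,0],
  [4,0,4,0],
  [5,0,5,0],
  [3,1,3,1],
  [4,2,4,2],
  [4,3,4,3],
  [1,0,4,1,4],
  [2,0,3,2,3],
  [1,5,1,5],
  [5,1,3,5,3],
  [1,2,0,5,2,5],
  [1,2,3,4,5,4,5],
  [6,6,6],
  [1,7,0,6],
  [0,1,7,1,6],
  [2,7,2,6],
  [3,7,5,6],
  [4,5,4,7,3,6],
  [6,4,6,4]]
theorem PB_r {G : Type*} [Group G] {z u v a b r p : G}
    (t : TB z u v a b r)
    (hp : PB z u v a b r p) :
    Rels (nthG [z, u, v, a, b, r, p, p⁻¹]) PB_r_R :=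
  rels_of_eqs ((InvI.cons t.1 (InvI.cons t.2.1 (InvI.cons t.2.2.1 (InvI.cons t.2.2.2.1 (InvI.cons t.2.2.2.2.1 (InvI.cons t.2.2.2.2.2.1 InvI.nil)))))) : InvI [z, u, v, a, b, r, p] [(nat_lit 0), (nat_lit 1), (nat_lit 2), (nat_lit 3), (nat_lit 4), (nat_lit 5)])
    (AllEq.append (show AllEq [z, u, v, a, b, r, p] [((.mul (.v (nat_lit 0)) (.v (nat_lit 0))), .one), ((.mul (.v (nat_lit 1)) (.v (nat_lit 1))), .one), ((.mul (.v (nat_lit 2)) (.v (nat_lit 2))), .one), ((.mul (.v (nat_lit 3)) (.v (nat_lit 3))), .one), ((.mul (.v (nat_lit 4)) (.v (nat_lit 4))), .one), ((.mul (.v (nat_lit 5)) (.v (nat_lit 5))), .one), ((.mul (.v (nat_lit 1)) (.v (nat_lit 2))), (.mul (.v (nat_lit 2)) (.v (nat_lit 1)))), ((.mul (.v (nat_lit 0)) (.v (nat_lit 1))), (.mul (.v (nat_lit 1)) (.v (nat_lit 0)))), ((.mul (.v (nat_lit 0)) (.v (nat_lit 2))), (.mul (.v (nat_lit 2)) (.v (nat_lit 0)))), ((.mul (.v (nat_lit 0)) (.v (nat_lit 3))), (.mul (.v (nat_lit 3)) (.v (nat_lit 0)))), ((.mul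 (.v (nat_lit 0)) (.v (nat_lit 4))), (.mul (.v (nat_lit 4)) (.v (nat_lit 0)))), ((.mul (.v (nat_lit 0)) (.v (nat_lit 5))), (.mul (.v (nat_lit 5)) (.v (nat_lit 0)))), ((.mul (.v (nat_lit 1)) (.v (nat_lit 3))), (.mul (.v (nat_lit 3)) (.v (nat_lit 1)))), ((.mul (.v (nat_lit 2)) (.v (nat_lit 4))), (.mul (.v (nat_lit 4)) (.v (nat_lit 2)))), ((.mul (.v (nat_lit 3)) (.v (nat_lit 4))), (.mul (.v (nat_lit 4)) (.v (nat_lit 3)))), ((.mul (.mul (.v (nat_lit 4)) (.v (nat_lit 1))) (.v (nat_lit 4))), (.mul (.v (nat_lit 1)) (.v (nat_lit 0)))), ((.mul (.mul (.v (nat_lit 3)) (.v (nat_lit 2))) (.v (nat_lit 3))), (.mul (.v (nat_lit 2)) (.v (nat_lit 0)))), ((.mul (.v (nat_lit 5)) (.v (nat_lit 1))), (.mul (.v (nat_lit 1)) (.v (nat_lit 5)))), ((.mul (.mul (.v (nat_lit 3)) (.v (nat_lit 5))) (.v (nat_lit 3))), (.mul (.v (nat_lit 5)) (.v (nat_lit 1)))), ((.mul (.mul (.v (nat_lit 5)) (.v (nat_lit 2))) (.v (nat_lit 5))), (.mul (.mul (.v (nat_lit 1)) (.v (nat_lit 2))) (.v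 (nat_lit 0)))), ((.mul (.mul (.v (nat_lit 5)) (.v (nat_lit 4))) (.v (nat_lit 5))), (.mul (.mul (.mul (.v (nat_lit 1)) (.v (nat_lit 2))) (.v (nat_lit 3))) (.v (nat_lit 4))))] from t)
    (show AllEq [z, u, v, a, b, r, p] [((.pw (.v (nat_lit 6)) (nat_lit 3)), .one), ((.mul (.mul (.v (nat_lit 6)) (.v (nat_lit 0))) (.inv (.v (nat_lit 6)))), (.v (nat_lit 1))), ((.mul (.mul (.v (nat_lit 6)) (.v (nat_lit 1))) (.inv (.v (nat_lit 6)))), (.mul (.v (nat_lit 0)) (.v (nat_lit 1)))), ((.mul (.mul (.v (nat_lit 6)) (.v (nat_lit 2))) (.inv (.v (nat_lit 6)))), (.v (nat_lit 2))), ((.mul (.mul (.v (nat_lit 6)) (.v (nat_lit 5))) (.inv (.v (nat_lit 6)))), (.v (nat_lit 3))), ((.mul (.mul (.v (nat_lit 6)) (.v (nat_lit 3))) (.inv (.v (nat_lit 6)))), (.mul (.mul (.v (nat_lit 4)) (.v (nat_lit 5))) (.v (nat_lit 4)))), ((.pw (.mul (.v (nat_lit 4)) (.v (nat_lit 6))) (nat_lit 2)), .one)] from hp))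
    [(.v (nat_lit 0)), (.v (nat_lit 1)), (.v (nat_lit 2)), (.v (nat_lit 3)), (.v (nat_lit 4)), (.v (nat_lit 5)), (.v (nat_lit 6)), (.inv (.v (nat_lit 6)))] (by decide +kernel)
noncomputable abbrev PB_o : Ops := pops (nat_lit 12) (nat_lit 4) (nat_lit 15) (nat_lit 0xba9876543210)
noncomputable def PB_cs : List ℕ := [(nat_lit 0xb25867934a10), (nat_lit 0xa916753428b), (nat_lit 0x152034a679b8), (nat_lit 0x8a5b76934201), (nat_lit 0x741a239568b), (nat_lit 0xa584397621b), (nat_lit 0x5632814b07a9), (nat_lit 0x41072ab59863)]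
noncomputable def PB_L : List (List ℕ) := [[(nat_lit 0xba9876543210), (nat_lit 0xa916753428b), (nat_lit 0x152034a679b8), (nat_lit 0x8a5b76934201), (nat_lit 0x5632814b07a9), (nat_lit 0x41072ab59863), (nat_lit 0x963a1840b725), (nat_lit 0x3106a2b95874), (nat_lit 0xa4790b618352), (nat_lit 0x6b83951a2047), (nat_lit 0x26458130b79a), (nat_lit 0x71b42a095836)],
  [(nat_lit 0xba9876543210), (nat_lit 0xb25867934a10), (nat_lit 0xb7482a359610), (nat_lit 0xb638a2495710), (nat_lit 0xb471a2659380), (nat_lit 0xb3612a795480), (nat_lit 0xb92834a76510), (nat_lit 0xb5a843267910)],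
  [(nat_lit 0xba9876543210), (nat_lit 0xba5134967280)]]
noncomputable def PB_WW : List (List (List ℕ)) := [[[],
  [(nat_lit 1)],
  [(nat_lit 2)],
  [(nat_lit 3)],
  [(nat_lit 6)],
  [(nat_lit 7)],
  [(nat_lit 1), (nat_lit 6)],
  [(nat_lit 1), (nat_lit 7)],
  [(nat_lit 2), (nat_lit 6)],
  [(nat_lit 2), (nat_lit 7)],
  [(nat_lit 3), (nat_lit 6)],
  [(nat_lit 3), (nat_lit 7)]],
  [[],
  [(nat_lit 0)],
  [(nat_lit 1), (nat_lit 4)],
  [(nat_lit 4), (nat_lit 1)],
  [(nat_lit 4), (nat_lit 5)],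
  [(nat_lit 0), (nat_lit 4), (nat_lit 5)],
  [(nat_lit 1), (nat_lit 2), (nat_lit 3)],
  [(nat_lit 1), (nat_lit 3), (nat_lit 2)]],
  [[],
  [(nat_lit 1), (nat_lit 5)]]]
noncomputable def PB_b6_S0 : List ℕ := [nat_lit 0xf00000b00000700c00c, nat_lit 0x1700001300000200c00e, nat_lit 0x1b000007000005008010, nat_lit 0x2300001f000005008012, nat_lit 0x2b000027000005008014, nat_lit 0x3300002f000005008016, nat_lit 0x3700001f000001008018, nat_lit 0x3b00002700000800801a, nat_lit 0x3f00002700002000801c, nat_lit 0x4300001300000200002800c01e, nat_lit 0x4700001b00000700002000c020, nat_lit 0x4b000002000030008022, nat_lit 0x4f00002e00002f00002000c024, nat_lit 0x57000053000010000002000030010026, nat_lit 0xa000006000030000035000057016026, nat_lit 0x3900000a00001700800c, nat_lit 0x6300005f00005b000010000002000030014028, nat_lit 0x6700001c000048004012, nat_lit 0x23000029000045000010, nat_lit 0x6700000c00005c004018, nat_lit 0x6b00001e00001c008014, nat_lit 0x1200000900005100c01a,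 nat_lit 0x7300006f00001c008016, nat_lit 0x57000039000059000022, nat_lit 0x4b00001400003d000039000059010026, nat_lit 0x7700001e00006800801c, nat_lit 0x7b00005300000b00001d00c01e, nat_lit 0x2600003c00006900000c, nat_lit 0x7f00000b000070008022, nat_lit 0x5e00007300007100c00e, nat_lit 0x3300002f000008000070000071012026, nat_lit 0x8300007200006f00006800c024, nat_lit 0x8700001300000f00000b000070010026, nat_lit 0x7a00007200008100c00c, nat_lit 0x6200007300008100c010, nat_lit 0x8f00008b00001a00000f00000b000070014028, nat_lit 0x9300005b000054008012, nat_lit 0x4700003a00009100c018, nat_lit 0x1a00001400003d00009100c020, nat_lit 0x9700005400007c004014, nat_lit 0x6b00006900009d00000e, nat_lit 0x9700005c00006000401c, nat_lit 0x9b00009700001000801a, nat_lit 0x430000130000a900c014, nat_lit 0x8b00001a0000a900c01c, nat_lit 0x120000060000010000a900c01e, nat_lit 0x9f00001300000f00005c00c020, nat_lit 0x4a00004e0000b900c00c, nat_lit 0x9a0000930000b900c010, nat_lit 0xa300007100007f00005c00c024,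 nat_lit 0x7e00004e0000c5000022, nat_lit 0x3200002400004a00004e0000c5010026, nat_lit 0xa700002200001f00000800000c000080014028, nat_lit 0xab00002d00004b00001900c024, nat_lit 0x320000380000d5000022, nat_lit 0x7e00004600002a0000380000d5010026, nat_lit 0xaf00006600006700000700000100004c014028, nat_lit 0xb30000430000a000801c, nat_lit 0x8b0000c20000e500c014, nat_lit 0x5f0000b90000e500c01a, nat_lit 0x220000240000be0000e500c01e, nat_lit 0xb70000860000870000a000c024, nat_lit 0xd60000c20000f500c016, nat_lit 0xbf0000bb00004700000a000017000088014028]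
noncomputable def PB_b6_S1 : List ℕ := [nat_lit 0xe200008a0000fd00c014, nat_lit 0x8e0000810000fd00c01a, nat_lit 0x420000340000860000fd00c01e, nat_lit 0xee0000b30000430000880000fd0000bf01a028, nat_lit 0x10d0000ee0000f100800c, nat_lit 0x10d0000a50000a1008018, nat_lit 0x10d00005f00004d00006500401e, nat_lit 0xc300001200000d00801c, nat_lit 0x2200002400011d00c014, nat_lit 0x6600004900011d00c01a, nat_lit 0x8b0000c20000bd00011d00c01e, nat_lit 0xc700008500001600000d00c024, nat_lit 0x3200002400012d00c016, nat_lit 0xf60000bd00012d000022, nat_lit 0xcf0000cb00009200003e000018000015014028, nat_lit 0x4200003400013900c014, nat_lit 0xd200007900013900c01a, nat_lit 0xe200008a00008500013900c01e, nat_lit 0x1260000c30000120000150001390000cf01a028, nat_lit 0x14900012600012900800c, nat_lit 0x14900011900010d00400e, nat_lit 0x149000077000069008018, nat_lit 0xd300005e00005a00004800c024, nat_lit 0x7e00004600015900c016, nat_lit 0xf60000c100009a000095000159010026, nat_lit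 0xd70000e600009f00003d000039000059014028, nat_lit 0x8e00007400016500c014, nat_lit 0xe200006200016500c01a, nat_lit 0xd200007500005e00016500c01e, nat_lit 0xdb00007b000091000099000037000031014028, nat_lit 0xe200005000017500c01c, nat_lit 0xdf0000930000b90000bd00012d010026, nat_lit 0x16100013600017d00c00c, nat_lit 0xcd00013200017d00c010, nat_lit 0x6100005000013200017d010020, nat_lit 0xe300009700005c0000b90000bd00012d014028, nat_lit 0x17600013200018d00c014, nat_lit 0xfe0000c800018d00c01c, nat_lit 0xeb0000e700002c008016, nat_lit 0x8f0000b20000b5000199010024, nat_lit 0xdb00009d00009c0000b5000199010026, nat_lit 0xa300008100008500001600001100019900c028, nat_lit 0xec0001a5000186008014, nat_lit 0x18e00017d0001a900c01a, nat_lit 0x16600018a0001a900c01c, nat_lit 0xef0000260000e8008022, nat_lit 0x1720001b20001b5000018, nat_lit 0xca0001a60000eb0001b501001e, nat_lit 0xf30000b5000199008022, nat_lit 0x1b60000ec0001c100c00e, nat_lit 0x1820001a90000ec0001c101001e,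 nat_lit 0xf70001c200019a0000c400c024, nat_lit 0xa70001220001cd00c016, nat_lit 0x8f00012a0001cd000022, nat_lit 0x6300015100014e00012a0001cd010026, nat_lit 0xd400016100013600012e00011d0001cd00c028, nat_lit 0xfb0000420000ac00801c, nat_lit 0x1bd0000de0001e100c01a, nat_lit 0x18e0001310000da0001e100c01e, nat_lit 0x5200004800002a0000380000d50001e1010028, nat_lit 0xff00013a0000b800801c, nat_lit 0x1e20000fa0001f100c014, nat_lit 0x1c90001610001f100c01a, nat_lit 0x1760001320001350001f100c01e]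
noncomputable def PB_b6_S2 : List ℕ := [nat_lit 0x1e0000680000490000be0000f50001f1010028]
noncomputable def PB_b6_S : List (List ℕ) := [PB_b6_S0, PB_b6_S1, PB_b6_S2]
noncomputable def PB_b6_defs : List ℕ := [(nat_lit 0x300033003000180030003c0050002600500010000000390050000900500025005000240050001e0050002c003000150050003200400024003000210030000a0050002e004000110030000c003000100050001d0030000b0050000f0030001b00300004002000250040000200000016005000220040000d005000040030001f00500002004000140030000e0000001b005000010000000e003000010050001700400016003000020050001400000002003000120050000300300006004000040030000900200009001000070000000b005000000000000900400000000000070030000000000001001000040000000300200002001000010020000000000000)]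
noncomputable def PB_b6_recs : List ℕ := [(nat_lit 0x4000210002f000002d0002a05000270002d010002c0000f020002c00017000002c0002204000270002c04000120002b020002a00020010002a00013050000d0002a040001f0002902000280001301000280002005000160002800000270000d01000270000802000160002701000260000a03000260002200000260001004000030002603000170002501000250001a000001e0002502000240000d010002400011030001400024040001b0002300000210001201000210000c020001b00021050001900020020001f0000c000001f00015010001b0001f020001e00010010000e0001e04000190001d020001c00012010001c0001505000060001c020001a0000a04000060001a010001600019020001900008000001100019040000b00018020000400014010001400006020000b00015050000700013010000b0001202000070001101000090001004000070000f04000010000e03000030000d05000050000c04000050000a030000500008020000500006000000000005010000000003),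
  (nat_lit 0x10003f00036020003f0003c000003f0003e040002d0003f050003e0001a010003e00038020003e0003b040002a0003e040003d00015020003d00018010003d00023000003d0002905000300003d040003c00034000003c0003b010003a0003c040003b00020030003b0002901000390003b030003900035020003900038040003700039040003a00028020003a00036030003a00023050000a0003a03000380002f00000380003604000310003803000370001c00000370002801000370003402000310003703000360002b04000130003601000350002902000350002b000003500023040001c0003502000340002d000003400020050001100034030001e0003200000170003202000220003201000320001d01000330002b020003300029000003300018040000c0003301000310002d00000310001305000080003101000300002202000300001d00000300000f040000800030000001d0002e030001a0002e020000f0002e010002e00017010002f00018020002f00023000002f0002b),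
  (nat_lit 0x50003f0000e)]
noncomputable def PB_b6_L0 : List ℕ := [nat_lit 0x600000100000200000200000700000300001f00000400002700000500002f000006, nat_lit 0x500000000001800000700000a00000800000e00000900001200000a00001600000b, nat_lit 0x1300000700000100000000001000000c00001a00000d0000aa00000e00004b00000f, nat_lit 0x1b00000800000b00000c00000800000000006700001000001e00001100006f000012, nat_lit 0x2300000900003700000d00002a000013000020000000000022000014000032000015, nat_lit 0x2b00000a00002600001600003b00001100003f0000140000280000000000e7000017, nat_lit 0x3300000b00002e00000f0000360000180000ab00001900004200001a000030000000, nat_lit 0x1400000200001700000100003e00001b00009f00001c00004300001600008700001d, nat_lit 0x1c00000300003900001b00000900000100004700001300005200001e00005a00001f, nat_lit 0x240000040000bd00001c00004900001000000d00000100011e00002000012e000021, nat_lit 0x2c0000050000b500000e00005500001e0000c300002000001100000100019a000022, nat_lit 0x3400000600008500001d0000790000230000b700002400013a000025000015000001,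 nat_lit 0x5300001b00000c00000300000f00000200005b00002600009700002700007f000023, nat_lit 0xc100001c00003800000400009900002800001900000200008b0000290000d6000019, nat_lit 0xae0000160000b600000a00009c0000270000b20000290000a90000020000f300002a, nat_lit 0x8900001d00002d00000600006100001f00004f0000150000e200002b00004c000002, nat_lit 0x4500001300004d00002600004a00000900006800000300006600002c00007e00002d, nat_lit 0x6b00001e00006a00002e00003c00000500007700002c00001d00000300020100002f, nat_lit 0x7300001f00007200002300008200001d0000a300003000008e000031000070000003, nat_lit 0x460000100000950000280000290000040000480000080000bb00003200015a000033, nat_lit 0x1210000200000f10000340001120000320000400000050000210000040000a7000035, nat_lit 0x1310000210000d90000190000cd00003000005000000f000176000036000031000004, nat_lit 0xad00000e00002500000500006d00002e0000b30000340000440000070000ef000037, nat_lit 0xeb0000220001b60000370001ae0000380001b20000390001a900003a0000e8000005,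 nat_lit 0x7500002300005d00001f0000350000060000d30000330001dd00003b00005800001b, nat_lit 0xf90000240000da0000150000de00002d0000ac0000060001e200003c0000d500000d, nat_lit 0x13d00002500010900003d0001d900003b0000fb00003c00004100000600006400003e, nat_lit 0x5400000c00003a00000800003d00000700009200002800007b00002e000057000018, nat_lit 0xc200000d0000be0000090000b90000260000a00000070000e60000340000f6000024, nat_lit 0x8a00000f00008600000b0000810000120000c70000210000fe00003d000088000007, nat_lit 0x6c0000110000a100002700005600000a0001160000320000510000080001ed00003c, nat_lit 0x7400001200005e00001800006200000f00018900003a000166000039000059000008, nat_lit 0x12200001400012a00002900012600002c0000c400000a00011d0000090001ce00003b, nat_lit 0x13200001500013600002400017e00003a0000c800001d00018e00003800012d000009, nat_lit 0xec0000170001c200002a0001a200003600019e0000310001a600003000019900000a, nat_lit 0x7600001800007100001200007a00000b00008300002d0000d200003500008000000c,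 nat_lit 0xfa0000190001350000210001610000330000b800000b0001f200002f0000f500001c, nat_lit 0x13e00001a00014600002b0001420000350000ff00002f00013900000b0000d000003f, nat_lit 0x9300002800004e0000100000ba00001c00005c00000c00005f00003e0000c6000030, nat_lit 0x9d00002e0000a200001e00009b00000e0000a500003e00009800000c0000e3000038, nat_lit 0x9400002600009600001300009a00000d00009100001b0000cb00003f0000df00003a, nat_lit 0xe900003400012900002000014e00003f0000b100000e00008c00000d00008f000031, nat_lit 0x1c60000370001c10000220001f900002f0000f700003b0001ca0000330000f400000e, nat_lit 0x10100003d00014500002500016d0000390001790000360000e100000f0000b000002c, nat_lit 0x11a00003200014900003f0001250000200000780000110000650000100000af00002b, nat_lit 0x15d0000330000c90000300000dd0000190000840000230001bd00003700007d000010, nat_lit 0x9e00002700006900001100006e00001600015600003f00007c00001b0000db000036, nat_lit 0x1f600003c0001fe0000360001fa00002a0001000000250001f1000024000202000011,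 nat_lit 0x18500003a0000ca00002d0000ce0000150000a40000120001a50000220000c5000026, nat_lit 0x1690000390001d500003b00010500003d00019d00002200008d000012000090000029, nat_lit 0x11900002c00010e00003e00011100001400011500001e0000bc0000130000bf00003d, nat_lit 0x15e00002d00018100003a0001620000240000d40000180001c900002a000159000013, nat_lit 0xea0000290000f20000140000ee00003e0000b40000160000e500001c0000d7000039, nat_lit 0x1d100003b0001710000390001410000250001b90000370000d10000230000a8000014, nat_lit 0x1910000380001fd00002f0001a100002200017a00002b0001750000150000dc00002e, nat_lit 0x1c500002a0001b50000170001e500003c0001ba0000350001be00002d0000f0000016, nat_lit 0x1920000360001e900003c0001ad00001700019600003d00018d0000210000e4000027, nat_lit 0x16a00003100017200003500016e00002b0001b100001700016500001f0000d8000034, nat_lit 0x18600003000018200003300017d00002100018a00001f0001aa0000170000e0000028, nat_lit 0x1d20000350001d60000310001da00001a0000f800002a0001de0000180001cd000020,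 nat_lit 0x1f500002f0001ea0000380001e60000370000fc00001a0001e10000190001ee00001e, nat_lit 0x10200002b00010a00001a0001060000310001950000380000fd00001d0000c0000032, nat_lit 0x15200003f00010d0000320000ed0000340000a600002700006000002600006300001a, nat_lit 0x15100003e00014a00002c00014d00002900015500002e0000cc0000280000cf000025]
noncomputable def PB_b6_L : List (List ℕ) := [PB_b6_L0]
noncomputable def PB_b6_V : List ℕ := [(nat_lit 0x32000000170000002f0000003e0000003d0000003700000035000000380000003b00000036000000290000002c000000340000002e00000023000000280000003f0000001e000000200000001d0000002b0000003c00000022000000240000002500000016000000330000002d0000001f0000003a00000031000000300000001c0000001a000000210000002700000014000000180000002a000000150000003900000010000000130000000f000000110000001b0000000e0000001900000012000000260000000d000000020000000c0000000a0000000800000006000000040000000b000000090000000700000001000000030000000500000000)]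
noncomputable def PB_b6_D : H26.Dag := ⟨[], [[0,0],
  [1,1],
  [2,2],
  [3,3],
  [4,4],
  [5,5],
  [2,1,2,1],
  [1,0,1,0],
  [2,0,2,0],
  [3,0,3,0],
  [4,0,4,0],
  [5,0,5,0],
  [3,1,3,1],
  [4,2,4,2],
  [4,3,4,3],
  [1,0,4,1,4],
  [2,0,3,2,3],
  [1,5,1,5],
  [5,1,3,5,3],
  [1,2,0,5,2,5],
  [1,2,3,4,5,4,5]], [], PB_b6_defs, PB_b6_recs⟩
theorem PB_b6_c : PB_b6_D.checkTab PB_b6_S 64 6 PB_b6_V PB_b6_L = true := by decide +kernel
theorem PB_b6 : Bound PB_r_R 6 64 :=
  bound_dag (Bound.zero PB_r_R) (K := 6) (J := [0,1,2,3,4,5,8,9,10,11,12,13,14,15,16,17,18,19,20,21,22]) (by decide +kernel) PB_b6_c (by decide +kernel)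
noncomputable def PB_b8_S0 : List ℕ := [nat_lit 0x1, nat_lit 0x1, nat_lit 0x1, nat_lit 0x1, nat_lit 0x1, nat_lit 0x1, nat_lit 0x7000001000008000012, nat_lit 0x7000009000008000016, nat_lit 0x7000015000008000018, nat_lit 0x7000005000008000019000014, nat_lit 0xb000008006010, nat_lit 0xb00000500000c008012, nat_lit 0xb00000900000c008016, nat_lit 0xb00000d00000c008018, nat_lit 0xb00001100000800a01c, nat_lit 0xb00000500000100000c00c014, nat_lit 0xb00001100001500001100000c01001a, nat_lit 0x2900004100002a008018]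
noncomputable def PB_b8_S : List (List ℕ) := [PB_b8_S0]
noncomputable def PB_b8_defs : List ℕ := [(nat_lit 0x7000000060000000000000)]
noncomputable def PB_b8_recs : List ℕ := [(nat_lit 0x50000100001030000200002010000200002040000100002050000200002020000200002000000200002070000100002000000100001030000100001020000100001010000100001050000000000040000000000030000000000020000000000010000000000000000000000)]
noncomputable def PB_b8_L0 : List ℕ := [nat_lit 0x100000000000500000000000900000000000d00000000001100000000001500000000000700000100000b000002, nat_lit 0x2500000100001900000100001d00000100002100000100003a00000200004500000100002a000002000008000000, nat_lit 0x2d00000200003d00000200003100000200004100000200003900000100003500000200000c000000000029000001]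
noncomputable def PB_b8_L : List (List ℕ) := [PB_b8_L0]
noncomputable def PB_b8_V : List ℕ := [(nat_lit 0x20000000100000000)]
noncomputable def PB_b8_D : H26.Dag := ⟨[0,1,2,3,4,5,7,6], [[0,0],
  [1,1],
  [2,2],
  [3,3],
  [4,4],
  [5,5],
  [6,7],
  [7,6],
  [6,6,6],
  [1,7,0,6],
  [0,1,7,1,6],
  [2,7,2,6],
  [3,7,5,6],
  [4,5,4,7,3,6],
  [6,4,6,4]], [0,1,2,3,4,5], PB_b8_defs, PB_b8_recs⟩
theorem PB_b8_c : PB_b8_D.checkTab PB_b8_S 3 8 PB_b8_V PB_b8_L = true := by decide +kernel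
theorem PB_b8 : Bound PB_r_R 8 192 :=
  bound_dag PB_b6 (K := 8) (J := [0,1,2,3,4,5,6,7,23,24,25,26,27,28,29]) (by decide +kernel) PB_b8_c (by decide +kernel)
theorem PB_P : PModel (nat_lit 12) (nat_lit 4) (nat_lit 15) (nat_lit 0xba9876543210) PB_cs PB_r_R PB_L 192 :=
  ⟨PkOK.of (by decide +kernel), by decide +kernel, by decide +kernel, PB_b8, ⟨PB_WW, by decide +kernel⟩,
    ⟨fun c => Nat.mod c (nat_lit 9607), by decide +kernel⟩⟩
noncomputable def PB_soc_t0 : ST := (.node (nat_lit 1452) (.node (nat_lit 725) (.node (nat_lit 358) (.node (nat_lit 227) (.node (nat_lit 155) (.node (nat_lit 77) (.leaf (nat_lit 24)) (.node (nat_lit 88) (.leaf (nat_lit 96)) (.leaf (nat_lit 24)))) (.node (nat_lit 160) (.leaf (nat_lit 0)) (.node (nat_lit 183) (.leaf (nat_lit 96)) (.leaf (nat_lit 24))))) (.node (nat_lit 274) (.node (nat_lit 237) (.leaf (nat_lit 96)) (.node (nat_lit 264) (.leaf (nat_lit 24)) (.leaf (nat_lit 96)))) (.node (nat_lit 281) (.leaf (nat_lit 24))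 (.node (nat_lit 332) (.leaf (nat_lit 96)) (.leaf (nat_lit 0)))))) (.node (nat_lit 546) (.node (nat_lit 457) (.node (nat_lit 416) (.leaf (nat_lit 24)) (.node (nat_lit 436) (.leaf (nat_lit 96)) (.leaf (nat_lit 24)))) (.node (nat_lit 458) (.leaf (nat_lit 0)) (.node (nat_lit 521) (.leaf (nat_lit 24)) (.leaf (nat_lit 96))))) (.node (nat_lit 618) (.node (nat_lit 601) (.leaf (nat_lit 24)) (.node (nat_lit 617) (.leaf (nat_lit 96)) (.leaf (nat_lit 24)))) (.node (nat_lit 655) (.node (nat_lit 647) (.leaf (nat_lit 96)) (.leaf (nat_lit 24))) (.node (nat_lit 660) (.leaf (nat_lit 0)) (.leaf (nat_lit 96))))))) (.node (nat_lit 1092) (.node (nat_lit 931) (.node (nat_lit 761) (.node (nat_lit 728) (.leaf (nat_lit 24)) (.node (nat_lit 758) (.leaf (nat_lit 96)) (.leaf (nat_lit 24)))) (.node (nat_lit 800) (.leaf (nat_lit 96)) (.node (nat_lit 891) (.leaf (nat_lit 24)) (.leaf (nat_lit 96))))) (.node (nat_lit 999) (.node (nat_lit 954) (.leaf (nat_lit 24)) (.node (nat_lit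 981) (.leaf (nat_lit 96)) (.leaf (nat_lit 24)))) (.node (nat_lit 1029) (.node (nat_lit 1014) (.leaf (nat_lit 96)) (.leaf (nat_lit 24))) (.node (nat_lit 1063) (.leaf (nat_lit 96)) (.leaf (nat_lit 24)))))) (.node (nat_lit 1264) (.node (nat_lit 1161) (.node (nat_lit 1109) (.leaf (nat_lit 0)) (.node (nat_lit 1156) (.leaf (nat_lit 24)) (.leaf (nat_lit 96)))) (.node (nat_lit 1221) (.leaf (nat_lit 24)) (.node (nat_lit 1234) (.leaf (nat_lit 96)) (.leaf (nat_lit 24))))) (.node (nat_lit 1298) (.node (nat_lit 1274) (.leaf (nat_lit 96)) (.node (nat_lit 1287) (.leaf (nat_lit 24)) (.leaf (nat_lit 0)))) (.node (nat_lit 1321) (.node (nat_lit 1315) (.leaf (nat_lit 96)) (.leaf (nat_lit 24))) (.node (nat_lit 1355) (.leaf (nat_lit 96)) (.leaf (nat_lit 24)))))))) (.node (nat_lit 2013) (.node (nat_lit 1809) (.node (nat_lit 1636) (.node (nat_lit 1534) (.node (nat_lit 1456) (.leaf (nat_lit 96)) (.node (nat_lit 1470) (.leaf (nat_lit 24)) (.leaf (nat_lit 96)))) (.node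 (nat_lit 1599) (.leaf (nat_lit 24)) (.node (nat_lit 1622) (.leaf (nat_lit 0)) (.leaf (nat_lit 24))))) (.node (nat_lit 1723) (.node (nat_lit 1645) (.leaf (nat_lit 96)) (.node (nat_lit 1721) (.leaf (nat_lit 24)) (.leaf (nat_lit 96)))) (.node (nat_lit 1746) (.node (nat_lit 1736) (.leaf (nat_lit 0)) (.leaf (nat_lit 96))) (.node (nat_lit 1797) (.leaf (nat_lit 24)) (.leaf (nat_lit 4)))))) (.node (nat_lit 1874) (.node (nat_lit 1836) (.node (nat_lit 1828) (.leaf (nat_lit 24)) (.node (nat_lit 1833) (.leaf (nat_lit 0)) (.leaf (nat_lit 28)))) (.node (nat_lit 1841) (.leaf (nat_lit 96)) (.node (nat_lit 1848) (.leaf (nat_lit 0)) (.leaf (nat_lit 96))))) (.node (nat_lit 1935) (.node (nat_lit 1895) (.leaf (nat_lit 24)) (.node (nat_lit 1925) (.leaf (nat_lit 0)) (.leaf (nat_lit 96)))) (.node (nat_lit 1958) (.node (nat_lit 1952) (.leaf (nat_lit 24)) (.leaf (nat_lit 96))) (.node (nat_lit 2010) (.leaf (nat_lit 24)) (.leaf (nat_lit 96))))))) (.node (nat_lit 2498) (.node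 (nat_lit 2319) (.node (nat_lit 2147) (.node (nat_lit 2025) (.leaf (nat_lit 0)) (.node (nat_lit 2112) (.leaf (nat_lit 96)) (.leaf (nat_lit 24)))) (.node (nat_lit 2153) (.leaf (nat_lit 0)) (.node (nat_lit 2308) (.leaf (nat_lit 24)) (.leaf (nat_lit 96))))) (.node (nat_lit 2374) (.node (nat_lit 2341) (.leaf (nat_lit 24)) (.node (nat_lit 2349) (.leaf (nat_lit 96)) (.leaf (nat_lit 0)))) (.node (nat_lit 2418) (.node (nat_lit 2400) (.leaf (nat_lit 24)) (.leaf (nat_lit 96))) (.node (nat_lit 2457) (.leaf (nat_lit 24)) (.leaf (nat_lit 96)))))) (.node (nat_lit 2728) (.node (nat_lit 2725) (.node (nat_lit 2560) (.leaf (nat_lit 24)) (.node (nat_lit 2579) (.leaf (nat_lit 0)) (.leaf (nat_lit 24)))) (.node (nat_lit 2726) (.leaf (nat_lit 96)) (.node (nat_lit 2727) (.leaf (nat_lit 24)) (.leaf (nat_lit 96))))) (.node (nat_lit 2774) (.node (nat_lit 2744) (.leaf (nat_lit 24)) (.node (nat_lit 2763) (.leaf (nat_lit 96)) (.leaf (nat_lit 24)))) (.node (nat_lit 2784) (.node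 (nat_lit 2783) (.leaf (nat_lit 96)) (.leaf (nat_lit 24))) (.node (nat_lit 2786) (.leaf (nat_lit 0)) (.leaf (nat_lit 96)))))))))
noncomputable def PB_soc_t1 : ST := (.node (nat_lit 1653) (.node (nat_lit 763) (.node (nat_lit 411) (.node (nat_lit 202) (.node (nat_lit 185) (.node (nat_lit 97) (.leaf (nat_lit 96)) (.node (nat_lit 111) (.leaf (nat_lit 12)) (.leaf (nat_lit 96)))) (.node (nat_lit 195) (.leaf (nat_lit 12)) (.node (nat_lit 198) (.leaf (nat_lit 96)) (.leaf (nat_lit 12))))) (.node (nat_lit 357) (.node (nat_lit 279) (.leaf (nat_lit 96)) (.node (nat_lit 298) (.leaf (nat_lit 12)) (.leaf (nat_lit 96)))) (.node (nat_lit 385) (.node (nat_lit 363) (.leaf (nat_lit 12)) (.leaf (nat_lit 96))) (.node (nat_lit 399) (.leaf (nat_lit 12)) (.leaf (nat_lit 96)))))) (.node (nat_lit 584) (.node (nat_lit 442) (.node (nat_lit 420) (.leaf (nat_lit 12)) (.node (nat_lit 438) (.leaf (nat_lit 96)) (.leaf (nat_lit 12)))) (.node (nat_lit 525) (.leaf (nat_lit 96)) (.node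 (nat_lit 543) (.leaf (nat_lit 12)) (.leaf (nat_lit 96))))) (.node (nat_lit 648) (.node (nat_lit 616) (.leaf (nat_lit 12)) (.node (nat_lit 639) (.leaf (nat_lit 96)) (.leaf (nat_lit 12)))) (.node (nat_lit 712) (.node (nat_lit 710) (.leaf (nat_lit 96)) (.leaf (nat_lit 12))) (.node (nat_lit 728) (.leaf (nat_lit 96)) (.leaf (nat_lit 12))))))) (.node (nat_lit 1114) (.node (nat_lit 913) (.node (nat_lit 877) (.node (nat_lit 776) (.leaf (nat_lit 96)) (.node (nat_lit 816) (.leaf (nat_lit 12)) (.leaf (nat_lit 96)))) (.node (nat_lit 896) (.leaf (nat_lit 12)) (.node (nat_lit 912) (.leaf (nat_lit 96)) (.leaf (nat_lit 12))))) (.node (nat_lit 1046) (.node (nat_lit 981) (.leaf (nat_lit 96)) (.node (nat_lit 990) (.leaf (nat_lit 12)) (.leaf (nat_lit 96)))) (.node (nat_lit 1087) (.node (nat_lit 1077) (.leaf (nat_lit 12)) (.leaf (nat_lit 96))) (.node (nat_lit 1100) (.leaf (nat_lit 12)) (.leaf (nat_lit 96)))))) (.node (nat_lit 1412) (.node (nat_lit 1223) (.node (nat_lit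 1115) (.leaf (nat_lit 12)) (.node (nat_lit 1183) (.leaf (nat_lit 96)) (.leaf (nat_lit 12)))) (.node (nat_lit 1338) (.node (nat_lit 1326) (.leaf (nat_lit 96)) (.leaf (nat_lit 12))) (.node (nat_lit 1410) (.leaf (nat_lit 96)) (.leaf (nat_lit 0))))) (.node (nat_lit 1459) (.node (nat_lit 1442) (.leaf (nat_lit 12)) (.node (nat_lit 1448) (.leaf (nat_lit 96)) (.leaf (nat_lit 12)))) (.node (nat_lit 1531) (.node (nat_lit 1509) (.leaf (nat_lit 96)) (.leaf (nat_lit 12))) (.node (nat_lit 1630) (.leaf (nat_lit 96)) (.leaf (nat_lit 12)))))))) (.node (nat_lit 2278) (.node (nat_lit 1902) (.node (nat_lit 1773) (.node (nat_lit 1676) (.node (nat_lit 1664) (.leaf (nat_lit 96)) (.node (nat_lit 1674) (.leaf (nat_lit 0)) (.leaf (nat_lit 96)))) (.node (nat_lit 1687) (.leaf (nat_lit 12)) (.node (nat_lit 1709) (.leaf (nat_lit 96)) (.leaf (nat_lit 12))))) (.node (nat_lit 1849) (.node (nat_lit 1799) (.leaf (nat_lit 96)) (.node (nat_lit 1801) (.leaf (nat_lit 24)) (.leaf (nat_lit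 96)))) (.node (nat_lit 1880) (.node (nat_lit 1866) (.leaf (nat_lit 12)) (.leaf (nat_lit 96))) (.node (nat_lit 1892) (.leaf (nat_lit 12)) (.leaf (nat_lit 96)))))) (.node (nat_lit 2120) (.node (nat_lit 1975) (.node (nat_lit 1913) (.leaf (nat_lit 12)) (.node (nat_lit 1968) (.leaf (nat_lit 96)) (.leaf (nat_lit 24)))) (.node (nat_lit 2023) (.leaf (nat_lit 12)) (.node (nat_lit 2095) (.leaf (nat_lit 96)) (.leaf (nat_lit 12))))) (.node (nat_lit 2180) (.node (nat_lit 2135) (.leaf (nat_lit 96)) (.node (nat_lit 2170) (.leaf (nat_lit 12)) (.leaf (nat_lit 24)))) (.node (nat_lit 2216) (.node (nat_lit 2201) (.leaf (nat_lit 96)) (.leaf (nat_lit 12))) (.node (nat_lit 2229) (.leaf (nat_lit 96)) (.leaf (nat_lit 12))))))) (.node (nat_lit 2722) (.node (nat_lit 2487) (.node (nat_lit 2407) (.node (nat_lit 2294) (.leaf (nat_lit 96)) (.node (nat_lit 2304) (.leaf (nat_lit 12)) (.leaf (nat_lit 96)))) (.node (nat_lit 2438) (.leaf (nat_lit 12)) (.node (nat_lit 2483) (.leaf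 (nat_lit 96)) (.leaf (nat_lit 12))))) (.node (nat_lit 2546) (.node (nat_lit 2523) (.leaf (nat_lit 96)) (.node (nat_lit 2539) (.leaf (nat_lit 12)) (.leaf (nat_lit 96)))) (.node (nat_lit 2647) (.node (nat_lit 2552) (.leaf (nat_lit 12)) (.leaf (nat_lit 96))) (.node (nat_lit 2718) (.leaf (nat_lit 12)) (.leaf (nat_lit 96)))))) (.node (nat_lit 2872) (.node (nat_lit 2802) (.node (nat_lit 2763) (.leaf (nat_lit 12)) (.node (nat_lit 2790) (.leaf (nat_lit 96)) (.leaf (nat_lit 12)))) (.node (nat_lit 2844) (.node (nat_lit 2812) (.leaf (nat_lit 96)) (.leaf (nat_lit 12))) (.node (nat_lit 2860) (.leaf (nat_lit 96)) (.leaf (nat_lit 12))))) (.node (nat_lit 2954) (.node (nat_lit 2875) (.leaf (nat_lit 96)) (.node (nat_lit 2950) (.leaf (nat_lit 12)) (.leaf (nat_lit 96)))) (.node (nat_lit 2984) (.node (nat_lit 2973) (.leaf (nat_lit 0)) (.leaf (nat_lit 24))) (.node (nat_lit 3013) (.leaf (nat_lit 96)) (.leaf (nat_lit 12)))))))))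
noncomputable def PB_soc_F : Fm := (.all PB_L (.or (.qf (.eq (.v (nat_lit 0)) .one)) (.exF PB_L (fun cs => PB_soc_t1.find (Nat.mod (nth (nat_lit 0) cs (nat_lit 0)) (nat_lit 3059))) (.exF PB_L (fun cs => PB_soc_t0.find (Nat.mod (Nat.add (nth (nat_lit 0) cs (nat_lit 0)) (Nat.mul (nat_lit 7919) (nth (nat_lit 0) cs (nat_lit 1)))) (nat_lit 2804))) (.qf (.or (.eq (.mul (.mul (.v (nat_lit 0)) (.v (nat_lit 2))) (.inv (.v (nat_lit 0)))) (.v (nat_lit 3))) (.or (.eq (.mul (.mul (.v (nat_lit 0)) (.v (nat_lit 2))) (.inv (.v (nat_lit 0)))) (.v (nat_lit 3))) (.or (.eq (.mul (.mul (.v (nat_lit 0)) (.mul (.mul (.mul (.v (nat_lit 2)) (.v (nat_lit 1))) (.inv (.v (nat_lit 2)))) (.inv (.v (nat_lit 1))))) (.inv (.v (nat_lit 0)))) (.v (nat_lit 3))) (.or (.eq (.mul (.mul (.v (nat_lit 0)) (.mul (.mul (.mul (.v (nat_lit 2)) (.v (nat_lit 1))) (.inv (.v (nat_lit 2)))) (.inv (.v (nat_lit 1))))) (.inv (.v (nat_lit 0)))) (.v (nat_lit 3))) (.or (.eq (.mul (.mul (.mul (.mul (.mul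 (.mul (.v (nat_lit 2)) (.v (nat_lit 1))) (.inv (.v (nat_lit 2)))) (.inv (.v (nat_lit 1)))) (.v (nat_lit 0))) (.inv (.mul (.mul (.mul (.v (nat_lit 2)) (.v (nat_lit 1))) (.inv (.v (nat_lit 2)))) (.inv (.v (nat_lit 1)))))) (.inv (.v (nat_lit 0)))) (.v (nat_lit 3))) (.eq (.mul (.mul (.mul (.mul (.mul (.mul (.v (nat_lit 2)) (.v (nat_lit 1))) (.inv (.v (nat_lit 2)))) (.inv (.v (nat_lit 1)))) (.v (nat_lit 0))) (.inv (.mul (.mul (.mul (.v (nat_lit 2)) (.v (nat_lit 1))) (.inv (.v (nat_lit 2)))) (.inv (.v (nat_lit 1)))))) (.inv (.v (nat_lit 0)))) (.v (nat_lit 3)))))))))))))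
theorem PB_soc_chk : Fm.chk PB_o PB_soc_F PB_cs = true := by decide +kernel
theorem PB_soc {G : Type*} [Group G] {R : ℕ → G → Prop} {z u v a b r p P_ : G} {H : Subgroup G}
    (M : Mdl PB_o PB_cs PB_L R [z, u, v, a, b, r, p, P_] H) :
    ∀ y_ ∈ H, y_ = 1 ∨ (∃ q_ ∈ H, ∃ k_ ∈ H, k_ * y_ * k_⁻¹ = z ∨ k_ * y_ * k_⁻¹ = z ∨ k_ * ⁅y_, q_⁆ * k_⁻¹ = z ∨ k_ * ⁅y_, q_⁆ * k_⁻¹ = z ∨ ⁅⁅y_, q_⁆, k_⁆ = z ∨ ⁅⁅y_, q_⁆, k_⁆ = z) :=
  have h : ∀ y_, InL PB_o R PB_L y_ → y_ = 1 ∨ (Good PB_o R PB_L → prods PB_o PB_L PB_o.one ≠ [] → ∃ q_, InL PB_o R PB_L q_ ∧ (Good PB_o R PB_L → prods PB_o PB_L PB_o.one ≠ [] → ∃ k_, InL PB_o R PB_L k_ ∧ (k_ * y_ * k_⁻¹ = z ∨ k_ * y_ * k_⁻¹ = z ∨ k_ * ⁅y_, q_⁆ * k_⁻¹ = z ∨ k_ * ⁅y_, q_⁆ * k_⁻¹ = z ∨ ⁅⁅y_, q_⁆, k_⁆ = z ∨ ⁅⁅y_, q_⁆, k_⁆ = z))) :=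
    Fm.sound M.μ PB_soc_F PB_soc_chk M.reps
  (fun y_ h0 => (Or.imp (fun h1 => h1) (fun h1 => (Exists.imp (fun q_ h2 => ⟨M.H.iff.1 h2.1, (Exists.imp (fun k_ h3 => ⟨M.H.iff.1 h3.1, h3.2⟩) (h2.2 M.H.good M.H.ne))⟩) (h1 M.H.good M.H.ne))) (h y_ (M.H.iff.2 h0))))
theorem PB_mdl {G : Type*} [Group G] {z u v a b r p : G}
    (t : TB z u v a b r)
    (hp : PB z u v a b r p)
    (n1 : z ≠ 1) :
    ∃ R, Mdl PB_o PB_cs PB_L R [z, u, v, a, b, r, p, p⁻¹] (sp [z, u, v, a, b, r, p, p⁻¹]) ∧ #(sp [z, u, v, a, b, r, p, p⁻¹]) = 192 :=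
  mdl_of PB_P rfl (PB_r t hp) (.v (nat_lit 0)) (.v (nat_lit 0)) n1 n1 
    fun _ ms _ M hl => match ms, M, (hl : ms.length = 8) with
      | [_, _, _, _, _, _, _, _], M, _ => PB_soc M
noncomputable def PB_lK0 : List ℕ := [(nat_lit 0xba9876543210), (nat_lit 0x741a239568b), (nat_lit 0x32561890ba74), (nat_lit 0x6312a45978b), (nat_lit 0x152034a679b8), (nat_lit 0x41072ab59863), (nat_lit 0xb25867934a10), (nat_lit 0x836b5972a401), (nat_lit 0x5632814b07a9), (nat_lit 0x974a813b0625), (nat_lit 0x79a4b0281536), (nat_lit 0x48b7a2095163), (nat_lit 0x847b956a2301), (nat_lit 0x98ba67034125), (nat_lit 0x58b2760431a9), (nat_lit 0x6b83951a2047), (nat_lit 0x3a96815b0274), (nat_lit 0x19a0432765b8), (nat_lit 0x4a971850b263), (nat_lit 0xa4790b618352), (nat_lit 0x510267b348a9), (nat_lit 0x23650b71849a), (nat_lit 0x910a76b43825), (nat_lit 0x60135982ab47), (nat_lit 0x3106a2b95874), (nat_lit 0x201543876b9a), (nat_lit 0x963a1840b725), (nat_lit 0xa01934867b52), (nat_lit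 0x57421830b6a9), (nat_lit 0x75240ba18936), (nat_lit 0x25176943a8b), (nat_lit 0x6523b0a81947), (nat_lit 0x38b62a059174), (nat_lit 0xab8943176052), (nat_lit 0x2b853416709a), (nat_lit 0xb7482a359610), (nat_lit 0x7b845912a036), (nat_lit 0x4257819b0a63), (nat_lit 0x2475b068139a), (nat_lit 0xa369b0781452), (nat_lit 0xb638a2495710), (nat_lit 0x89ab34267501), (nat_lit 0x7014958a2b36), (nat_lit 0xa916753428b), (nat_lit 0x1360957a24b8), (nat_lit 0x69a30b218547), (nat_lit 0x14705962a3b8), (nat_lit 0x852b43a76901)]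
noncomputable def PB_lK0_W : List (List ℕ) := [[],
  [(nat_lit 0)],
  [(nat_lit 1)],
  [(nat_lit 2)],
  [(nat_lit 3)],
  [(nat_lit 0), (nat_lit 1)],
  [(nat_lit 0), (nat_lit 2)],
  [(nat_lit 0), (nat_lit 3)],
  [(nat_lit 1), (nat_lit 0)],
  [(nat_lit 1), (nat_lit 2)],
  [(nat_lit 1), (nat_lit 3)],
  [(nat_lit 2), (nat_lit 1)],
  [(nat_lit 2), (nat_lit 3)],
  [(nat_lit 0), (nat_lit 1), (nat_lit 0)],
  [(nat_lit 0), (nat_lit 1), (nat_lit 2)],
  [(nat_lit 0), (nat_lit 1), (nat_lit 3)],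
  [(nat_lit 0), (nat_lit 2), (nat_lit 1)],
  [(nat_lit 0), (nat_lit 2), (nat_lit 3)],
  [(nat_lit 1), (nat_lit 0), (nat_lit 2)],
  [(nat_lit 1), (nat_lit 0), (nat_lit 3)],
  [(nat_lit 1), (nat_lit 2), (nat_lit 1)],
  [(nat_lit 1), (nat_lit 2), (nat_lit 3)],
  [(nat_lit 2), (nat_lit 1), (nat_lit 0)],
  [(nat_lit 2), (nat_lit 1), (nat_lit 3)],
  [(nat_lit 0), (nat_lit 1), (nat_lit 0), (nat_lit 2)],
  [(nat_lit 0), (nat_lit 1), (nat_lit 0), (nat_lit 3)],
  [(nat_lit 0), (nat_lit 1), (nat_lit 2), (nat_lit 1)],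
  [(nat_lit 0), (nat_lit 1), (nat_lit 2), (nat_lit 3)],
  [(nat_lit 0), (nat_lit 2), (nat_lit 1), (nat_lit 0)],
  [(nat_lit 0), (nat_lit 2), (nat_lit 1), (nat_lit 3)],
  [(nat_lit 1), (nat_lit 0), (nat_lit 2), (nat_lit 1)],
  [(nat_lit 1), (nat_lit 0), (nat_lit 2), (nat_lit 3)],
  [(nat_lit 1), (nat_lit 2), (nat_lit 1), (nat_lit 0)],
  [(nat_lit 1), (nat_lit 2), (nat_lit 1), (nat_lit 3)],
  [(nat_lit 2), (nat_lit 1), (nat_lit 0), (nat_lit 3)],
  [(nat_lit 0), (nat_lit 1), (nat_lit 0), (nat_lit 2), (nat_lit 1)],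
  [(nat_lit 0), (nat_lit 1), (nat_lit 0), (nat_lit 2), (nat_lit 3)],
  [(nat_lit 0), (nat_lit 1), (nat_lit 2), (nat_lit 1), (nat_lit 0)],
  [(nat_lit 0), (nat_lit 1), (nat_lit 2), (nat_lit 1), (nat_lit 3)],
  [(nat_lit 0), (nat_lit 2), (nat_lit 1), (nat_lit 0), (nat_lit 3)],
  [(nat_lit 1), (nat_lit 0), (nat_lit 2), (nat_lit 1), (nat_lit 0)],
  [(nat_lit 1), (nat_lit 0), (nat_lit 2), (nat_lit 1), (nat_lit 3)],
  [(nat_lit 1), (nat_lit 2), (nat_lit 1), (nat_lit 0), (nat_lit 3)],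
  [(nat_lit 0), (nat_lit 1), (nat_lit 0), (nat_lit 2), (nat_lit 1), (nat_lit 0)],
  [(nat_lit 0), (nat_lit 1), (nat_lit 0), (nat_lit 2), (nat_lit 1), (nat_lit 3)],
  [(nat_lit 0), (nat_lit 1), (nat_lit 2), (nat_lit 1), (nat_lit 0), (nat_lit 3)],
  [(nat_lit 1), (nat_lit 0), (nat_lit 2), (nat_lit 1), (nat_lit 0), (nat_lit 3)],
  [(nat_lit 0), (nat_lit 1), (nat_lit 0), (nat_lit 2), (nat_lit 1), (nat_lit 0), (nat_lit 3)]]
noncomputable def PB_lK0_h (c : ℕ) : ℕ := Nat.mod c (nat_lit 667)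
theorem PB_lK0_E {G : Type*} [Group G] {R : ℕ → G → Prop} {z u v a b r p : G} {H : Subgroup G}
    (M : Mdl PB_o PB_cs PB_L R [z, u, v, a, b, r, p, p⁻¹] H) :
    EnumS R PB_lK0 (sp [b, b * p, b * z, v]) :=
  enumS_sp M.μ.1 (M.reps.tms M.μ.1 [(.v (nat_lit 4)), (.mul (.v (nat_lit 4)) (.v (nat_lit 6))), (.mul (.v (nat_lit 4)) (.v (nat_lit 0))), (.v (nat_lit 2))] (cs' := [(nat_lit 0x741a239568b), (nat_lit 0x32561890ba74), (nat_lit 0x6312a45978b), (nat_lit 0x152034a679b8)]) (by decide +kernel))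
    (Ws := PB_lK0_W) (by decide +kernel) (by decide +kernel)
theorem PB_lK0_c {G : Type*} [Group G] {R : ℕ → G → Prop} {z u v a b r p : G} {H : Subgroup G}
    (M : Mdl PB_o PB_cs PB_L R [z, u, v, a, b, r, p, p⁻¹] H) :
    #(sp [b, b * p, b * z, v]) = 48 :=
  (PB_lK0_E M).card M.μ (h := PB_lK0_h) (by decide +kernel)
noncomputable def PB_lV : List ℕ := [(nat_lit 0xba9876543210), (nat_lit 0xb25867934a10), (nat_lit 0xa916753428b), (nat_lit 0x25176943a8b)]
noncomputable def PB_lV_W : List (List ℕ) := [[],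
  [(nat_lit 0)],
  [(nat_lit 1)],
  [(nat_lit 0), (nat_lit 1)]]
noncomputable def PB_lV_h (c : ℕ) : ℕ := Nat.mod c (nat_lit 14)
theorem PB_lV_E {G : Type*} [Group G] {R : ℕ → G → Prop} {z u v a b r p : G} {H : Subgroup G}
    (M : Mdl PB_o PB_cs PB_L R [z, u, v, a, b, r, p, p⁻¹] H) :
    EnumS R PB_lV (sp [z, u]) :=
  enumS_sp M.μ.1 (M.reps.tms M.μ.1 [(.v (nat_lit 0)), (.v (nat_lit 1))] (cs' := [(nat_lit 0xb25867934a10), (nat_lit 0xa916753428b)]) (by decide +kernel))
    (Ws := PB_lV_W) (by decide +kernel) (by decide +kernel)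
theorem PB_lV_c {G : Type*} [Group G] {R : ℕ → G → Prop} {z u v a b r p : G} {H : Subgroup G}
    (M : Mdl PB_o PB_cs PB_L R [z, u, v, a, b, r, p, p⁻¹] H) :
    #(sp [z, u]) = 4 :=
  (PB_lV_E M).card M.μ (h := PB_lV_h) (by decide +kernel)
noncomputable def PB_lN : List ℕ := [(nat_lit 0xba9876543210), (nat_lit 0x152034a679b8)]
noncomputable def PB_lN_W : List (List ℕ) := [[],
  [(nat_lit 0)]]
noncomputable def PB_lN_h (c : ℕ) : ℕ := Nat.mod c (nat_lit 7)
theorem PB_lN_E {G : Type*} [Group G] {R : ℕ → G → Prop} {z u v a b r p : G} {H : Subgroup G}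
    (M : Mdl PB_o PB_cs PB_L R [z, u, v, a, b, r, p, p⁻¹] H) :
    EnumS R PB_lN (sp [v]) :=
  enumS_sp M.μ.1 (M.reps.tms M.μ.1 [(.v (nat_lit 2))] (cs' := [(nat_lit 0x152034a679b8)]) (by decide +kernel))
    (Ws := PB_lN_W) (by decide +kernel) (by decide +kernel)
theorem PB_lN_c {G : Type*} [Group G] {R : ℕ → G → Prop} {z u v a b r p : G} {H : Subgroup G}
    (M : Mdl PB_o PB_cs PB_L R [z, u, v, a, b, r, p, p⁻¹] H) :
    #(sp [v]) = 2 :=
  (PB_lN_E M).card M.μ (h := PB_lN_h) (by decide +kernel)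
noncomputable def PB_e_F : Fm := (.qf (.and (.eq (.mul (.mul (.v (nat_lit 4)) (.v (nat_lit 6))) (.mul (.v (nat_lit 4)) (.v (nat_lit 6)))) .one) (.and (.eq (.mul (.mul (.v (nat_lit 4)) (.v (nat_lit 0))) (.mul (.v (nat_lit 4)) (.v (nat_lit 0)))) .one) (.and (.eq (.pw (.mul (.v (nat_lit 4)) (.mul (.v (nat_lit 4)) (.v (nat_lit 6)))) (nat_lit 3)) .one) (.and (.eq (.pw (.mul (.mul (.v (nat_lit 4)) (.v (nat_lit 6))) (.mul (.v (nat_lit 4)) (.v (nat_lit 0)))) (nat_lit 3)) .one) (.and (.eq (.mul (.v (nat_lit 4)) (.mul (.v (nat_lit 4)) (.v (nat_lit 0)))) (.mul (.mul (.v (nat_lit 4)) (.v (nat_lit 0))) (.v (nat_lit 4)))) (.and (.eq (.mul (.v (nat_lit 4)) (.v (nat_lit 2))) (.mul (.v (nat_lit 2)) (.v (nat_lit 4)))) (.and (.eq (.mul (.mul (.v (nat_lit 4)) (.v (nat_lit 6))) (.v (nat_lit 2))) (.mul (.v (nat_lit 2)) (.mul (.v (nat_lit 4)) (.v (nat_lit 6))))) (.and (.eq (.mul (.mul (.v (nat_lit 4)) (.v (nat_lit 0))) (.v (nat_lit 2))) (.mul (.v (nat_lit 2)) (.mul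 (.v (nat_lit 4)) (.v (nat_lit 0))))) (.and (.eq (.mul (.v (nat_lit 4)) (.mul (.v (nat_lit 4)) (.v (nat_lit 0)))) (.v (nat_lit 0))) (.and (.eq (.mul (.mul (.v (nat_lit 7)) (.v (nat_lit 0))) (.inv (.v (nat_lit 7)))) (.mul (.v (nat_lit 0)) (.v (nat_lit 1)))) (.and (.eq (.mul (.mul (.v (nat_lit 7)) (.v (nat_lit 3))) (.inv (.v (nat_lit 7)))) (.v (nat_lit 5))) (.eq (.mul (.mul (.v (nat_lit 7)) (.v (nat_lit 1))) (.inv (.v (nat_lit 7)))) (.v (nat_lit 0)))))))))))))))
theorem PB_e_chk : Fm.chk PB_o PB_e_F PB_cs = true := by decide +kernel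
theorem PB_e {G : Type*} [Group G] {R : ℕ → G → Prop} {z u v a b r p : G} {H : Subgroup G}
    (M : Mdl PB_o PB_cs PB_L R [z, u, v, a, b, r, p, p⁻¹] H) :
    b * p * (b * p) = 1 ∧ b * z * (b * z) = 1 ∧ (b * (b * p)) ^ 3 = 1 ∧ (b * p * (b * z)) ^ 3 = 1 ∧ b * (b * z) = b * z * b ∧ b * v = v * b ∧ b * p * v = v * (b * p) ∧ b * z * v = v * (b * z) ∧ b * (b * z) = z ∧ p⁻¹ * z * p⁻¹⁻¹ = z * u ∧ p⁻¹ * a * p⁻¹⁻¹ = r ∧ p⁻¹ * u * p⁻¹⁻¹ = z :=
  Fm.sound M.μ PB_e_F PB_e_chk M.reps
noncomputable def PB_K_F : Fm := (.qf (.and (.mem (.v (nat_lit 0)) PB_lK0) (.and (.mem (.v (nat_lit 1)) PB_lK0) (.not (.mem (.mul (.v (nat_lit 4)) (.mul (.v (nat_lit 4)) (.v (nat_lit 0)))) PB_lN)))))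
theorem PB_K_chk : Fm.chk PB_o PB_K_F PB_cs = true := by decide +kernel
theorem PB_K {G : Type*} [Group G] {R : ℕ → G → Prop} {z u v a b r p : G} {H : Subgroup G}
    (M : Mdl PB_o PB_cs PB_L R [z, u, v, a, b, r, p, p⁻¹] H) :
    z ∈ sp [b, b * p, b * z, v] ∧ u ∈ sp [b, b * p, b * z, v] ∧ b * (b * z) ∉ sp [v] :=
  have h : InS R PB_lK0 (z) ∧ InS R PB_lK0 (u) ∧ ¬ InS R PB_lN (b * (b * z)) :=
    Fm.sound M.μ PB_K_F PB_K_chk M.reps
  ((and_congr (PB_lK0_E M).iff (and_congr (PB_lK0_E M).iff (not_congr (PB_lN_E M).iff))).1 h)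
noncomputable def PB_N_F : Fm := (.allS PB_lN (.qf (.and (.or (.eq (.v (nat_lit 0)) .one) (.eq (.v (nat_lit 0)) (.v (nat_lit 3)))) (.eq (.mul (.mul (.mul (.v (nat_lit 5)) (.mul (.v (nat_lit 5)) (.v (nat_lit 1)))) (.v (nat_lit 0))) (.mul (.mul (.v (nat_lit 5)) (.mul (.v (nat_lit 5)) (.v (nat_lit 1)))) (.v (nat_lit 0)))) .one))))
theorem PB_N_chk : Fm.chk PB_o PB_N_F PB_cs = true := by decide +kernel
theorem PB_N {G : Type*} [Group G] {R : ℕ → G → Prop} {z u v a b r p : G} {H : Subgroup G}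
    (M : Mdl PB_o PB_cs PB_L R [z, u, v, a, b, r, p, p⁻¹] H) :
    ∀ n ∈ sp [v], (n = 1 ∨ n = v) ∧ b * (b * z) * n * (b * (b * z) * n) = 1 :=
  have h : ∀ n, InS R PB_lN n → (n = 1 ∨ n = v) ∧ b * (b * z) * n * (b * (b * z) * n) = 1 :=
    Fm.sound M.μ PB_N_F PB_N_chk M.reps
  (fun n h0 => (h n ((PB_lN_E M).iff.2 h0)))
noncomputable def PB_inv_t0 : ST := (.node (nat_lit 29) (.node (nat_lit 16) (.node (nat_lit 4) (.leaf (nat_lit 24)) (.node (nat_lit 7) (.leaf (nat_lit 28)) (.leaf (nat_lit 4)))) (.node (nat_lit 20) (.node (nat_lit 19) (.leaf (nat_lit 0)) (.leaf (nat_lit 100))) (.node (nat_lit 21) (.leaf (nat_lit 28)) (.leaf (nat_lit 0))))) (.node (nat_lit 49) (.node (nat_lit 41) (.node (nat_lit 31) (.leaf (nat_lit 24)) (.leaf (nat_lit 96))) (.node (nat_lit 48) (.leaf (nat_lit 48)) (.leaf (nat_lit 144)))) (.node (nat_lit 52) (.node (nat_lit 50) (.leaf (nat_lit 0)) (.leaf (nat_lit 4))) (.node (nat_lit 53) (.leaf (nat_lit 16)) (.leaf (nat_lit 40))))))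
noncomputable def PB_inv_F : Fm := (.allS PB_lK0 (.imp (.eq (.mul (.v (nat_lit 0)) (.v (nat_lit 0))) .one) (.or (.qf (.mem (.v (nat_lit 0)) PB_lV)) (.and (.qf (.or (.eq (.mul (.v (nat_lit 0)) (.v (nat_lit 1))) (.mul (.v (nat_lit 1)) (.v (nat_lit 0)))) (.or (.eq (.mul (.v (nat_lit 0)) (.v (nat_lit 2))) (.mul (.v (nat_lit 2)) (.v (nat_lit 0)))) (.eq (.mul (.v (nat_lit 0)) (.mul (.v (nat_lit 1)) (.v (nat_lit 2)))) (.mul (.mul (.v (nat_lit 1)) (.v (nat_lit 2))) (.v (nat_lit 0))))))) (.exF PB_L (fun cs => PB_inv_t0.find (Nat.mod (nth (nat_lit 0) cs (nat_lit 0)) (nat_lit 62))) (.qf (.or (.eq (.mul (.mul (.v (nat_lit 0)) (.v (nat_lit 1))) (.inv (.v (nat_lit 0)))) (.v (nat_lit 4))) (.or (.eq (.mul (.mul (.v (nat_lit 0)) (.v (nat_lit 1))) (.inv (.v (nat_lit 0)))) (.v (nat_lit 6))) (.eq (.mul (.mul (.v (nat_lit 0)) (.v (nat_lit 1))) (.inv (.v (nat_lit 0)))) (.mul (.v (nat_lit 6)) (.v (nat_lit 4))))))))))))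
theorem PB_inv_chk : Fm.chk PB_o PB_inv_F PB_cs = true := by decide +kernel
theorem PB_inv {G : Type*} [Group G] {R : ℕ → G → Prop} {z u v a b r p : G} {H : Subgroup G}
    (M : Mdl PB_o PB_cs PB_L R [z, u, v, a, b, r, p, p⁻¹] H) :
    ∀ c ∈ sp [b, b * p, b * z, v], c * c = 1 → c ∈ sp [z, u] ∨ (c * z = z * c ∨ c * u = u * c ∨ c * (z * u) = z * u * c) ∧ (∃ h ∈ H, h * c * h⁻¹ = v ∨ h * c * h⁻¹ = b ∨ h * c * h⁻¹ = b * v) :=
  have h : ∀ c, InS R PB_lK0 c → c * c = 1 → InS R PB_lV (c) ∨ (c * z = z * c ∨ c * u = u * c ∨ c * (z * u) = z * u * c) ∧ (Good PB_o R PB_L → prods PB_o PB_L PB_o.one ≠ [] → ∃ h, InL PB_o R PB_L h ∧ (h * c * h⁻¹ = v ∨ h * c * h⁻¹ = b ∨ h * c * h⁻¹ = b * v)) :=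
    Fm.sound M.μ PB_inv_F PB_inv_chk M.reps
  (fun c h0 => (fun h1 => (Or.imp (fun h2 => ((PB_lV_E M).iff.1 h2)) (fun h2 => (And.imp (fun h3 => h3) (fun h3 => (Exists.imp (fun h h4 => ⟨M.H.iff.1 h4.1, h4.2⟩) (h3 M.H.good M.H.ne))) h2)) ((h c ((PB_lK0_E M).iff.2 h0)) h1))))
noncomputable def PB_V_F : Fm := (.allS PB_lV (.and (.qf (.or (.eq (.v (nat_lit 0)) .one) (.or (.eq (.v (nat_lit 0)) (.v (nat_lit 1))) (.or (.eq (.v (nat_lit 0)) (.v (nat_lit 2))) (.eq (.v (nat_lit 0)) (.mul (.v (nat_lit 1)) (.v (nat_lit 2)))))))) (.allS PB_lV (.qf (.eq (.mul (.v (nat_lit 1)) (.v (nat_lit 0))) (.mul (.v (nat_lit 0)) (.v (nat_lit 1))))))))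
theorem PB_V_chk : Fm.chk PB_o PB_V_F PB_cs = true := by decide +kernel
theorem PB_V {G : Type*} [Group G] {R : ℕ → G → Prop} {z u v a b r p : G} {H : Subgroup G}
    (M : Mdl PB_o PB_cs PB_L R [z, u, v, a, b, r, p, p⁻¹] H) :
    ∀ y ∈ sp [z, u], (y = 1 ∨ y = z ∨ y = u ∨ y = z * u) ∧ (∀ s ∈ sp [z, u], y * s = s * y) :=
  have h : ∀ y, InS R PB_lV y → (y = 1 ∨ y = z ∨ y = u ∨ y = z * u) ∧ (∀ s, InS R PB_lV s → y * s = s * y) :=
    Fm.sound M.μ PB_V_F PB_V_chk M.reps
  (fun y h0 => (And.imp (fun h1 => h1) (fun h1 => (fun s h2 => (h1 s ((PB_lV_E M).iff.2 h2)))) (h y ((PB_lV_E M).iff.2 h0))))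

end H10.X
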