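/-
Solvability of `Out(G)` from the action on a Sylow 2-subgroup (Glauberman).
-/
import Cfsg.Agent.S0227
import Cfsg.Agent.S4208
import Cfsg.Agent.H23.Auto
import Cfsg.Agent.H5.Burnside
import Cfsg.Prelude.Def_KGroupFacts

set_option autoImplicit false

namespace H10
open Cfsg Subgroup
open scoped Pointwise

variable {G : Type*} [Group G]

/-- the automorphisms stabilizing `S` -/
def autStab (S : Subgroup G) : Subgroup (MulAut G) where
  carrier := {φ | ∀ x, φ x ∈ S ↔ x ∈ S}
  one_mem' := fun _ => Iff.rfl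
  mul_mem' := fun {a b} ha hb x => (ha (b x)).trans (hb x)
  inv_mem' := fun {a} ha x => by
    have := ha (a⁻¹ x)
    rw [MulAut.apply_inv_self] at this
    exact this.symm

/-- restriction to `S` -/
def autRes (S : Subgroup G) : autStab S →* MulAut S where
  toFun φ :=
    { toFun := fun s => ⟨φ.1 s, (φ.2 s).2 s.2⟩
      invFun := fun s => ⟨(φ⁻¹).1 s, ((φ⁻¹).2 s).2 s.2⟩
      left_inv := fun s => Subtype.ext (by simp)
      right_inv := fun s => Subtype.ext (by simp)
      map_mul' := fun s t => Subtype.ext (by simp) }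
  map_one' := rfl
  map_mul' _ _ := rfl

theorem autRes_eq_one {S : Subgroup G} {φ : autStab S} : autRes S φ = 1 ↔ ∀ s ∈ S, φ.1 s = s :=
  ⟨fun h s hs => congrArg (fun α : MulAut S => (α ⟨s, hs⟩ : G)) h,
    fun h => MulEquiv.ext fun s => Subtype.ext (h s s.2)⟩

theorem conj_mem_autStab {S : Subgroup G} {g : G} (hg : g ∈ normalizer (S : Set G)) :
    MulAut.conj g ∈ autStab S := fun x => (mem_normalizer_iff.1 hg x).symm

/-- the map to `Out G` -/
def autOut (S : Subgroup G) : autStab S →* Out G := (QuotientGroup.mk' (Inn G)).comp (autStab S).subtype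

variable [Finite G]

theorem autOut_surj {p : ℕ} [Fact p.Prime] (S : Sylow p G) :
    Function.Surjective (autOut (S : Subgroup G)) := by
  intro y
  obtain ⟨α, rfl⟩ := QuotientGroup.mk_surjective y
  obtain ⟨g, hg⟩ := MulAction.exists_smul_eq G (α • S) S
  refine ⟨⟨MulAut.conj g * α, fun x => ?_⟩, ?_⟩
  · have : (MulAut.conj g * α) • (S : Subgroup G) = S := by
      rw [mul_smul]; exact congrArg Sylow.toSubgroup hg
    conv_lhs => rw [← this]
    exact smul_mem_pointwise_smul_iff
  · change ((MulAut.conj g * α : MulAut G) : Out G) = α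
    rw [QuotientGroup.mk_mul, (QuotientGroup.eq_one_iff (N := Inn G) _).2 ⟨g, rfl⟩, one_mul]

theorem out_solvable_of [IsSimpleGroup G] (S : Sylow 2 G) (hS1 : (S : Subgroup G) ≠ ⊥)
    (K : Subgroup (autStab (S : Subgroup G))) [K.Normal]
    (hK : K ≤ (autRes (S : Subgroup G)).ker ⊔ (autOut (S : Subgroup G)).ker)
    (h : Group.IsSolvable (autStab (S : Subgroup G) ⧸ K)) : Group.IsSolvable (Out G) := by
  have hO : ∀ N : Subgroup G, N.Normal → Odd (Nat.card N) → N = ⊥ := fun N hN ho =>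
    hN.eq_bot_or_eq_top.resolve_right fun e => by
      rw [e, card_top] at ho
      obtain ⟨k, hk⟩ := IsPGroup.iff_card.1 S.isPGroup'
      have h1 := (S : Subgroup G).card_subgroup_dvd_card
      rcases k with _ | k
      · exact hS1 (card_eq_one.1 hk)
      · rw [hk, pow_succ] at h1
        exact (Nat.not_even_iff_odd.2 ho) (even_iff_two_dvd.2 (dvd_of_mul_left_dvd h1))
  set ρ := autRes (S : Subgroup G)
  set π := autOut (S : Subgroup G)
  have hπ := autOut_surj S
  have h1 := (Cfsg.Agent.S0227.result hO S (ρ.ker.map (autStab (S : Subgroup G)).subtype) fun φ =>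
    ⟨fun ⟨ψ, h1, h2⟩ => h2 ▸ autRes_eq_one.1 h1, fun h => by
      refine ⟨⟨φ, fun x => ⟨fun hx => ?_, fun hx => (h x hx).symm ▸ hx⟩⟩, autRes_eq_one.2 h, rfl⟩
      rwa [φ.injective (h _ hx)] at hx⟩).2
  haveI h2 : Group.IsSolvable ρ.ker := Group.isSolvable_of_isSolvable_injective
    (f := (ρ.ker.equivMapOfInjective _ (autStab (S : Subgroup G)).subtype_injective).toMonoidHom)
    (MulEquiv.injective _)
  haveI : (ρ.ker.map π).Normal := Normal.map inferInstance π hπ
  haveI : Group.IsSolvable (ρ.ker.map π) := Group.isSolvable_of_surjective (π.subgroupMap_surjective ρ.ker)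
  let f : autStab (S : Subgroup G) →* Out G ⧸ ρ.ker.map π := (QuotientGroup.mk' _).comp π
  have hf : K ≤ f.ker := hK.trans (sup_le (fun x hx => (QuotientGroup.eq_one_iff _).2 ⟨x, hx, rfl⟩)
    fun x hx => by rw [MonoidHom.mem_ker] at hx ⊢; rw [MonoidHom.comp_apply, hx, map_one])
  haveI : Group.IsSolvable (Out G ⧸ ρ.ker.map π) :=
    Group.isSolvable_of_surjective (f := QuotientGroup.lift K f hf) fun y => by
      obtain ⟨x, rfl⟩ := ((QuotientGroup.mk'_surjective _).comp hπ) y
      exact ⟨x, rfl⟩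
  exact Group.isSolvable_of_ker_le_range (ρ.ker.map π).subtype (QuotientGroup.mk' (ρ.ker.map π)) (by simp)

theorem out_solvable_of_aut [IsSimpleGroup G] (S : Sylow 2 G) (hS1 : (S : Subgroup G) ≠ ⊥)
    (h : Group.IsSolvable (MulAut S)) : Group.IsSolvable (Out G) :=
  out_solvable_of S hS1 (autRes (S : Subgroup G)).ker le_sup_left
    (Group.isSolvable_of_isSolvable_injective (QuotientGroup.kerLift_injective _))

theorem card_aut_of_index {P : Type*} [Group P] [Finite P] (hP : IsPGroup 2 P) {r : ℕ}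
    (h : (frattini P).index ∣ 2 ^ r) :
    ∃ a s, s ≤ r ∧ Nat.card (MulAut P) ∣ 2 ^ a * ∏ i ∈ Finset.range s, (2 ^ s - 2 ^ i) := by
  obtain ⟨n, hn⟩ := IsPGroup.iff_card.1 hP
  obtain ⟨s, hs, e⟩ := (Nat.dvd_prime_pow Nat.prime_two).1 h
  exact ⟨_, s, hs, Cfsg.Agent.S4208.result hn e⟩

theorem aut_solvable_of_index {P : Type*} [Group P] [Finite P] (hP : IsPGroup 2 P)
    (h : (frattini P).index ∣ 2 ^ 2) : Group.IsSolvable (MulAut P) := by
  obtain ⟨a, s, hs, e⟩ := card_aut_of_index hP h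
  refine H5.isSolvable_of_card_dvd_prime_pow_mul (a := a + 1) (b := 1) Nat.prime_two Nat.prime_three
    (e.trans ?_)
  rw [pow_succ, mul_assoc]
  refine Nat.mul_dvd_mul_left _ ?_
  interval_cases s <;> decide

theorem index_frattini_dvd_of_gen {P : Type*} [Group P] [Finite P] (hP : IsPGroup 2 P) (s : Finset P)
    (h : closure (s : Set P) = ⊤) {r : ℕ} (hr : s.card ≤ r) : (frattini P).index ∣ 2 ^ r :=
  (H23.index_frattini_dvd hP).trans (pow_dvd_pow 2 ((Group.rank_le h).trans hr))

theorem out_solvable_of_three [IsSimpleGroup G] (S : Sylow 2 G) (hS1 : (S : Subgroup G) ≠ ⊥)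
    (h : (frattini S).index ∣ 2 ^ 3) {g : G} (hg : g ∈ normalizer ((S : Subgroup G) : Set G))
    (ho : Odd (orderOf g)) (hc : g ∉ centralizer ((S : Subgroup G) : Set G)) :
    Group.IsSolvable (Out G) := by
  set ρ := autRes (S : Subgroup G)
  set π := autOut (S : Subgroup G)
  obtain ⟨a, s, hs, e⟩ := card_aut_of_index S.isPGroup' h
  have e2 : Nat.card (MulAut S) ∣ 2 ^ (a + 3) * 21 := by
    refine e.trans ?_
    rw [pow_add, mul_assoc]
    refine Nat.mul_dvd_mul_left _ ?_
    interval_cases s <;> decide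
  refine out_solvable_of S hS1 (ρ.ker ⊔ π.ker) le_rfl ?_
  let c : autStab (S : Subgroup G) := ⟨MulAut.conj g, conj_mem_autStab hg⟩
  have h1 : c ∈ ρ.ker ⊔ π.ker := mem_sup_right ((QuotientGroup.eq_one_iff _).2 ⟨g, rfl⟩)
  have h2 : ρ.rangeRestrict c ≠ 1 := fun e => hc fun s hs => by
    have := autRes_eq_one.1 (congrArg Subtype.val e) s hs
    exact (mul_inv_eq_iff_eq_mul.1 this).symm
  have h3 : orderOf (ρ.rangeRestrict c) ∣ orderOf g := by
    refine (orderOf_map_dvd _ _).trans ?_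
    rw [← orderOf_coe c]
    exact orderOf_map_dvd MulAut.conj g
  obtain ⟨q, hq, h4⟩ := Nat.exists_prime_and_dvd (mt orderOf_eq_one_iff.1 h2)
  have h5 : (ρ.ker ⊔ π.ker).index * q ∣ 2 ^ (a + 3) * 21 := by
    rw [← index_map_eq _ ρ.rangeRestrict_surjective (by rw [MonoidHom.ker_rangeRestrict]; exact le_sup_left)]
    refine (Nat.mul_dvd_mul_left _ (h4.trans (orderOf_dvd_natCard _ (mem_map_of_mem _ h1)))).trans ?_
    rw [index_mul_card]
    exact (card_subgroup_dvd_card _).trans e2
  have h6 : q ≠ 2 := by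
    rintro rfl
    exact (Nat.not_even_iff_odd.2 ho) (even_iff_two_dvd.2 (h4.trans h3))
  have h7 : q ∣ 3 * 7 := (Nat.Coprime.pow_right _ ((Nat.coprime_primes hq Nat.prime_two).2 h6)).dvd_of_dvd_mul_left
    (dvd_of_mul_left_dvd h5)
  rcases (Nat.Prime.dvd_mul hq).1 h7 with h8 | h8
  · obtain rfl := (Nat.prime_dvd_prime_iff_eq hq Nat.prime_three).1 h8
    refine H5.isSolvable_of_card_dvd_prime_pow_mul (a := a + 3) (b := 1) Nat.prime_two (by norm_num : Nat.Prime 7) ?_
    exact Nat.dvd_of_mul_dvd_mul_right (by norm_num : 0 < 3) (by rw [mul_assoc]; exact h5)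
  · obtain rfl := (Nat.prime_dvd_prime_iff_eq hq (by norm_num : Nat.Prime 7)).1 h8
    refine H5.isSolvable_of_card_dvd_prime_pow_mul (a := a + 3) (b := 1) Nat.prime_two Nat.prime_three ?_
    exact Nat.dvd_of_mul_dvd_mul_right (by norm_num : 0 < 7) (by rw [mul_assoc]; exact h5)

omit [Finite G] in
theorem out_solvable_congr {G' : Type*} [Group G'] (e : G ≃* G') (h : Group.IsSolvable (Out G')) :
    Group.IsSolvable (Out G) := by
  let f : MulAut G' →* Out G := (QuotientGroup.mk' (Inn G)).comp (MulAut.congr e.symm).toMonoidHom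
  refine Group.isSolvable_of_surjective (f := QuotientGroup.lift (Inn G') f ?_) fun y => ?_
  · rintro _ ⟨g, rfl⟩
    exact (QuotientGroup.eq_one_iff _).2 ⟨e.symm g, by ext x; simp⟩
  · obtain ⟨α, rfl⟩ := QuotientGroup.mk_surjective y
    exact ⟨(MulAut.congr e α : MulAut G'), congrArg (QuotientGroup.mk' (Inn G)) (MulEquiv.ext fun x => by simp)⟩

end H10
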