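/-
`Out(G)` is solvable for the simple groups of Goldschmidt's theorem.
-/
import Cfsg.Agent.H10.OutSol
import Cfsg.Agent.H3.ZDHub
import Cfsg.Agent.H17.Ly6
import Cfsg.Agent.H17.GS23
import Cfsg.Agent.S2126
import Cfsg.Agent.S2602
import Cfsg.Agent.S2603
import Cfsg.Agent.S0205

set_option autoImplicit false

namespace H10
open Cfsg Subgroup H19 H17.GS

variable {G : Type*} [Group G] [Finite G]

omit [Finite G] in
theorem solvable_of_cyc_ker {n : ℕ} (φ : G →* Multiplicative (ZMod n)) (h : IsCyclic φ.ker) :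
    Group.IsSolvable G := by
  haveI : Group.IsSolvable φ.ker := Group.isSolvable_of_comm (mul_comm_of_comm' h)
  exact Group.isSolvable_of_ker_le_range φ.ker.subtype φ (by simp)
where mul_comm_of_comm' {X : Type _} [Group X] (h : IsCyclic X) : ∀ a b : X, a * b = b * a :=
  fun a b => (IsCyclic.isMulCommutative (α := X)).1.1 a b

omit [Finite G] in
theorem out_solvable_of_bender (h : H3.IsBender G) : Group.IsSolvable (Out G) := by
  rcases h with ⟨F, _, _, ⟨n, h1, h2⟩, ⟨e⟩⟩ | ⟨F, _, _, m, h1, h2, ⟨e⟩⟩ | ⟨F, _, _, n, h1, h2, ⟨e⟩⟩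
  · obtain ⟨φ, -, h3, -⟩ := Cfsg.Agent.S2602.result (p := 2) (by omega) h2 (Nat.pow_le_pow_right two_pos h1)
    exact out_solvable_congr e (solvable_of_cyc_ker φ h3)
  · have h3 := Cfsg.Agent.S2126.result h1 h2
    haveI : Finite (Out ↥(Lie.Sz F (2 ^ (m + 1)))) := Nat.finite_of_card_ne_zero (by omega)
    exact out_solvable_congr e (Cfsg.Agent.S0205.result (by rw [h3]; exact ⟨m, rfl⟩))
  · obtain ⟨φ, -, h3, -⟩ := Cfsg.Agent.S2603.result (p := 2) (f := n) (n := 3) (by omega) rfl h2 le_rfl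
      fun h => by
        have := Nat.pow_le_pow_right two_pos h1
        omega
    exact out_solvable_congr e (solvable_of_cyc_ker φ h3)

theorem exists_odd_not_cent [IsSimpleGroup G] (hG : ¬ IsMulCommutative G) (S : Sylow 2 G)
    (hS1 : (S : Subgroup G) ≠ ⊥) (hab : IsMulCommutative (S : Subgroup G)) :
    ∃ g ∈ normalizer ((S : Subgroup G) : Set G), Odd (orderOf g) ∧
      g ∉ centralizer ((S : Subgroup G) : Set G) := by
  by_contra hc
  push Not at hc
  have h1 : normalizer ((S : Subgroup G) : Set G) ≤ centralizer ((S : Subgroup G) : Set G) := by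
    intro x hx
    rw [← constt_mul_compl {2} x]
    refine mul_mem (comm_iff_le_cent.1 hab (H1.le_sylow_of_le_normalizer' S (Q := zpowers (constt {2} x)) ?_
      (zpowers_le.2 (constt_mem _ hx)) (mem_zpowers _))) (hc _ (constt_mem _ hx) ?_)
    · obtain ⟨k, hk⟩ := (constt_pi {2} x).exists_pow (orderOf_pos _).ne'
      exact IsPGroup.of_card ((Nat.card_zpowers _).trans hk)
    · exact Nat.not_even_iff_odd.1 fun h =>
        (piN_compl_singleton Nat.prime_two).1 (constt_pi {2}ᶜ x) (even_iff_two_dvd.1 h)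
  have h2 := MonoidHom.ker_transferSylow_isComplement' S h1
  rcases (inferInstance : (MonoidHom.transferSylow S h1).ker.Normal).eq_bot_or_eq_top with e | e
  · rw [e, isComplement'_bot_left] at h2
    rw [h2] at hab
    exact hG ⟨⟨fun a b => mul_comm_of_comm hab (mem_top a) (mem_top b)⟩⟩
  · rw [e, isComplement'_top_left] at h2
    exact hS1 h2

theorem sim_top [IsSimpleGroup G] (hG : ¬ IsMulCommutative G) : Sim (⊤ : Subgroup G) :=
  ⟨topEquiv.isSimpleGroup, fun h => hG ⟨⟨fun a b => mul_comm_of_comm h (mem_top a) (mem_top b)⟩⟩⟩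

theorem out_solvable_of_gt [IsSimpleGroup G] (hG : ¬ IsMulCommutative G) (h : GT (⊤ : Subgroup G)) :
    Group.IsSolvable (Out G) := by
  rcases h with ⟨Y, h⟩ | ⟨V, h1, h2⟩ | h
  · exact out_solvable_of_bender ((h.bender (sim_top hG)).of_equiv topEquiv.symm)
  · obtain ⟨S, rfl⟩ := h2.exists_sylow_top
    exact out_solvable_of_aut S h1.ne_bot
      (aut_solvable_of_index S.isPGroup' (h1.card ▸ index_dvd_card _))
  · obtain ⟨V, h1, h2⟩ := h.syl
    obtain ⟨S, rfl⟩ := h2.exists_sylow_top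
    obtain ⟨g, k1, k2, k3⟩ := exists_odd_not_cent hG S h1.ne_bot h1.comm
    exact out_solvable_of_three S h1.ne_bot (h1.card ▸ index_dvd_card _) k1 k2 k3

/-- Goldschmidt's theorem, unconditional -/
theorem gold {L A : Subgroup G} (hL : Sim L) (hA : Abelem 2 A) (hs : SCl A L) (h0 : A ≠ ⊥) : GT L :=
  gold' hL hA hs h0

theorem exists_conj_le_sylow' (S : Sylow 2 G) {P : Subgroup G} (hP : IsPGroup 2 P) : ∃ y, cj y P ≤ S := by
  obtain ⟨T, hT⟩ := hP.exists_le_sylow
  obtain ⟨y, hy⟩ := MulAction.exists_smul_eq G T S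
  exact ⟨y, (cj_mono y hT).trans (by rw [← hy]; exact le_rfl)⟩

/-- if the involutions of a Sylow 2-subgroup commute, they form a strongly closed subgroup -/
theorem exists_scl (S : Sylow 2 G) (hS1 : (S : Subgroup G) ≠ ⊥)
    (h : ∀ s ∈ S, ∀ t ∈ S, orderOf s = 2 → orderOf t = 2 → s * t = t * s) :
    ∃ A : Subgroup G, Abelem 2 A ∧ SCl A ⊤ ∧ A ≠ ⊥ ∧ ∀ x, x ∈ A ↔ x ∈ S ∧ x * x = 1 := by
  have o2 : ∀ {x : G}, x ≠ 1 → x * x = 1 → orderOf x = 2 := fun h1 h2 =>
    orderOf_eq_prime (by rw [sq, h2]) h1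
  have h' : ∀ s ∈ S, ∀ t ∈ S, s * s = 1 → t * t = 1 → s * t = t * s := fun s hs t ht h1 h2 => by
    by_cases e1 : s = 1
    · simp [e1]
    by_cases e2 : t = 1
    · simp [e2]
    exact h s hs t ht (o2 e1 h1) (o2 e2 h2)
  let A : Subgroup G :=
    { carrier := {x | x ∈ S ∧ x * x = 1}
      one_mem' := ⟨one_mem _, one_mul 1⟩
      mul_mem' := fun {a b} ha hb => ⟨mul_mem ha.1 hb.1, by
        rw [mul_assoc, ← mul_assoc b, ← h' a ha.1 b hb.1 ha.2 hb.2, mul_assoc, hb.2, mul_one, ha.2]⟩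
      inv_mem' := fun {a} ha => ⟨inv_mem ha.1, by rw [← mul_inv_rev, ha.2, inv_one]⟩ }
  have hA : ∀ x, x ∈ A ↔ x ∈ S ∧ x * x = 1 := fun x => Iff.rfl
  have hab : Abelem 2 A := abelem_of_sq fun x hx => hx.2
  have hpg : PG 2 A := (syl_sylow_top S).pi.of_le fun x hx => hx.1
  refine ⟨A, hab, ⟨le_top, hpg, fun P hP hAP a ha g _ hg => ?_⟩, ?_, hA⟩
  · obtain ⟨k, hk⟩ := hP.exists_pow (card_ne_zero _)
    obtain ⟨y, hy⟩ := exists_conj_le_sylow' S (IsPGroup.of_card hk)
    have h1 : cj y A ≤ A := fun x hx => ⟨hy (cj_mono y hAP hx), by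
      have := (mem_cj.1 hx).2
      calc x * x = y * (y⁻¹ * x * y * (y⁻¹ * x * y)) * y⁻¹ := by group
        _ = 1 := by rw [this]; group⟩
    have h2 := eq_of_le_of_card_eq h1 (card_cj y A)
    rw [← conj_mem_cj (g := y), h2]
    refine ⟨hy (conj_mem_cj.2 hg), ?_⟩
    calc _ = y * g * (a * a) * (y * g)⁻¹ := by group
      _ = 1 := by rw [ha.2]; group
  · obtain ⟨k, hk⟩ := IsPGroup.iff_card.1 S.isPGroup'
    obtain ⟨x, hx, h2⟩ := exists_orderOf_eq_prime (H := (S : Subgroup G)) Nat.prime_two (by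
      rcases k with _ | k
      · exact absurd (card_eq_one.1 hk) hS1
      · rw [hk]; exact dvd_pow_self 2 (by omega))
    refine ne_bot_of_mem (x := x) ⟨hx, by rw [← sq, ← h2, pow_orderOf_eq_one]⟩ ?_
    rintro rfl
    simp at h2

end H10
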