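import Cfsg.Agent.H10.Y13

/-! The module `2 ⊗ 4` for `S₃ × S₆` in binary coordinates. -/

set_option autoImplicit false

namespace H10.R
open H10.Y

def N8 := Fin 256
instance : DecidableEq N8 := instDecidableEqFin 256
instance : Fintype N8 := Fin.fintype 256
instance : Add N8 := ⟨fun a b => ⟨a.1 ^^^ b.1, Nat.xor_lt_two_pow (n := 8) a.2 b.2⟩⟩
instance : Zero N8 := ⟨⟨0, by decide⟩⟩
instance : Neg N8 := ⟨id⟩
instance : AddCommGroup N8 where
  add_assoc a b c := Fin.ext (Nat.xor_assoc _ _ _)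
  zero_add a := Fin.ext (Nat.zero_xor _)
  add_zero a := Fin.ext (Nat.xor_zero _)
  neg_add_cancel a := Fin.ext (Nat.xor_self _)
  add_comm a b := Fin.ext (Nat.xor_comm _ _)
  nsmul := nsmulRec
  zsmul := zsmulRec
def n8 (n : ℕ) : N8 := ⟨n % 256, Nat.mod_lt _ (by decide)⟩
def A8 (p : N8 → Bool) : Bool := (List.range 256).all fun n => p (n8 n)
theorem n8v (v : N8) : n8 v.1 = v := Fin.ext (Nat.mod_eq_of_lt v.2)
theorem A8.of {p : N8 → Bool} (h : A8 p = true) (v : N8) : p v = true :=
  n8v v ▸ List.all_eq_true.1 h v.1 (List.mem_range.2 v.2)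

def st {α : Type} (n : ℕ) (k : ℕ → α) : α := Nat.casesOn n (k 0) fun m => k (m + 1)
theorem st_eq {α : Type} (n : ℕ) (k : ℕ → α) : st n k = k n := by cases n <;> rfl
def q8 (v : N8) : ZMod 2 := st v.1 fun v =>
  bif ((v.testBit 0 && v.testBit 5) ^^ (v.testBit 1 && v.testBit 4)) ^^
    ((v.testBit 2 && v.testBit 7) ^^ (v.testBit 3 && v.testBit 6)) then 1 else 0
def b8 (u v : N8) : ZMod 2 := q8 (u + v) + q8 u + q8 v
def ap (g m : ℕ) : ℕ := ((bif m.testBit 0 then g % 16 else 0) ^^^ (bif m.testBit 1 then g / 16 % 16 else 0)) ^^^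
  ((bif m.testBit 2 then g / 256 % 16 else 0) ^^^ (bif m.testBit 3 then g / 4096 % 16 else 0))
def tf (φ : ℕ → ℕ) (v : N8) : N8 := st v.1 fun v => ⟨φ (v % 16) % 16 + 16 * (φ (v / 16) % 16), by omega⟩
def T (g : ℕ) : N8 → N8 := tf (ap g)
def om (v : N8) : N8 := st v.1 fun v => n8 (v / 16 + 16 * (v % 16 ^^^ v / 16))
def sn (v : N8) : N8 := st v.1 fun v => n8 ((v % 16 ^^^ v / 16) + 16 * (v / 16))
def oj (j : ℕ) (v : N8) : N8 := bif j == 0 then v else bif j == 1 then om v else om (om v)
def so (c : Bool × Bool) (v : N8) : N8 :=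
  bif c.1 then sn (bif c.2 then T 33841 v else v) else bif c.2 then T 33841 v else v
def mo (c : Bool × Bool) (j g : ℕ) (v : N8) : N8 := oj j (so c (T g v))
def R1 (v : N8) : Bool := st v.1 fun v => v != 0 && (v < 16 || v % 16 == 0 || v % 16 == v / 16)

theorem tf_val (φ : ℕ → ℕ) (v : N8) : (tf φ v).1 = φ (v.1 % 16) % 16 + 16 * (φ (v.1 / 16) % 16) :=
  congrArg Fin.val (st_eq (α := N8) _ _)
theorem tf_tf (φ ψ : ℕ → ℕ) (v : N8) : tf φ (tf ψ v) = tf (fun m => φ (ψ m % 16)) v := by
  have a : ∀ x y : ℕ, (x % 16 + 16 * (y % 16)) % 16 = x % 16 ∧ (x % 16 + 16 * (y % 16)) / 16 = y % 16 := fun x y => by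
    omega
  exact Fin.ext (by simp only [tf_val, a])
theorem tf_ext {φ ψ : ℕ → ℕ} (h : ∀ m < 16, φ m % 16 = ψ m % 16) (v : N8) : tf φ v = tf ψ v := by
  exact Fin.ext (by simp only [tf_val, h _ (Nat.mod_lt _ (by decide) : v.1 % 16 < 16), h (v.1 / 16) (by have := v.2; omega)])

def LA : List ℕ := [33825, 33842, 51233, 12676, 54369, 33811, 51250, 12744, 54390, 19489, 9092, 40289, 4740, 50225, 29140, 58482,
  22689, 24980, 51219, 12620, 54295, 19506, 9160, 40310, 4808, 50211, 29085, 58455, 22714, 25049, 18785, 35889,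
  26580, 44658, 54689, 30356, 18481, 5844, 50194, 8644, 38001, 21220, 45400, 62547, 26802, 41432, 62518, 40161,
  21428, 23985, 29348, 19475, 9036, 40215, 4684, 29001, 58405, 22555, 24909, 18806, 35875, 26525, 44631, 54714,
  30425, 18467, 5789, 8588, 37991, 21166, 45525, 62565, 26779, 41309, 40190, 21499, 23979, 29418, 19058, 36257,
  6036, 35858, 12996, 55665, 30180, 43864, 48979, 59058, 47832, 48950, 23009, 26036, 34225, 22436, 18450, 5060,
  19825, 10212, 6744, 8520, 37910, 42066, 55473, 25588, 37480, 22260, 61852, 30867, 57692, 44274, 37880, 11686,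
  45800, 46179, 45453, 30778, 57801, 51697, 23793, 28306, 38385, 14004, 18711, 26441, 44581, 54555, 30285, 5705,
  21066, 26665, 41349, 39967, 21327, 23834, 29262, 19031, 36282, 6105, 12940, 55655, 30126, 43989, 48997, 59035,
  47709, 23038, 26107, 34219, 22506, 5004, 19815, 10158, 6869, 42101, 55467, 25535, 37606, 22207, 61785, 30889,
  57749, 44255, 37759, 11722, 45678, 46166, 51695, 23791, 28345, 38383, 14075, 19283, 36530, 7128, 19254, 50657,
  9636, 12872, 55574, 59986, 47464, 13812, 61340, 63379, 65116, 27378, 43512, 62118, 39912, 64355, 43917, 63290,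
  65225, 34450, 4936, 19734, 20050, 11112, 7836, 7005, 42023, 55322, 59538, 41848, 53932, 50733, 39544, 48339,
  54140, 15815, 62060, 47590, 31971, 51181, 16055, 9706, 34489, 63651, 42749, 37518, 61893, 48190, 54219, 15739,
  62154, 51922, 27858, 32675, 42706, 12230, 15096, 18981, 36123, 5965, 30026, 58921, 47749, 22815, 25935, 34074,
  22350, 10058, 6797, 25419, 22091, 44077, 37767, 11628, 45702, 46133, 51486, 23582, 28203, 38174, 13903, 19301,
  36507, 50686, 60021, 13759, 61273, 63401, 65173, 27359, 43391, 39790, 64342, 20085, 11238, 7769, 7045, 59577,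
  41975, 53866, 50930, 39671, 48365, 54199, 15804, 47502, 31966, 51006, 16075, 9550, 34347, 63642, 42543, 51965,
  27901, 32666, 12204, 14975, 36755, 8028, 57254, 10728, 20323, 36666, 8137, 59943, 64940, 14712, 31699, 60796,
  58311, 57196, 47075, 61381, 31550, 60875, 58235, 57290, 34723, 53958, 20007, 20310, 27181, 10606, 8085, 59435,
  64966, 58300, 46909, 10630, 57020, 52029, 43399, 34617, 7877, 13643, 64874, 14839, 34714, 60855, 47070, 41871,
  50911, 27695, 52195, 39814, 36393, 15996, 31725, 50463, 64309, 11150, 39567, 31805, 51155, 63545, 51759,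
  32569, 12138, 14983, 36777, 20277, 56955, 14735, 52190, 57031]
def LW : List ℕ := [0, 1, 2, 3, 4, 6, 11, 16, 21, 12, 17, 22, 8, 18, 23, 9, 14, 19, 56, 81, 106, 61, 86, 111, 41, 91, 116, 46, 71,
  96, 112, 92, 117, 47, 72, 97, 83, 108, 43, 93, 118, 48, 73, 34, 59, 84, 109, 64, 89, 114, 44, 306, 431, 556,
  206, 581, 231, 356, 481, 561, 461, 586, 236, 361, 486, 416, 541, 466, 591, 241, 366, 171, 296, 421, 321, 446,
  571, 221, 237, 362, 487, 217, 467, 592, 242, 367, 172, 297, 422, 547, 322, 447, 572, 222, 208, 458, 583, 233,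
  358, 418, 543, 243, 368, 173, 298, 548, 323, 284, 409, 309, 434, 559, 209, 459, 584, 359, 484, 564, 464, 239,
  364, 544, 2806, 2931, 1181, 1806, 2431, 2706, 1206, 1481, 2106, 1606, 2231, 2856, 1106, 1186, 1811, 2436,
  2336, 2961, 1211, 1836, 861, 1486, 2111, 1611, 2236, 2861, 1111, 2291, 2916, 1166, 1791, 1216, 1841, 866,
  1491, 2741, 1616, 1421, 2046, 1546, 2171, 2796, 1046, 2296, 2821, 2321, 1196, 1821, 2721, 862, 1487, 2112,
  2737, 1612, 1112, 2092, 2717, 1217, 1492, 2742, 1617, 1422, 2047, 1547, 2172, 2797, 1047, 2297, 2922, 1797,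
  2422, 1197, 2083, 2708, 1208, 1483, 1608, 2858, 1168, 1793, 1493, 1423, 1548, 2798, 1798, 1534, 2159, 2784,
  1034, 2809, 2309, 2934, 1184, 1809, 2434, 2084, 2709, 1209, 1834, 1609, 2234, 2859, 1109, 1189, 1089, 864,
  1489, 2739, 1794, 5931, 9056, 12181, 6056, 7431, 10556, 8056, 11181, 14306, 5556, 5831, 8956, 4331, 13706,
  7731, 10856, 13981, 5231, 11481, 14106, 11606, 5981, 9106, 13606, 4311, 7436, 8061, 6086, 13711, 8086, 7111,
  10236, 7736, 10861, 5236, 11486, 6041, 7416, 8041, 14291, 7466, 7116, 7741, 13991, 8991, 7671, 10796, 13921,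
  14046, 11546, 14671, 5921, 9046, 12171, 10421, 13546, 5946, 5446, 4321, 13696, 8971, 7112, 10237, 13987, 5237,
  11487, 8987, 12112, 5842, 7742, 8992, 7672, 10797, 13922, 5172, 11547, 9172, 8047, 11172, 14297, 5547, 4322,
  13697, 5833, 13708, 13983, 5983, 9108, 7418, 13993, 7673, 13923, 12173, 8048, 14298, 14034, 14659, 5909, 9034,
  9059, 14809, 5559, 14584, 5834, 4334, 13709, 11609, 4314, 13689, 12114, 8044, 14294, 40306, 57431, 37081,
  44956, 57731, 73356, 52106, 29731, 21606, 68481, 44856, 35561, 68541, 40241, 74046, 21571, 69612]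
def LI : List ℕ := [54369, 50225, 29140, 24980, 50211, 35889, 18481, 50194, 38001, 58405, 35875, 18467, 62565, 21499, 36257,
  35858, 23009, 34225, 18450, 6744, 38385, 21066, 29262, 25535, 46166, 7128, 61340, 65116, 42023, 34347, 42543,
  14975, 57290, 27181, 64966, 10630, 14839, 34714, 60855, 47070, 36393, 31725, 11150, 36777, 56955]
def gn (k : ℕ) : ℕ := bif k == 1 then 33842 else bif k == 2 then 51233 else bif k == 3 then 12676 else 54369
def evw : ℕ → ℕ → ℕ → ℕ
  | 0, _, m => m
  | f + 1, n, m => bif n == 0 then m else st (ap (gn (n % 5)) m % 16) (evw f (n / 5))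
def cp (g h : ℕ) : ℕ := ap g (h % 16) + 16 * ap g (h / 16 % 16) + 256 * ap g (h / 256 % 16) + 4096 * ap g (h / 4096 % 16)
def BS : List N8 := [n8 1, n8 2, n8 4, n8 8, n8 16, n8 32, n8 64, n8 128]

theorem k1 : (LA.all fun h => [1, 2, 3, 4].all fun k => st (cp (gn k) h) fun c => LA.elem c &&
    (List.range 16).all fun m => st (ap h m % 16) (ap (gn k)) % 16 == ap c m % 16) = true := by decide +kernel
theorem k2 : (LA.length == LW.length && (LA.zip LW).all fun x => (List.range 16).all fun m =>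
    ap x.1 m % 16 == evw 8 x.2 m % 16) = true := by decide +kernel
theorem k3 : (LI.all fun h => LA.elem h) = true := by decide +kernel

def cm (f : N8 → N8) (h : ℕ) : Bool := BS.all fun v => f (T h v) == T h (f v)
def cw (c : Bool × Bool) (f : N8 → N8) (hs : List ℕ) : Bool :=
  (c == (false, true) && !A8 fun v => f v != v || q8 v == 0) || A8 fun v => f v + v == 0 ||
    (!c.1 && b8 v (om (f v + v)) == 0) || hs.any fun h => T h (f v + v) != f v + v && b8 v (T h (f v + v)) == 0
theorem k4 : ([(false, false), (false, true), (true, false), (true, true)].all fun c => [0, 1, 2].all fun j =>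
    LA.all fun g => !(BS.all fun v => mo c j g (mo c j g v) == v && q8 (mo c j g v + v) == 0) ||
      cw c (mo c j g) (LI.filter (cm (mo c j g)))) = true := by decide +kernel
theorem k5 : (A8 fun v => v == 0 || q8 v != 0 || [0, 1, 2].any fun j => LA.any fun g =>
    (R1 v && oj j (T g (n8 1)) == v) || oj j (T g (n8 65)) == v) = true := by decide +kernel
theorem k6 : ([0, 1, 2].all fun j => LA.all fun g => !(BS.all fun v => oj j (T g (oj j (T g v))) == v) ||
    (j == 0 && (g == 33825 || LI.elem g))) = true := by decide +kernel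
theorem k7 : (LI.all fun g => T g (n8 65) != n8 65 || T g (n8 8) + n8 8 == om (T 45525 (T g (n8 170) + n8 170))) = true := by
  decide +kernel
theorem k8 : (LI.all fun g => T g (n8 1) != n8 1 || ([n8 2, n8 4, n8 8].any fun u => [n8 64, n8 128].any fun v =>
    b8 (T g u + u) (T 51233 (T g v + v)) != 0) || ((T g (n8 64) + n8 64 == n8 16 || T g (n8 128) + n8 128 == n8 16) &&
    [n8 4, n8 8, n8 12].elem (T g (n8 2) + n8 2 + n8 1))) = true := by decide +kernel
theorem k9 : (LI.all fun g => (A8 fun v => q8 (T g v + v) == 0 && (T g v != v || !A8 fun u => T g u + u != v)) &&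
    !A8 fun p => !A8 fun v => !R1 (T g v + v) || b8 v (om (T g v + v)) != 0 ||
      [p, om p, om (om p)].elem (T g v + v)) = true := by decide +kernel

end H10.R
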