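import Cfsg.Agent.H10.R3

/-! Centralizers `2¹⁺⁸.K` with `3 × A₆ ≤ K ≤ S₃ × S₆`. -/

set_option autoImplicit false
set_option linter.unusedSectionVars false

open Subgroup Equiv Equiv.Perm
namespace H10.R
open H0 H19 H10.Y

abbrev P3 := Perm (Fin 3)
abbrev P6 := Perm (Fin 6)
def sg (u : ℤˣ) : Bool := u != 1
theorem sg_mul : ∀ u v, sg (u * v) = (sg u ^^ sg v) := by decide
theorem sg_ff {u : ℤˣ} : sg u = false ↔ u = 1 := by simp [sg]

theorem gen6 (A : Submonoid P6) {o : P6} (oo : o * o = 1) (hA : ∀ a ∈ A, o * a * o ∈ A)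
    (hs : ∀ i : Fin 5, swap i.castSucc i.succ * o ∈ A) (so : sign o = -1) (sA : ∀ a ∈ A, sign a = 1) (g : P6)
    (hg : sign g = 1) : g ∈ A := by
  have : g ∈ A ∨ g * o ∈ A := by
    refine Submonoid.closure_induction_left (motive := fun g _ => g ∈ A ∨ g * o ∈ A) (.inl (one_mem _)) ?_
      ((mclosure_swap_castSucc_succ 5).ge (Submonoid.mem_top g))
    rintro _ ⟨i, rfl⟩ y - (h | h)
    · exact .inr (by simpa [mul_assoc, ← mul_assoc o o, oo] using mul_mem (hs i) (hA y h))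
    · exact .inl (by simpa [mul_assoc, ← mul_assoc o o, oo] using mul_mem (hs i) (hA _ h))
  exact this.resolve_right fun h => by simpa [hg, so] using sA _ h

def c3 : P3 := swap 0 1 * swap 1 2
def ch {K : Subgroup (P3 × P6)} (x : K) : Bool × Bool := (sg (sign x.1.1), sg (sign x.1.2))
def ev (l : List P6) (w : List ℕ) : P6 := (w.map (l.getD · 1)).prod

theorem r6 {K : Subgroup (P3 × P6)} (hK : ∀ x : P3 × P6, sign x.1 = 1 → sign x.2 = 1 → x ∈ K) {d e σ τ o : P6}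
    (W : Fin 5 → List ℕ) (H : (sign d = 1 ∧ sign e = 1 ∧ sign σ = 1 ∧ sign τ = 1 ∧ sign o = -1) ∧
      (d * d * d = 1 ∧ e * e * e = 1 ∧ d * e = e * d ∧ e * σ = σ * d ∧ d * σ = σ * e * e ∧ σ * σ * σ * σ = 1 ∧ τ * τ = 1 ∧
      τ * σ = σ * σ * σ * τ ∧ d * τ * d * τ * d * τ = 1) ∧ (o * o = 1 ∧ o * d * o = d * d ∧ o * e * o = e ∧
      o * σ * o = σ * σ * σ ∧ o * τ * o = τ) ∧ ∀ i : Fin 5, swap i.castSucc i.succ * o = ev [d, e, σ, τ] (W i)) :
    R6 (ch (K := K)) ⟨(c3, 1), hK _ (by decide) (by simp)⟩ ⟨(1, d), hK _ (by simp) H.1.1⟩ ⟨(1, e), hK _ (by simp) H.1.2.1⟩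
      ⟨(1, σ), hK _ (by simp) H.1.2.2.1⟩ ⟨(1, τ), hK _ (by simp) H.1.2.2.2.1⟩ := by
  obtain ⟨⟨s1, s2, s3, s4, s5⟩, ⟨r1, r2, r3, r4, r5, r6, r7, r8, r9⟩, ⟨o1, o2, o3, o4, o5⟩, hs⟩ := H
  have k : ∀ {x : P6} (h : sign x = 1), ch (⟨(1, x), hK _ (by simp) h⟩ : K) = ff := fun h => by simp [ch, h, sg]
  refine ⟨fun x y => by simp [ch, xr, sg_mul], Subtype.ext (Prod.ext (show c3 * c3 * c3 = 1 by decide) (by simp)), by simp [Subtype.ext_iff, r1],
    by simp [Subtype.ext_iff, r2], by simp [Subtype.ext_iff, r3], fun x => ?_, by simp only [ch]; decide, k s1, k s2, k s3, k s4,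
    by simp [Subtype.ext_iff, r4], by simp [Subtype.ext_iff, r5], by simp [Subtype.ext_iff, r6], by simp [Subtype.ext_iff, r7],
    by simp [Subtype.ext_iff, r8], by simp [Subtype.ext_iff, r9], fun P P1 hP x hx => ?_, fun x => ?_⟩
  · have := (show ∀ s : P3, c3 * s = s * bif sg (sign s) then c3 * c3 else c3 by decide) x.1.1
    simp only [ch]
    cases h : sg (sign x.1.1) <;> rw [h] at this <;> exact Subtype.ext (Prod.ext this (by simp))
  · obtain ⟨⟨x, y⟩, m⟩ := x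
    simp only [ch, Prod.mk.injEq, sg_ff] at hx
    let A := Submonoid.closure {d, e, σ, τ}
    have a1 : d ∈ A := Submonoid.subset_closure (by simp)
    have a2 : e ∈ A := Submonoid.subset_closure (by simp)
    have a3 : σ ∈ A := Submonoid.subset_closure (by simp)
    have a4 : τ ∈ A := Submonoid.subset_closure (by simp)
    have sA : ∀ a ∈ A, sign a = 1 := fun a ha => Submonoid.closure_induction (by simp [*]) (by simp)
      (fun x y _ _ a c => by simp [a, c]) ha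
    have hy := gen6 A o1 (fun a ha => Submonoid.closure_induction (by
        simp only [Set.mem_insert_iff, Set.mem_singleton_iff, forall_eq_or_imp, forall_eq, o2, o3, o4, o5]
        exact ⟨mul_mem a1 a1, a2, mul_mem (mul_mem a3 a3) a3, a4⟩) (by simp [o1])
      (fun x y _ _ a c => by simpa [mul_assoc, ← mul_assoc o o, o1] using mul_mem a c) ha) (fun i => by
        rw [hs]
        refine list_prod_mem fun x hx => ?_
        obtain ⟨n, -, rfl⟩ := List.mem_map.1 hx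
        rcases n with _ | _ | _ | _ | n
        exacts [a1, a2, a3, a4, one_mem _]) s5 sA y hx.2
    have P2 : P ⟨(1, y), hK _ (by simp) hx.2⟩ := by
      refine Submonoid.closure_induction_left (motive := fun g hg => P ⟨(1, g), hK _ (by simp) (sA g hg)⟩) P1 ?_ hy
      rintro x (rfl | rfl | rfl | rfl) y _ h
      exacts [by simpa using (hP _ h).2.1, by simpa using (hP _ h).2.2.1, by simpa using (hP _ h).2.2.2.1,
        by simpa using (hP _ h).2.2.2.2]
    rcases (show ∀ s : P3, sign s = 1 → s = 1 ∨ s = c3 ∨ s = c3 * c3 by decide) x hx.1 with rfl | rfl | rfl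
    exacts [P2, by simpa using (hP _ P2).1, by simpa using (hP _ (hP _ P2).1).1]
  obtain ⟨⟨x, y⟩, m⟩ := x
  have t : ∀ {a c : P6}, o * a * o = c → a * o = o * c := fun e => by rw [← e, ← mul_assoc, ← mul_assoc, o1, one_mul]
  rcases Int.units_eq_one_or (sign y) with h | h
  · exact ⟨⟨(x, 1), by simpa using mul_mem m (hK (1, y⁻¹) (by simp) (by simp [h]))⟩, by simp [ch, h], by
      simp [ch, h, sg, Subtype.ext_iff]⟩
  · exact ⟨⟨(x, o), by simpa using mul_mem m (hK (1, y⁻¹ * o) (by simp) (by simp [h, s5]))⟩, by simp [ch, h, s5], by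
      simp [ch, h, show sg (-1) = true by decide, Subtype.ext_iff, t o2, t o3, t o4]⟩

def mk6 (f g : Fin 6 → Fin 6) (h : ∀ i, g (f i) = i ∧ f (g i) = i := by decide) : P6 := ⟨f, g, fun i => (h i).1, fun i => (h i).2⟩
def pd : P6 := mk6 ![1, 2, 0, 3, 4, 5] ![2, 0, 1, 3, 4, 5]
def pe' : P6 := mk6 ![0, 1, 2, 4, 5, 3] ![0, 1, 2, 5, 3, 4]
def pσ : P6 := mk6 ![3, 4, 5, 0, 2, 1] ![3, 5, 4, 0, 1, 2]
def pτ : P6 := mk6 ![3, 2, 1, 0, 4, 5] ![3, 2, 1, 0, 4, 5]
def pτ' : P6 := mk6 ![0, 4, 5, 3, 1, 2] ![0, 4, 5, 3, 1, 2]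
def po : P6 := mk6 ![0, 2, 1, 3, 4, 5] ![0, 2, 1, 3, 4, 5]
def po' : P6 := mk6 ![3, 5, 4, 0, 2, 1] ![3, 5, 4, 0, 2, 1]

theorem co' {Γ V : Type*} [Group Γ] [AddCommGroup V] [DistribMulAction Γ V] {k x : Γ} {p : F4 →+ V} (hi : p 1 ≠ 0)
    (hk : ∀ v : V, ∃ a, k • k • v + k • v = p a) (hp : Ac p k w) {l : F4}
    (φ : F4 →+* F4) (hl : l = w ∨ l = bar w) (hφ : φ l = w) (a : Ac (sm x p) k l) :
    ∃ α, α ≠ 0 ∧ ∀ a, x • p a = p (α * φ a) := by
  obtain ⟨α, e⟩ := hk (sm x p 1)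
  rw [a, a, ← map_add, show l * (l * 1) + l * 1 = 1 by rcases hl with rfl | rfl <;> decide, sm_apply] at e
  have e' : x • p l = p (α * w) := by rw [← mul_one l, ← sm_apply, ← a, sm_apply, e, hp, mul_comm]
  refine ⟨α, fun k => hi ((smul_eq_zero_iff_eq x).1 (by simpa [k] using e)), fun a => ?_⟩
  rcases (show ∀ l a : F4, l = w ∨ l = bar w → a = 0 ∨ a = 1 ∨ a = l ∨ a = 1 + l by decide) l a hl with
    rfl | rfl | rfl | rfl <;> simp [e, e', hφ, mul_add]

variable {G : Type*} [Group G] [Finite G] {Q : Subgroup G} {z : G}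

theorem iso9 (L : LE Q z) (hc : #Q = 512) (κ : C[z] →* P3 × P6) (hk : ∀ x, κ x = 1 ↔ x.1 ∈ Q)
    (hK : ∀ x : P3 × P6, sign x.1 = 1 → sign x.2 = 1 → x ∈ κ.range) : C[z] ⊔ Cfsg.oddCore G = ⊤ := by
  classical
  obtain ⟨V, _, π, ρ, q, b, h⟩ := exists_M L hc
  obtain ⟨_, s, e⟩ := h.act κ.rangeRestrict κ.rangeRestrict_surjective fun x => by rw [← hk, Subtype.ext_iff]; rfl
  have r := r6 hK (d := pd) (e := pe') (σ := pσ) (τ := pτ) (o := po) ![[0], [], [3, 0, 3], [2, 0, 2], [2, 2]]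
    (by decide +kernel)
  have r' := r6 hK (d := pd * pd * pe' * pe') (e := pd * pe' * pe') (σ := pσ) (τ := pτ') (o := po')
    ![[2, 2, 2, 1, 0], [2, 2, 2], [3, 2, 1, 0, 0, 3], [0, 2, 0], [2]] (by decide +kernel)
  let χ : G → Bool × Bool := fun g => if k : Commute z g then ch (κ.rangeRestrict ⟨g, mem_cent1.2 k.symm⟩) else ff
  have hχ : ∀ x (k : Commute z x), χ x = ch (κ.rangeRestrict ⟨x, mem_cent1.2 k.symm⟩) := fun x k => dif_pos k
  have mul : ∀ x y, Commute z x → Commute z y → χ (x * y) = xr (χ x) (χ y) := fun x y hx hy => by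
    rw [hχ _ hx, hχ _ hy, hχ _ (hx.mul_right hy), ← r.mul, ← map_mul]; rfl
  have a : ∀ k : κ.range, ∃ x, Commute z x ∧ ∀ v, ρ x v = k • v := fun k => by
    obtain ⟨x, rfl⟩ := κ.rangeRestrict_surjective k
    exact ⟨x, (mem_cent1.1 x.2).symm, fun v => (e x v).symm⟩
  have e' : ∀ x (k : Commute z x) v, ρ x v = κ.rangeRestrict ⟨x, mem_cent1.2 k.symm⟩ • v := fun x k v =>
    (e ⟨x, mem_cent1.2 k.symm⟩ v).symm
  have d : ∀ g, ∀ x ∈ conjugatesOf z, g * x * g⁻¹ ∈ conjugatesOf z := fun g x hx => hx.trans (isConj_iff.2 ⟨g, rfl⟩)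
  refine iso_sup h.zz fun g c => ?_
  rcases cls s r (by convert r' using 1 <;> simp) (by simp [Subtype.ext_iff]; decide) (by simp [Subtype.ext_iff]; decide)
    (g1 := ⟨(1, pd * pτ), hK _ (by simp) (by decide)⟩) (g2 := ⟨(1, pd * pτ * pσ), hK _ (by simp) (by decide)⟩)
    (g3 := ⟨(1, pe' * pd * pτ), hK _ (by simp) (by decide)⟩) (by simp only [ch]; decide) (by simp only [ch]; decide)
    (by simp only [ch]; decide) (Subtype.ext (Prod.ext (by simp) (show pσ = pd * pτ * pd * (pd * pτ)⁻¹ *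
      (pd * pτ * pσ * pd * (pd * pτ * pσ)⁻¹) * (pe' * pd * pτ * pd * (pe' * pd * pτ)⁻¹) by decide +kernel))) with ⟨φ, k⟩ | ⟨p, p0, p1, p2⟩
  · have h8 := h.congr qs8 φ k.hq
    have f : ∀ {y : κ.range} {m : N8 → N8}, (∀ v, y • φ v = φ (m v)) → ∃ x, Commute z x ∧
        ∀ v, φ.symm.toAddMonoidHom.comp ((ρ x).comp φ.toAddMonoidHom) v = m v := fun {y m} ey =>
      let ⟨x, c, ex⟩ := a y; ⟨x, c, fun v => by simp [ex, ey]⟩
    have A : KA Q z (fun g => φ.symm.toAddMonoidHom.comp ((ρ g).comp φ.toAddMonoidHom)) χ :=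
      ⟨mul, fun x hx => by
        rw [hχ _ (h.zc hx), show κ.rangeRestrict _ = 1 from Subtype.ext ((hk _).2 hx), r.c1], fun x hx => by
        obtain ⟨j, hj, g, hg, e⟩ := k.ty (κ.rangeRestrict ⟨x, mem_cent1.2 hx.symm⟩)
        exact ⟨j, hj, g, hg, fun v => by simp [e' x hx, e, hχ x hx]⟩, fun g hg => let ⟨_, _, e⟩ := k.ex g hg; f e, f k.w,
        fun x hx v => φ.injective (by
          have := cms (r.xw (κ.rangeRestrict ⟨x, mem_cent1.2 hx.symm⟩)) (φ v)
          rw [← hχ x hx] at this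
          rw [← k.w]
          cases cx : (χ x).1 <;> simp only [cx, cond_true, cond_false, mul_smul, k.w] at this <;> simpa [e' x hx] using this)⟩
    refine wmain (D := conjugatesOf z) (fun y hy => ?_) (IsConj.refl z) (isConj_iff.2 ⟨g, rfl⟩) c
    obtain ⟨g, rfl⟩ := isConj_iff.1 hy
    exact ⟨_, _, _, _, W.J ⟨h8, IsConj.refl z, d, fun x hx m => by
      obtain ⟨g, rfl⟩ := isConj_iff.1 hx; exact nwmain h8 A m⟩ g, A.J g⟩
  have B : KB z ρ q p fun x => (χ x).1 := ⟨p0, fun x y hx hy => by rw [mul x y hx hy]; rfl, by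
    obtain ⟨x, c, ex⟩ := a ⟨(c3, 1), hK _ (by decide) (by simp)⟩
    exact ⟨x, c, fun a => by rw [ex, p1], fun v => by rw [ex, ex]; exact p2 v⟩, fun x hx => by
    have := r.xw (κ.rangeRestrict ⟨x, mem_cent1.2 hx.symm⟩)
    have n : p 1 ≠ 0 := fun e => absurd (e ▸ p0 1) (by rw [s.q0]; decide)
    rw [← hχ x hx] at this
    simp only [e' x hx]
    cases cx : (χ x).1 <;> rw [cx] at this
    · exact co' n p2 p1 (RingHom.id _) (.inl rfl) rfl (p1.conj this)
    · exact co' n p2 p1 bar (.inr ww) (by decide) (p1.conj2 (this.trans (mul_assoc _ _ _).symm))⟩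
  refine ns_main (D := conjugatesOf z) (q := q) (b := b) (fun y hy => ?_) (IsConj.refl z) (isConj_iff.2 ⟨g, rfl⟩) c
  obtain ⟨g, rfl⟩ := isConj_iff.1 hy
  exact ⟨_, _, _, W.J ⟨h, IsConj.refl z, d, fun x hx m => by
    obtain ⟨g, rfl⟩ := isConj_iff.1 hx
    exact by_contra fun ne => NW.kb ⟨h, L.lp m ne⟩ B⟩ g, (B.ns h).J g⟩

theorem not_simple (L : LE Q z) (hc : #Q = 512) (h : C[z] ⊔ Cfsg.oddCore G = ⊤) : ¬ IsSimpleGroup G := fun _ => by
  have hO : Cfsg.oddCore G = ⊥ := (Normal.eq_bot_or_eq_top inferInstance).resolve_right fun e => by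
    have := H1.odd_card_oddCore (G := G)
    rw [e] at this
    exact absurd (this.of_dvd_nat (card_dvd_of_le (le_top (a := Q)))) (by rw [hc]; decide)
  rw [hO, sup_bot_eq] at h
  have n : (zpowers z).Normal := ⟨fun x hx g => by
    rcases L.es.mem_zp.1 hx with rfl | rfl
    exacts [by simp, by rw [mem_cent1.1 (h.ge (mem_top g)), mul_inv_cancel_right]; exact hx]⟩
  have := card_le ((n.eq_bot_or_eq_top.resolve_left fun e => L.es.z1 (by simpa using e)).ge.trans' (le_top (a := Q)))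
  rw [hc, L.es.card_zp] at this
  omega

theorem ns9 {Γ : Type*} [Group Γ] {J : Subgroup C[z]} [J.Normal] (L : LE (J.map C[z].subtype) z) (hc : #J = 2 ^ 9)
    (e : C[z] ⧸ J ≃* Γ) (f : Γ →* P3 × P6) (hf : Function.Injective f)
    (hK : ∀ x : P3 × P6, sign x.1 = 1 → sign x.2 = 1 → x ∈ f.range) : ¬ IsSimpleGroup G := by
  have hc : #(J.map C[z].subtype) = 512 := by rw [card_map_of_injective C[z].subtype_injective, hc]; rfl
  refine not_simple L hc (iso9 L hc (f.comp (e.toMonoidHom.comp (QuotientGroup.mk' J))) (fun x => by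
    simp [map_eq_one_iff f hf]) fun x h1 h2 => ?_)
  obtain ⟨y, rfl⟩ := hK x h1 h2
  obtain ⟨y, rfl⟩ := e.surjective y
  obtain ⟨y, rfl⟩ := QuotientGroup.mk'_surjective J y
  exact ⟨y, rfl⟩

end H10.R
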