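import Cfsg.Agent.H10.SL2Nat
import Cfsg.Agent.H13.SL2Tor
import Cfsg.Agent.H24.BurnAut
import Cfsg.Agent.H24.Zsig

/-! A transvection of `SL₂(q)` has codimension at least `q` on a faithful module. -/

set_option autoImplicit false

namespace H10.SL2Nat
open Cfsg Subgroup Matrix MatrixGroups H13.SL2 H29.Rp H28

theorem pow_lin {R : Type*} [CommRing R] (t : R) (k : ℕ) : ∃ α β : R,
    ∀ A : Matrix (Fin 2) (Fin 2) R, A * A = t • A - 1 → A ^ k = α • A + β • 1 := by
  induction k with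
  | zero => exact ⟨0, 1, fun A _ => by simp⟩
  | succ k ih =>
    obtain ⟨α, β, h⟩ := ih
    refine ⟨α * t + β, -α, fun A hA => ?_⟩
    rw [pow_succ, h A hA, add_mul, smul_mul_assoc, hA, smul_mul_assoc, one_mul]
    module

theorem sq_two {R : Type*} [CommRing R] (A : Matrix (Fin 2) (Fin 2) R) (h : A.det = 1) :
    A * A = A.trace • A - 1 := by
  rw [det_fin_two] at h
  ext i j
  fin_cases i <;> fin_cases j <;> simp [mul_apply, trace_fin_two] <;>
    first | ring1 | linear_combination -h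

theorem pow_transfer {F : Type*} [Field F] {A B : Matrix (Fin 2) (Fin 2) F} (hA : A.det = 1)
    (hB : B.det = 1) (ht : A.trace = B.trace) (hs : A * A ≠ 1 ∨ A 0 1 ≠ 0) {k : ℕ}
    (h : A ^ k = 1) : B ^ k = 1 := by
  obtain ⟨α, β, hk⟩ := pow_lin A.trace k
  have h1 := hk A (sq_two A hA)
  have h2 := hk B (ht ▸ sq_two B hB)
  rw [h] at h1
  have e00 := congrFun (congrFun h1 0) 0
  have e01 := congrFun (congrFun h1 0) 1
  have e10 := congrFun (congrFun h1 1) 0
  have e11 := congrFun (congrFun h1 1) 1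
  simp at e00 e01 e10 e11
  by_cases hα : α = 0
  · rw [h2, hα, show β = 1 by simpa [hα] using e00.symm]; simp
  have a01 := e01.resolve_left hα
  have a10 := e10.resolve_left hα
  have a11 : A 1 1 = A 0 0 := mul_left_cancel₀ hα (by linear_combination e00 - e11)
  rw [det_fin_two, a01, a11] at hA
  refine (hs.elim (fun h => h ?_) fun h => h a01).elim
  ext i j
  fin_cases i <;> fin_cases j <;> simp [mul_apply, a01, a10, a11] <;> linear_combination hA

variable {p : ℕ} [hp : Fact p.Prime] {U : Type*} [AddCommGroup U] [Module (ZMod p) U] [Finite U]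

theorem card_eq_pow_mul {W : Submodule (ZMod p) U} (h : W ≠ ⊤) :
    ∃ k, 0 < k ∧ Nat.card U = p ^ k * Nat.card W := by
  refine ⟨Module.finrank (ZMod p) (U ⧸ W), ?_, ?_⟩
  · haveI := Submodule.Quotient.nontrivial_iff.2 h
    exact Module.finrank_pos
  · rw [Submodule.card_eq_card_quotient_mul_card W, mul_comm,
      Module.natCard_eq_pow_finrank (K := ZMod p) (V := U ⧸ W), Nat.card_zmod]

theorem dvd_of_prime_pow {P : Type*} [Group P] (ρ : Representation (ZMod p) P U) {r j k : ℕ}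
    [hr : Fact r.Prime] (hrp : r ≠ p) {c : P} (hc : orderOf c = r ^ (j + 1))
    (hk : Nat.card U = p ^ k * Nat.card (fix ρ (zpowers (c ^ r ^ j)))) :
    r ^ (j + 1) ∣ p ^ k - 1 := by
  letI : MulAction (zpowers c) U :=
    { smul := fun g u => ρ g u
      one_smul := fun u => rho_one ρ u
      mul_smul := fun g h u => rho_mul ρ g h u }
  have hs : ∀ (g : zpowers c) (u : U), g • u = ρ g u := fun _ _ => rfl
  have h := H24.card_dvd_ncard_of_free (G := zpowers c)
    (fix ρ (zpowers (c ^ r ^ j)) : Set U)ᶜ (fun g u hu hg => hu ?_) (fun g u hu hg => ?_)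
  · rw [Nat.card_zpowers, hc, Set.ncard_compl, ← Nat.card_coe_set_eq, SetLike.coe_sort_coe, hk,
      ← Nat.sub_one_mul] at h
    refine Nat.Coprime.dvd_of_dvd_mul_right ?_ h
    rw [Module.natCard_eq_pow_finrank (K := ZMod p), Nat.card_zmod]
    exact Nat.Coprime.pow _ _ ((Nat.coprime_primes hr.out hp.out).2 hrp)
  · rw [SetLike.mem_coe, mem_fix_zpowers] at hg ⊢
    obtain ⟨_, i, rfl⟩ := g
    rw [hs, ← rho_mul] at hg
    apply rho_injective ρ (c ^ i)
    rw [← rho_mul, ← hg]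
    congr 2
    exact ((Commute.refl c).zpow_left i).pow_right _
  · by_contra h1
    apply hu
    have hfin : IsOfFinOrder c := orderOf_pos_iff.1 (hc ▸ pow_pos hr.out.pos _)
    obtain ⟨i, hi⟩ := hfin.mem_powers_iff_mem_zpowers.2 g.2
    simp only at hi
    obtain ⟨a, ha, hga⟩ := (Nat.dvd_prime_pow hr.out).1 (Nat.gcd_dvd_right i (r ^ (j + 1)))
    have haj : a ≤ j := by
      by_contra h
      obtain rfl : a = j + 1 := by omega
      exact h1 (Subtype.ext (hi ▸ orderOf_dvd_iff_pow_eq_one.1 (hc ▸ hga ▸ Nat.gcd_dvd_left _ _)))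
    have hle : zpowers (c ^ r ^ j) ≤ zpowers (g : P) := by
      obtain ⟨d, rfl⟩ := Nat.exists_eq_add_of_le haj
      rw [zpowers_le, pow_add, pow_mul]
      refine pow_mem (mem_zpowers_iff.2 ⟨Nat.gcdA i (r ^ (a + d + 1)), Eq.symm ?_⟩) _
      rw [← hga, ← _root_.zpow_natCast c (Nat.gcd _ _), Nat.gcd_eq_gcd_ab, _root_.zpow_add,
        _root_.zpow_mul, _root_.zpow_mul, _root_.zpow_natCast, _root_.zpow_natCast, hi, ← hc,
        pow_orderOf_eq_one, _root_.one_zpow, mul_one]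
    exact fix_anti hle (mem_fix_zpowers.2 hg)

theorem exists_prime_pow {n : ℕ} (hn : 2 ≤ n) : ∃ r j : ℕ, r.Prime ∧ r ≠ p ∧ r ≠ 2 ∧
    r ^ (j + 1) ∣ p ^ n + 1 ∧ ∀ k, 0 < k → r ^ (j + 1) ∣ p ^ k - 1 → 2 * n ≤ k := by
  by_cases h : p = 2 ∧ 2 * n = 6
  · obtain ⟨rfl, h⟩ := h
    obtain rfl : n = 3 := by omega
    refine ⟨3, 1, Nat.prime_three, by norm_num, by norm_num, by norm_num, fun k hk h => ?_⟩
    by_contra hlt
    have : k < 6 := by omega
    interval_cases k <;> norm_num at h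
  obtain ⟨r, hr, h1, h2⟩ := H24.zsigmondy hp.out.one_lt (n := 2 * n) (by omega) h (by omega)
  have h3 : 1 ≤ p ^ (2 * n) := Nat.one_le_pow _ _ hp.out.pos
  refine ⟨r, 0, hr, ?_, ?_, ?_, fun k hk h => ?_⟩
  · rintro rfl
    have := (Nat.dvd_add_iff_right h1).2 (by
      rw [Nat.sub_add_cancel h3]; exact dvd_pow_self _ (by omega) : r ∣ r ^ (2 * n) - 1 + 1)
    exact hr.one_lt.ne' (Nat.dvd_one.1 this)
  · rintro rfl
    rcases hp.out.eq_two_or_odd' with rfl | ho
    · have := (Nat.dvd_add_iff_right h1).2 (by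
        rw [Nat.sub_add_cancel h3]; exact dvd_pow_self _ (by omega) : 2 ∣ 2 ^ (2 * n) - 1 + 1)
      omega
    · exact h2 1 one_pos (by omega) (by obtain ⟨a, rfl⟩ := ho; simp)
  · rw [mul_comm, pow_mul, ← one_pow 2, Nat.sq_sub_sq] at h1
    simpa using (hr.dvd_mul.1 h1).resolve_right (h2 n (by omega) (by omega))
  · by_contra hlt
    exact h2 k hk (by omega) (by simpa using h)

theorem bound {F : Type*} [Field F] [Fintype F] {n : ℕ} (hF : Fintype.card F = p ^ n)
    (σ : Representation (ZMod p) SL(2, F) U) (hf : ∀ g, (∀ u, σ g u = u) → g = 1) {s : F}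
    (hs : s ≠ 0) : p ^ n * Nat.card (fix σ (zpowers (x s))) ≤ Nat.card U := by
  classical
  have hne : ∀ g : SL(2, F), g ≠ 1 → fix σ (zpowers g) ≠ ⊤ := fun g hg e =>
    hg (hf g fun u => mem_fix_zpowers.1 (e ▸ Submodule.mem_top))
  by_cases hn : n ≤ 1
  · obtain ⟨k, hk, e⟩ := card_eq_pow_mul (hne _ (mt x_eq_one.1 hs))
    rw [e]
    exact Nat.mul_le_mul_right _ (Nat.pow_le_pow_right hp.out.pos (by omega))
  obtain ⟨r, j, hr, hrp, hr2, hd, hk⟩ := exists_prime_pow (p := p) (n := n) (by omega)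
  haveI := Fact.mk hr
  obtain ⟨g, hg⟩ : ∃ g : SL(2, F), orderOf g = r ^ (j + 1) := by
    obtain ⟨_, hT⟩ := H13.GL2.exists_sTor_eS (F := F)
    haveI := hT.cyc
    obtain ⟨g, hg⟩ := IsCyclic.exists_ofOrder_eq_natCard (α := (H13.GL2.eS (F := F)).range)
    rw [H13.GL2.card_range_eS, hF, ← orderOf_coe] at hg
    exact ⟨_, orderOf_pow_orderOf_div (by rw [hg]; omega) (hg ▸ hd)⟩
  have h4 : ∀ i ≤ j, g ^ (4 * r ^ i) ≠ 1 := fun i hi e => by
    have := orderOf_dvd_of_pow_eq_one e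
    rw [hg] at this
    have := (pow_dvd_pow r (Nat.succ_le_succ hi)).trans this
    rw [pow_succ', Nat.mul_dvd_mul_iff_right (pow_pos hr.pos _)] at this
    exact hr2 ((Nat.prime_dvd_prime_iff_eq hr Nat.prime_two).1 (hr.dvd_of_dvd_pow (n := 2) this))
  have hcp : ∀ (h : SL(2, F)) (k : ℕ), (h ^ k).1 = h.1 ^ k := fun h k =>
    Matrix.SpecialLinearGroup.coe_pow h k
  have hN : ∀ k, (-(g.1 * g.1)) ^ (2 * k) = (g ^ (4 * k)).1 := fun k => by
    rw [pow_mul, neg_sq, hcp, pow_mul, ← sq, ← pow_mul g.1]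
  have hγ : g.1.trace ≠ 0 := fun e => h4 0 j.zero_le (Subtype.ext (by
    have := sq_two g.1 g.2
    rw [e, zero_smul, zero_sub] at this
    rw [← hN, this]
    simp))
  set t := s / g.1.trace with ht
  have ht0 : t ≠ 0 := div_ne_zero hs hγ
  set b := y (-s / t ^ 2) with hb
  have hbc : zpowers b = cj (w t) (zpowers (x s)) := by
    rw [H28.cj_zpowers, w_x ht0, mul_inv_cancel_right]
  have hdN : (-(g.1 * g.1)).det = 1 := by rw [det_neg, det_mul, g.2]; simp
  have htr : (x s * b).1.trace = (-(g.1 * g.1)).trace := by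
    rw [sq_two g.1 g.2, cmul, hb, coe_x, coe_y, ht]
    simp [trace_fin_two]
    field_simp
    ring
  set c := (x s * b) ^ 2 with hc
  have hc1 : c ^ r ^ j ≠ 1 := fun e => h4 j le_rfl (Subtype.ext (by
    rw [← hN]
    refine pow_transfer (x s * b).2 hdN htr (Or.inr ?_) ?_
    · rw [cmul, hb, coe_x, coe_y]; simpa using hs
    · rw [← hcp, pow_mul, e]; rfl))
  have hc2 : c ^ r ^ (j + 1) = 1 := Subtype.ext (by
    rw [hc, ← pow_mul, hcp]
    refine pow_transfer hdN (x s * b).2 htr.symm (Or.inl fun e => h4 0 j.zero_le ?_) ?_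
    · apply Subtype.ext
      rw [← hN, pow_zero, mul_one, sq, e]; rfl
    · rw [hN, mul_comm, pow_mul, ← hg, pow_orderOf_eq_one, one_pow]; rfl)
  obtain ⟨k, hk0, e⟩ := card_eq_pow_mul (hne _ hc1)
  have h2 := hk k hk0 (dvd_of_prime_pow σ hrp (orderOf_eq_prime_pow hc1 hc2) e)
  have h3 := card_mul_le_inf (fix σ (zpowers (x s))) (fix σ (zpowers b))
  have h5 : Nat.card ↥(fix σ (zpowers (x s)) ⊓ fix σ (zpowers b)) ≤
      Nat.card (fix σ (zpowers (c ^ r ^ j))) := by
    rw [← fix_sup]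
    refine card_mono (fix_anti (zpowers_le.2 (pow_mem (pow_mem (mul_mem ?_ ?_) _) _)))
    · exact mem_sup_left (mem_zpowers _)
    · exact mem_sup_right (mem_zpowers _)
  rw [hbc, card_fix_cj, ← hbc] at h3
  refine Nat.mul_self_le_mul_self_iff.1 ?_
  calc _ = p ^ (2 * n) * (Nat.card (fix σ (zpowers (x s))) * Nat.card (fix σ (zpowers (x s)))) := by
        ring
    _ ≤ p ^ k * (Nat.card U * Nat.card (fix σ (zpowers (c ^ r ^ j)))) :=
        Nat.mul_le_mul (Nat.pow_le_pow_right hp.out.pos h2) (h3.trans (Nat.mul_le_mul_left _ h5))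
    _ = _ := by rw [mul_left_comm, ← e]

end H10.SL2Nat
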