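import Cfsg.Agent.H29.PU1
import Cfsg.Agent.H29.RepEA

/-! Recognition of the natural `SL₂(F)`-module. -/

set_option autoImplicit false

namespace H10.SL2Nat
open Cfsg Subgroup Matrix MatrixGroups H13.SL2 H29.Rp

variable {p : ℕ} {F U : Type*} [Field F] [AddCommGroup U] [Module (ZMod p) U]
  (σ : Representation (ZMod p) SL(2, F) U)

/-- fixed by the upper unipotent group -/
def V0 (u : U) : Prop := ∀ t, σ (x t) u = u
/-- fixed by the lower unipotent group -/
def W0 (u : U) : Prop := ∀ t, σ (y t) u = u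
/-- fixed by the lower group, and quadratic for the upper group -/
def W1 (u : U) : Prop := W0 σ u ∧ ∀ t, V0 σ (σ (x t) u - u)

variable {σ}

theorem V0.sub {u v : U} (h : V0 σ u) (h' : V0 σ v) : V0 σ (u - v) := fun t => by
  rw [map_sub, h, h']
theorem W0.sub {u v : U} (h : W0 σ u) (h' : W0 σ v) : W0 σ (u - v) := fun t => by
  rw [map_sub, h, h']

theorem V0.w {u : U} (h : V0 σ u) {t : F} (ht : t ≠ 0) : W0 σ (σ (w t) u) := fun s => by
  have := w_x ht (-s * t ^ 2)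
  rw [show -(-s * t ^ 2) / t ^ 2 = s by field_simp] at this
  rw [← rho_mul, ← this, rho_mul, h]

theorem W0.w {u : U} (h : W0 σ u) {t : F} (ht : t ≠ 0) : V0 σ (σ (w t) u) := fun s => by
  have := w_y ht (-s / t ^ 2)
  rw [show -(-s / t ^ 2) * t ^ 2 = s by field_simp] at this
  rw [← rho_mul, ← this, rho_mul, h]

theorem cmul (g h : SL(2, F)) : (g * h).1 = g.1 * h.1 := rfl

theorem w_inv {t : F} (ht : t ≠ 0) : (w t)⁻¹ = w (-t) := by
  rw [inv_eq_iff_mul_eq_one]
  apply Subtype.ext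
  rw [cmul, coe_w ht, coe_w (neg_ne_zero.2 ht)]
  ext i j
  fin_cases i <;> fin_cases j <;> simp [ht]

theorem w_three {s t : F} (hs : s ≠ 0) (ht : t ≠ 0) : w s * w (-1) * w t = w (s * t) := by
  apply Subtype.ext
  rw [cmul, cmul, coe_w ht, coe_w hs,
    coe_w (neg_ne_zero.2 one_ne_zero), coe_w (mul_ne_zero hs ht)]
  ext i j
  fin_cases i <;> fin_cases j <;> simp [mul_comm]

theorem w_two {t : F} (ht : t ≠ 0) : w 1 * w t = w (-1) * w (-t) := by
  apply Subtype.ext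
  rw [cmul, cmul, coe_w ht, coe_w one_ne_zero,
    coe_w (neg_ne_zero.2 one_ne_zero), coe_w (neg_ne_zero.2 ht)]
  ext i j
  fin_cases i <;> fin_cases j <;> simp

theorem w_one_neg : w (1 : F) * w (-1) = 1 := by
  rw [← w_inv one_ne_zero, mul_inv_cancel]

theorem W1.ww {u : U} (h : W1 σ u) {s t : F} (hs : s ≠ 0) (ht : t ≠ 0) :
    W1 σ (σ (w s) (σ (w t) u)) := by
  refine ⟨(h.1.w ht).w hs, fun r => ?_⟩
  have e1 := w_y hs (-r / s ^ 2)
  rw [show -(-r / s ^ 2) * s ^ 2 = r by field_simp] at e1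
  have e2 := w_x ht (-(-r / s ^ 2) * t ^ 2)
  rw [show -(-(-r / s ^ 2) * t ^ 2) / t ^ 2 = -r / s ^ 2 by field_simp] at e2
  rw [← rho_mul σ (x r), ← e1, rho_mul, ← rho_mul σ (y _), ← e2, rho_mul, ← map_sub, ← map_sub]
  exact ((h.2 _).w ht).w hs

theorem W1.key (h0 : ∀ u, V0 σ u → W0 σ u → u = 0) {u : U} (h : W1 σ u) {t : F} (ht : t ≠ 0) :
    σ (w t) u = σ (x t) u - u := by
  have h1 : V0 σ (σ (w t) u) := h.1.w ht
  have h2 : σ (y t⁻¹) (σ (w t) u) = σ (x t) u := by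
    rw [← rho_mul, w_eq ht, ← mul_assoc, ← mul_assoc, ← y_add, add_neg_cancel, y_zero, one_mul,
      rho_mul, h.1]
  have h3 : W0 σ (σ (y t⁻¹) (σ (w t) u) - σ (w t) u) := by
    have e := w_x ht (-t)
    rw [show - -t / t ^ 2 = t⁻¹ by field_simp] at e
    rw [← rho_mul, ← e, rho_mul, ← map_sub]
    exact (h.2 _).w ht
  rw [h2] at h3
  have := h0 _ ((h.2 t).sub h1) (by
    have := h3.sub h.1
    rwa [sub_right_comm] at this)
  exact (sub_eq_zero.1 this).symm

theorem exists_psi (h0 : ∀ u, V0 σ u → W0 σ u → u = 0) {u : U} (h : W1 σ u) (hu : u ≠ 0) :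
    ∃ Ψ : (Fin 2 → F) →+ U, Function.Injective Ψ ∧ ∀ g a, Ψ (g.1 *ᵥ a) = σ g (Ψ a) := by
  have m1 : (-1 : F) ≠ 0 := neg_ne_zero.2 one_ne_zero
  let A : F →+ U := AddMonoidHom.mk' (fun t => σ (x t) u - u) fun s t => by
    have := h.2 t s
    rw [map_sub, ← rho_mul, ← x_add, sub_eq_iff_eq_add] at this
    rw [this]
    abel
  have hA : ∀ t, A t = σ (x t) u - u := fun _ => rfl
  have hAV : ∀ t, V0 σ (A t) := h.2
  have hAw : ∀ t, t ≠ 0 → A t = σ (w t) u := fun t ht => (h.key h0 ht).symm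
  have hA0 : ∀ t, A t = 0 → t = 0 := fun t e => by
    by_contra ht
    rw [hAw t ht, rho_eq_zero] at e
    exact hu e
  let Ψ : (Fin 2 → F) →+ U := AddMonoidHom.mk' (fun a => A (a 0) + σ (w (-1)) (A (a 1)))
    fun a b => by simp only [Pi.add_apply, map_add]; abel
  have hΨ : ∀ a, Ψ a = A (a 0) + σ (w (-1)) (A (a 1)) := fun _ => rfl
  refine ⟨Ψ, (injective_iff_map_eq_zero _).2 fun a e => ?_, fun g => ?_⟩
  · rw [hΨ] at e
    have e1 : A (a 0) = -σ (w (-1)) (A (a 1)) := eq_neg_of_add_eq_zero_left e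
    have e2 : A (a 0) = 0 := h0 _ (hAV _) (by
      rw [e1]
      intro t
      rw [map_neg, (hAV _).w m1])
    rw [e2, zero_add, rho_eq_zero] at e
    funext i
    fin_cases i
    · exact hA0 _ e2
    · exact hA0 _ e
  · refine induction (p := fun g => ∀ a, Ψ (g.1 *ᵥ a) = σ g (Ψ a)) ?_ ?_ ?_ g
    · intro t a
      have e0 : ((x t).1 *ᵥ a) 0 = a 0 + t * a 1 := by simp [mulVec, dotProduct]
      have e1 : ((x t).1 *ᵥ a) 1 = a 1 := by simp [mulVec, dotProduct]
      rw [hΨ, hΨ, e0, e1, map_add, map_add, hAV]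
      by_cases ht : t = 0
      · simp [ht, x_zero]
      by_cases ha : a 1 = 0
      · simp [ha]
      have := (h.ww m1 ha).key h0 ht
      rw [← rho_mul, ← rho_mul, w_three ht ha, ← hAw _ ha, ← hAw _ (mul_ne_zero ht ha)] at this
      rw [this]
      abel
    · intro a
      have e0 : ((w (1 : F)).1 *ᵥ a) 0 = a 1 := by
        rw [coe_w one_ne_zero]; simp [mulVec, dotProduct]
      have e1 : ((w (1 : F)).1 *ᵥ a) 1 = -a 0 := by
        rw [coe_w one_ne_zero]; simp [mulVec, dotProduct]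
      rw [hΨ, hΨ, e0, e1, map_add, ← rho_mul σ (w 1) (w (-1)), w_one_neg, rho_one, add_comm]
      congr 1
      by_cases ha : a 0 = 0
      · simp [ha]
      rw [hAw _ ha, hAw _ (neg_ne_zero.2 ha), ← rho_mul, ← rho_mul, w_two ha]
    · intro g g' hg hg' a
      rw [cmul, ← mulVec_mulVec, hg, hg', rho_mul]

theorem fix_upper {u : U} : u ∈ fix σ (upperUnipotentSL2 F) ↔ V0 σ u := by
  rw [mem_fix]
  refine ⟨fun h t => h _ (x_mem t), fun h a ha => ?_⟩
  obtain ⟨t, rfl⟩ := mem_upper.1 ha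
  exact h t

theorem fix_lower {u : U} : u ∈ fix σ (lowerUnipotentSL2 F) ↔ W0 σ u := by
  rw [mem_fix]
  refine ⟨fun h t => h _ (y_mem t), fun h a ha => ?_⟩
  obtain ⟨t, rfl⟩ := mem_lower.1 ha
  exact h t

theorem natural [Fact p.Prime] [Finite U] [Finite F] [CharP F p]
    (hirr : ∀ W : Submodule (ZMod p) U, (∀ g, ∀ u ∈ W, σ g u ∈ W) → W = ⊥ ∨ W = ⊤)
    (hnt : ∃ g u, σ g u ≠ u)
    (hyp : Quad σ (upperUnipotentSL2 F) ∨
      Nat.card U ≤ Nat.card (fix σ (upperUnipotentSL2 F)) ^ 2) :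
    ∃ Ψ : (Fin 2 → F) ≃+ U, ∀ g a, Ψ (g.1 *ᵥ a) = σ g (Ψ a) := by
  obtain ⟨g0, u0, hu0⟩ := hnt
  have hb : fix σ ⊤ = ⊥ := by
    refine (hirr _ fun g u hu => ?_).resolve_right fun e => hu0 ?_
    · rwa [mem_fix.1 hu g (mem_top _)]
    · exact mem_fix.1 (e ▸ Submodule.mem_top : u0 ∈ fix σ ⊤) g0 (mem_top _)
  have hi : fix σ (upperUnipotentSL2 F) ⊓ fix σ (lowerUnipotentSL2 F) = ⊥ := by
    rw [← fix_sup, upper_sup_lower, hb]
  have h0 : ∀ u, V0 σ u → W0 σ u → u = 0 := fun u h1 h2 => by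
    have : u ∈ fix σ (upperUnipotentSL2 F) ⊓ fix σ (lowerUnipotentSL2 F) :=
      ⟨fix_upper.2 h1, fix_lower.2 h2⟩
    rwa [hi] at this
  have hP : IsPGroup p (upperUnipotentSL2 F) := (H28.isSylowIn_iff.1 H29.PU.sylow_upper).2.1
  have hne : u0 ≠ 0 := fun e => hu0 (by simp [e])
  obtain ⟨u, hu, hu1⟩ : ∃ u, W1 σ u ∧ u ≠ 0 := by
    rcases hyp with hq | hc
    · obtain ⟨v, -, hv0, hv⟩ := exists_fixed (ρ := σ) hP inv_top (fun e => hne (by
        have : u0 ∈ (⊤ : Submodule (ZMod p) U) := Submodule.mem_top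
        rwa [e] at this))
      exact ⟨σ (w 1) v, ⟨(fix_upper.1 hv).w one_ne_zero,
        fun t => fix_upper.1 (hq.mem_fix (x_mem t) _)⟩, by rwa [Ne, rho_eq_zero]⟩
    · have hcard : Nat.card (fix σ (upperUnipotentSL2 F)) ≤
          Nat.card (fix σ (lowerUnipotentSL2 F)) := by
        rw [← card_map_rho (ρ := σ) (w 1)]
        refine card_mono ?_
        rintro _ ⟨v, hv, rfl⟩
        exact fix_lower.2 ((fix_upper.1 hv).w one_ne_zero)
      have htop : fix σ (upperUnipotentSL2 F) ⊔ fix σ (lowerUnipotentSL2 F) = ⊤ := by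
        refine eq_top_of_card_le (hc.trans ?_)
        have := card_sup_mul_card_inf (fix σ (upperUnipotentSL2 F)) (fix σ (lowerUnipotentSL2 F))
        rw [hi, card_bot', mul_one] at this
        rw [this, sq]
        exact Nat.mul_le_mul_left _ hcard
      obtain ⟨v, -, hv0, hv⟩ := exists_fixed_mod (ρ := σ) hP inv_top
        (inv_of_le_fix (le_refl (fix σ (upperUnipotentSL2 F)))) (fun e => hne (by
          have h1 : V0 σ (σ (w (-1)) u0) := fix_upper.1 (e Submodule.mem_top)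
          have h2 := h1.w one_ne_zero
          rw [← rho_mul, w_one_neg, rho_one] at h2
          exact h0 _ (fix_upper.1 (e Submodule.mem_top)) h2))
      obtain ⟨a, ha, b, hb, rfl⟩ := Submodule.mem_sup.1 (htop ▸ Submodule.mem_top :
        v ∈ fix σ (upperUnipotentSL2 F) ⊔ fix σ (lowerUnipotentSL2 F))
      refine ⟨b, ⟨fix_lower.1 hb, fun t => ?_⟩, fun e => hv0 (by rwa [e, add_zero])⟩
      have := hv _ (x_mem t)
      rw [map_add, fix_upper.1 ha, add_sub_add_left_eq_sub] at this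
      exact fix_upper.1 this
  obtain ⟨Ψ, hΨ, he⟩ := exists_psi h0 hu hu1
  have hs : Function.Surjective Ψ := by
    rcases hirr (AddSubgroup.toZModSubmodule p Ψ.range) (by
      rintro g _ ⟨a, rfl⟩
      exact ⟨_, he g a⟩) with e | e
    · have : Ψ 1 ∈ AddSubgroup.toZModSubmodule p Ψ.range := ⟨1, rfl⟩
      rw [e, Submodule.mem_bot, ← map_zero Ψ] at this
      exact absurd (congrFun (hΨ this) 0) one_ne_zero
    · intro v
      have : v ∈ AddSubgroup.toZModSubmodule p Ψ.range := e ▸ Submodule.mem_top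
      exact this
  exact ⟨AddEquiv.ofBijective Ψ ⟨hΨ, hs⟩, he⟩

theorem exists_iso_upper {H : Type*} [Group H] [Finite H] [Fact p.Prime] [Finite F] [CharP F p]
    (e : H ≃* SL(2, F)) (S : Sylow p H) :
    ∃ e' : H ≃* SL(2, F), ∀ g, g ∈ (S : Subgroup H) ↔ e' g ∈ upperUnipotentSL2 F := by
  have h1 := (H28.isSylowIn_top S).map_of_injective (f := e.toMonoidHom) e.injective
  rw [← MonoidHom.range_eq_map, MonoidHom.range_eq_top.2 e.surjective] at h1
  obtain ⟨c, -, hc⟩ := h1.exists_conj H29.PU.sylow_upper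
  refine ⟨e.trans (MulAut.conj c), fun g => ?_⟩
  rw [← hc, MulEquiv.trans_apply, MulAut.conj_apply, H28.conj_mem_cj_iff]
  exact (mem_map_iff_mem (f := e.toMonoidHom) e.injective).symm

end H10.SL2Nat
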