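import Cfsg.Agent.H11.SUBasic
import Cfsg.Agent.H11.Order3
import Cfsg.Agent.H12.Enlarge
import Cfsg.Agent.H10.Count

/-!
Involutions of `SU₃(q)`, `q` odd: they correspond to the non-isotropic points.
-/

set_option autoImplicit false

namespace H10.SU3

open H11 H12 Module

variable {F : Type*} [Field F] [Fintype F] {q : ℕ} {hF : Fintype.card F = q ^ 2}
  {V : Type*} [AddCommGroup V] [Module F V] [FiniteDimensional F V] {C : CForm (hermT hF) V}
  {G : Type*} [Group G] {ρ : G →* (V ≃ₗ[F] V)}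

variable (C ρ) in
/-- `G` is the special unitary group of the three-dimensional form `C`. -/
structure Rp : Prop where
  nd : C.Nondeg
  dim : finrank F V = 3
  two : (2 : F) ≠ 0
  inj : Function.Injective ρ
  isom : ∀ g, ρ g ∈ C.isom
  det : ∀ g, ρ g ∈ SLV F V
  surj : ∀ e ∈ C.isom, e ∈ SLV F V → ∃ g, ρ g = e

variable (C ρ) in
/-- `x` is the involution with centre the unit vector `v`. -/
def Iv (x : G) (v : V) : Prop := C.N v = 1 ∧ ∀ y, ρ x y = (2 * C.B v y) • v - y

omit [FiniteDimensional F V] in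
theorem Bl (c : F) (x y : V) : C.B (c • x) y = c ^ q * C.B x y := C.B_smul_left c x y

omit [FiniteDimensional F V] in
theorem Buu {v : V} (h : C.N v = 1) : C.B v v = 1 := (herm_B_self C v).trans h

theorem two_pow (hF : Fintype.card F = q ^ 2) : (2 : F) ^ q = 2 := by
  rw [← frob_apply hF, map_ofNat]

theorem add_pow' (hF : Fintype.card F = q ^ 2) (a b : F) : (a + b) ^ q = a ^ q + b ^ q := by
  rw [← frob_apply hF, map_add]; rfl

theorem sub_pow' (hF : Fintype.card F = q ^ 2) (a b : F) : (a - b) ^ q = a ^ q - b ^ q := by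
  rw [← frob_apply hF, map_sub]; rfl

theorem pow_pow' (hF : Fintype.card F = q ^ 2) (a : F) : (a ^ q) ^ q = a := frob_frob hF a

omit [FiniteDimensional F V] in
theorem N_eq (x : V) : C.N x = C.B x x := (herm_B_self C x).symm

variable (C) in
/-- the linear map of the involution -/
noncomputable def ivL (v : V) : V →ₗ[F] V := -LinearMap.transvection (-(2 : F) • C.B v) v

omit [FiniteDimensional F V] in
theorem ivL_apply (v y : V) : ivL C v y = (2 * C.B v y) • v - y := by
  simp only [ivL, LinearMap.neg_apply, LinearMap.transvection.apply, LinearMap.smul_apply,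
    smul_eq_mul]
  module

theorem det_ivL (h3 : finrank F V = 3) {v : V} (hv : C.N v = 1) : LinearMap.det (ivL C v) = 1 := by
  rw [ivL, ← neg_one_smul F (LinearMap.transvection _ _), LinearMap.det_smul, h3,
    LinearMap.transvection.det, LinearMap.smul_apply, Buu hv]
  norm_num

omit [FiniteDimensional F V] in
theorem B_ivL {v : V} (hv : C.N v = 1) (x y : V) : C.B (ivL C v x) (ivL C v y) = C.B x y := by
  rw [ivL_apply, ivL_apply, C.B_sub_left, map_sub, map_sub, Bl, Bl, C.B_smul_right, C.B_smul_right,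
    Buu hv, mul_pow, two_pow hF, ← H11.herm_symm]
  ring

omit [FiniteDimensional F V] in
theorem ne_zero_of_unit {v : V} (hv : C.N v = 1) : v ≠ 0 := by
  rintro rfl; simp at hv

theorem orth_pair {u z : V} (hu : C.N u ≠ 0) (hz : C.N z ≠ 0) (h : C.B u z = 0) :
    C.NondegOn (Submodule.span F {u, z}) ∧ finrank F (Submodule.span F {u, z}) = 2 := by
  have h' := C.B_swap_zero h
  rw [N_eq] at hu hz
  constructor
  · rw [C.nondegOn_iff, Submodule.disjoint_def]
    intro x hx hx'
    obtain ⟨a, b, rfl⟩ := Submodule.mem_span_pair.1 hx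
    rw [C.mem_perp_pair] at hx'
    simp only [map_add, map_smul, smul_eq_mul, h, h', mul_zero, add_zero, zero_add] at hx'
    rw [(mul_eq_zero.1 hx'.1).resolve_right hu, (mul_eq_zero.1 hx'.2).resolve_right hz]
    simp
  · have hli : LinearIndependent F ![u, z] := by
      rw [LinearIndependent.pair_iff]
      intro s t hst
      have a := congrArg (C.B u) hst
      have b := congrArg (C.B z) hst
      simp only [map_add, map_smul, smul_eq_mul, h, h', mul_zero, add_zero, zero_add,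
        map_zero] at a b
      exact ⟨(mul_eq_zero.1 a).resolve_right hu, (mul_eq_zero.1 b).resolve_right hz⟩
    have := finrank_span_eq_card hli
    rwa [Matrix.range_cons, Matrix.range_cons, Matrix.range_empty, Set.union_empty,
      Set.singleton_union, Fintype.card_fin] at this

omit [Fintype F] in
theorem par_of_finrank_one {W : Submodule F V} (h : finrank F W = 1) {x y : V} (hx : x ∈ W)
    (hy : y ∈ W) (hx0 : x ≠ 0) : ∃ a : F, y = a • x := by
  obtain ⟨a, ha⟩ := (finrank_eq_one_iff_of_nonzero' (⟨x, hx⟩ : W)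
    (fun h => hx0 (congrArg Subtype.val h))).1 h ⟨y, hy⟩
  exact ⟨a, (congrArg Subtype.val ha).symm⟩

namespace Rp
variable (R : Rp C ρ)
include R

theorem exists_iv {v : V} (hv : C.N v = 1) : ∃ x, Iv C ρ x v := by
  obtain ⟨e, he, he'⟩ := R.nd.exists_isom (ivL C v) ⟨B_ivL hv, fun x => by
    rw [N_eq, N_eq, B_ivL hv]⟩
  have : (e : V →ₗ[F] V) = ivL C v := LinearMap.ext he'
  obtain ⟨g, rfl⟩ := R.surj e he (by rw [mem_SLV, this, det_ivL R.dim hv])
  exact ⟨g, hv, fun y => (he' y).trans (ivL_apply v y)⟩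

omit [FiniteDimensional F V] in
theorem ext {x y : G} (h : ∀ v, ρ x v = ρ y v) : x = y := R.inj (LinearEquiv.ext h)

omit [FiniteDimensional F V] in
theorem iv_uniq {x y : G} {v : V} (h : Iv C ρ x v) (h' : Iv C ρ y v) : x = y :=
  R.ext fun w => (h.2 w).trans (h'.2 w).symm

omit [FiniteDimensional F V] in
theorem iv_sq {x : G} {v : V} (h : Iv C ρ x v) : x * x = 1 := R.ext fun w => by
  rw [map_mul, LinearEquiv.mul_apply, h.2, h.2, map_sub, map_smul, Buu h.1, map_one]
  simp only [smul_eq_mul, LinearEquiv.coe_one, id]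
  module

theorem exists_unit_perp {S : Submodule F V} (hS : C.NondegOn S) (hd : finrank F S ≤ 2) :
    ∃ z ∈ C.perp S, C.N z = 1 := by
  have h1 := R.nd.finrank_add_finrank_perp S
  have h2 := R.dim
  obtain ⟨z, hz⟩ := herm_exists_norm (C := C.restrict (C.perp S))
    (C.restrict_nondeg_iff.2 (R.nd.nondegOn_perp hS)) (by omega) (c := 1) (by simp) one_ne_zero
  exact ⟨z, z.2, hz⟩

theorem exists_unit_orth {v : V} (hv : C.N v = 1) : ∃ z, C.N z = 1 ∧ C.B v z = 0 := by
  obtain ⟨z, hz, hz'⟩ := R.exists_unit_perp (nondegOn_singleton (u := v) (by simp [Buu hv]))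
    (by rw [finrank_span_singleton (ne_zero_of_unit hv)]; norm_num)
  exact ⟨z, hz', C.mem_perp_singleton.1 hz⟩

theorem iv_ne_one {x : G} {v : V} (h : Iv C ρ x v) : x ≠ 1 := by
  rintro rfl
  obtain ⟨z, hz, hz'⟩ := R.exists_unit_orth h.1
  have := h.2 z
  rw [hz', map_one, mul_zero, zero_smul, zero_sub] at this
  have h2 : (2 : F) • z = 0 := by rw [two_smul]; exact add_eq_zero_iff_eq_neg.2 this
  exact ne_zero_of_unit hz ((smul_eq_zero.1 h2).resolve_left R.two)

omit R [FiniteDimensional F V] in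
theorem iv_smul {x : G} {v : V} (h : Iv C ρ x v) {a : F} (ha : C.N (a • v) = 1) :
    Iv C ρ x (a • v) := by
  refine ⟨ha, fun y => ?_⟩
  rw [H11.herm_N_smul, h.1, mul_one] at ha
  rw [h.2, Bl, smul_smul]
  congr 2
  linear_combination (-2 * C.B v y) * ha

omit [FiniteDimensional F V] in
theorem iv_par {x : G} {v w : V} (h : Iv C ρ x v) (h' : Iv C ρ x w) : ∃ a : F, w = a • v := by
  have h1 := (h.2 w).symm.trans (h'.2 w)
  rw [Buu h'.1, mul_one, sub_left_inj, mul_smul] at h1
  exact ⟨C.B v w, (smul_right_injective V R.two h1).symm⟩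

omit [FiniteDimensional F V] in
theorem iv_eq_iff {x y : G} {v w : V} (h : Iv C ρ x v) (h' : Iv C ρ y w) :
    x = y ↔ ∃ a : F, w = a • v := by
  constructor
  · rintro rfl; exact R.iv_par h h'
  · rintro ⟨a, rfl⟩; exact R.iv_uniq (iv_smul h h'.1) h'

omit [FiniteDimensional F V] in
theorem iv_conj {x : G} {v : V} (h : Iv C ρ x v) (g : G) : Iv C ρ (g * x * g⁻¹) (ρ g v) := by
  refine ⟨(CForm.isom_N (R.isom g) v).trans h.1, fun y => ?_⟩
  rw [map_mul, map_mul, LinearEquiv.mul_apply, LinearEquiv.mul_apply, h.2, map_sub, map_smul,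
    map_inv, CForm.isom_B_left (R.isom g)]
  congr 1
  exact (ρ g).apply_symm_apply y

omit [FiniteDimensional F V] in
theorem iv_comm {x y : G} {v w : V} (h : Iv C ρ x v) (h' : Iv C ρ y w) :
    Commute x y ↔ x = y ∨ C.B v w = 0 := by
  have e : Commute x y ↔ x * y * x⁻¹ = y := by
    rw [mul_inv_eq_iff_eq_mul]; rfl
  rw [e]
  constructor
  · intro h1
    obtain ⟨a, ha⟩ := (R.iv_eq_iff h' (R.iv_conj h' x)).1 h1.symm
    by_cases hb : C.B v w = 0
    · exact Or.inr hb
    left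
    rw [h.2] at ha
    symm
    rw [R.iv_eq_iff h' h]
    refine ⟨(2 * C.B v w)⁻¹ * (a + 1), ?_⟩
    rw [mul_smul, add_smul, one_smul, ← ha, sub_add_cancel, smul_smul,
      inv_mul_cancel₀ (mul_ne_zero R.two hb), one_smul]
  · rintro (rfl | hb)
    · simp
    · symm
      rw [R.iv_eq_iff h' (R.iv_conj h' x), h.2, hb]
      exact ⟨-1, by simp⟩

omit R in
theorem of_fix_one (hC : C.Nondeg) (h2 : (2 : F) ≠ 0) {s : V →ₗ[F] V}
    (hs : ∀ x y, C.B (s x) (s y) = C.B x y) (hss : ∀ x, s (s x) = x)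
    (h1 : finrank F (LinearMap.eqLocus s LinearMap.id) = 1) :
    ∃ v, C.N v = 1 ∧ ∀ y, s y = (2 * C.B v y) • v - y := by
  have hadj : ∀ x y, C.B (s x) y = C.B x (s y) := fun x y => by rw [← hs x (s y), hss]
  have hnd : C.NondegOn (LinearMap.eqLocus s LinearMap.id) := by
    rw [C.nondegOn_iff, Submodule.disjoint_def]
    intro x hx hx'
    have hx1 : s x = x := hx
    refine hC.eq_zero' fun y => ?_
    have := (C.mem_perp.1 hx') (y + s y) (show s (y + s y) = y + s y by rw [map_add, hss, add_comm])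
    rw [C.B_add_left, hadj, hx1, ← two_mul] at this
    exact (mul_eq_zero.1 this).resolve_left h2
  obtain ⟨v, hv⟩ := herm_exists_norm (C := C.restrict _) (C.restrict_nondeg_iff.2 hnd)
    h1.ge (c := 1) (by simp) one_ne_zero
  have hv' : C.N (v : V) = 1 := hv
  refine ⟨v, hv', fun y => ?_⟩
  obtain ⟨a, ha⟩ := par_of_finrank_one h1 v.2
    (show s (y + s y) = y + s y by rw [map_add, hss, add_comm]) (ne_zero_of_unit hv')
  have := congrArg (C.B v) ha
  rw [map_add, ← hadj, show s v = v from v.2, map_smul, Buu hv', smul_eq_mul, mul_one,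
    ← two_mul] at this
  rw [this, ← ha, add_sub_cancel_left]

theorem exists_vec {x : G} (hx : x ≠ 1) (hx2 : x * x = 1) : ∃ v, Iv C ρ x v := by
  set s : V →ₗ[F] V := (ρ x : V →ₗ[F] V) with hs
  have hB : ∀ u v, C.B (s u) (s v) = C.B u v := CForm.isom_B (R.isom x)
  have hss : ∀ u, s (s u) = u := fun u => by
    have : ρ (x * x) u = u := by rw [hx2, map_one]; rfl
    rwa [map_mul] at this
  have hdet : LinearMap.det s = 1 := mem_SLV.1 (R.det x)
  have hm : (-1 : F) ≠ 1 := fun h => R.two (by linear_combination -h)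
  have hc : IsCompl (LinearMap.eqLocus s LinearMap.id) (LinearMap.eqLocus (-s) LinearMap.id) := by
    constructor
    · rw [Submodule.disjoint_def]
      intro u h1 h2
      have h1' : s u = u := h1
      have h2' : -s u = u := h2
      have : (2 : F) • u = 0 := by rw [two_smul]; nth_rewrite 1 [← h2', h1']; simp
      exact (smul_eq_zero.1 this).resolve_left R.two
    · rw [codisjoint_iff, eq_top_iff]
      intro v _
      have e : v = (2 : F)⁻¹ • (v + s v) + (2 : F)⁻¹ • (v - s v) := by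
        rw [← smul_add, add_add_sub_cancel, ← two_smul F v, smul_smul, inv_mul_cancel₀ R.two,
          one_smul]
      rw [e]
      refine Submodule.add_mem_sup (Submodule.smul_mem _ _ ?_) (Submodule.smul_mem _ _ ?_)
      · show s (v + s v) = v + s v
        rw [map_add, hss, add_comm]
      · show -s (v - s v) = v - s v
        rw [map_sub, hss, neg_sub]
  have hsum := Submodule.finrank_add_eq_of_isCompl hc
  rw [R.dim] at hsum
  have h3 : finrank F (LinearMap.eqLocus s LinearMap.id) ≠ 3 := fun h => by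
    have := Submodule.eq_top_of_finrank_eq (h.trans R.dim.symm)
    refine hx (R.ext fun v => ?_)
    have hv : v ∈ LinearMap.eqLocus s LinearMap.id := this ▸ Submodule.mem_top
    rw [map_one]; exact hv
  have h0 : finrank F (LinearMap.eqLocus (-s) LinearMap.id) ≠ 3 := fun h => by
    have := Submodule.eq_top_of_finrank_eq (h.trans R.dim.symm)
    have e : s = (-1 : F) • LinearMap.id := by
      ext v
      have hv : v ∈ LinearMap.eqLocus (-s) LinearMap.id := this ▸ Submodule.mem_top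
      have hv' : -s v = v := hv
      simp [neg_eq_iff_eq_neg.1 hv']
    rw [e, LinearMap.det_smul, R.dim, LinearMap.det_id] at hdet
    exact hm (by linear_combination hdet)
  have h2 : finrank F (LinearMap.eqLocus (-s) LinearMap.id) ≠ 1 := fun h => by
    obtain ⟨v, hv, hv'⟩ := of_fix_one R.nd R.two (s := -s) (fun a b => by simp [hB])
      (fun a => by simp [hss]) h
    have e : s = (-1 : F) • ivL C v := by
      ext y
      rw [LinearMap.smul_apply, ivL_apply, ← hv']; simp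
    rw [e, LinearMap.det_smul, R.dim, det_ivL R.dim hv] at hdet
    exact hm (by linear_combination hdet)
  have h1 : finrank F (LinearMap.eqLocus s LinearMap.id) = 1 := by omega
  exact of_fix_one R.nd R.two hB hss h1

theorem conj {x y : G} (hx : x ≠ 1) (hx2 : x * x = 1) (hy : y ≠ 1) (hy2 : y * y = 1) :
    ∃ g, g * x * g⁻¹ = y := by
  obtain ⟨v, hv⟩ := R.exists_vec hx hx2
  obtain ⟨w, hw⟩ := R.exists_vec hy hy2
  obtain ⟨e, he, hvw⟩ := herm_witt_sub (C := C) (frob_ne_id hF) R.nd (S := ⊤)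
    (C.nondegOn_top.2 R.nd) (u := v) (v := w) trivial trivial (ne_zero_of_unit hv.1)
    (ne_zero_of_unit hw.1) (hw.1.trans hv.1.symm) (Or.inl (by rw [finrank_top, R.dim]))
  obtain ⟨g, rfl⟩ := R.surj e he.1.1 he.1.2
  exact ⟨g, R.iv_uniq (hvw ▸ R.iv_conj hv g) hw⟩

omit R in
theorem card_norm_one (hF : Fintype.card F = q ^ 2) : Nat.card {a : F // a * a ^ q = 1} = q + 1 := by
  simp_rw [← pow_succ']
  rw [card_pow_eq_one F (by omega), hF]
  exact Nat.gcd_eq_left ⟨q - 1, by
    have := two_le_of_card_sq hF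
    obtain ⟨r, rfl⟩ : ∃ r, q = r + 1 := ⟨q - 1, by omega⟩
    rw [Nat.add_sub_cancel]; apply Nat.sub_eq_of_eq_add; ring⟩

theorem count (P : G → Prop) (Q : V → Prop) (h : ∀ x v, Iv C ρ x v → (P x ↔ Q v)) :
    Nat.card {x // x ≠ 1 ∧ x * x = 1 ∧ P x} * (q + 1) = Nat.card {v // C.N v = 1 ∧ Q v} := by
  choose f hf using fun x : {x // x ≠ 1 ∧ x * x = 1 ∧ P x} => R.exists_vec x.2.1 x.2.2.1
  rw [← card_norm_one hF, ← Nat.card_prod]
  have hN : ∀ x (a : {a : F // a * a ^ q = 1}), C.N (a.1 • f x) = 1 := fun x a => by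
    rw [H11.herm_N_smul, a.2, (hf x).1, mul_one]
  refine Nat.card_congr (Equiv.ofBijective (fun p => ⟨p.2.1 • f p.1, hN _ _,
    (h _ _ (iv_smul (hf p.1) (hN _ _))).1 p.1.2.2.2⟩) ⟨?_, ?_⟩)
  · rintro ⟨x, a⟩ ⟨y, b⟩ e
    have e' : a.1 • f x = b.1 • f y := congrArg Subtype.val e
    have : x = y := Subtype.ext
      (R.iv_uniq (iv_smul (hf x) (hN x a)) (e' ▸ iv_smul (hf y) (hN y b)))
    subst this
    rw [Subtype.ext (smul_left_injective F (ne_zero_of_unit (hf x).1) e')]
  · rintro ⟨v, hv, hQ⟩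
    obtain ⟨x, hx⟩ := R.exists_iv hv
    let x' : {x // x ≠ 1 ∧ x * x = 1 ∧ P x} := ⟨x, R.iv_ne_one hx, R.iv_sq hx, (h _ _ hx).2 hQ⟩
    obtain ⟨a, ha⟩ := R.iv_par (hf x') hx
    refine ⟨⟨x', a, ?_⟩, Subtype.ext ha.symm⟩
    rw [ha, H11.herm_N_smul, (hf x').1, mul_one] at hv
    exact hv

theorem card_inv : Nat.card {x : G // x ≠ 1 ∧ x * x = 1} = q ^ 2 * (q ^ 2 - q + 1) := by
  have h := R.count (fun _ => True) (fun _ => True) (fun _ _ _ => Iff.rfl)
  simp only [and_true] at h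
  have h2 := cnt_herm_ne R.nd R.dim (c := 1) (by simp) one_ne_zero
  rw [if_neg (by decide), cnt, ← h] at h2
  have := two_le_of_card_sq hF
  have h3 : q ≤ q ^ 2 := Nat.le_self_pow (by norm_num) q
  refine Nat.eq_of_mul_eq_mul_right (show 0 < q + 1 by omega) ?_
  rw [h2]
  zify [h3]
  ring

omit R [FiniteDimensional F V] in
theorem B_comp {v : V} (hv : C.N v = 1) (w : V) : C.B v (w - C.B v w • v) = 0 := by
  rw [map_sub, map_smul, Buu hv, smul_eq_mul, mul_one, sub_self]

omit R [FiniteDimensional F V] in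
theorem N_comb {v w : V} (hv : C.N v = 1) (h : C.B v w = 0) (b : F) :
    C.N (b • v + w) = b * b ^ q + C.N w := by
  rw [C.N_add_of_orth (by rw [Bl, h, mul_zero]), H11.herm_N_smul, hv, mul_one]

omit R [FiniteDimensional F V] in
theorem N_comp {v : V} (hv : C.N v = 1) (w : V) :
    C.N (w - C.B v w • v) = C.N w - C.B v w * C.B v w ^ q := by
  have := N_comb hv (B_comp hv w) (C.B v w)
  rw [add_sub_cancel] at this
  rw [this]; ring

theorem exists_common {v w : V} (hv : C.N v = 1) (hw : C.N w = 1)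
    (h : C.B v w * C.B v w ^ q ≠ 1) : ∃ z, C.N z = 1 ∧ C.B v z = 0 ∧ C.B w z = 0 := by
  have h1 : C.N (w - C.B v w • v) ≠ 0 := by rw [N_comp hv, hw]; exact sub_ne_zero.2 h.symm
  obtain ⟨h2, h3⟩ := orth_pair (by simp [hv]) h1 (B_comp hv w)
  obtain ⟨z, hz, hz'⟩ := R.exists_unit_perp h2 h3.le
  rw [C.mem_perp_pair, C.B_sub_left, Bl] at hz
  refine ⟨z, hz', hz.1, ?_⟩
  simpa [hz.1] using hz.2

theorem perp_pair {u z : V} (hu : C.N u = 1) (hz : C.N z = 1) (h : C.B u z = 0) :
    C.NondegOn (C.perp (Submodule.span F {u, z})) ∧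
      finrank F (C.perp (Submodule.span F {u, z})) = 1 := by
  obtain ⟨h2, h3⟩ := orth_pair (by simp [hu]) (by simp [hz]) h
  have := R.nd.finrank_add_finrank_perp (Submodule.span F {u, z})
  have := R.dim
  exact ⟨R.nd.nondegOn_perp h2, by omega⟩

theorem par_of_common {v w z : V} (hv : C.N v = 1) (hw : C.N w = 1) (hz : C.N z = 1)
    (h1 : C.B v z = 0) (h2 : C.B w z = 0) (h : C.B v w * C.B v w ^ q = 1) :
    w - C.B v w • v = 0 := by
  by_contra h0
  obtain ⟨h3, h4⟩ := R.perp_pair hv hz h1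
  have hm : w - C.B v w • v ∈ C.perp (Submodule.span F {v, z}) := by
    rw [C.mem_perp_pair]
    refine ⟨B_comp hv w, ?_⟩
    rw [map_sub, map_smul, C.B_swap_zero h1, C.B_swap_zero h2]; simp
  obtain ⟨y, hy, hy'⟩ := h3.exists_eq hm h0 1
  obtain ⟨a, rfl⟩ := par_of_finrank_one h4 hm hy h0
  rw [map_smul, ← N_eq, N_comp hv, hw, h] at hy'
  simp at hy'

omit R in
theorem count_comb {v : V} (hv : C.N v = 1) (P : F → V → Prop) :
    Nat.card {w // C.N w = 1 ∧ P (C.B v w) (w - C.B v w • v)} =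
      ∑ b : F, Nat.card {w : C.perp (Submodule.span F {v}) //
        C.N (w : V) = 1 - b * b ^ q ∧ P b w} := by
  have : Finite V := Module.finite_of_finite F
  rw [← card_subtype_prod (fun (w : C.perp (Submodule.span F {v})) (b : F) =>
    C.N (w : V) = 1 - b * b ^ q ∧ P b w)]
  refine Nat.card_congr (Equiv.ofBijective (fun w => ⟨(⟨w.1 - C.B v w.1 • v,
    C.mem_perp_singleton.2 (B_comp hv _)⟩, C.B v w.1), by rw [N_comp hv, w.2.1], w.2.2⟩) ⟨?_, ?_⟩)
  · rintro ⟨w, hw⟩ ⟨w', hw'⟩ e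
    have e' := congrArg Subtype.val e
    have e1 : C.B v w = C.B v w' := congrArg Prod.snd e'
    have e2 : w - C.B v w • v = w' - C.B v w' • v := congrArg (fun p => p.1.1) e'
    rw [e1, sub_left_inj] at e2
    exact Subtype.ext e2
  · rintro ⟨⟨⟨w, hw⟩, b⟩, h1, h2⟩
    have hw' := C.mem_perp_singleton.1 hw
    have e : C.B v (b • v + w) = b := by
      rw [map_add, map_smul, Buu hv, hw', smul_eq_mul, mul_one, add_zero]
    refine ⟨⟨b • v + w, ?_, ?_⟩, Subtype.ext (Prod.ext (Subtype.ext ?_) e)⟩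
    · rw [N_comb hv hw', show C.N w = _ from h1]; ring
    · rw [e, add_sub_cancel_left]; exact h2
    · show b • v + w - C.B v (b • v + w) • v = w
      rw [e, add_sub_cancel_left]

theorem plane {v : V} (hv : C.N v = 1) :
    (C.restrict (C.perp (Submodule.span F {v}))).Nondeg ∧
      finrank F (C.perp (Submodule.span F {v})) = 2 := by
  have := finrank_perp_singleton R.nd (ne_zero_of_unit hv)
  have := R.dim
  exact ⟨C.restrict_nondeg_iff.2 (R.nd.nondegOn_perp (nondegOn_singleton (by simp [Buu hv]))),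
    by omega⟩

omit [FiniteDimensional F V] in
theorem iv_eq_iff' {x y : G} {v w : V} (h : Iv C ρ x v) (h' : Iv C ρ y w) :
    x = y ↔ w - C.B v w • v = 0 := by
  rw [R.iv_eq_iff h h', sub_eq_zero]
  constructor
  · rintro ⟨a, rfl⟩
    rw [map_smul, Buu h.1, smul_eq_mul, mul_one]
  · exact fun h => ⟨_, h⟩

omit [FiniteDimensional F V] in
theorem norm_of_eq {x : G} {v w : V} (h : Iv C ρ x v) (h' : Iv C ρ x w) :
    C.B v w * C.B v w ^ q = 1 := by
  have := N_comp h.1 w
  rw [(R.iv_eq_iff' h h').1 rfl, h'.1, C.N_zero] at this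
  linear_combination this

theorem two_iff {t x : G} {v w : V} (h : Iv C ρ t v) (h' : Iv C ρ x w) (hc : ¬ Commute t x) :
    (∃ y : G, y ≠ 1 ∧ y * y = 1 ∧ Commute t y ∧ Commute y x) ↔ C.B v w * C.B v w ^ q ≠ 1 := by
  constructor
  · rintro ⟨y, hy, hy2, h1, h2⟩ hb
    obtain ⟨z, hz⟩ := R.exists_vec hy hy2
    rcases (R.iv_comm h hz).1 h1 with rfl | h1'
    · exact hc h2
    rcases (R.iv_comm h' hz).1 h2.symm with rfl | h2'
    · exact hc h1
    exact hc ((R.iv_comm h h').2 (Or.inl ((R.iv_eq_iff' h h').2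
      (R.par_of_common h.1 h'.1 hz.1 h1' h2' hb))))
  · intro hb
    obtain ⟨z, hz, h1, h2⟩ := R.exists_common h.1 h'.1 hb
    obtain ⟨y, hy⟩ := R.exists_iv hz
    exact ⟨y, R.iv_ne_one hy, R.iv_sq hy, (R.iv_comm h hy).2 (Or.inr h1),
      ((R.iv_comm h' hy).2 (Or.inr h2)).symm⟩

theorem card_one {t : G} (ht : t ≠ 1) (ht2 : t * t = 1) :
    Nat.card {x : G // x ≠ 1 ∧ x * x = 1 ∧ x ≠ t ∧ Commute t x} = q * (q - 1) := by
  obtain ⟨v, hv⟩ := R.exists_vec ht ht2
  have hq := two_le_of_card_sq hF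
  have h := R.count (fun x => x ≠ t ∧ Commute t x) (fun w => C.B v w = 0) (fun x w hw => by
    rw [R.iv_comm hv hw]
    refine ⟨fun h => h.2.resolve_left h.1.symm, fun h => ⟨?_, Or.inr h⟩⟩
    rintro rfl
    have := R.norm_of_eq hv hw
    rw [h, zero_mul] at this
    exact zero_ne_one this)
  obtain ⟨h1, h2⟩ := R.plane hv.1
  have h3 := cnt_herm_ne h1 h2 (c := 1) (by simp) one_ne_zero
  rw [if_pos (by decide), cnt] at h3
  have h4 : Nat.card {w // C.N w = 1 ∧ C.B v w = 0} =
      Nat.card {w // (C.restrict (C.perp (Submodule.span F {v}))).N w = 1} :=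
    Nat.card_congr ⟨fun w => ⟨⟨w, C.mem_perp_singleton.2 w.2.2⟩, w.2.1⟩,
      fun w => ⟨w.1, w.2, C.mem_perp_singleton.1 w.1.2⟩, fun _ => rfl, fun _ => rfl⟩
  refine Nat.eq_of_mul_eq_mul_right (show 0 < q + 1 by omega) ?_
  rw [h, h4, h3]
  zify [show 1 ≤ q by omega, show 1 ≤ q ^ 2 from Nat.one_le_pow _ _ (by omega)]
  ring

theorem card_two {t : G} (ht : t ≠ 1) (ht2 : t * t = 1) :
    Nat.card {x : G // x ≠ 1 ∧ x * x = 1 ∧ ¬ Commute t x ∧
      ∃ y : G, y ≠ 1 ∧ y * y = 1 ∧ Commute t y ∧ Commute y x} = q * (q - 2) * (q ^ 2 - 1) := by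
  classical
  obtain ⟨v, hv⟩ := R.exists_vec ht ht2
  have hq := two_le_of_card_sq hF
  have h := R.count (fun x => ¬ Commute t x ∧
      ∃ y : G, y ≠ 1 ∧ y * y = 1 ∧ Commute t y ∧ Commute y x)
    (fun w => C.B v w ≠ 0 ∧ C.B v w * C.B v w ^ q ≠ 1) (fun x w hw => by
      constructor
      · rintro ⟨h1, h2⟩
        exact ⟨fun h => h1 ((R.iv_comm hv hw).2 (Or.inr h)), (R.two_iff hv hw h1).1 h2⟩
      · rintro ⟨h1, h2⟩
        have hc : ¬ Commute t x := fun hc => by
          rcases (R.iv_comm hv hw).1 hc with rfl | h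
          · exact h2 (R.norm_of_eq hv hw)
          · exact h1 h
        exact ⟨hc, (R.two_iff hv hw hc).2 h2⟩)
  obtain ⟨h1, h2⟩ := R.plane hv.1
  rw [count_comb hv.1 (fun b _ => b ≠ 0 ∧ b * b ^ q ≠ 1), Finset.sum_congr rfl
    (g := fun b => if b ≠ 0 ∧ b * b ^ q ≠ 1 then q * (q ^ 2 - 1) else 0) (fun b _ => by
      split_ifs with hb
      · have h3 := cnt_herm_ne h1 h2 (c := 1 - b * b ^ q)
          (by rw [sub_pow' hF, mul_pow, pow_pow' hF, one_pow, mul_comm]) (sub_ne_zero.2 hb.2.symm)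
        rw [if_pos (by decide), cnt] at h3
        simp only [and_iff_left hb]
        simpa using h3
      · simp [hb]), ← Finset.sum_filter, Finset.sum_const, smul_eq_mul] at h
  have h5 := card_norm_one hF
  rw [Nat.card_eq_fintype_card, Fintype.card_subtype] at h5
  have h6 := Finset.card_filter_add_card_filter_not (s := Finset.univ)
    (fun b : F => b * b ^ q = 1)
  have h7 : (Finset.univ.filter fun b : F => ¬ b * b ^ q = 1) =
      insert 0 (Finset.univ.filter fun b : F => b ≠ 0 ∧ b * b ^ q ≠ 1) := by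
    ext b
    by_cases hb : b = 0 <;> simp [hb]
  rw [h7, Finset.card_insert_of_notMem (by simp), h5, Finset.card_univ, hF] at h6
  have h8 : (Finset.univ.filter fun b : F => b ≠ 0 ∧ b * b ^ q ≠ 1).card = (q + 1) * (q - 2) := by
    zify [hq] at h6 ⊢
    linear_combination h6
  refine Nat.eq_of_mul_eq_mul_right (show 0 < q + 1 by omega) ?_
  rw [h, h8]
  ring

theorem card_three {t : G} (ht : t ≠ 1) (ht2 : t * t = 1) :
    Nat.card {x : G // x ≠ 1 ∧ x * x = 1 ∧ ¬ Commute t x ∧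
      ∀ y : G, y ≠ 1 → y * y = 1 → ¬ (Commute t y ∧ Commute y x)} = (q + 1) * (q ^ 2 - 1) := by
  classical
  obtain ⟨v, hv⟩ := R.exists_vec ht ht2
  have hq := two_le_of_card_sq hF
  have h := R.count (fun x => ¬ Commute t x ∧
      ∀ y : G, y ≠ 1 → y * y = 1 → ¬ (Commute t y ∧ Commute y x))
    (fun w => C.B v w * C.B v w ^ q = 1 ∧ w - C.B v w • v ≠ 0) (fun x w hw => by
      constructor
      · rintro ⟨h1, h2⟩
        refine ⟨?_, fun h => h1 ((R.iv_comm hv hw).2 (Or.inl ((R.iv_eq_iff' hv hw).2 h)))⟩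
        by_contra hb
        obtain ⟨y, a, b, c⟩ := (R.two_iff hv hw h1).2 hb
        exact h2 y a b c
      · rintro ⟨h1, h2⟩
        have hc : ¬ Commute t x := fun hc => by
          rcases (R.iv_comm hv hw).1 hc with h | h
          · exact h2 ((R.iv_eq_iff' hv hw).1 h)
          · rw [h, zero_mul] at h1; exact zero_ne_one h1
        exact ⟨hc, fun y a b c => (R.two_iff hv hw hc).1 ⟨y, a, b, c⟩ h1⟩)
  obtain ⟨h1, h2⟩ := R.plane hv.1
  have h3 := cnt_herm_zero h1 h2
  rw [if_pos (by decide), cnt] at h3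
  have : Finite V := Module.finite_of_finite F
  have h4 : Nat.card {w : C.perp (Submodule.span F {v}) // C.N (w : V) = 0 ∧ (w : V) ≠ 0} =
      (q ^ 2 - 1) * (q + 1) := by
    have := Fintype.ofFinite (C.perp (Submodule.span F {v}))
    rw [Nat.card_eq_fintype_card, Fintype.card_subtype] at h3 ⊢
    have e : (Finset.univ.filter fun w : C.perp (Submodule.span F {v}) =>
        (C.restrict (C.perp (Submodule.span F {v}))).N w = 0) = insert 0
        (Finset.univ.filter fun w : C.perp (Submodule.span F {v}) =>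
          C.N (w : V) = 0 ∧ (w : V) ≠ 0) := by
      ext w
      rw [Finset.mem_insert, Finset.mem_filter, Finset.mem_filter]
      by_cases hw : w = 0 <;> simp [hw]
    rw [e, Finset.card_insert_of_notMem (by simp)] at h3
    simpa using h3
  rw [count_comb hv.1 (fun b w => b * b ^ q = 1 ∧ w ≠ 0), Finset.sum_congr rfl
    (g := fun b => if b * b ^ q = 1 then (q ^ 2 - 1) * (q + 1) else 0) (fun b _ => by
      split_ifs with hb
      · rw [← h4]; simp [hb]
      · simp [hb]), ← Finset.sum_filter, Finset.sum_const, smul_eq_mul] at h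
  have h5 := card_norm_one hF
  rw [Nat.card_eq_fintype_card, Fintype.card_subtype] at h5
  refine Nat.eq_of_mul_eq_mul_right (show 0 < q + 1 by omega) ?_
  rw [h, h5]
  ring

theorem near {v w : V} {t x : G} (h : Iv C ρ t v) (h' : Iv C ρ x w)
    (hb : C.B v w * C.B v w ^ q ≠ 1) :
    ∃ y : G, y ≠ 1 ∧ y * y = 1 ∧ Commute t y ∧ Commute y x := by
  by_cases hc : Commute t x
  · exact ⟨t, R.iv_ne_one h, R.iv_sq h, Commute.refl _, hc⟩
  · exact (R.two_iff h h' hc).2 hb

theorem diam {t x : G} (ht : t ≠ 1) (ht2 : t * t = 1) (hx : x ≠ 1) (hx2 : x * x = 1) :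
    ∃ y z : G, y ≠ 1 ∧ y * y = 1 ∧ z ≠ 1 ∧ z * z = 1 ∧ Commute t y ∧ Commute y z ∧ Commute z x := by
  obtain ⟨v, hv⟩ := R.exists_vec ht ht2
  obtain ⟨w, hw⟩ := R.exists_vec hx hx2
  by_cases hb : C.B v w * C.B v w ^ q = 1
  swap
  · obtain ⟨y, a, b, c, d⟩ := R.near hv hw hb
    exact ⟨t, y, ht, ht2, a, b, Commute.refl _, c, d⟩
  by_cases h0 : w - C.B v w • v = 0
  · obtain rfl := (R.iv_eq_iff' hv hw).2 h0
    exact ⟨t, t, ht, ht2, ht, ht2, Commute.refl _, Commute.refl _, Commute.refl _⟩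
  obtain ⟨h1, h2⟩ := R.plane hv.1
  have hm : (-1 : F) ≠ 1 := fun h => R.two (by linear_combination -h)
  obtain ⟨β, hβ⟩ : ∃ β : F, β * β ^ q = -1 := by
    obtain ⟨u, hu⟩ := herm_exists_norm (C := C.restrict (Submodule.span F {v}))
      (C.restrict_nondeg_iff.2 (nondegOn_singleton (by simp [Buu hv.1])))
      (by rw [finrank_span_singleton (ne_zero_of_unit hv.1)]) (c := -1)
      (by rw [← frob_apply hF, map_neg, map_one]) (by simp)
    obtain ⟨a, ha⟩ := Submodule.mem_span_singleton.1 u.2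
    have hu' : C.N (u : V) = -1 := hu
    rw [← ha, H11.herm_N_smul, hv.1, mul_one] at hu'
    exact ⟨a, hu'⟩
  have hβ0 : β ≠ 0 := by rintro rfl; simp at hβ
  set w' := w - C.B v w • v with hw'
  have hw'N : C.N w' = 0 := by rw [hw', N_comp hv.1, hw.1, hb, sub_self]
  have hw'm : w' ∈ C.perp (Submodule.span F {v}) := C.mem_perp_singleton.2 (B_comp hv.1 w)
  obtain ⟨f, hf, hf'⟩ := (C.restrict_nondeg_iff.1 h1).exists_eq hw'm h0 β
  have hfv := C.mem_perp_singleton.1 hf
  set l : F := (1 - C.N f) / (2 * β ^ q) with hl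
  have hl' : l * β ^ q = (1 - C.N f) / 2 := by
    have := R.two
    rw [hl]; field_simp
  have hl2 : l ^ q * β = (1 - C.N f) / 2 := by
    have := congrArg (· ^ q) hl'
    simp only [mul_pow, pow_pow' hF, div_pow, sub_pow' hF, two_pow hF, one_pow, herm_N_pow] at this
    exact this
  have hu : C.N (f + l • w') = 1 := by
    rw [N_eq, C.B_add_left, map_add, map_add, Bl, Bl, map_smul, map_smul, ← N_eq, ← N_eq, hw'N,
      H11.herm_symm C w' f, hf', smul_eq_mul, hl', hl2]
    have := R.two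
    field_simp
    simp
    ring
  have hvu : C.B v (f + l • w') = 0 := by
    rw [map_add, map_smul, hfv, B_comp hv.1, smul_zero, add_zero]
  have hwu : C.B w (f + l • w') = β := by
    have e : w = C.B v w • v + w' := by rw [hw', add_sub_cancel]
    rw [e, C.B_add_left, Bl, hvu, map_add, map_smul, ← N_eq, hw'N, hf']
    simp
  obtain ⟨y, hy⟩ := R.exists_iv hu
  obtain ⟨z, a, b, c, d⟩ := R.near hw hy (by rw [hwu, hβ]; exact hm)
  exact ⟨y, z, R.iv_ne_one hy, R.iv_sq hy, a, b, (R.iv_comm hv hy).2 (Or.inr hvu), d.symm, c.symm⟩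

theorem third {t x : G} (ht : t ≠ 1) (ht2 : t * t = 1) (hx : x ≠ 1) (hx2 : x * x = 1)
    (hxt : x ≠ t) (hc : Commute t x) :
    Nat.card {y : G // y ≠ 1 ∧ y * y = 1 ∧ y ≠ t ∧ y ≠ x ∧ Commute t y ∧ Commute x y} = 1 := by
  obtain ⟨v, hv⟩ := R.exists_vec ht ht2
  obtain ⟨w, hw⟩ := R.exists_vec hx hx2
  have hb := ((R.iv_comm hv hw).1 hc).resolve_left hxt.symm
  obtain ⟨z, hz, h1, h2⟩ := R.exists_common hv.1 hw.1 (by simp [hb])
  obtain ⟨y, hy⟩ := R.exists_iv hz
  obtain ⟨-, h4⟩ := R.perp_pair hv.1 hw.1 hb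
  rw [Nat.card_eq_one_iff_exists]
  refine ⟨⟨y, R.iv_ne_one hy, R.iv_sq hy, ?_, ?_, (R.iv_comm hv hy).2 (Or.inr h1),
    (R.iv_comm hw hy).2 (Or.inr h2)⟩, ?_⟩
  · rintro rfl
    simpa [h1] using R.norm_of_eq hv hy
  · rintro rfl
    simpa [h2] using R.norm_of_eq hw hy
  · rintro ⟨y', a, b, c, d, e, f⟩
    obtain ⟨z', hz'⟩ := R.exists_vec a b
    refine Subtype.ext ((R.iv_eq_iff hy hz').2 (par_of_finrank_one h4 (C.mem_perp_pair.2 ⟨h1, h2⟩)
      (C.mem_perp_pair.2 ⟨((R.iv_comm hv hz').1 e).resolve_left c.symm,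
        ((R.iv_comm hw hz').1 f).resolve_left d.symm⟩) (ne_zero_of_unit hz))).symm

end Rp

/-- The natural representation of `SU₃(q)`. -/
noncomputable def suRep (hF : Fintype.card F = q ^ 2) (n : ℕ) :
    Cfsg.SU n F q →* ((Fin n → F) ≃ₗ[F] (Fin n → F)) :=
  (hermC (Fin n) hF).isom.subtype.comp ((sisom (hermC (Fin n) hF)).subtype.comp
    (H11.suEquivSisom hF n).toMonoidHom)

theorem rp_su (hF : Fintype.card F = q ^ 2) (hq : Odd q) : Rp (hermC (Fin 3) hF) (suRep hF 3) where
  nd := hermC_nondeg hF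
  dim := by simp
  two := fun h => by
    have h1 : ringChar F = 2 := by
      have : CharP F 2 := (CharP.charP_iff_prime_eq_zero Nat.prime_two).2 (by exact_mod_cast h)
      exact ringChar.eq F 2
    have := FiniteField.even_card_iff_char_two.1 h1
    have h2 := Nat.odd_iff.1 (hq.pow (n := 2))
    omega
  inj := Subtype.val_injective.comp (Subtype.val_injective.comp (H11.suEquivSisom hF 3).injective)
  isom g := (H11.suEquivSisom hF 3 g).1.2
  det g := (H11.suEquivSisom hF 3 g).2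
  surj e he he' := ⟨(H11.suEquivSisom hF 3).symm ⟨⟨e, he⟩, he'⟩, by simp [suRep]⟩

end H10.SU3
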