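import Cfsg.Agent.H10.X0

/-! Generated: Coxeter models of the symmetric groups of degree four and five. -/

set_option maxRecDepth 100000
set_option maxHeartbeats 4000000
set_option linter.unusedVariables false

open Subgroup
open scoped commutatorElement
namespace H10.X
open H0 H0.PM H16 H19

def Cx3 {G : Type*} [Group G] (a b c : G) : Prop :=
  a * a = 1 ∧
  b * b = 1 ∧
  c * c = 1 ∧
  (a * b) ^ 3 = 1 ∧
  (b * c) ^ 3 = 1 ∧
  a * c = c * a ∧ True
def Cx4 {G : Type*} [Group G] (a b c d : G) : Prop :=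
  a * a = 1 ∧
  b * b = 1 ∧
  c * c = 1 ∧
  d * d = 1 ∧
  (a * b) ^ 3 = 1 ∧
  (b * c) ^ 3 = 1 ∧
  (c * d) ^ 3 = 1 ∧
  a * c = c * a ∧
  a * d = d * a ∧
  b * d = d * b ∧ True
noncomputable def S4_r_R : List (List ℕ) := [[0,0],
  [1,1],
  [2,2],
  [1,0,1,0,1,0],
  [2,1,2,1,2,1],
  [2,0,2,0]]
theorem S4_r {G : Type*} [Group G] {a b c : G}
    (h : Cx3 a b c) :
    Rels (nthG [a, b, c]) S4_r_R :=
  rels_of_eqs ((InvI.cons h.1 (InvI.cons h.2.1 (InvI.cons h.2.2.1 InvI.nil))) : InvI [a, b, c] [(nat_lit 0), (nat_lit 1), (nat_lit 2)])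
    (show AllEq [a, b, c] [((.mul (.v (nat_lit 0)) (.v (nat_lit 0))), .one), ((.mul (.v (nat_lit 1)) (.v (nat_lit 1))), .one), ((.mul (.v (nat_lit 2)) (.v (nat_lit 2))), .one), ((.pw (.mul (.v (nat_lit 0)) (.v (nat_lit 1))) (nat_lit 3)), .one), ((.pw (.mul (.v (nat_lit 1)) (.v (nat_lit 2))) (nat_lit 3)), .one), ((.mul (.v (nat_lit 0)) (.v (nat_lit 2))), (.mul (.v (nat_lit 2)) (.v (nat_lit 0))))] from h)
    [(.v (nat_lit 0)), (.v (nat_lit 1)), (.v (nat_lit 2))] (by decide +kernel)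
noncomputable abbrev S4_o : Ops := pops (nat_lit 4) (nat_lit 2) (nat_lit 3) (nat_lit 228)
noncomputable def S4_cs : List ℕ := [(nat_lit 225), (nat_lit 216), (nat_lit 180)]
noncomputable def S4_L : List (List ℕ) := [[(nat_lit 228), (nat_lit 225), (nat_lit 210), (nat_lit 147)],
  [(nat_lit 228), (nat_lit 216), (nat_lit 156)],
  [(nat_lit 228), (nat_lit 180)]]
noncomputable def S4_WW : List (List (List ℕ)) := [[[],
  [(nat_lit 0)],
  [(nat_lit 0), (nat_lit 1)],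
  [(nat_lit 0), (nat_lit 1), (nat_lit 2)]],
  [[],
  [(nat_lit 1)],
  [(nat_lit 1), (nat_lit 2)]],
  [[],
  [(nat_lit 2)]]]
noncomputable def S4_b2_S0 : List ℕ := [nat_lit 0x1700000f00000700000c000014008004]
noncomputable def S4_b2_S : List (List ℕ) := [S4_b2_S0]
noncomputable def S4_b2_defs : List ℕ := [(nat_lit 0x30000000200100001001000000000000000000000)]
noncomputable def S4_b2_recs : List ℕ := [(nat_lit 0x10000400005)]
noncomputable def S4_b2_L0 : List ℕ := [nat_lit 0x700000100000b000002, nat_lit 0x800000000000f000003, nat_lit 0x1300000400000c000000, nat_lit 0x17000005000010000001, nat_lit 0x14000002000002000005, nat_lit 0x18000003000001000004]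
noncomputable def S4_b2_L : List (List ℕ) := [S4_b2_L0]
noncomputable def S4_b2_V : List ℕ := [(nat_lit 0x50000000400000003000000020000000100000000)]
noncomputable def S4_b2_D : H26.Dag := ⟨[], [[0,0],
  [1,1],
  [1,0,1,0,1,0]], [], S4_b2_defs, S4_b2_recs⟩
theorem S4_b2_c : S4_b2_D.checkTab S4_b2_S 6 2 S4_b2_V S4_b2_L = true := by decide +kernel
theorem S4_b2 : Bound S4_r_R 2 6 :=
  bound_dag (Bound.zero S4_r_R) (K := 2) (J := [0,1,3]) (by decide +kernel) S4_b2_c (by decide +kernel)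
noncomputable def S4_b3_S0 : List ℕ := [nat_lit 0x1, nat_lit 0x1, nat_lit 0x700000100000800400a, nat_lit 0xb00000700000500000800000c008008, nat_lit 0xf00000d00001000800a, nat_lit 0xf00000b00000900000c000010008006]
noncomputable def S4_b3_S : List (List ℕ) := [S4_b3_S0]
noncomputable def S4_b3_defs : List ℕ := [(nat_lit 0x2001000010020000000000000)]
noncomputable def S4_b3_recs : List ℕ := [(nat_lit 0x10000300003020000300003020000200002000000100001010000000000000000000000)]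
noncomputable def S4_b3_L0 : List ℕ := [nat_lit 0x1000000000005000000000007000001, nat_lit 0x900000100000b000002000008000000, nat_lit 0xf00000300000c00000100000d000002, nat_lit 0x10000002000015000003000011000003]
noncomputable def S4_b3_L : List (List ℕ) := [S4_b3_L0]
noncomputable def S4_b3_V : List ℕ := [(nat_lit 0x3000000020000000100000000)]
noncomputable def S4_b3_D : H26.Dag := ⟨[], [[0,0],
  [1,1],
  [2,2],
  [1,0,1,0,1,0],
  [2,1,2,1,2,1],
  [2,0,2,0]], [0,1], S4_b3_defs, S4_b3_recs⟩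
theorem S4_b3_c : S4_b3_D.checkTab S4_b3_S 4 3 S4_b3_V S4_b3_L = true := by decide +kernel
theorem S4_b3 : Bound S4_r_R 3 24 :=
  bound_dag S4_b2 (K := 3) (J := [0,1,2,3,4,5]) (by decide +kernel) S4_b3_c (by decide +kernel)
theorem S4_P : PModel (nat_lit 4) (nat_lit 2) (nat_lit 3) (nat_lit 228) S4_cs S4_r_R S4_L 24 :=
  ⟨PkOK.of (by decide +kernel), by decide +kernel, by decide +kernel, S4_b3, ⟨S4_WW, by decide +kernel⟩,
    ⟨fun c => Nat.mod c (nat_lit 89), by decide +kernel⟩⟩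
noncomputable def S4_soc_t0 : ST := (.node (nat_lit 42) (.node (nat_lit 23) (.node (nat_lit 16) (.node (nat_lit 12) (.leaf (nat_lit 2)) (.leaf (nat_lit 16))) (.node (nat_lit 21) (.leaf (nat_lit 15)) (.leaf (nat_lit 0)))) (.node (nat_lit 28) (.node (nat_lit 27) (.leaf (nat_lit 8)) (.leaf (nat_lit 15))) (.node (nat_lit 38) (.leaf (nat_lit 2)) (.node (nat_lit 39) (.leaf (nat_lit 0)) (.leaf (nat_lit 16)))))) (.node (nat_lit 60) (.node (nat_lit 54) (.node (nat_lit 50) (.leaf (nat_lit 8)) (.leaf (nat_lit 16))) (.node (nat_lit 58) (.leaf (nat_lit 15)) (.leaf (nat_lit 4)))) (.node (nat_lit 72) (.node (nat_lit 64) (.leaf (nat_lit 2)) (.leaf (nat_lit 16))) (.node (nat_lit 74) (.leaf (nat_lit 15)) (.node (nat_lit 77) (.leaf (nat_lit 0)) (.leaf (nat_lit 16)))))))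
noncomputable def S4_soc_t1 : ST := (.node (nat_lit 33) (.node (nat_lit 18) (.node (nat_lit 14) (.leaf (nat_lit 12)) (.leaf (nat_lit 0))) (.node (nat_lit 27) (.leaf (nat_lit 12)) (.node (nat_lit 28) (.leaf (nat_lit 0)) (.leaf (nat_lit 12))))) (.node (nat_lit 50) (.node (nat_lit 35) (.leaf (nat_lit 4)) (.node (nat_lit 49) (.leaf (nat_lit 12)) (.leaf (nat_lit 0)))) (.node (nat_lit 52) (.leaf (nat_lit 12)) (.node (nat_lit 54) (.leaf (nat_lit 4)) (.leaf (nat_lit 12))))))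
noncomputable def S4_soc_F : Fm := (.all S4_L (.or (.qf (.eq (.v (nat_lit 0)) .one)) (.exF S4_L (fun cs => S4_soc_t1.find (Nat.mod (nth (nat_lit 0) cs (nat_lit 0)) (nat_lit 64))) (.exF S4_L (fun cs => S4_soc_t0.find (Nat.mod (Nat.add (nth (nat_lit 0) cs (nat_lit 0)) (Nat.mul (nat_lit 7919) (nth (nat_lit 0) cs (nat_lit 1)))) (nat_lit 83))) (.qf (.or (.eq (.mul (.mul (.v (nat_lit 0)) (.v (nat_lit 2))) (.inv (.v (nat_lit 0)))) (.mul (.v (nat_lit 3)) (.v (nat_lit 5)))) (.or (.eq (.mul (.mul (.v (nat_lit 0)) (.v (nat_lit 2))) (.inv (.v (nat_lit 0)))) (.mul (.v (nat_lit 3)) (.v (nat_lit 5)))) (.or (.eq (.mul (.mul (.v (nat_lit 0)) (.mul (.mul (.mul (.v (nat_lit 2)) (.v (nat_lit 1))) (.inv (.v (nat_lit 2)))) (.inv (.v (nat_lit 1))))) (.inv (.v (nat_lit 0)))) (.mul (.v (nat_lit 3)) (.v (nat_lit 5)))) (.or (.eq (.mul (.mul (.v (nat_lit 0)) (.mul (.mul (.mul (.v (nat_lit 2)) (.v (nat_lit 1))) (.inv (.v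 (nat_lit 2)))) (.inv (.v (nat_lit 1))))) (.inv (.v (nat_lit 0)))) (.mul (.v (nat_lit 3)) (.v (nat_lit 5)))) (.or (.eq (.mul (.mul (.mul (.mul (.mul (.mul (.v (nat_lit 2)) (.v (nat_lit 1))) (.inv (.v (nat_lit 2)))) (.inv (.v (nat_lit 1)))) (.v (nat_lit 0))) (.inv (.mul (.mul (.mul (.v (nat_lit 2)) (.v (nat_lit 1))) (.inv (.v (nat_lit 2)))) (.inv (.v (nat_lit 1)))))) (.inv (.v (nat_lit 0)))) (.mul (.v (nat_lit 3)) (.v (nat_lit 5)))) (.eq (.mul (.mul (.mul (.mul (.mul (.mul (.v (nat_lit 2)) (.v (nat_lit 1))) (.inv (.v (nat_lit 2)))) (.inv (.v (nat_lit 1)))) (.v (nat_lit 0))) (.inv (.mul (.mul (.mul (.v (nat_lit 2)) (.v (nat_lit 1))) (.inv (.v (nat_lit 2)))) (.inv (.v (nat_lit 1)))))) (.inv (.v (nat_lit 0)))) (.mul (.v (nat_lit 3)) (.v (nat_lit 5))))))))))))))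
theorem S4_soc_chk : Fm.chk S4_o S4_soc_F S4_cs = true := by decide +kernel
theorem S4_soc {G : Type*} [Group G] {R : ℕ → G → Prop} {a b c : G} {H : Subgroup G}
    (M : Mdl S4_o S4_cs S4_L R [a, b, c] H) :
    ∀ y_ ∈ H, y_ = 1 ∨ (∃ q_ ∈ H, ∃ k_ ∈ H, k_ * y_ * k_⁻¹ = a * c ∨ k_ * y_ * k_⁻¹ = a * c ∨ k_ * ⁅y_, q_⁆ * k_⁻¹ = a * c ∨ k_ * ⁅y_, q_⁆ * k_⁻¹ = a * c ∨ ⁅⁅y_, q_⁆, k_⁆ = a * c ∨ ⁅⁅y_, q_⁆, k_⁆ = a * c) :=
  have h : ∀ y_, InL S4_o R S4_L y_ → y_ = 1 ∨ (Good S4_o R S4_L → prods S4_o S4_L S4_o.one ≠ [] → ∃ q_, InL S4_o R S4_L q_ ∧ (Good S4_o R S4_L → prods S4_o S4_L S4_o.one ≠ [] → ∃ k_, InL S4_o R S4_L k_ ∧ (k_ * y_ * k_⁻¹ = a * c ∨ k_ * y_ * k_⁻¹ = a * c ∨ k_ * ⁅y_, q_⁆ * k_⁻¹ = a * c ∨ k_ * ⁅y_, q_⁆ * k_⁻¹ = a * c ∨ ⁅⁅y_, q_⁆, k_⁆ = a * c ∨ ⁅⁅y_, q_⁆, k_⁆ = a * c))) :=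
    Fm.sound M.μ S4_soc_F S4_soc_chk M.reps
  (fun y_ h0 => (Or.imp (fun h1 => h1) (fun h1 => (Exists.imp (fun q_ h2 => ⟨M.H.iff.1 h2.1, (Exists.imp (fun k_ h3 => ⟨M.H.iff.1 h3.1, h3.2⟩) (h2.2 M.H.good M.H.ne))⟩) (h1 M.H.good M.H.ne))) (h y_ (M.H.iff.2 h0))))
theorem S4_mdl {G : Type*} [Group G] {a b c : G}
    (h : Cx3 a b c)
    (n1 : a * c ≠ 1) :
    ∃ R, Mdl S4_o S4_cs S4_L R [a, b, c] (sp [a, b, c]) ∧ #(sp [a, b, c]) = 24 :=
  mdl_of S4_P rfl (S4_r h) (.mul (.v (nat_lit 0)) (.v (nat_lit 2))) (.mul (.v (nat_lit 0)) (.v (nat_lit 2))) n1 n1 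
    fun _ ms _ M hl => match ms, M, (hl : ms.length = 3) with
      | [_, _, _], M, _ => S4_soc M
noncomputable def S4_lD : List ℕ := [(nat_lit 228), (nat_lit 30), (nat_lit 225), (nat_lit 177), (nat_lit 78), (nat_lit 27), (nat_lit 75), (nat_lit 180)]
noncomputable def S4_lD_W : List (List ℕ) := [[],
  [(nat_lit 0)],
  [(nat_lit 1)],
  [(nat_lit 0), (nat_lit 0)],
  [(nat_lit 0), (nat_lit 1)],
  [(nat_lit 1), (nat_lit 0)],
  [(nat_lit 0), (nat_lit 0), (nat_lit 0)],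
  [(nat_lit 0), (nat_lit 0), (nat_lit 1)]]
noncomputable def S4_lD_h (c : ℕ) : ℕ := Nat.mod c (nat_lit 14)
theorem S4_lD_E {G : Type*} [Group G] {R : ℕ → G → Prop} {a b c : G} {H : Subgroup G}
    (M : Mdl S4_o S4_cs S4_L R [a, b, c] H) :
    EnumS R S4_lD (sp [a * (b * (a * c) * b), a]) :=
  enumS_sp M.μ.1 (M.reps.tms M.μ.1 [(.mul (.v (nat_lit 0)) (.mul (.mul (.v (nat_lit 1)) (.mul (.v (nat_lit 0)) (.v (nat_lit 2)))) (.v (nat_lit 1)))), (.v (nat_lit 0))] (cs' := [(nat_lit 30), (nat_lit 225)]) (by decide +kernel))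
    (Ws := S4_lD_W) (by decide +kernel) (by decide +kernel)
theorem S4_lD_c {G : Type*} [Group G] {R : ℕ → G → Prop} {a b c : G} {H : Subgroup G}
    (M : Mdl S4_o S4_cs S4_L R [a, b, c] H) :
    #(sp [a * (b * (a * c) * b), a]) = 8 :=
  (S4_lD_E M).card M.μ (h := S4_lD_h) (by decide +kernel)
noncomputable def S4_lZ : List ℕ := [(nat_lit 228), (nat_lit 30), (nat_lit 177), (nat_lit 75)]
noncomputable def S4_lZ_W : List (List ℕ) := [[],
  [(nat_lit 0)],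
  [(nat_lit 0), (nat_lit 0)],
  [(nat_lit 0), (nat_lit 0), (nat_lit 0)]]
noncomputable def S4_lZ_h (c : ℕ) : ℕ := Nat.mod c (nat_lit 4)
theorem S4_lZ_E {G : Type*} [Group G] {R : ℕ → G → Prop} {a b c : G} {H : Subgroup G}
    (M : Mdl S4_o S4_cs S4_L R [a, b, c] H) :
    EnumS R S4_lZ (sp [a * (b * (a * c) * b)]) :=
  enumS_sp M.μ.1 (M.reps.tms M.μ.1 [(.mul (.v (nat_lit 0)) (.mul (.mul (.v (nat_lit 1)) (.mul (.v (nat_lit 0)) (.v (nat_lit 2)))) (.v (nat_lit 1))))] (cs' := [(nat_lit 30)]) (by decide +kernel))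
    (Ws := S4_lZ_W) (by decide +kernel) (by decide +kernel)
theorem S4_lZ_c {G : Type*} [Group G] {R : ℕ → G → Prop} {a b c : G} {H : Subgroup G}
    (M : Mdl S4_o S4_cs S4_L R [a, b, c] H) :
    #(sp [a * (b * (a * c) * b)]) = 4 :=
  (S4_lZ_E M).card M.μ (h := S4_lZ_h) (by decide +kernel)
noncomputable def S4_c_F : Fm := (.all S4_L (.imp (.eq (.mul (.v (nat_lit 0)) (.mul (.v (nat_lit 1)) (.v (nat_lit 3)))) (.mul (.mul (.v (nat_lit 1)) (.v (nat_lit 3))) (.v (nat_lit 0)))) (.qf (.mem (.v (nat_lit 0)) S4_lD))))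
theorem S4_c_chk : Fm.chk S4_o S4_c_F S4_cs = true := by decide +kernel
theorem S4_c {G : Type*} [Group G] {R : ℕ → G → Prop} {a b c : G} {H : Subgroup G}
    (M : Mdl S4_o S4_cs S4_L R [a, b, c] H) :
    ∀ y ∈ H, y * (a * c) = a * c * y → y ∈ sp [a * (b * (a * c) * b), a] :=
  have h : ∀ y, InL S4_o R S4_L y → y * (a * c) = a * c * y → InS R S4_lD (y) :=
    Fm.sound M.μ S4_c_F S4_c_chk M.reps
  (fun y h0 => (fun h1 => ((S4_lD_E M).iff.1 ((h y (M.H.iff.2 h0)) h1))))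
noncomputable def S4_d_F : Fm := (.allS S4_lD (.qf (.eq (.mul (.v (nat_lit 0)) (.mul (.v (nat_lit 1)) (.v (nat_lit 3)))) (.mul (.mul (.v (nat_lit 1)) (.v (nat_lit 3))) (.v (nat_lit 0))))))
theorem S4_d_chk : Fm.chk S4_o S4_d_F S4_cs = true := by decide +kernel
theorem S4_d {G : Type*} [Group G] {R : ℕ → G → Prop} {a b c : G} {H : Subgroup G}
    (M : Mdl S4_o S4_cs S4_L R [a, b, c] H) :
    ∀ y ∈ sp [a * (b * (a * c) * b), a], y * (a * c) = a * c * y :=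
  have h : ∀ y, InS R S4_lD y → y * (a * c) = a * c * y :=
    Fm.sound M.μ S4_d_F S4_d_chk M.reps
  (fun y h0 => (h y ((S4_lD_E M).iff.2 h0)))
noncomputable def S4_e_F : Fm := (.qf (.and (.not (.mem (.v (nat_lit 0)) S4_lZ)) (.and (.not (.eq (.pw (.mul (.v (nat_lit 0)) (.mul (.mul (.v (nat_lit 1)) (.mul (.v (nat_lit 0)) (.v (nat_lit 2)))) (.v (nat_lit 1)))) (nat_lit 2)) .one)) (.and (.eq (.pw (.mul (.v (nat_lit 0)) (.mul (.mul (.v (nat_lit 1)) (.mul (.v (nat_lit 0)) (.v (nat_lit 2)))) (.v (nat_lit 1)))) (nat_lit 4)) .one) (.and (.eq (.mul (.mul (.v (nat_lit 0)) (.mul (.v (nat_lit 0)) (.mul (.mul (.v (nat_lit 1)) (.mul (.v (nat_lit 0)) (.v (nat_lit 2)))) (.v (nat_lit 1))))) (.inv (.v (nat_lit 0)))) (.inv (.mul (.v (nat_lit 0)) (.mul (.mul (.v (nat_lit 1)) (.mul (.v (nat_lit 0)) (.v (nat_lit 2)))) (.v (nat_lit 1)))))) (.not (.eq (.v (nat_lit 0)) .one)))))))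
theorem S4_e_chk : Fm.chk S4_o S4_e_F S4_cs = true := by decide +kernel
theorem S4_e {G : Type*} [Group G] {R : ℕ → G → Prop} {a b c : G} {H : Subgroup G}
    (M : Mdl S4_o S4_cs S4_L R [a, b, c] H) :
    a ∉ sp [a * (b * (a * c) * b)] ∧ (a * (b * (a * c) * b)) ^ 2 ≠ 1 ∧ (a * (b * (a * c) * b)) ^ 4 = 1 ∧ a * (a * (b * (a * c) * b)) * a⁻¹ = (a * (b * (a * c) * b))⁻¹ ∧ a ≠ 1 :=
  have h : ¬ InS R S4_lZ (a) ∧ (a * (b * (a * c) * b)) ^ 2 ≠ 1 ∧ (a * (b * (a * c) * b)) ^ 4 = 1 ∧ a * (a * (b * (a * c) * b)) * a⁻¹ = (a * (b * (a * c) * b))⁻¹ ∧ a ≠ 1 :=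
    Fm.sound M.μ S4_e_F S4_e_chk M.reps
  ((and_congr (not_congr (S4_lZ_E M).iff) Iff.rfl).1 h)
noncomputable def S5_r_R : List (List ℕ) := [[0,0],
  [1,1],
  [2,2],
  [3,3],
  [1,0,1,0,1,0],
  [2,1,2,1,2,1],
  [3,2,3,2,3,2],
  [2,0,2,0],
  [3,0,3,0],
  [3,1,3,1]]
theorem S5_r {G : Type*} [Group G] {a b c d : G}
    (h : Cx4 a b c d) :
    Rels (nthG [a, b, c, d]) S5_r_R :=
  rels_of_eqs ((InvI.cons h.1 (InvI.cons h.2.1 (InvI.cons h.2.2.1 (InvI.cons h.2.2.2.1 InvI.nil)))) : InvI [a, b, c, d] [(nat_lit 0), (nat_lit 1), (nat_lit 2), (nat_lit 3)])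
    (show AllEq [a, b, c, d] [((.mul (.v (nat_lit 0)) (.v (nat_lit 0))), .one), ((.mul (.v (nat_lit 1)) (.v (nat_lit 1))), .one), ((.mul (.v (nat_lit 2)) (.v (nat_lit 2))), .one), ((.mul (.v (nat_lit 3)) (.v (nat_lit 3))), .one), ((.pw (.mul (.v (nat_lit 0)) (.v (nat_lit 1))) (nat_lit 3)), .one), ((.pw (.mul (.v (nat_lit 1)) (.v (nat_lit 2))) (nat_lit 3)), .one), ((.pw (.mul (.v (nat_lit 2)) (.v (nat_lit 3))) (nat_lit 3)), .one), ((.mul (.v (nat_lit 0)) (.v (nat_lit 2))), (.mul (.v (nat_lit 2)) (.v (nat_lit 0)))), ((.mul (.v (nat_lit 0)) (.v (nat_lit 3))), (.mul (.v (nat_lit 3)) (.v (nat_lit 0)))), ((.mul (.v (nat_lit 1)) (.v (nat_lit 3))), (.mul (.v (nat_lit 3)) (.v (nat_lit 1))))] from h)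
    [(.v (nat_lit 0)), (.v (nat_lit 1)), (.v (nat_lit 2)), (.v (nat_lit 3))] (by decide +kernel)
noncomputable abbrev S5_o : Ops := pops (nat_lit 5) (nat_lit 3) (nat_lit 7) (nat_lit 18056)
noncomputable def S5_cs : List ℕ := [(nat_lit 18049), (nat_lit 18000), (nat_lit 17608), (nat_lit 14472)]
noncomputable def S5_L : List (List ℕ) := [[(nat_lit 18056), (nat_lit 18049), (nat_lit 17986), (nat_lit 17475), (nat_lit 13380)],
  [(nat_lit 18056), (nat_lit 18000), (nat_lit 17496), (nat_lit 13408)],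
  [(nat_lit 18056), (nat_lit 17608), (nat_lit 13576)],
  [(nat_lit 18056), (nat_lit 14472)]]
noncomputable def S5_WW : List (List (List ℕ)) := [[[],
  [(nat_lit 0)],
  [(nat_lit 0), (nat_lit 1)],
  [(nat_lit 0), (nat_lit 1), (nat_lit 2)],
  [(nat_lit 0), (nat_lit 1), (nat_lit 2), (nat_lit 3)]],
  [[],
  [(nat_lit 1)],
  [(nat_lit 1), (nat_lit 2)],
  [(nat_lit 1), (nat_lit 2), (nat_lit 3)]],
  [[],
  [(nat_lit 2)],
  [(nat_lit 2), (nat_lit 3)]],
  [[],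
  [(nat_lit 3)]]]
noncomputable def S5_b2_S0 : List ℕ := [nat_lit 0x1700000f00000700000c000014008004]
noncomputable def S5_b2_S : List (List ℕ) := [S5_b2_S0]
noncomputable def S5_b2_defs : List ℕ := [(nat_lit 0x30000000200100001001000000000000000000000)]
noncomputable def S5_b2_recs : List ℕ := [(nat_lit 0x10000400005)]
noncomputable def S5_b2_L0 : List ℕ := [nat_lit 0x700000100000b000002, nat_lit 0x800000000000f000003, nat_lit 0x1300000400000c000000, nat_lit 0x17000005000010000001, nat_lit 0x14000002000002000005, nat_lit 0x18000003000001000004]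
noncomputable def S5_b2_L : List (List ℕ) := [S5_b2_L0]
noncomputable def S5_b2_V : List ℕ := [(nat_lit 0x50000000400000003000000020000000100000000)]
noncomputable def S5_b2_D : H26.Dag := ⟨[], [[0,0],
  [1,1],
  [1,0,1,0,1,0]], [], S5_b2_defs, S5_b2_recs⟩
theorem S5_b2_c : S5_b2_D.checkTab S5_b2_S 6 2 S5_b2_V S5_b2_L = true := by decide +kernel
theorem S5_b2 : Bound S5_r_R 2 6 :=
  bound_dag (Bound.zero S5_r_R) (K := 2) (J := [0,1,4]) (by decide +kernel) S5_b2_c (by decide +kernel)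
noncomputable def S5_b3_S0 : List ℕ := [nat_lit 0x1, nat_lit 0x1, nat_lit 0x700000100000800400a, nat_lit 0xb00000700000500000800000c008008, nat_lit 0xf00000d00001000800a, nat_lit 0xf00000b00000900000c000010008006]
noncomputable def S5_b3_S : List (List ℕ) := [S5_b3_S0]
noncomputable def S5_b3_defs : List ℕ := [(nat_lit 0x2001000010020000000000000)]
noncomputable def S5_b3_recs : List ℕ := [(nat_lit 0x10000300003020000300003020000200002000000100001010000000000000000000000)]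
noncomputable def S5_b3_L0 : List ℕ := [nat_lit 0x1000000000005000000000007000001, nat_lit 0x900000100000b000002000008000000, nat_lit 0xf00000300000c00000100000d000002, nat_lit 0x10000002000015000003000011000003]
noncomputable def S5_b3_L : List (List ℕ) := [S5_b3_L0]
noncomputable def S5_b3_V : List ℕ := [(nat_lit 0x3000000020000000100000000)]
noncomputable def S5_b3_D : H26.Dag := ⟨[], [[0,0],
  [1,1],
  [2,2],
  [1,0,1,0,1,0],
  [2,1,2,1,2,1],
  [2,0,2,0]], [0,1], S5_b3_defs, S5_b3_recs⟩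
theorem S5_b3_c : S5_b3_D.checkTab S5_b3_S 4 3 S5_b3_V S5_b3_L = true := by decide +kernel
theorem S5_b3 : Bound S5_r_R 3 24 :=
  bound_dag S5_b2 (K := 3) (J := [0,1,2,4,5,7]) (by decide +kernel) S5_b3_c (by decide +kernel)
noncomputable def S5_b4_S0 : List ℕ := [nat_lit 0x1, nat_lit 0x1, nat_lit 0x1, nat_lit 0x7000001000008004010, nat_lit 0x7000005000008004012, nat_lit 0xb00000d00000c00400e, nat_lit 0xb00000700000900000800000c00800c, nat_lit 0xf000019000010008012, nat_lit 0xf00000b00001100000c00001000800a, nat_lit 0x1300002100001400800e, nat_lit 0x1300001d000014008010, nat_lit 0x1300000f000015000010000014008008]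
noncomputable def S5_b4_S : List (List ℕ) := [S5_b4_S0]
noncomputable def S5_b4_defs : List ℕ := [(nat_lit 0x300100002002000010030000000000000)]
noncomputable def S5_b4_recs : List ℕ := [(nat_lit 0x10000400004030000400004020000400004020000300003030000300003030000200002000000200002010000100001000000100001020000000000010000000000000000000000)]
noncomputable def S5_b4_L0 : List ℕ := [nat_lit 0x1000000000005000000000009000000000007000001, nat_lit 0xd00000100001100000100000b000002000008000000, nat_lit 0x1500000200000f00000300000c000001000019000002, nat_lit 0x1300000400001000000200002100000300001d000003, nat_lit 0x1400000300002d000004000025000004000029000004]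
noncomputable def S5_b4_L : List (List ℕ) := [S5_b4_L0]
noncomputable def S5_b4_V : List ℕ := [(nat_lit 0x400000003000000020000000100000000)]
noncomputable def S5_b4_D : H26.Dag := ⟨[], [[0,0],
  [1,1],
  [2,2],
  [3,3],
  [1,0,1,0,1,0],
  [2,1,2,1,2,1],
  [3,2,3,2,3,2],
  [2,0,2,0],
  [3,0,3,0],
  [3,1,3,1]], [0,1,2], S5_b4_defs, S5_b4_recs⟩
theorem S5_b4_c : S5_b4_D.checkTab S5_b4_S 5 4 S5_b4_V S5_b4_L = true := by decide +kernel
theorem S5_b4 : Bound S5_r_R 4 120 :=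
  bound_dag S5_b3 (K := 4) (J := [0,1,2,3,4,5,6,7,8,9]) (by decide +kernel) S5_b4_c (by decide +kernel)
theorem S5_P : PModel (nat_lit 5) (nat_lit 3) (nat_lit 7) (nat_lit 18056) S5_cs S5_r_R S5_L 120 :=
  ⟨PkOK.of (by decide +kernel), by decide +kernel, by decide +kernel, S5_b4, ⟨S5_WW, by decide +kernel⟩,
    ⟨fun c => Nat.mod c (nat_lit 743), by decide +kernel⟩⟩
noncomputable def S5_soc_t0 : ST := (.node (nat_lit 692) (.node (nat_lit 327) (.node (nat_lit 145) (.node (nat_lit 79) (.node (nat_lit 42) (.node (nat_lit 4) (.leaf (nat_lit 15)) (.node (nat_lit 33) (.leaf (nat_lit 4)) (.leaf (nat_lit 15)))) (.node (nat_lit 47) (.node (nat_lit 45) (.leaf (nat_lit 84)) (.leaf (nat_lit 4))) (.node (nat_lit 72) (.leaf (nat_lit 84)) (.leaf (nat_lit 40))))) (.node (nat_lit 90) (.node (nat_lit 80) (.leaf (nat_lit 4)) (.node (nat_lit 86) (.leaf (nat_lit 15)) (.leaf (nat_lit 95)))) (.node (nat_lit 113) (.node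 (nat_lit 107) (.leaf (nat_lit 23)) (.leaf (nat_lit 15))) (.node (nat_lit 120) (.leaf (nat_lit 10)) (.leaf (nat_lit 2)))))) (.node (nat_lit 251) (.node (nat_lit 229) (.node (nat_lit 216) (.leaf (nat_lit 10)) (.node (nat_lit 217) (.leaf (nat_lit 25)) (.leaf (nat_lit 85)))) (.node (nat_lit 244) (.node (nat_lit 243) (.leaf (nat_lit 15)) (.leaf (nat_lit 95))) (.node (nat_lit 245) (.leaf (nat_lit 25)) (.leaf (nat_lit 105))))) (.node (nat_lit 281) (.node (nat_lit 263) (.leaf (nat_lit 23)) (.node (nat_lit 270) (.leaf (nat_lit 95)) (.leaf (nat_lit 2)))) (.node (nat_lit 290) (.node (nat_lit 282) (.leaf (nat_lit 40)) (.leaf (nat_lit 10))) (.node (nat_lit 319) (.leaf (nat_lit 2)) (.leaf (nat_lit 10))))))) (.node (nat_lit 516) (.node (nat_lit 440) (.node (nat_lit 405) (.node (nat_lit 352) (.leaf (nat_lit 2)) (.node (nat_lit 371) (.leaf (nat_lit 24)) (.leaf (nat_lit 25)))) (.node (nat_lit 414) (.node (nat_lit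 412) (.leaf (nat_lit 0)) (.leaf (nat_lit 4))) (.node (nat_lit 430) (.leaf (nat_lit 15)) (.leaf (nat_lit 23))))) (.node (nat_lit 477) (.node (nat_lit 451) (.leaf (nat_lit 2)) (.node (nat_lit 465) (.leaf (nat_lit 15)) (.leaf (nat_lit 4)))) (.node (nat_lit 491) (.node (nat_lit 486) (.leaf (nat_lit 2)) (.leaf (nat_lit 20))) (.node (nat_lit 492) (.leaf (nat_lit 25)) (.leaf (nat_lit 84)))))) (.node (nat_lit 594) (.node (nat_lit 551) (.node (nat_lit 517) (.leaf (nat_lit 25)) (.node (nat_lit 528) (.leaf (nat_lit 40)) (.leaf (nat_lit 25)))) (.node (nat_lit 561) (.node (nat_lit 555) (.leaf (nat_lit 23)) (.leaf (nat_lit 95))) (.node (nat_lit 567) (.leaf (nat_lit 24)) (.leaf (nat_lit 0))))) (.node (nat_lit 622) (.node (nat_lit 597) (.leaf (nat_lit 10)) (.node (nat_lit 601) (.leaf (nat_lit 65)) (.leaf (nat_lit 40)))) (.node (nat_lit 639) (.node (nat_lit 628) (.leaf (nat_lit 10)) (.leaf (nat_lit 40))) (.node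 (nat_lit 661) (.leaf (nat_lit 2)) (.leaf (nat_lit 25)))))))) (.node (nat_lit 1013) (.node (nat_lit 837) (.node (nat_lit 762) (.node (nat_lit 726) (.node (nat_lit 703) (.leaf (nat_lit 60)) (.node (nat_lit 717) (.leaf (nat_lit 5)) (.leaf (nat_lit 0)))) (.node (nat_lit 745) (.node (nat_lit 738) (.leaf (nat_lit 40)) (.leaf (nat_lit 15))) (.node (nat_lit 754) (.leaf (nat_lit 95)) (.leaf (nat_lit 25))))) (.node (nat_lit 791) (.node (nat_lit 765) (.leaf (nat_lit 95)) (.node (nat_lit 789) (.leaf (nat_lit 23)) (.leaf (nat_lit 2)))) (.node (nat_lit 807) (.node (nat_lit 797) (.leaf (nat_lit 25)) (.leaf (nat_lit 4))) (.node (nat_lit 828) (.leaf (nat_lit 24)) (.leaf (nat_lit 25)))))) (.node (nat_lit 961) (.node (nat_lit 895) (.node (nat_lit 845) (.leaf (nat_lit 40)) (.node (nat_lit 861) (.leaf (nat_lit 85)) (.leaf (nat_lit 15)))) (.node (nat_lit 936) (.node (nat_lit 915) (.leaf (nat_lit 95)) (.leaf (nat_lit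 84))) (.node (nat_lit 960) (.leaf (nat_lit 45)) (.leaf (nat_lit 0))))) (.node (nat_lit 969) (.node (nat_lit 966) (.leaf (nat_lit 25)) (.node (nat_lit 968) (.leaf (nat_lit 15)) (.leaf (nat_lit 2)))) (.node (nat_lit 1006) (.node (nat_lit 983) (.leaf (nat_lit 84)) (.leaf (nat_lit 85))) (.node (nat_lit 1012) (.leaf (nat_lit 4)) (.leaf (nat_lit 0))))))) (.node (nat_lit 1220) (.node (nat_lit 1110) (.node (nat_lit 1093) (.node (nat_lit 1071) (.leaf (nat_lit 95)) (.node (nat_lit 1072) (.leaf (nat_lit 15)) (.leaf (nat_lit 10)))) (.node (nat_lit 1099) (.node (nat_lit 1097) (.leaf (nat_lit 4)) (.leaf (nat_lit 40))) (.node (nat_lit 1104) (.leaf (nat_lit 4)) (.leaf (nat_lit 10))))) (.node (nat_lit 1162) (.node (nat_lit 1136) (.leaf (nat_lit 40)) (.node (nat_lit 1156) (.leaf (nat_lit 4)) (.leaf (nat_lit 15)))) (.node (nat_lit 1207) (.node (nat_lit 1204) (.leaf (nat_lit 0)) (.leaf (nat_lit 4))) (.node (nat_lit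 1210) (.leaf (nat_lit 95)) (.leaf (nat_lit 23)))))) (.node (nat_lit 1318) (.node (nat_lit 1279) (.node (nat_lit 1241) (.leaf (nat_lit 15)) (.node (nat_lit 1248) (.leaf (nat_lit 4)) (.leaf (nat_lit 105)))) (.node (nat_lit 1291) (.node (nat_lit 1281) (.leaf (nat_lit 4)) (.leaf (nat_lit 84))) (.node (nat_lit 1302) (.leaf (nat_lit 35)) (.leaf (nat_lit 4))))) (.node (nat_lit 1360) (.node (nat_lit 1319) (.leaf (nat_lit 84)) (.node (nat_lit 1320) (.leaf (nat_lit 40)) (.leaf (nat_lit 23)))) (.node (nat_lit 1386) (.node (nat_lit 1370) (.leaf (nat_lit 84)) (.leaf (nat_lit 40))) (.node (nat_lit 1406) (.leaf (nat_lit 2)) (.leaf (nat_lit 84)))))))))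
noncomputable def S5_soc_t1 : ST := (.node (nat_lit 344) (.node (nat_lit 214) (.node (nat_lit 123) (.node (nat_lit 35) (.node (nat_lit 25) (.node (nat_lit 6) (.leaf (nat_lit 20)) (.leaf (nat_lit 60))) (.node (nat_lit 27) (.leaf (nat_lit 20)) (.node (nat_lit 28) (.leaf (nat_lit 60)) (.leaf (nat_lit 20))))) (.node (nat_lit 42) (.node (nat_lit 39) (.leaf (nat_lit 60)) (.leaf (nat_lit 20))) (.node (nat_lit 81) (.leaf (nat_lit 60)) (.node (nat_lit 118) (.leaf (nat_lit 20)) (.leaf (nat_lit 60)))))) (.node (nat_lit 190) (.node (nat_lit 131) (.node (nat_lit 125) (.leaf (nat_lit 20)) (.leaf (nat_lit 60))) (.node (nat_lit 180) (.leaf (nat_lit 20)) (.node (nat_lit 189) (.leaf (nat_lit 80)) (.leaf (nat_lit 5))))) (.node (nat_lit 197) (.node (nat_lit 194) (.leaf (nat_lit 20)) (.node (nat_lit 196) (.leaf (nat_lit 80)) (.leaf (nat_lit 65)))) (.node (nat_lit 203) (.leaf (nat_lit 0)) (.node (nat_lit 207) (.leaf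 (nat_lit 60)) (.leaf (nat_lit 0))))))) (.node (nat_lit 293) (.node (nat_lit 249) (.node (nat_lit 231) (.node (nat_lit 216) (.leaf (nat_lit 5)) (.leaf (nat_lit 20))) (.node (nat_lit 243) (.leaf (nat_lit 60)) (.node (nat_lit 245) (.leaf (nat_lit 80)) (.leaf (nat_lit 0))))) (.node (nat_lit 272) (.node (nat_lit 250) (.leaf (nat_lit 20)) (.node (nat_lit 256) (.leaf (nat_lit 80)) (.leaf (nat_lit 60)))) (.node (nat_lit 275) (.leaf (nat_lit 20)) (.node (nat_lit 282) (.leaf (nat_lit 80)) (.leaf (nat_lit 0)))))) (.node (nat_lit 308) (.node (nat_lit 296) (.node (nat_lit 294) (.leaf (nat_lit 20)) (.leaf (nat_lit 60))) (.node (nat_lit 297) (.leaf (nat_lit 20)) (.node (nat_lit 300) (.leaf (nat_lit 0)) (.leaf (nat_lit 20))))) (.node (nat_lit 323) (.node (nat_lit 314) (.leaf (nat_lit 60)) (.node (nat_lit 317) (.leaf (nat_lit 0)) (.leaf (nat_lit 80)))) (.node (nat_lit 331) (.leaf (nat_lit 20)) (.node (nat_lit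 338) (.leaf (nat_lit 80)) (.leaf (nat_lit 61)))))))) (.node (nat_lit 445) (.node (nat_lit 395) (.node (nat_lit 365) (.node (nat_lit 359) (.node (nat_lit 357) (.leaf (nat_lit 20)) (.leaf (nat_lit 60))) (.node (nat_lit 361) (.leaf (nat_lit 85)) (.node (nat_lit 364) (.leaf (nat_lit 20)) (.leaf (nat_lit 60))))) (.node (nat_lit 368) (.node (nat_lit 367) (.leaf (nat_lit 20)) (.leaf (nat_lit 0))) (.node (nat_lit 374) (.leaf (nat_lit 60)) (.node (nat_lit 389) (.leaf (nat_lit 20)) (.leaf (nat_lit 60)))))) (.node (nat_lit 416) (.node (nat_lit 407) (.node (nat_lit 398) (.leaf (nat_lit 20)) (.leaf (nat_lit 5))) (.node (nat_lit 411) (.leaf (nat_lit 20)) (.node (nat_lit 412) (.leaf (nat_lit 0)) (.leaf (nat_lit 5))))) (.node (nat_lit 430) (.node (nat_lit 418) (.leaf (nat_lit 0)) (.node (nat_lit 423) (.leaf (nat_lit 20)) (.leaf (nat_lit 50)))) (.node (nat_lit 431) (.leaf (nat_lit 20)) (.node (nat_lit 440) (.leaf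 (nat_lit 0)) (.leaf (nat_lit 65))))))) (.node (nat_lit 559) (.node (nat_lit 471) (.node (nat_lit 464) (.node (nat_lit 458) (.leaf (nat_lit 60)) (.leaf (nat_lit 20))) (.node (nat_lit 465) (.leaf (nat_lit 80)) (.node (nat_lit 467) (.leaf (nat_lit 60)) (.leaf (nat_lit 20))))) (.node (nat_lit 538) (.node (nat_lit 472) (.leaf (nat_lit 80)) (.node (nat_lit 481) (.leaf (nat_lit 60)) (.leaf (nat_lit 20)))) (.node (nat_lit 543) (.leaf (nat_lit 80)) (.node (nat_lit 552) (.leaf (nat_lit 20)) (.leaf (nat_lit 80)))))) (.node (nat_lit 626) (.node (nat_lit 592) (.node (nat_lit 580) (.leaf (nat_lit 0)) (.leaf (nat_lit 60))) (.node (nat_lit 619) (.leaf (nat_lit 20)) (.node (nat_lit 622) (.leaf (nat_lit 0)) (.leaf (nat_lit 60))))) (.node (nat_lit 636) (.node (nat_lit 633) (.leaf (nat_lit 65)) (.node (nat_lit 634) (.leaf (nat_lit 60)) (.leaf (nat_lit 20)))) (.node (nat_lit 655) (.leaf (nat_lit 60)) (.node (nat_lit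 661) (.leaf (nat_lit 5)) (.leaf (nat_lit 0)))))))))
noncomputable def S5_soc_F : Fm := (.all S5_L (.or (.qf (.eq (.v (nat_lit 0)) .one)) (.exF S5_L (fun cs => S5_soc_t1.find (Nat.mod (nth (nat_lit 0) cs (nat_lit 0)) (nat_lit 669))) (.exF S5_L (fun cs => S5_soc_t0.find (Nat.mod (Nat.add (nth (nat_lit 0) cs (nat_lit 0)) (Nat.mul (nat_lit 7919) (nth (nat_lit 0) cs (nat_lit 1)))) (nat_lit 1409))) (.qf (.or (.eq (.mul (.mul (.v (nat_lit 0)) (.v (nat_lit 2))) (.inv (.v (nat_lit 0)))) (.mul (.v (nat_lit 3)) (.v (nat_lit 5)))) (.or (.eq (.mul (.mul (.v (nat_lit 0)) (.v (nat_lit 2))) (.inv (.v (nat_lit 0)))) (.mul (.v (nat_lit 3)) (.v (nat_lit 5)))) (.or (.eq (.mul (.mul (.v (nat_lit 0)) (.mul (.mul (.mul (.v (nat_lit 2)) (.v (nat_lit 1))) (.inv (.v (nat_lit 2)))) (.inv (.v (nat_lit 1))))) (.inv (.v (nat_lit 0)))) (.mul (.v (nat_lit 3)) (.v (nat_lit 5)))) (.or (.eq (.mul (.mul (.v (nat_lit 0)) (.mul (.mul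 (.mul (.v (nat_lit 2)) (.v (nat_lit 1))) (.inv (.v (nat_lit 2)))) (.inv (.v (nat_lit 1))))) (.inv (.v (nat_lit 0)))) (.mul (.v (nat_lit 3)) (.v (nat_lit 5)))) (.or (.eq (.mul (.mul (.mul (.mul (.mul (.mul (.v (nat_lit 2)) (.v (nat_lit 1))) (.inv (.v (nat_lit 2)))) (.inv (.v (nat_lit 1)))) (.v (nat_lit 0))) (.inv (.mul (.mul (.mul (.v (nat_lit 2)) (.v (nat_lit 1))) (.inv (.v (nat_lit 2)))) (.inv (.v (nat_lit 1)))))) (.inv (.v (nat_lit 0)))) (.mul (.v (nat_lit 3)) (.v (nat_lit 5)))) (.eq (.mul (.mul (.mul (.mul (.mul (.mul (.v (nat_lit 2)) (.v (nat_lit 1))) (.inv (.v (nat_lit 2)))) (.inv (.v (nat_lit 1)))) (.v (nat_lit 0))) (.inv (.mul (.mul (.mul (.v (nat_lit 2)) (.v (nat_lit 1))) (.inv (.v (nat_lit 2)))) (.inv (.v (nat_lit 1)))))) (.inv (.v (nat_lit 0)))) (.mul (.v (nat_lit 3)) (.v (nat_lit 5))))))))))))))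
theorem S5_soc_chk : Fm.chk S5_o S5_soc_F S5_cs = true := by decide +kernel
theorem S5_soc {G : Type*} [Group G] {R : ℕ → G → Prop} {a b c d : G} {H : Subgroup G}
    (M : Mdl S5_o S5_cs S5_L R [a, b, c, d] H) :
    ∀ y_ ∈ H, y_ = 1 ∨ (∃ q_ ∈ H, ∃ k_ ∈ H, k_ * y_ * k_⁻¹ = a * c ∨ k_ * y_ * k_⁻¹ = a * c ∨ k_ * ⁅y_, q_⁆ * k_⁻¹ = a * c ∨ k_ * ⁅y_, q_⁆ * k_⁻¹ = a * c ∨ ⁅⁅y_, q_⁆, k_⁆ = a * c ∨ ⁅⁅y_, q_⁆, k_⁆ = a * c) :=
  have h : ∀ y_, InL S5_o R S5_L y_ → y_ = 1 ∨ (Good S5_o R S5_L → prods S5_o S5_L S5_o.one ≠ [] → ∃ q_, InL S5_o R S5_L q_ ∧ (Good S5_o R S5_L → prods S5_o S5_L S5_o.one ≠ [] → ∃ k_, InL S5_o R S5_L k_ ∧ (k_ * y_ * k_⁻¹ = a * c ∨ k_ * y_ * k_⁻¹ = a * c ∨ k_ * ⁅y_, q_⁆ * k_⁻¹ = a * c ∨ k_ * ⁅y_, q_⁆ * k_⁻¹ = a * c ∨ ⁅⁅y_, q_⁆, k_⁆ = a * c ∨ ⁅⁅y_, q_⁆, k_⁆ = a * c))) :=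
    Fm.sound M.μ S5_soc_F S5_soc_chk M.reps
  (fun y_ h0 => (Or.imp (fun h1 => h1) (fun h1 => (Exists.imp (fun q_ h2 => ⟨M.H.iff.1 h2.1, (Exists.imp (fun k_ h3 => ⟨M.H.iff.1 h3.1, h3.2⟩) (h2.2 M.H.good M.H.ne))⟩) (h1 M.H.good M.H.ne))) (h y_ (M.H.iff.2 h0))))
theorem S5_mdl {G : Type*} [Group G] {a b c d : G}
    (h : Cx4 a b c d)
    (n1 : a * c ≠ 1) :
    ∃ R, Mdl S5_o S5_cs S5_L R [a, b, c, d] (sp [a, b, c, d]) ∧ #(sp [a, b, c, d]) = 120 :=
  mdl_of S5_P rfl (S5_r h) (.mul (.v (nat_lit 0)) (.v (nat_lit 2))) (.mul (.v (nat_lit 0)) (.v (nat_lit 2))) n1 n1 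
    fun _ ms _ M hl => match ms, M, (hl : ms.length = 4) with
      | [_, _, _, _], M, _ => S5_soc M
noncomputable def S5_f_t0 : ST := (.node (nat_lit 517) (.node (nat_lit 290) (.node (nat_lit 135) (.node (nat_lit 73) (.node (nat_lit 58) (.leaf (nat_lit 44)) (.node (nat_lit 66) (.leaf (nat_lit 86)) (.leaf (nat_lit 60)))) (.node (nat_lit 83) (.node (nat_lit 75) (.leaf (nat_lit 75)) (.leaf (nat_lit 80))) (.node (nat_lit 122) (.leaf (nat_lit 95)) (.leaf (nat_lit 66))))) (.node (nat_lit 208) (.node (nat_lit 160) (.node (nat_lit 145) (.leaf (nat_lit 1)) (.leaf (nat_lit 62))) (.node (nat_lit 177) (.leaf (nat_lit 60)) (.leaf (nat_lit 5)))) (.node (nat_lit 252) (.node (nat_lit 216) (.leaf (nat_lit 95)) (.leaf (nat_lit 84))) (.node (nat_lit 273) (.leaf (nat_lit 5)) (.leaf (nat_lit 100)))))) (.node (nat_lit 388) (.node (nat_lit 308) (.node (nat_lit 295) (.leaf (nat_lit 111)) (.node (nat_lit 304) (.leaf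 (nat_lit 20)) (.leaf (nat_lit 30)))) (.node (nat_lit 336) (.node (nat_lit 335) (.leaf (nat_lit 1)) (.leaf (nat_lit 60))) (.node (nat_lit 361) (.leaf (nat_lit 100)) (.leaf (nat_lit 1))))) (.node (nat_lit 439) (.node (nat_lit 421) (.node (nat_lit 410) (.leaf (nat_lit 90)) (.leaf (nat_lit 2))) (.node (nat_lit 430) (.leaf (nat_lit 105)) (.leaf (nat_lit 5)))) (.node (nat_lit 490) (.node (nat_lit 460) (.leaf (nat_lit 4)) (.leaf (nat_lit 25))) (.node (nat_lit 513) (.leaf (nat_lit 35)) (.leaf (nat_lit 5))))))) (.node (nat_lit 737) (.node (nat_lit 647) (.node (nat_lit 552) (.node (nat_lit 532) (.leaf (nat_lit 51)) (.node (nat_lit 543) (.leaf (nat_lit 31)) (.leaf (nat_lit 62)))) (.node (nat_lit 569) (.node (nat_lit 568) (.leaf (nat_lit 60)) (.leaf (nat_lit 10))) (.node (nat_lit 632) (.leaf (nat_lit 1)) (.leaf (nat_lit 6))))) (.node (nat_lit 691) (.node (nat_lit 649) (.node (nat_lit 648) (.leaf (nat_lit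 20)) (.leaf (nat_lit 30))) (.node (nat_lit 659) (.leaf (nat_lit 60)) (.leaf (nat_lit 66)))) (.node (nat_lit 724) (.node (nat_lit 704) (.leaf (nat_lit 30)) (.leaf (nat_lit 20))) (.node (nat_lit 728) (.leaf (nat_lit 23)) (.leaf (nat_lit 20)))))) (.node (nat_lit 791) (.node (nat_lit 753) (.node (nat_lit 749) (.leaf (nat_lit 1)) (.node (nat_lit 751) (.leaf (nat_lit 30)) (.leaf (nat_lit 100)))) (.node (nat_lit 759) (.node (nat_lit 757) (.leaf (nat_lit 20)) (.leaf (nat_lit 63))) (.node (nat_lit 790) (.leaf (nat_lit 43)) (.leaf (nat_lit 20))))) (.node (nat_lit 862) (.node (nat_lit 841) (.node (nat_lit 831) (.leaf (nat_lit 5)) (.leaf (nat_lit 60))) (.node (nat_lit 842) (.leaf (nat_lit 1)) (.leaf (nat_lit 100)))) (.node (nat_lit 898) (.node (nat_lit 866) (.leaf (nat_lit 46)) (.leaf (nat_lit 96))) (.node (nat_lit 939) (.leaf (nat_lit 5)) (.leaf (nat_lit 40))))))))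
noncomputable def S5_f_t1 : ST := (.node (nat_lit 1753) (.node (nat_lit 714) (.node (nat_lit 411) (.node (nat_lit 313) (.node (nat_lit 179) (.node (nat_lit 72) (.leaf (nat_lit 80)) (.node (nat_lit 163) (.leaf (nat_lit 26)) (.leaf (nat_lit 70)))) (.node (nat_lit 285) (.node (nat_lit 187) (.leaf (nat_lit 40)) (.leaf (nat_lit 61))) (.node (nat_lit 312) (.leaf (nat_lit 70)) (.leaf (nat_lit 85))))) (.node (nat_lit 373) (.node (nat_lit 330) (.leaf (nat_lit 4)) (.node (nat_lit 360) (.leaf (nat_lit 45)) (.leaf (nat_lit 70)))) (.node (nat_lit 382) (.node (nat_lit 381) (.leaf (nat_lit 50)) (.leaf (nat_lit 85))) (.node (nat_lit 403) (.leaf (nat_lit 40)) (.leaf (nat_lit 85)))))) (.node (nat_lit 538) (.node (nat_lit 447) (.node (nat_lit 413) (.leaf (nat_lit 35)) (.node (nat_lit 433) (.leaf (nat_lit 75)) (.leaf (nat_lit 15)))) (.node (nat_lit 531) (.node (nat_lit 502) (.leaf (nat_lit 50)) (.leaf (nat_lit 41)))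 (.node (nat_lit 533) (.leaf (nat_lit 85)) (.leaf (nat_lit 3))))) (.node (nat_lit 617) (.node (nat_lit 586) (.node (nat_lit 550) (.leaf (nat_lit 80)) (.leaf (nat_lit 15))) (.node (nat_lit 609) (.leaf (nat_lit 10)) (.leaf (nat_lit 15)))) (.node (nat_lit 660) (.node (nat_lit 636) (.leaf (nat_lit 70)) (.leaf (nat_lit 45))) (.node (nat_lit 710) (.leaf (nat_lit 65)) (.leaf (nat_lit 40))))))) (.node (nat_lit 1359) (.node (nat_lit 1060) (.node (nat_lit 865) (.node (nat_lit 769) (.leaf (nat_lit 105)) (.node (nat_lit 845) (.leaf (nat_lit 2)) (.leaf (nat_lit 42)))) (.node (nat_lit 917) (.node (nat_lit 889) (.leaf (nat_lit 24)) (.leaf (nat_lit 25))) (.node (nat_lit 1047) (.leaf (nat_lit 40)) (.leaf (nat_lit 65))))) (.node (nat_lit 1182) (.node (nat_lit 1081) (.node (nat_lit 1078) (.leaf (nat_lit 55)) (.leaf (nat_lit 75))) (.node (nat_lit 1088) (.leaf (nat_lit 11)) (.leaf (nat_lit 71)))) (.node (nat_lit 1279)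 (.node (nat_lit 1190) (.leaf (nat_lit 55)) (.leaf (nat_lit 83))) (.node (nat_lit 1310) (.leaf (nat_lit 80)) (.leaf (nat_lit 25)))))) (.node (nat_lit 1525) (.node (nat_lit 1470) (.node (nat_lit 1373) (.leaf (nat_lit 11)) (.node (nat_lit 1468) (.leaf (nat_lit 41)) (.leaf (nat_lit 6)))) (.node (nat_lit 1491) (.node (nat_lit 1484) (.leaf (nat_lit 22)) (.leaf (nat_lit 45))) (.node (nat_lit 1512) (.leaf (nat_lit 106)) (.leaf (nat_lit 46))))) (.node (nat_lit 1642) (.node (nat_lit 1557) (.node (nat_lit 1554) (.leaf (nat_lit 35)) (.leaf (nat_lit 21))) (.node (nat_lit 1615) (.leaf (nat_lit 2)) (.leaf (nat_lit 65)))) (.node (nat_lit 1701) (.node (nat_lit 1664) (.leaf (nat_lit 91)) (.leaf (nat_lit 110))) (.node (nat_lit 1729) (.leaf (nat_lit 21)) (.leaf (nat_lit 10)))))))) (.node (nat_lit 2637) (.node (nat_lit 2313) (.node (nat_lit 1973) (.node (nat_lit 1799) (.node (nat_lit 1771) (.leaf (nat_lit 3)) (.node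 (nat_lit 1795) (.leaf (nat_lit 65)) (.leaf (nat_lit 50)))) (.node (nat_lit 1906) (.node (nat_lit 1894) (.leaf (nat_lit 105)) (.leaf (nat_lit 3))) (.node (nat_lit 1923) (.leaf (nat_lit 82)) (.leaf (nat_lit 80))))) (.node (nat_lit 2134) (.node (nat_lit 1987) (.leaf (nat_lit 22)) (.node (nat_lit 2037) (.leaf (nat_lit 70)) (.leaf (nat_lit 65)))) (.node (nat_lit 2281) (.node (nat_lit 2209) (.leaf (nat_lit 110)) (.leaf (nat_lit 16))) (.node (nat_lit 2302) (.leaf (nat_lit 85)) (.leaf (nat_lit 106)))))) (.node (nat_lit 2471) (.node (nat_lit 2425) (.node (nat_lit 2322) (.leaf (nat_lit 81)) (.node (nat_lit 2381) (.leaf (nat_lit 24)) (.leaf (nat_lit 45)))) (.node (nat_lit 2449) (.node (nat_lit 2437) (.leaf (nat_lit 21)) (.leaf (nat_lit 10))) (.node (nat_lit 2457) (.leaf (nat_lit 63)) (.leaf (nat_lit 64))))) (.node (nat_lit 2612) (.node (nat_lit 2585) (.node (nat_lit 2514) (.leaf (nat_lit 6)) (.leaf (nat_lit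 10))) (.node (nat_lit 2609) (.leaf (nat_lit 61)) (.leaf (nat_lit 40)))) (.node (nat_lit 2620) (.node (nat_lit 2615) (.leaf (nat_lit 65)) (.leaf (nat_lit 21))) (.node (nat_lit 2631) (.leaf (nat_lit 65)) (.leaf (nat_lit 85))))))) (.node (nat_lit 3067) (.node (nat_lit 2834) (.node (nat_lit 2700) (.node (nat_lit 2682) (.leaf (nat_lit 64)) (.node (nat_lit 2697) (.leaf (nat_lit 80)) (.leaf (nat_lit 86)))) (.node (nat_lit 2781) (.node (nat_lit 2730) (.leaf (nat_lit 80)) (.leaf (nat_lit 15))) (.node (nat_lit 2810) (.leaf (nat_lit 61)) (.leaf (nat_lit 25))))) (.node (nat_lit 2973) (.node (nat_lit 2894) (.node (nat_lit 2881) (.leaf (nat_lit 45)) (.leaf (nat_lit 23))) (.node (nat_lit 2938) (.leaf (nat_lit 90)) (.leaf (nat_lit 26)))) (.node (nat_lit 3007) (.node (nat_lit 2987) (.leaf (nat_lit 15)) (.leaf (nat_lit 25))) (.node (nat_lit 3046) (.leaf (nat_lit 86)) (.leaf (nat_lit 65)))))) (.node (nat_lit 3297)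 (.node (nat_lit 3144) (.node (nat_lit 3086) (.leaf (nat_lit 25)) (.node (nat_lit 3104) (.leaf (nat_lit 31)) (.leaf (nat_lit 90)))) (.node (nat_lit 3179) (.node (nat_lit 3172) (.leaf (nat_lit 81)) (.leaf (nat_lit 45))) (.node (nat_lit 3275) (.leaf (nat_lit 70)) (.leaf (nat_lit 25))))) (.node (nat_lit 3389) (.node (nat_lit 3341) (.node (nat_lit 3301) (.leaf (nat_lit 10)) (.leaf (nat_lit 36))) (.node (nat_lit 3363) (.leaf (nat_lit 26)) (.leaf (nat_lit 10)))) (.node (nat_lit 3425) (.node (nat_lit 3416) (.leaf (nat_lit 91)) (.leaf (nat_lit 61))) (.node (nat_lit 3462) (.leaf (nat_lit 50)) (.leaf (nat_lit 4)))))))))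
noncomputable def S5_f_t2 : ST := (.node (nat_lit 1537) (.node (nat_lit 521) (.node (nat_lit 270) (.node (nat_lit 122) (.node (nat_lit 80) (.node (nat_lit 25) (.leaf (nat_lit 20)) (.node (nat_lit 67) (.leaf (nat_lit 10)) (.leaf (nat_lit 20)))) (.node (nat_lit 83) (.leaf (nat_lit 82)) (.node (nat_lit 103) (.leaf (nat_lit 60)) (.leaf (nat_lit 70))))) (.node (nat_lit 223) (.node (nat_lit 194) (.leaf (nat_lit 40)) (.node (nat_lit 199) (.leaf (nat_lit 5)) (.leaf (nat_lit 80)))) (.node (nat_lit 252) (.node (nat_lit 228) (.leaf (nat_lit 2)) (.leaf (nat_lit 25))) (.node (nat_lit 266) (.leaf (nat_lit 20)) (.leaf (nat_lit 5)))))) (.node (nat_lit 387) (.node (nat_lit 329) (.node (nat_lit 273) (.leaf (nat_lit 6)) (.node (nat_lit 319) (.leaf (nat_lit 5)) (.leaf (nat_lit 42)))) (.node (nat_lit 358) (.node (nat_lit 344) (.leaf (nat_lit 22)) (.leaf (nat_lit 1))) (.node (nat_lit 361) (.leaf (nat_lit 16)) (.leaf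 (nat_lit 15))))) (.node (nat_lit 481) (.node (nat_lit 429) (.leaf (nat_lit 45)) (.node (nat_lit 431) (.leaf (nat_lit 6)) (.leaf (nat_lit 11)))) (.node (nat_lit 516) (.node (nat_lit 507) (.leaf (nat_lit 2)) (.leaf (nat_lit 3))) (.node (nat_lit 520) (.leaf (nat_lit 85)) (.leaf (nat_lit 1))))))) (.node (nat_lit 1041) (.node (nat_lit 867) (.node (nat_lit 730) (.node (nat_lit 594) (.leaf (nat_lit 10)) (.node (nat_lit 666) (.leaf (nat_lit 5)) (.leaf (nat_lit 10)))) (.node (nat_lit 791) (.leaf (nat_lit 20)) (.node (nat_lit 856) (.leaf (nat_lit 1)) (.leaf (nat_lit 2))))) (.node (nat_lit 950) (.node (nat_lit 872) (.leaf (nat_lit 70)) (.node (nat_lit 884) (.leaf (nat_lit 22)) (.leaf (nat_lit 60)))) (.node (nat_lit 987) (.node (nat_lit 971) (.leaf (nat_lit 1)) (.leaf (nat_lit 5))) (.node (nat_lit 1019) (.leaf (nat_lit 20)) (.leaf (nat_lit 25)))))) (.node (nat_lit 1348) (.node (nat_lit 1123) (.node (nat_lit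 1050) (.leaf (nat_lit 1)) (.node (nat_lit 1064) (.leaf (nat_lit 70)) (.leaf (nat_lit 6)))) (.node (nat_lit 1279) (.node (nat_lit 1184) (.leaf (nat_lit 5)) (.leaf (nat_lit 2))) (.node (nat_lit 1337) (.leaf (nat_lit 80)) (.leaf (nat_lit 10))))) (.node (nat_lit 1404) (.node (nat_lit 1375) (.leaf (nat_lit 5)) (.node (nat_lit 1392) (.leaf (nat_lit 1)) (.leaf (nat_lit 71)))) (.node (nat_lit 1444) (.node (nat_lit 1414) (.leaf (nat_lit 80)) (.leaf (nat_lit 22))) (.node (nat_lit 1506) (.leaf (nat_lit 10)) (.leaf (nat_lit 40)))))))) (.node (nat_lit 2370) (.node (nat_lit 1985) (.node (nat_lit 1657) (.node (nat_lit 1601) (.node (nat_lit 1545) (.leaf (nat_lit 5)) (.node (nat_lit 1592) (.leaf (nat_lit 15)) (.leaf (nat_lit 11)))) (.node (nat_lit 1629) (.leaf (nat_lit 10)) (.node (nat_lit 1656) (.leaf (nat_lit 60)) (.leaf (nat_lit 6))))) (.node (nat_lit 1897) (.node (nat_lit 1673) (.leaf (nat_lit 60)) (.node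 (nat_lit 1680) (.leaf (nat_lit 63)) (.leaf (nat_lit 82)))) (.node (nat_lit 1964) (.node (nat_lit 1951) (.leaf (nat_lit 20)) (.leaf (nat_lit 16))) (.node (nat_lit 1977) (.leaf (nat_lit 85)) (.leaf (nat_lit 40)))))) (.node (nat_lit 2105) (.node (nat_lit 2010) (.node (nat_lit 1992) (.leaf (nat_lit 70)) (.node (nat_lit 2002) (.leaf (nat_lit 22)) (.leaf (nat_lit 60)))) (.node (nat_lit 2045) (.node (nat_lit 2043) (.leaf (nat_lit 45)) (.leaf (nat_lit 80))) (.node (nat_lit 2056) (.leaf (nat_lit 11)) (.leaf (nat_lit 46))))) (.node (nat_lit 2186) (.node (nat_lit 2114) (.leaf (nat_lit 40)) (.node (nat_lit 2139) (.leaf (nat_lit 5)) (.leaf (nat_lit 25)))) (.node (nat_lit 2208) (.node (nat_lit 2202) (.leaf (nat_lit 2)) (.leaf (nat_lit 63))) (.node (nat_lit 2338) (.leaf (nat_lit 1)) (.leaf (nat_lit 25))))))) (.node (nat_lit 2714) (.node (nat_lit 2535) (.node (nat_lit 2442) (.node (nat_lit 2408) (.leaf (nat_lit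 20)) (.node (nat_lit 2441) (.leaf (nat_lit 26)) (.leaf (nat_lit 42)))) (.node (nat_lit 2506) (.leaf (nat_lit 20)) (.node (nat_lit 2512) (.leaf (nat_lit 45)) (.leaf (nat_lit 11))))) (.node (nat_lit 2634) (.node (nat_lit 2603) (.leaf (nat_lit 25)) (.node (nat_lit 2608) (.leaf (nat_lit 2)) (.leaf (nat_lit 26)))) (.node (nat_lit 2686) (.node (nat_lit 2654) (.leaf (nat_lit 1)) (.leaf (nat_lit 20))) (.node (nat_lit 2694) (.leaf (nat_lit 60)) (.leaf (nat_lit 45)))))) (.node (nat_lit 2841) (.node (nat_lit 2795) (.node (nat_lit 2769) (.leaf (nat_lit 60)) (.node (nat_lit 2776) (.leaf (nat_lit 5)) (.leaf (nat_lit 6)))) (.node (nat_lit 2813) (.node (nat_lit 2809) (.leaf (nat_lit 5)) (.leaf (nat_lit 1))) (.node (nat_lit 2820) (.leaf (nat_lit 40)) (.leaf (nat_lit 20))))) (.node (nat_lit 2968) (.node (nat_lit 2899) (.leaf (nat_lit 80)) (.node (nat_lit 2911) (.leaf (nat_lit 25)) (.leaf (nat_lit 60)))) (.node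 (nat_lit 3026) (.node (nat_lit 2980) (.leaf (nat_lit 71)) (.leaf (nat_lit 80))) (.node (nat_lit 3044) (.leaf (nat_lit 3)) (.leaf (nat_lit 5)))))))))
noncomputable def S5_f_F : Fm := (.all S5_L (.imp (.eq (.mul (.v (nat_lit 0)) (.v (nat_lit 0))) .one) (.all S5_L (.imp (.eq (.mul (.v (nat_lit 0)) (.v (nat_lit 0))) .one) (.imp (.eq (.pw (.mul (.v (nat_lit 1)) (.v (nat_lit 0))) (nat_lit 3)) .one) (.all S5_L (.imp (.eq (.mul (.v (nat_lit 0)) (.v (nat_lit 0))) .one) (.imp (.eq (.pw (.mul (.v (nat_lit 1)) (.v (nat_lit 0))) (nat_lit 3)) .one) (.imp (.eq (.mul (.v (nat_lit 2)) (.v (nat_lit 0))) (.mul (.v (nat_lit 0)) (.v (nat_lit 2)))) (.imp (.not (.eq (.mul (.v (nat_lit 2)) (.v (nat_lit 0))) .one)) (.exF S5_L (fun cs => S5_f_t2.find (Nat.mod (Nat.add (Nat.add (nth (nat_lit 0) cs (nat_lit 2)) (Nat.mul (nat_lit 7919) (nth (nat_lit 0) cs (nat_lit 1)))) (Nat.mul (nat_lit 104729) (nth (nat_lit 0) cs (nat_lit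 0)))) (nat_lit 3048))) (.and (.qf (.eq (.pw (.mul (.v (nat_lit 1)) (.mul (.mul (.v (nat_lit 0)) (.v (nat_lit 1))) (.inv (.v (nat_lit 0))))) (nat_lit 3)) .one)) (.and (.exF S5_L (fun cs => S5_f_t0.find (Nat.mod (Nat.add (Nat.add (nth (nat_lit 0) cs (nat_lit 3)) (Nat.mul (nat_lit 7919) (nth (nat_lit 0) cs (nat_lit 1)))) (Nat.mul (nat_lit 104729) (nth (nat_lit 0) cs (nat_lit 0)))) (nat_lit 942))) (.qf (.eq (.mul (.mul (.v (nat_lit 0)) (.mul (.v (nat_lit 4)) (.v (nat_lit 2)))) (.inv (.v (nat_lit 0)))) (.mul (.v (nat_lit 4)) (.mul (.mul (.v (nat_lit 1)) (.v (nat_lit 2))) (.inv (.v (nat_lit 1)))))))) (.exF S5_L (fun cs => S5_f_t1.find (Nat.mod (Nat.add (Nat.add (Nat.add (nth (nat_lit 0) cs (nat_lit 3)) (Nat.mul (nat_lit 7919) (nth (nat_lit 0) cs (nat_lit 2)))) (Nat.mul (nat_lit 104729) (nth (nat_lit 0) cs (nat_lit 1)))) (Nat.mul (nat_lit 0x13d4fd) (nth (nat_lit 0) cs (nat_lit 0)))) (nat_lit 3508)))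 (.qf (.eq (.mul (.mul (.v (nat_lit 0)) (.mul (.v (nat_lit 4)) (.v (nat_lit 2)))) (.inv (.v (nat_lit 0)))) (.mul (.v (nat_lit 3)) (.mul (.mul (.v (nat_lit 1)) (.v (nat_lit 2))) (.inv (.v (nat_lit 1)))))))))))))))))))))
theorem S5_f_chk : Fm.chk S5_o S5_f_F S5_cs = true := by decide +kernel
theorem S5_f {G : Type*} [Group G] {R : ℕ → G → Prop} {a b c d : G} {H : Subgroup G}
    (M : Mdl S5_o S5_cs S5_L R [a, b, c, d] H) :
    ∀ e ∈ H, e * e = 1 → (∀ f ∈ H, f * f = 1 → (e * f) ^ 3 = 1 → (∀ g ∈ H, g * g = 1 → (f * g) ^ 3 = 1 → e * g = g * e → e * g ≠ 1 → (∃ k ∈ H, (g * (k * g * k⁻¹)) ^ 3 = 1 ∧ (∃ l ∈ H, l * (e * g) * l⁻¹ = e * (k * g * k⁻¹)) ∧ (∃ l ∈ H, l * (e * g) * l⁻¹ = f * (k * g * k⁻¹))))) :=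
  have h : ∀ e, InL S5_o R S5_L e → e * e = 1 → (∀ f, InL S5_o R S5_L f → f * f = 1 → (e * f) ^ 3 = 1 → (∀ g, InL S5_o R S5_L g → g * g = 1 → (f * g) ^ 3 = 1 → e * g = g * e → e * g ≠ 1 → (Good S5_o R S5_L → prods S5_o S5_L S5_o.one ≠ [] → ∃ k, InL S5_o R S5_L k ∧ (g * (k * g * k⁻¹)) ^ 3 = 1 ∧ (Good S5_o R S5_L → prods S5_o S5_L S5_o.one ≠ [] → ∃ l, InL S5_o R S5_L l ∧ l * (e * g) * l⁻¹ = e * (k * g * k⁻¹)) ∧ (Good S5_o R S5_L → prods S5_o S5_L S5_o.one ≠ [] → ∃ l, InL S5_o R S5_L l ∧ l * (e * g) * l⁻¹ = f * (k * g * k⁻¹))))) :=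
    Fm.sound M.μ S5_f_F S5_f_chk M.reps
  (fun e h0 => (fun h1 => (fun f h2 => (fun h3 => (fun h4 => (fun g h5 => (fun h6 => (fun h7 => (fun h8 => (fun h9 => (Exists.imp (fun k h10 => ⟨M.H.iff.1 h10.1, (And.imp (fun h11 => h11) (fun h11 => (And.imp (fun h12 => (Exists.imp (fun l h13 => ⟨M.H.iff.1 h13.1, h13.2⟩) (h12 M.H.good M.H.ne))) (fun h12 => (Exists.imp (fun l h13 => ⟨M.H.iff.1 h13.1, h13.2⟩) (h12 M.H.good M.H.ne))) h11)) h10.2)⟩) (((((((((((h e (M.H.iff.2 h0)) h1) f (M.H.iff.2 h2)) h3) h4) g (M.H.iff.2 h5)) h6) h7) h8) h9) M.H.good M.H.ne))))))))))))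

end H10.X
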