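import Cfsg.Agent.H10.X0

/-! Generated: the extraspecial group of order 32 with an element of order three. -/

set_option maxRecDepth 100000
set_option maxHeartbeats 4000000
set_option linter.unusedVariables false

open Subgroup
open scoped commutatorElement
namespace H10.X
open H0 H0.PM H16 H19

def Q3 {G : Type*} [Group G] (z u v a b x : G) : Prop :=
  z * z = 1 ∧
  u * u = 1 ∧
  v * v = 1 ∧
  a * a = 1 ∧
  b * b = 1 ∧
  x ^ 3 = 1 ∧
  x * u * x⁻¹ = a ∧
  x * v * x⁻¹ = b ∧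
  (u * x) ^ 3 = 1 ∧
  (v * x) ^ 3 = 1 ∧
  u * v = v * u ∧
  ⁅u, b⁆ = z ∧
  z * x = x * z ∧
  z * u = u * z ∧
  z * v = v * z ∧ True
def RA {G : Type*} [Group G] (z u v r x : G) : Prop :=
  r * r = 1 ∧
  r * x * r⁻¹ = x⁻¹ ∧
  r * u = u * r ∧
  r * v * r⁻¹ = v ∧
  r * z = z * r ∧ True
def RB {G : Type*} [Group G] (z u v r x : G) : Prop :=
  r * r = 1 ∧
  r * x * r⁻¹ = x⁻¹ ∧
  r * u = u * r ∧
  r * v * r⁻¹ = u * v * z ∧
  r * z = z * r ∧ True
def TA {G : Type*} [Group G] (z u v a b r : G) : Prop :=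
  z * z = 1 ∧
  u * u = 1 ∧
  v * v = 1 ∧
  a * a = 1 ∧
  b * b = 1 ∧
  r * r = 1 ∧
  u * v = v * u ∧
  z * u = u * z ∧
  z * v = v * z ∧
  z * a = a * z ∧
  z * b = b * z ∧
  z * r = r * z ∧
  u * a = a * u ∧
  v * b = b * v ∧
  a * b = b * a ∧
  b * u * b = u * z ∧
  a * v * a = v * z ∧
  r * u = u * r ∧
  a * r * a = r * u ∧
  r * v = v * r ∧
  b * r * b = r * v ∧ True
def TB {G : Type*} [Group G] (z u v a b r : G) : Prop :=
  z * z = 1 ∧
  u * u = 1 ∧
  v * v = 1 ∧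
  a * a = 1 ∧
  b * b = 1 ∧
  r * r = 1 ∧
  u * v = v * u ∧
  z * u = u * z ∧
  z * v = v * z ∧
  z * a = a * z ∧
  z * b = b * z ∧
  z * r = r * z ∧
  u * a = a * u ∧
  v * b = b * v ∧
  a * b = b * a ∧
  b * u * b = u * z ∧
  a * v * a = v * z ∧
  r * u = u * r ∧
  a * r * a = r * u ∧
  r * v * r = u * v * z ∧
  r * b * r = u * v * a * b ∧ True
def P0 {G : Type*} [Group G] (z u p : G) : Prop :=
  p ^ 3 = 1 ∧
  p * z * p⁻¹ = u ∧
  p * u * p⁻¹ = z * u ∧ True
def PA {G : Type*} [Group G] (z u v a b r p : G) : Prop :=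
  p ^ 3 = 1 ∧
  p * z * p⁻¹ = u ∧
  p * u * p⁻¹ = z * u ∧
  p * a * p⁻¹ = a ∧
  p * v * p⁻¹ = r ∧
  p * r * p⁻¹ = v * r ∧
  (b * p) ^ 2 = 1 ∧ True
def PB {G : Type*} [Group G] (z u v a b r p : G) : Prop :=
  p ^ 3 = 1 ∧
  p * z * p⁻¹ = u ∧
  p * u * p⁻¹ = z * u ∧
  p * v * p⁻¹ = v ∧
  p * r * p⁻¹ = a ∧
  p * a * p⁻¹ = b * r * b ∧
  (b * p) ^ 2 = 1 ∧ True
noncomputable def Q3_r_R : List (List ℕ) := [[0,0],
  [1,1],
  [2,2],
  [3,3],
  [4,4],
  [5,6],
  [6,5],
  [5,5,5],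
  [3,6,1,5],
  [4,6,2,5],
  [5,1,5,1,5,1],
  [5,2,5,2,5,2],
  [2,1,2,1],
  [0,4,1,4,1],
  [6,0,5,0],
  [1,0,1,0],
  [2,0,2,0]]
theorem Q3_r {G : Type*} [Group G] {z u v a b x : G}
    (h : Q3 z u v a b x) :
    Rels (nthG [z, u, v, a, b, x, x⁻¹]) Q3_r_R :=
  rels_of_eqs ((InvI.cons h.1 (InvI.cons h.2.1 (InvI.cons h.2.2.1 (InvI.cons h.2.2.2.1 (InvI.cons h.2.2.2.2.1 InvI.nil))))) : InvI [z, u, v, a, b, x] [(nat_lit 0), (nat_lit 1), (nat_lit 2), (nat_lit 3), (nat_lit 4)])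
    (show AllEq [z, u, v, a, b, x] [((.mul (.v (nat_lit 0)) (.v (nat_lit 0))), .one), ((.mul (.v (nat_lit 1)) (.v (nat_lit 1))), .one), ((.mul (.v (nat_lit 2)) (.v (nat_lit 2))), .one), ((.mul (.v (nat_lit 3)) (.v (nat_lit 3))), .one), ((.mul (.v (nat_lit 4)) (.v (nat_lit 4))), .one), ((.pw (.v (nat_lit 5)) (nat_lit 3)), .one), ((.mul (.mul (.v (nat_lit 5)) (.v (nat_lit 1))) (.inv (.v (nat_lit 5)))), (.v (nat_lit 3))), ((.mul (.mul (.v (nat_lit 5)) (.v (nat_lit 2))) (.inv (.v (nat_lit 5)))), (.v (nat_lit 4))), ((.pw (.mul (.v (nat_lit 1)) (.v (nat_lit 5))) (nat_lit 3)), .one), ((.pw (.mul (.v (nat_lit 2)) (.v (nat_lit 5))) (nat_lit 3)), .one), ((.mul (.v (nat_lit 1)) (.v (nat_lit 2))), (.mul (.v (nat_lit 2)) (.v (nat_lit 1)))), ((.mul (.mul (.mul (.v (nat_lit 1)) (.v (nat_lit 4))) (.inv (.v (nat_lit 1)))) (.inv (.v (nat_lit 4)))), (.v (nat_lit 0))), ((.mul (.v (nat_lit 0)) (.v (nat_lit 5))), (.mul (.v (nat_lit 5)) (.v (nat_lit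 0)))), ((.mul (.v (nat_lit 0)) (.v (nat_lit 1))), (.mul (.v (nat_lit 1)) (.v (nat_lit 0)))), ((.mul (.v (nat_lit 0)) (.v (nat_lit 2))), (.mul (.v (nat_lit 2)) (.v (nat_lit 0))))] from h)
    [(.v (nat_lit 0)), (.v (nat_lit 1)), (.v (nat_lit 2)), (.v (nat_lit 3)), (.v (nat_lit 4)), (.v (nat_lit 5)), (.inv (.v (nat_lit 5)))] (by decide +kernel)
noncomputable abbrev Q3_o : Ops := pops (nat_lit 8) (nat_lit 3) (nat_lit 7) (nat_lit 0xfac688)
noncomputable def Q3_cs : List ℕ := [(nat_lit 0xde54c1), (nat_lit 0xb3e053), (nat_lit 0xb3e21a), (nat_lit 0x681fa5), (nat_lit 0x688fac), (nat_lit 0x6beb08), (nat_lit 0xb1af88)]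
noncomputable def Q3_L : List (List ℕ) := [[(nat_lit 0xfac688), (nat_lit 0xde54c1), (nat_lit 0xb3e053), (nat_lit 0xb3e21a), (nat_lit 0x681fa5), (nat_lit 0x688fac), (nat_lit 371511), (nat_lit 371070)],
  [(nat_lit 0xfac688), (nat_lit 0x6beb08), (nat_lit 0xb1af88), (nat_lit 0xdec4c8), (nat_lit 0x4fe948), (nat_lit 0x95adc8)],
  [(nat_lit 0xfac688), (nat_lit 0xde5688)]]
noncomputable def Q3_WW : List (List (List ℕ)) := [[[],
  [(nat_lit 0)],
  [(nat_lit 1)],
  [(nat_lit 2)],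
  [(nat_lit 3)],
  [(nat_lit 4)],
  [(nat_lit 1), (nat_lit 3)],
  [(nat_lit 2), (nat_lit 3)]],
  [[],
  [(nat_lit 5)],
  [(nat_lit 6)],
  [(nat_lit 0), (nat_lit 3), (nat_lit 4)],
  [(nat_lit 0), (nat_lit 3), (nat_lit 4), (nat_lit 5)],
  [(nat_lit 0), (nat_lit 3), (nat_lit 4), (nat_lit 6)]],
  [[],
  [(nat_lit 0), (nat_lit 1), (nat_lit 2)]]]
noncomputable def Q3_b5_S0 : List ℕ := [nat_lit 0xb00000700800e, nat_lit 0x1300000f000001008010, nat_lit 0x1b000017000001008012, nat_lit 0x2b00002700002300001f000007014014, nat_lit 0x3b00003700003300002f000007014016, nat_lit 0x3300002f00000c000012, nat_lit 0x3f00001200000d008018, nat_lit 0x4b00004700004300000d00c01a, nat_lit 0x1700000d00001d00004b01201a, nat_lit 0x4f00000200004400801c, nat_lit 0x5300000e00004400801e, nat_lit 0x57000012000044008020, nat_lit 0x5b00000700000d004010, nat_lit 0x2c00003100a00e, nat_lit 0x5f000007000011004012, nat_lit 0x3c00003900a00e, nat_lit 0x6300001400000600000b000020010014,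 nat_lit 0x2300004100800e, nat_lit 0x4500002800002c000010, nat_lit 0x6700001c00000a00000b000030010016, nat_lit 0x3300004d00800e, nat_lit 0x5100003800003c000012, nat_lit 0x6b00002f000020008018, nat_lit 0x7700007300006f00002000c01a, nat_lit 0x5f00002000005d00007701201a, nat_lit 0x6100003a00005800001c, nat_lit 0x2d00006500007300c012, nat_lit 0x6900002500400e, nat_lit 0x7b00001f00007000801e, nat_lit 0x7f00002f000070008020, nat_lit 0x8300003200000e000001000005010014, nat_lit 0x1400007900800e, nat_lit 0x8700003a000012000001000009010016, nat_lit 0x1c00008100800e, nat_lit 0x8b00000a000005008018, nat_lit 0x9300008f00004f00000500c01a, nat_lit 0x1600000500008d00009301201a, nat_lit 0x9100003300008000001c, nat_lit 0x9700000600005000801e, nat_lit 0x9b00000a000050008020, nat_lit 0x4700002500009d004012, nat_lit 0x9f000014000089004012, nat_lit 0x1c00008c0000a5000010, nat_lit 0xaf0000ab0000a70000a300007d014016, nat_lit 0xa70000a300007a00008d000012,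 nat_lit 0xb10000ac000004, nat_lit 0xb30000ae000064008018, nat_lit 0x5e0000410000b9004012, nat_lit 0xbf0000bb0000b700006400c01a, nat_lit 0x9f0000640000c10000bf01201a, nat_lit 0xb700001400009800001c, nat_lit 0x250000990000c9000010, nat_lit 0xc30000630000b800801e, nat_lit 0x7200006e0000990000c90000d1016014, nat_lit 0xc70000ae0000b8008020, nat_lit 0xcf0000cb0000ae000014000089010016, nat_lit 0xa60000dd00800e, nat_lit 0xcb0000af00400e, nat_lit 0xe50000d00000de000012, nat_lit 0xd300009700000600001500801a, nat_lit 0xd700007a00009800801c, nat_lit 0xca0000f100800e, nat_lit 0xdb00008a000098008020, nat_lit 0xbb0000ca0000f9004012]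
noncomputable def Q3_b5_S1 : List ℕ := [nat_lit 0x9e0000990000f900c018, nat_lit 0xfe0001010000a1000010, nat_lit 0xeb0000e70000e30000df000085014014, nat_lit 0x4b00002100010900c01e, nat_lit 0x5300000e00001800010900401a, nat_lit 0xef000067000109008018, nat_lit 0xf3000067000022008020, nat_lit 0x7600006e00009d0000a1000119016016, nat_lit 0x11d00009500600e, nat_lit 0xf700010a00001c00008c0000dd00c014, nat_lit 0xf70000eb00400e, nat_lit 0xfb00009b00008c0000e900801a, nat_lit 0x940000b600012d000018, nat_lit 0x780000be0000b30000af00012d000014, nat_lit 0x13500006600400e, nat_lit 0x13900012e0000b0000010, nat_lit 0x139000131000121000012, nat_lit 0xff00008200009c00801c, nat_lit 0xa200014500800e, nat_lit 0x14900011900011d000012, nat_lit 0x10b000107000103000023000059010016, nat_lit 0x1070001030000460000c1000012, nat_lit 0x15500010c000004, nat_lit 0x15500010700000c, nat_lit 0x10f00007b00001f00006000801a, nat_lit 0x11300005a00007c008020, nat_lit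 0x7600007100016500c018, nat_lit 0x16900014d0000ff0000e000c01a, nat_lit 0x117000023000059004012, nat_lit 0x15200017100a00e, nat_lit 0x11b000103000028008018, nat_lit 0x1e00002b000179004012, nat_lit 0x15e00011c00017d000010, nat_lit 0x12700012300011f00002800c01a, nat_lit 0x11700002800018500012701201a, nat_lit 0x18900017200011400001c, nat_lit 0x16500018d00012300c012, nat_lit 0x1910000d600400e, nat_lit 0x12b00002700012000801e, nat_lit 0x2a00006a000071000192000199016014, nat_lit 0x19e00019a000196000010, nat_lit 0x12f000186000036008012, nat_lit 0x13700012b00002700011800801a, nat_lit 0xef00004e00006c0001710001a9016014, nat_lit 0x1ae0001aa000175000010, nat_lit 0x13b0001300001a6000032000019010016, nat_lit 0x1330001b500800e, nat_lit 0x13f00001a000054008020, nat_lit 0x2e0000290001bd00c018, nat_lit 0x1c10001420000f30000f000c01a, nat_lit 0x14300004d0000f0004010, nat_lit 0x1470000ee00003300006c00015100c014, nat_lit 0xc000015a0001cd000018,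 nat_lit 0x1470000ee000052000010, nat_lit 0x14b0001ca0000ef0000510000ed010014, nat_lit 0xf20000d40001d9008012, nat_lit 0x14f0000370000ed008018, nat_lit 0xda0000f60001de0001da0001e1016016, nat_lit 0x1e60001e2000148000012, nat_lit 0x1cd0001e90000c70000b400c01a, nat_lit 0x3b0001500001e5000010, nat_lit 0x15300003e000161004010, nat_lit 0x1b600003f0000390001610001f5002014, nat_lit 0x1f900013b000127008018]
noncomputable def Q3_b5_S2 : List ℕ := [nat_lit 0x15700013300003f00003b000150010014, nat_lit 0x1e600020100800e, nat_lit 0x15b00014100005700004000c01a, nat_lit 0x13c0001b600020900c012, nat_lit 0xef00005600004000020900001a, nat_lit 0x21100011600010d008020, nat_lit 0x15f0001b50001fa004010, nat_lit 0x2060001570001ba0001fa000219002014, nat_lit 0xd500016500018d0001fd000219002016, nat_lit 0x2210000c30000b9004020, nat_lit 0x1630001b600014000801c, nat_lit 0x1670000770000660001c200022900c014, nat_lit 0x1f900016400022d00c01e, nat_lit 0x23100021900022600801c,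 nat_lit 0x23500022e00022a000010, nat_lit 0x16b0000c30000630000a000801a, nat_lit 0xbf0000c500023d00c01e, nat_lit 0xe80001290001260000e100023d000014, nat_lit 0xdf00008200008c0000a500023d016014, nat_lit 0x2450000e80000ec000010, nat_lit 0x16f00015200011400801c, nat_lit 0x18e00025100800e, nat_lit 0x24900016d000251008012, nat_lit 0x25500012800020e000010, nat_lit 0x2550001fd000219000012, nat_lit 0x17300009300009600016a00025100c014, nat_lit 0x23d00025a000265000018, nat_lit 0x1ce00017000026500c01e, nat_lit 0xc800021e00026100026500401a, nat_lit 0x173000093000121000010]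
noncomputable def Q3_b5_S : List (List ℕ) := [Q3_b5_S0, Q3_b5_S1, Q3_b5_S2]
noncomputable def Q3_b5_defs : List ℕ := [(nat_lit 0x21004000260050003a000000190010001900500039001000380050003700100021000000220000002000400025002000320050002b0000002b000000180010002e0040002d000000030010002b0050002a00200029005000280020002000400003000000060000000400100023004000130010000600200017001000160000000b000000070010001c0040001b000000010010000b002000050010000300400001003000010000000e0000000a000000020010001100400010000000000010000e0050000d0020000c0050000b002000010050000900100008005000070010000100600005004000000060000300300000005000010050000000000000),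
  (nat_lit 0x50002400000042004000300050001d0000004e0030000f0010003c0010004c0030000d0010000d00100050005000340030000b0000000f002000490040004a0050000f006000490000000900100048004000470000000800100040004000080000001a0040001e002000410050004000200008)]
noncomputable def Q3_b5_recs : List ℕ := [(nat_lit 0x6000360002e02000250003605000350002d050002500035010000c0003404000220002a050002a00032050003300027050002200033020002d0003106000300001e010002d00030030002d0001006000250002d000002e0002704000180002f060002c0001d02000180002c020002a00024ff000240002902000030002b030002700005060002200027060002600011020001300026010001300025060001f0002300000230000c040000400024020000400022050002100005050000600021050002000003050000400020020001b0001f010001b0001e05000130001b050001b0001006000150001c000001c0001704000070001d02000070001a040000e0001905000190000c050000b00019030000a0001805000180000805000070001806000170000d060000e00017060001600009060000a00016020001000015010001000014050001000013000001100005040000a00012020000a0000f04000020000c02000000000e01000000000a020000200006010000200004050000000002),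
  (nat_lit 0x2000480005401000540004e06000430005403000310000e040002c0004204000510003106000530003102000340005302000520003505000340005203000190005102000510002e010004200051060003b00050040003b0004f010004f0001502000140004f050004e0004c050000f0004e03000420003b060004d0003b01000450004d02000160004b030003000014060004a0001401000470004a05000300004705000470001e06000440004800000480004504000090004903000120002f060004600012020000900046060004500042060001a0004504000370004401000440001f020001e0004401000170004306000400002f02000420002fff0002f00041050001a00042040001f0003f050003f0001105000260003f040003c00015030002b0001505000150003e050003e0001c020003e00023010002a0003e05000390003d01000330003d06000230003c060003c0001f02000110003c020003a0003b040003a00014000003a0001201000050003a03000110002e010003600026),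
  (nat_lit 0x30003c0005c040005c0002b000005c00051020005c00027010005b0005c04000570005b03000560005b020005b0005a050005b0004805000440005b030003a0005a060005a00037050005a00038000005a0002f01000270005a030004f0002c050002c00059000005900054010005800059050004f00058000002c0005702000570003001000570003106000540005702000120005600000560003b050005600049040000f00056050005500031050005300055)]
noncomputable def Q3_b5_L0 : List ℕ := [nat_lit 0x4300000100000e00000200001200000300000f000004000017000005, nat_lit 0x4400000000002a00000600002e0000070000cd000008000047000009, nat_lit 0x5300000600000d00000000001a00000a00004a00000b00001e00000c, nat_lit 0x5700000700003f00000a0000110000000001f100000d00005600000e, nat_lit 0xb700000800006300000b0000ae00000f00001000000000009f000010, nat_lit 0x2100000900010a00001100006700000e0000a9000010000018000000, nat_lit 0x540000020000290000010001be0000120001a1000013000111000011, nat_lit 0x580000030001c100001200002d00000100013d00000f000141000014,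 nat_lit 0xb80000040000d20000130000da00000d0000ce0000010000bb000015, nat_lit 0x2200000500004b00000c00011a000014000106000015000048000001, nat_lit 0x13f00001200004000000300001900000200015f00001600020a000017, nat_lit 0xc30000130000640000040000ba0000180000490000020000c2000019, nat_lit 0x10d00001100004c00000900021600001700018200001900001d000002, nat_lit 0xc800000f00021d0000160000d90000080001f20000030001e900001a, nat_lit 0xf30000140000ef00001b0000680000050001d600001a000055000003, nat_lit 0xc700000d0000b30000180000ad00000400013e00000700027100001c, nat_lit 0xc500001500023e00001d00026900001c0000aa0000050000a0000004, nat_lit 0x10e00000c00010900000500011600001b00024e00001d000112000006, nat_lit 0x14000000a0001c20000070001bd00000600023a0000180001c500001b, nat_lit 0xc400000b0000d10000080002210000160001a200000600016b00001d, nat_lit 0xf400000e00015b00001700011900000900027600001c000142000007, nat_lit 0xc60000100000bf0000190001d100001a0001050000090000bc000008,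 nat_lit 0x22500001800021e00000d00022200001300016000000a00026200001e, nat_lit 0x21200001b00015c00001400021500000c00025e00001e00020900000a, nat_lit 0x2260000160000b400000f0000b900000b0002390000120001ee00001f, nat_lit 0x24100001d0000c000001500015900001f00018100000c0000c100000b, nat_lit 0x26d00001c0001cd00001f0001d20000150001d500000e0001ea00000d, nat_lit 0x2110000170000f000000e0001150000110001b100001f0001c6000012, nat_lit 0x26e00001a00026500001e00026a00001000027500001400027200000f, nat_lit 0x24200001900023d00001000025900001e00024d00001100016c000013, nat_lit 0x17000001f00026600001c00025a00001d00025d000017000261000016, nat_lit 0x16f00001e0001ce00001a00015a0000190001b200001b0001ed000018]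
noncomputable def Q3_b5_L : List (List ℕ) := [Q3_b5_L0]
noncomputable def Q3_b5_V : List ℕ := [(nat_lit 0x420000005b0000005a0000005c0000003b000000510000002f0000002c00000056000000570000002e0000003c000000300000004f0000003a000000270000002b000000190000003100000012000000180000000f000000110000002d000000150000001400000005000000030000000e0000000a0000001000000000)]
noncomputable def Q3_b5_D : H26.Dag := ⟨[0,1,2,3,4,6,5], [[0,0],
  [1,1],
  [2,2],
  [3,3],
  [4,4],
  [5,6],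
  [6,5],
  [5,5,5],
  [3,6,1,5],
  [4,6,2,5],
  [5,1,5,1,5,1],
  [5,2,5,2,5,2],
  [2,1,2,1],
  [0,4,1,4,1],
  [6,0,5,0],
  [1,0,1,0],
  [2,0,2,0]], [], Q3_b5_defs, Q3_b5_recs⟩
theorem Q3_b5_c : Q3_b5_D.checkTab Q3_b5_S 32 5 Q3_b5_V Q3_b5_L = true := by decide +kernel
theorem Q3_b5 : Bound Q3_r_R 5 32 :=
  bound_dag (Bound.zero Q3_r_R) (K := 7) (J := [0,1,2,3,4,5,6,7,8,9,10,11,12,13,14,15,16]) (by decide +kernel) Q3_b5_c (by decide +kernel)
noncomputable def Q3_b7_S0 : List ℕ := [nat_lit 0x1, nat_lit 0x1, nat_lit 0x1, nat_lit 0x1, nat_lit 0x1, nat_lit 0x7000005000008000010, nat_lit 0x7000009000008000012, nat_lit 0x700000100000800c018, nat_lit 0xb00000800600e, nat_lit 0xb00000d00000c008010, nat_lit 0xb00001100000c008012, nat_lit 0xb00000100000c004018, nat_lit 0x2100002500000b000005000008012014, nat_lit 0x2100002900000b000009000008012016, nat_lit 0x22000035000021000012, nat_lit 0x22000031000021000010]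
noncomputable def Q3_b7_S : List (List ℕ) := [Q3_b7_S0]
noncomputable def Q3_b7_defs : List ℕ := [(nat_lit 0x6000000050000000000000)]
noncomputable def Q3_b7_recs : List ℕ := [(nat_lit 0x30000200002040000200002020000100001010000100001000000200002020000200002010000200002060000100002000000100001040000100001030000100001040000000000030000000000020000000000010000000000000000000000)]
noncomputable def Q3_b7_L0 : List ℕ := [nat_lit 0x100000000000500000000000900000000000d00000000001100000000000700000100000b000002, nat_lit 0x1d000001000031000001000035000001000015000001000019000001000022000002000008000000, nat_lit 0x2d00000200002500000200002900000200003d00000200003900000200000c000000000021000001]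
noncomputable def Q3_b7_L : List (List ℕ) := [Q3_b7_L0]
noncomputable def Q3_b7_V : List ℕ := [(nat_lit 0x20000000100000000)]
noncomputable def Q3_b7_D : H26.Dag := ⟨[0,1,2,3,4,6,5], [[0,0],
  [1,1],
  [2,2],
  [3,3],
  [4,4],
  [5,6],
  [6,5],
  [5,5,5],
  [3,6,1,5],
  [4,6,2,5],
  [5,1,5,1,5,1],
  [5,2,5,2,5,2],
  [6,0,5,0]], [0,1,2,3,4], Q3_b7_defs, Q3_b7_recs⟩
theorem Q3_b7_c : Q3_b7_D.checkTab Q3_b7_S 3 7 Q3_b7_V Q3_b7_L = true := by decide +kernel
theorem Q3_b7 : Bound Q3_r_R 7 96 :=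
  bound_dag Q3_b5 (K := 7) (J := [0,1,2,3,4,5,6,7,8,9,10,11,14]) (by decide +kernel) Q3_b7_c (by decide +kernel)
theorem Q3_P : PModel (nat_lit 8) (nat_lit 3) (nat_lit 7) (nat_lit 0xfac688) Q3_cs Q3_r_R Q3_L 96 :=
  ⟨PkOK.of (by decide +kernel), by decide +kernel, by decide +kernel, Q3_b7, ⟨Q3_WW, by decide +kernel⟩,
    ⟨fun c => Nat.mod c (nat_lit 757), by decide +kernel⟩⟩
noncomputable def Q3_soc_t0 : ST := (.node (nat_lit 149) (.node (nat_lit 81) (.node (nat_lit 38) (.node (nat_lit 17) (.node (nat_lit 12) (.leaf (nat_lit 2)) (.leaf (nat_lit 0))) (.node (nat_lit 27) (.leaf (nat_lit 2)) (.node (nat_lit 30) (.leaf (nat_lit 0)) (.leaf (nat_lit 2))))) (.node (nat_lit 60) (.node (nat_lit 46) (.leaf (nat_lit 48)) (.node (nat_lit 53) (.leaf (nat_lit 2)) (.leaf (nat_lit 48)))) (.node (nat_lit 65) (.leaf (nat_lit 2)) (.node (nat_lit 72) (.leaf (nat_lit 0)) (.leaf (nat_lit 2)))))) (.node (nat_lit 107) (.node (nat_lit 91) (.node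 (nat_lit 84) (.leaf (nat_lit 0)) (.leaf (nat_lit 2))) (.node (nat_lit 96) (.leaf (nat_lit 48)) (.node (nat_lit 102) (.leaf (nat_lit 2)) (.leaf (nat_lit 0))))) (.node (nat_lit 126) (.node (nat_lit 112) (.leaf (nat_lit 48)) (.node (nat_lit 117) (.leaf (nat_lit 2)) (.leaf (nat_lit 0)))) (.node (nat_lit 144) (.leaf (nat_lit 2)) (.node (nat_lit 147) (.leaf (nat_lit 0)) (.leaf (nat_lit 2))))))) (.node (nat_lit 213) (.node (nat_lit 171) (.node (nat_lit 155) (.node (nat_lit 150) (.leaf (nat_lit 4)) (.leaf (nat_lit 2))) (.node (nat_lit 165) (.leaf (nat_lit 0)) (.node (nat_lit 170) (.leaf (nat_lit 2)) (.leaf (nat_lit 48))))) (.node (nat_lit 195) (.node (nat_lit 180) (.leaf (nat_lit 0)) (.node (nat_lit 186) (.leaf (nat_lit 2)) (.leaf (nat_lit 48)))) (.node (nat_lit 198) (.leaf (nat_lit 2)) (.node (nat_lit 201) (.leaf (nat_lit 0)) (.leaf (nat_lit 2)))))) (.node (nat_lit 252) (.node (nat_lit 239) (.node (nat_lit 224) (.leaf (nat_lit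 0)) (.node (nat_lit 234) (.leaf (nat_lit 48)) (.leaf (nat_lit 0)))) (.node (nat_lit 246) (.leaf (nat_lit 48)) (.node (nat_lit 250) (.leaf (nat_lit 2)) (.leaf (nat_lit 0))))) (.node (nat_lit 302) (.node (nat_lit 288) (.leaf (nat_lit 2)) (.node (nat_lit 294) (.leaf (nat_lit 0)) (.leaf (nat_lit 2)))) (.node (nat_lit 303) (.leaf (nat_lit 4)) (.node (nat_lit 305) (.leaf (nat_lit 0)) (.leaf (nat_lit 2))))))))
noncomputable def Q3_soc_t1 : ST := (.node (nat_lit 204) (.node (nat_lit 95) (.node (nat_lit 52) (.node (nat_lit 25) (.leaf (nat_lit 48)) (.node (nat_lit 31) (.leaf (nat_lit 8)) (.leaf (nat_lit 48)))) (.node (nat_lit 67) (.node (nat_lit 54) (.leaf (nat_lit 8)) (.leaf (nat_lit 48))) (.node (nat_lit 71) (.leaf (nat_lit 8)) (.leaf (nat_lit 48))))) (.node (nat_lit 136) (.node (nat_lit 122) (.node (nat_lit 96) (.leaf (nat_lit 8)) (.leaf (nat_lit 48))) (.node (nat_lit 124) (.leaf (nat_lit 8)) (.leaf (nat_lit 48)))) (.node (nat_lit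 177) (.node (nat_lit 142) (.leaf (nat_lit 8)) (.leaf (nat_lit 48))) (.node (nat_lit 179) (.leaf (nat_lit 8)) (.leaf (nat_lit 48)))))) (.node (nat_lit 284) (.node (nat_lit 238) (.node (nat_lit 207) (.leaf (nat_lit 8)) (.node (nat_lit 232) (.leaf (nat_lit 48)) (.leaf (nat_lit 8)))) (.node (nat_lit 248) (.node (nat_lit 247) (.leaf (nat_lit 48)) (.leaf (nat_lit 8))) (.node (nat_lit 274) (.leaf (nat_lit 48)) (.leaf (nat_lit 8))))) (.node (nat_lit 318) (.node (nat_lit 303) (.node (nat_lit 302) (.leaf (nat_lit 48)) (.leaf (nat_lit 8))) (.node (nat_lit 315) (.leaf (nat_lit 48)) (.leaf (nat_lit 0)))) (.node (nat_lit 349) (.node (nat_lit 343) (.leaf (nat_lit 48)) (.leaf (nat_lit 8))) (.node (nat_lit 356) (.leaf (nat_lit 48)) (.leaf (nat_lit 8)))))))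
noncomputable def Q3_soc_F : Fm := (.all Q3_L (.or (.qf (.eq (.v (nat_lit 0)) .one)) (.exF Q3_L (fun cs => Q3_soc_t1.find (Nat.mod (nth (nat_lit 0) cs (nat_lit 0)) (nat_lit 359))) (.exF Q3_L (fun cs => Q3_soc_t0.find (Nat.mod (Nat.add (nth (nat_lit 0) cs (nat_lit 0)) (Nat.mul (nat_lit 7919) (nth (nat_lit 0) cs (nat_lit 1)))) (nat_lit 354))) (.qf (.or (.eq (.mul (.mul (.v (nat_lit 0)) (.v (nat_lit 2))) (.inv (.v (nat_lit 0)))) (.v (nat_lit 3))) (.or (.eq (.mul (.mul (.v (nat_lit 0)) (.v (nat_lit 2))) (.inv (.v (nat_lit 0)))) (.v (nat_lit 3))) (.or (.eq (.mul (.mul (.v (nat_lit 0)) (.mul (.mul (.mul (.v (nat_lit 2)) (.v (nat_lit 1))) (.inv (.v (nat_lit 2)))) (.inv (.v (nat_lit 1))))) (.inv (.v (nat_lit 0)))) (.v (nat_lit 3))) (.or (.eq (.mul (.mul (.v (nat_lit 0)) (.mul (.mul (.mul (.v (nat_lit 2)) (.v (nat_lit 1))) (.inv (.v (nat_lit 2)))) (.inv (.v (nat_lit 1))))) (.inv (.v (nat_lit 0)))) (.v (nat_lit 3))) (.or (.eq (.mul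 (.mul (.mul (.mul (.mul (.mul (.v (nat_lit 2)) (.v (nat_lit 1))) (.inv (.v (nat_lit 2)))) (.inv (.v (nat_lit 1)))) (.v (nat_lit 0))) (.inv (.mul (.mul (.mul (.v (nat_lit 2)) (.v (nat_lit 1))) (.inv (.v (nat_lit 2)))) (.inv (.v (nat_lit 1)))))) (.inv (.v (nat_lit 0)))) (.v (nat_lit 3))) (.eq (.mul (.mul (.mul (.mul (.mul (.mul (.v (nat_lit 2)) (.v (nat_lit 1))) (.inv (.v (nat_lit 2)))) (.inv (.v (nat_lit 1)))) (.v (nat_lit 0))) (.inv (.mul (.mul (.mul (.v (nat_lit 2)) (.v (nat_lit 1))) (.inv (.v (nat_lit 2)))) (.inv (.v (nat_lit 1)))))) (.inv (.v (nat_lit 0)))) (.v (nat_lit 3)))))))))))))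
theorem Q3_soc_chk : Fm.chk Q3_o Q3_soc_F Q3_cs = true := by decide +kernel
theorem Q3_soc {G : Type*} [Group G] {R : ℕ → G → Prop} {z u v a b x X_ : G} {H : Subgroup G}
    (M : Mdl Q3_o Q3_cs Q3_L R [z, u, v, a, b, x, X_] H) :
    ∀ y_ ∈ H, y_ = 1 ∨ (∃ q_ ∈ H, ∃ k_ ∈ H, k_ * y_ * k_⁻¹ = z ∨ k_ * y_ * k_⁻¹ = z ∨ k_ * ⁅y_, q_⁆ * k_⁻¹ = z ∨ k_ * ⁅y_, q_⁆ * k_⁻¹ = z ∨ ⁅⁅y_, q_⁆, k_⁆ = z ∨ ⁅⁅y_, q_⁆, k_⁆ = z) :=
  have h : ∀ y_, InL Q3_o R Q3_L y_ → y_ = 1 ∨ (Good Q3_o R Q3_L → prods Q3_o Q3_L Q3_o.one ≠ [] → ∃ q_, InL Q3_o R Q3_L q_ ∧ (Good Q3_o R Q3_L → prods Q3_o Q3_L Q3_o.one ≠ [] → ∃ k_, InL Q3_o R Q3_L k_ ∧ (k_ * y_ * k_⁻¹ = z ∨ k_ * y_ * k_⁻¹ = z ∨ k_ * ⁅y_, q_⁆ * k_⁻¹ = z ∨ k_ * ⁅y_, q_⁆ * k_⁻¹ = z ∨ ⁅⁅y_, q_⁆, k_⁆ = z ∨ ⁅⁅y_, q_⁆, k_⁆ = z))) :=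
    Fm.sound M.μ Q3_soc_F Q3_soc_chk M.reps
  (fun y_ h0 => (Or.imp (fun h1 => h1) (fun h1 => (Exists.imp (fun q_ h2 => ⟨M.H.iff.1 h2.1, (Exists.imp (fun k_ h3 => ⟨M.H.iff.1 h3.1, h3.2⟩) (h2.2 M.H.good M.H.ne))⟩) (h1 M.H.good M.H.ne))) (h y_ (M.H.iff.2 h0))))
theorem Q3_mdl {G : Type*} [Group G] {z u v a b x : G}
    (h : Q3 z u v a b x)
    (n1 : z ≠ 1) :
    ∃ R, Mdl Q3_o Q3_cs Q3_L R [z, u, v, a, b, x, x⁻¹] (sp [z, u, v, a, b, x, x⁻¹]) ∧ #(sp [z, u, v, a, b, x, x⁻¹]) = 96 :=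
  mdl_of Q3_P rfl (Q3_r h) (.v (nat_lit 0)) (.v (nat_lit 0)) n1 n1 
    fun _ ms _ M hl => match ms, M, (hl : ms.length = 7) with
      | [_, _, _, _, _, _, _], M, _ => Q3_soc M
noncomputable def Q3_lQ : List ℕ := [(nat_lit 0xfac688), (nat_lit 0xde54c1), (nat_lit 0xb3e053), (nat_lit 0xb3e21a), (nat_lit 0x681fa5), (nat_lit 0x688fac), (nat_lit 0x97721a), (nat_lit 0x977053), (nat_lit 0x4c8dec), (nat_lit 0x4c1de5), (nat_lit 0xfac4c1), (nat_lit 371511), (nat_lit 0x21a977), (nat_lit 371070), (nat_lit 0x21ab3e), (nat_lit 0x213b37), (nat_lit 0xfa5681), (nat_lit 342846), (nat_lit 0xde5688), (nat_lit 0x21397e), (nat_lit 342391), (nat_lit 0xdec4c8), (nat_lit 0x681dec), (nat_lit 0x688de5), (nat_lit 0x4c8fa5), (nat_lit 0x97e213), (nat_lit 0x97e05a), (nat_lit 0x4c1fac), (nat_lit 0xb37213), (nat_lit 0xb3705a), (nat_lit 0xfa54c8), (nat_lit 0xdec681)]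
noncomputable def Q3_lQ_W : List (List ℕ) := [[],
  [(nat_lit 0)],
  [(nat_lit 1)],
  [(nat_lit 2)],
  [(nat_lit 3)],
  [(nat_lit 4)],
  [(nat_lit 0), (nat_lit 1)],
  [(nat_lit 0), (nat_lit 2)],
  [(nat_lit 0), (nat_lit 3)],
  [(nat_lit 0), (nat_lit 4)],
  [(nat_lit 1), (nat_lit 2)],
  [(nat_lit 1), (nat_lit 3)],
  [(nat_lit 1), (nat_lit 4)],
  [(nat_lit 2), (nat_lit 3)],
  [(nat_lit 2), (nat_lit 4)],
  [(nat_lit 3), (nat_lit 2)],
  [(nat_lit 3), (nat_lit 4)],
  [(nat_lit 4), (nat_lit 1)],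
  [(nat_lit 0), (nat_lit 1), (nat_lit 2)],
  [(nat_lit 0), (nat_lit 1), (nat_lit 3)],
  [(nat_lit 0), (nat_lit 2), (nat_lit 4)],
  [(nat_lit 0), (nat_lit 3), (nat_lit 4)],
  [(nat_lit 1), (nat_lit 2), (nat_lit 3)],
  [(nat_lit 1), (nat_lit 2), (nat_lit 4)],
  [(nat_lit 1), (nat_lit 3), (nat_lit 2)],
  [(nat_lit 1), (nat_lit 3), (nat_lit 4)],
  [(nat_lit 2), (nat_lit 3), (nat_lit 4)],
  [(nat_lit 2), (nat_lit 4), (nat_lit 1)],
  [(nat_lit 3), (nat_lit 2), (nat_lit 4)],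
  [(nat_lit 3), (nat_lit 4), (nat_lit 1)],
  [(nat_lit 1), (nat_lit 2), (nat_lit 3), (nat_lit 4)],
  [(nat_lit 1), (nat_lit 3), (nat_lit 2), (nat_lit 4)]]
noncomputable def Q3_lQ_h (c : ℕ) : ℕ := Nat.mod c (nat_lit 122)
theorem Q3_lQ_E {G : Type*} [Group G] {R : ℕ → G → Prop} {z u v a b x : G} {H : Subgroup G}
    (M : Mdl Q3_o Q3_cs Q3_L R [z, u, v, a, b, x, x⁻¹] H) :
    EnumS R Q3_lQ (sp [z, u, v, a, b]) :=
  enumS_sp M.μ.1 (M.reps.tms M.μ.1 [(.v (nat_lit 0)), (.v (nat_lit 1)), (.v (nat_lit 2)), (.v (nat_lit 3)), (.v (nat_lit 4))] (cs' := [(nat_lit 0xde54c1), (nat_lit 0xb3e053), (nat_lit 0xb3e21a), (nat_lit 0x681fa5), (nat_lit 0x688fac)]) (by decide +kernel))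
    (Ws := Q3_lQ_W) (by decide +kernel) (by decide +kernel)
theorem Q3_lQ_c {G : Type*} [Group G] {R : ℕ → G → Prop} {z u v a b x : G} {H : Subgroup G}
    (M : Mdl Q3_o Q3_cs Q3_L R [z, u, v, a, b, x, x⁻¹] H) :
    #(sp [z, u, v, a, b]) = 32 :=
  (Q3_lQ_E M).card M.μ (h := Q3_lQ_h) (by decide +kernel)
noncomputable def Q3_hp_t0 : ST := (.node (nat_lit 32) (.node (nat_lit 23) (.node (nat_lit 16) (.leaf (nat_lit 16)) (.node (nat_lit 20) (.leaf (nat_lit 5)) (.leaf (nat_lit 10)))) (.node (nat_lit 29) (.node (nat_lit 25) (.leaf (nat_lit 4)) (.leaf (nat_lit 5))) (.node (nat_lit 30) (.leaf (nat_lit 10)) (.leaf (nat_lit 5))))) (.node (nat_lit 46) (.node (nat_lit 39) (.leaf (nat_lit 4)) (.node (nat_lit 44) (.leaf (nat_lit 5)) (.leaf (nat_lit 14)))) (.node (nat_lit 53) (.node (nat_lit 48) (.leaf (nat_lit 4)) (.leaf (nat_lit 11))) (.node (nat_lit 57) (.leaf (nat_lit 14)) (.leaf (nat_lit 11))))))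
noncomputable def Q3_hp_t1 : ST := (.node (nat_lit 35) (.node (nat_lit 27) (.node (nat_lit 8) (.leaf (nat_lit 3)) (.leaf (nat_lit 10))) (.node (nat_lit 28) (.leaf (nat_lit 2)) (.node (nat_lit 33) (.leaf (nat_lit 3)) (.leaf (nat_lit 4))))) (.node (nat_lit 59) (.node (nat_lit 56) (.leaf (nat_lit 2)) (.node (nat_lit 57) (.leaf (nat_lit 3)) (.leaf (nat_lit 2)))) (.node (nat_lit 64) (.leaf (nat_lit 3)) (.node (nat_lit 66) (.leaf (nat_lit 4)) (.leaf (nat_lit 2))))))
noncomputable def Q3_hp_F : Fm := (.allS Q3_lQ (.imp (.eq (.mul (.v (nat_lit 0)) (.v (nat_lit 0))) .one) (.or (.qf (.eq (.v (nat_lit 0)) .one)) (.or (.qf (.eq (.v (nat_lit 0)) (.v (nat_lit 1)))) (.exG Q3_lQ (fun cs => Q3_hp_t1.find (Nat.mod (nth (nat_lit 0) cs (nat_lit 0)) (nat_lit 71))) (.exG Q3_lQ (fun cs => Q3_hp_t0.find (Nat.mod (Nat.add (nth (nat_lit 0) cs (nat_lit 0)) (Nat.mul (nat_lit 7919) (nth (nat_lit 0) cs (nat_lit 1)))) (nat_lit 64))) (.qf (.and (.eq (.mul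 (.v (nat_lit 1)) (.v (nat_lit 1))) .one) (.and (.eq (.mul (.v (nat_lit 0)) (.v (nat_lit 0))) .one) (.and (.eq (.mul (.v (nat_lit 1)) (.v (nat_lit 2))) (.mul (.v (nat_lit 2)) (.v (nat_lit 1)))) (.and (.eq (.mul (.v (nat_lit 0)) (.v (nat_lit 2))) (.mul (.v (nat_lit 2)) (.v (nat_lit 0)))) (.not (.eq (.mul (.v (nat_lit 1)) (.v (nat_lit 0))) (.mul (.v (nat_lit 0)) (.v (nat_lit 1))))))))))))))))
theorem Q3_hp_chk : Fm.chk Q3_o Q3_hp_F Q3_cs = true := by decide +kernel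
theorem Q3_hp {G : Type*} [Group G] {R : ℕ → G → Prop} {z u v a b x : G} {H : Subgroup G}
    (M : Mdl Q3_o Q3_cs Q3_L R [z, u, v, a, b, x, x⁻¹] H) :
    ∀ y ∈ sp [z, u, v, a, b], y * y = 1 → y = 1 ∨ y = z ∨ (∃ c ∈ sp [z, u, v, a, b], ∃ d ∈ sp [z, u, v, a, b], c * c = 1 ∧ d * d = 1 ∧ c * y = y * c ∧ d * y = y * d ∧ c * d ≠ d * c) :=
  have h : ∀ y, InS R Q3_lQ y → y * y = 1 → y = 1 ∨ y = z ∨ (GoodS R Q3_lQ → Q3_lQ ≠ [] → ∃ c, InS R Q3_lQ c ∧ (GoodS R Q3_lQ → Q3_lQ ≠ [] → ∃ d, InS R Q3_lQ d ∧ c * c = 1 ∧ d * d = 1 ∧ c * y = y * c ∧ d * y = y * d ∧ c * d ≠ d * c)) :=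
    Fm.sound M.μ Q3_hp_F Q3_hp_chk M.reps
  (fun y h0 => (fun h1 => (Or.imp (fun h2 => h2) (fun h2 => (Or.imp (fun h3 => h3) (fun h3 => (Exists.imp (fun c h4 => ⟨(Q3_lQ_E M).iff.1 h4.1, (Exists.imp (fun d h5 => ⟨(Q3_lQ_E M).iff.1 h5.1, h5.2⟩) (h4.2 (Q3_lQ_E M).good (Q3_lQ_E M).ne))⟩) (h3 (Q3_lQ_E M).good (Q3_lQ_E M).ne))) h2)) ((h y ((Q3_lQ_E M).iff.2 h0)) h1))))
noncomputable def Q3_x_F : Fm := (.allS Q3_lQ (.and (.qf (.eq (.pw (.pw (.mul (.v (nat_lit 0)) (.v (nat_lit 6))) (nat_lit 4)) (nat_lit 3)) .one)) (.allS Q3_lQ (.imp (.eq (.mul (.v (nat_lit 0)) (.pw (.mul (.v (nat_lit 1)) (.v (nat_lit 7))) (nat_lit 4))) (.mul (.pw (.mul (.v (nat_lit 1)) (.v (nat_lit 7))) (nat_lit 4)) (.v (nat_lit 0)))) (.qf (.or (.eq (.v (nat_lit 0)) .one) (.eq (.v (nat_lit 0)) (.v (nat_lit 2)))))))))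
theorem Q3_x_chk : Fm.chk Q3_o Q3_x_F Q3_cs = true := by decide +kernel
theorem Q3_x {G : Type*} [Group G] {R : ℕ → G → Prop} {z u v a b x : G} {H : Subgroup G}
    (M : Mdl Q3_o Q3_cs Q3_L R [z, u, v, a, b, x, x⁻¹] H) :
    ∀ q ∈ sp [z, u, v, a, b], ((q * x) ^ 4) ^ 3 = 1 ∧ (∀ y ∈ sp [z, u, v, a, b], y * (q * x) ^ 4 = (q * x) ^ 4 * y → y = 1 ∨ y = z) :=
  have h : ∀ q, InS R Q3_lQ q → ((q * x) ^ 4) ^ 3 = 1 ∧ (∀ y, InS R Q3_lQ y → y * (q * x) ^ 4 = (q * x) ^ 4 * y → y = 1 ∨ y = z) :=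
    Fm.sound M.μ Q3_x_F Q3_x_chk M.reps
  (fun q h0 => (And.imp (fun h1 => h1) (fun h1 => (fun y h2 => (h1 y ((Q3_lQ_E M).iff.2 h2)))) (h q ((Q3_lQ_E M).iff.2 h0))))
noncomputable def Q3_a_F : Fm := (.qf (.and (.not (.eq (.v (nat_lit 3)) (.v (nat_lit 1)))) (.and (.not (.eq (.v (nat_lit 3)) (.mul (.v (nat_lit 1)) (.v (nat_lit 0))))) (.eq (.mul (.mul (.mul (.v (nat_lit 1)) (.mul (.mul (.v (nat_lit 6)) (.v (nat_lit 2))) (.v (nat_lit 5)))) (.inv (.v (nat_lit 1)))) (.inv (.mul (.mul (.v (nat_lit 6)) (.v (nat_lit 2))) (.v (nat_lit 5))))) (.v (nat_lit 0))))))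
theorem Q3_a_chk : Fm.chk Q3_o Q3_a_F Q3_cs = true := by decide +kernel
theorem Q3_a {G : Type*} [Group G] {R : ℕ → G → Prop} {z u v a b x : G} {H : Subgroup G}
    (M : Mdl Q3_o Q3_cs Q3_L R [z, u, v, a, b, x, x⁻¹] H) :
    a ≠ u ∧ a ≠ u * z ∧ ⁅u, x⁻¹ * v * x⁆ = z :=
  Fm.sound M.μ Q3_a_F Q3_a_chk M.reps
noncomputable def Q3_v_F : Fm := (.allS Q3_lQ (.imp (.eq (.mul (.v (nat_lit 0)) (.v (nat_lit 0))) .one) (.imp (.eq (.pw (.mul (.v (nat_lit 0)) (.v (nat_lit 6))) (nat_lit 3)) .one) (.imp (.eq (.mul (.v (nat_lit 2)) (.v (nat_lit 0))) (.mul (.v (nat_lit 0)) (.v (nat_lit 2)))) (.imp (.eq (.mul (.mul (.mul (.v (nat_lit 2)) (.mul (.mul (.v (nat_lit 6)) (.v (nat_lit 0))) (.v (nat_lit 7)))) (.inv (.v (nat_lit 2)))) (.inv (.mul (.mul (.v (nat_lit 6)) (.v (nat_lit 0))) (.v (nat_lit 7))))) (.v (nat_lit 1))) (.qf (.or (.eq (.v (nat_lit 0)) (.v (nat_lit 3))) (.eq (.v (nat_lit 0)) (.mul (.mul (.v (nat_lit 2)) (.v (nat_lit 3))) (.v (nat_lit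 1)))))))))))
theorem Q3_v_chk : Fm.chk Q3_o Q3_v_F Q3_cs = true := by decide +kernel
theorem Q3_v {G : Type*} [Group G] {R : ℕ → G → Prop} {z u v a b x : G} {H : Subgroup G}
    (M : Mdl Q3_o Q3_cs Q3_L R [z, u, v, a, b, x, x⁻¹] H) :
    ∀ y ∈ sp [z, u, v, a, b], y * y = 1 → (y * x) ^ 3 = 1 → u * y = y * u → ⁅u, x * y * x⁻¹⁆ = z → y = v ∨ y = u * v * z :=
  have h : ∀ y, InS R Q3_lQ y → y * y = 1 → (y * x) ^ 3 = 1 → u * y = y * u → ⁅u, x * y * x⁻¹⁆ = z → y = v ∨ y = u * v * z :=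
    Fm.sound M.μ Q3_v_F Q3_v_chk M.reps
  (fun y h0 => (h y ((Q3_lQ_E M).iff.2 h0)))
noncomputable def Q3_c_F : Fm := (.allS Q3_lQ (.allS Q3_lQ (.qf (.or (.eq (.mul (.mul (.mul (.v (nat_lit 1)) (.v (nat_lit 0))) (.inv (.v (nat_lit 1)))) (.inv (.v (nat_lit 0)))) .one) (.eq (.mul (.mul (.mul (.v (nat_lit 1)) (.v (nat_lit 0))) (.inv (.v (nat_lit 1)))) (.inv (.v (nat_lit 0)))) (.v (nat_lit 2)))))))
theorem Q3_c_chk : Fm.chk Q3_o Q3_c_F Q3_cs = true := by decide +kernel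
theorem Q3_c {G : Type*} [Group G] {R : ℕ → G → Prop} {z u v a b x : G} {H : Subgroup G}
    (M : Mdl Q3_o Q3_cs Q3_L R [z, u, v, a, b, x, x⁻¹] H) :
    ∀ c ∈ sp [z, u, v, a, b], ∀ d ∈ sp [z, u, v, a, b], ⁅c, d⁆ = 1 ∨ ⁅c, d⁆ = z :=
  have h : ∀ c, InS R Q3_lQ c → ∀ d, InS R Q3_lQ d → ⁅c, d⁆ = 1 ∨ ⁅c, d⁆ = z :=
    Fm.sound M.μ Q3_c_F Q3_c_chk M.reps
  (fun c h0 => (fun d h1 => ((h c ((Q3_lQ_E M).iff.2 h0)) d ((Q3_lQ_E M).iff.2 h1))))
noncomputable def Q3_s_F : Fm := (.allS Q3_lQ (.and (.qf (.or (.eq (.mul (.v (nat_lit 0)) (.v (nat_lit 0))) .one) (.eq (.mul (.v (nat_lit 0)) (.v (nat_lit 0))) (.v (nat_lit 1))))) (.and (.qf (.eq (.mul (.v (nat_lit 0)) (.v (nat_lit 1))) (.mul (.v (nat_lit 1)) (.v (nat_lit 0))))) (.imp (.eq (.mul (.v (nat_lit 0)) (.v (nat_lit 2))) (.mul (.v (nat_lit 2)) (.v (nat_lit 0)))) (.imp (.eq (.mul (.v (nat_lit 0)) (.v (nat_lit 3))) (.mul (.v (nat_lit 3)) (.v (nat_lit 0)))) (.imp (.eq (.mul (.v (nat_lit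 0)) (.v (nat_lit 4))) (.mul (.v (nat_lit 4)) (.v (nat_lit 0)))) (.imp (.eq (.mul (.v (nat_lit 0)) (.v (nat_lit 5))) (.mul (.v (nat_lit 5)) (.v (nat_lit 0)))) (.qf (.or (.eq (.v (nat_lit 0)) .one) (.eq (.v (nat_lit 0)) (.v (nat_lit 1))))))))))))
theorem Q3_s_chk : Fm.chk Q3_o Q3_s_F Q3_cs = true := by decide +kernel
theorem Q3_s {G : Type*} [Group G] {R : ℕ → G → Prop} {z u v a b x : G} {H : Subgroup G}
    (M : Mdl Q3_o Q3_cs Q3_L R [z, u, v, a, b, x, x⁻¹] H) :
    ∀ c ∈ sp [z, u, v, a, b], (c * c = 1 ∨ c * c = z) ∧ c * z = z * c ∧ (c * u = u * c → c * v = v * c → c * a = a * c → c * b = b * c → c = 1 ∨ c = z) :=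
  have h : ∀ c, InS R Q3_lQ c → (c * c = 1 ∨ c * c = z) ∧ c * z = z * c ∧ (c * u = u * c → c * v = v * c → c * a = a * c → c * b = b * c → c = 1 ∨ c = z) :=
    Fm.sound M.μ Q3_s_F Q3_s_chk M.reps
  (fun c h0 => (h c ((Q3_lQ_E M).iff.2 h0)))
noncomputable def Q3_n_F : Fm := (.qf (.not (.eq (.mul (.v (nat_lit 1)) (.v (nat_lit 4))) (.mul (.v (nat_lit 4)) (.v (nat_lit 1))))))
theorem Q3_n_chk : Fm.chk Q3_o Q3_n_F Q3_cs = true := by decide +kernel
theorem Q3_n {G : Type*} [Group G] {R : ℕ → G → Prop} {z u v a b x : G} {H : Subgroup G}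
    (M : Mdl Q3_o Q3_cs Q3_L R [z, u, v, a, b, x, x⁻¹] H) :
    u * b ≠ b * u :=
  Fm.sound M.μ Q3_n_F Q3_n_chk M.reps

end H10.X
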