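import Cfsg.Agent.H10.X4g

/-! Generated: the Sylow subgroup of type A8 and the element of order three. -/

set_option maxRecDepth 100000
set_option maxHeartbeats 4000000
set_option linter.unusedVariables false

open Subgroup
open scoped commutatorElement
namespace H10.X
open H0 H0.PM H16 H19

noncomputable def TA_r_R : List (List ℕ) := [[0,0],
  [1,1],
  [2,2],
  [3,3],
  [4,4],
  [5,5],
  [2,1,2,1],
  [1,0,1,0],
  [2,0,2,0],
  [3,0,3,0],
  [4,0,4,0],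
  [5,0,5,0],
  [3,1,3,1],
  [4,2,4,2],
  [4,3,4,3],
  [1,0,4,1,4],
  [2,0,3,2,3],
  [1,5,1,5],
  [5,1,3,5,3],
  [2,5,2,5],
  [5,2,4,5,4]]
theorem TA_r {G : Type*} [Group G] {z u v a b r : G}
    (t : TA z u v a b r) :
    Rels (nthG [z, u, v, a, b, r]) TA_r_R :=
  rels_of_eqs ((InvI.cons t.1 (InvI.cons t.2.1 (InvI.cons t.2.2.1 (InvI.cons t.2.2.2.1 (InvI.cons t.2.2.2.2.1 (InvI.cons t.2.2.2.2.2.1 InvI.nil)))))) : InvI [z, u, v, a, b, r] [(nat_lit 0), (nat_lit 1), (nat_lit 2), (nat_lit 3), (nat_lit 4), (nat_lit 5)])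
    (show AllEq [z, u, v, a, b, r] [((.mul (.v (nat_lit 0)) (.v (nat_lit 0))), .one), ((.mul (.v (nat_lit 1)) (.v (nat_lit 1))), .one), ((.mul (.v (nat_lit 2)) (.v (nat_lit 2))), .one), ((.mul (.v (nat_lit 3)) (.v (nat_lit 3))), .one), ((.mul (.v (nat_lit 4)) (.v (nat_lit 4))), .one), ((.mul (.v (nat_lit 5)) (.v (nat_lit 5))), .one), ((.mul (.v (nat_lit 1)) (.v (nat_lit 2))), (.mul (.v (nat_lit 2)) (.v (nat_lit 1)))), ((.mul (.v (nat_lit 0)) (.v (nat_lit 1))), (.mul (.v (nat_lit 1)) (.v (nat_lit 0)))), ((.mul (.v (nat_lit 0)) (.v (nat_lit 2))), (.mul (.v (nat_lit 2)) (.v (nat_lit 0)))), ((.mul (.v (nat_lit 0)) (.v (nat_lit 3))), (.mul (.v (nat_lit 3)) (.v (nat_lit 0)))), ((.mul (.v (nat_lit 0)) (.v (nat_lit 4))), (.mul (.v (nat_lit 4)) (.v (nat_lit 0)))), ((.mul (.v (nat_lit 0)) (.v (nat_lit 5))), (.mul (.v (nat_lit 5)) (.v (nat_lit 0)))), ((.mul (.v (nat_lit 1)) (.v (nat_lit 3))),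 (.mul (.v (nat_lit 3)) (.v (nat_lit 1)))), ((.mul (.v (nat_lit 2)) (.v (nat_lit 4))), (.mul (.v (nat_lit 4)) (.v (nat_lit 2)))), ((.mul (.v (nat_lit 3)) (.v (nat_lit 4))), (.mul (.v (nat_lit 4)) (.v (nat_lit 3)))), ((.mul (.mul (.v (nat_lit 4)) (.v (nat_lit 1))) (.v (nat_lit 4))), (.mul (.v (nat_lit 1)) (.v (nat_lit 0)))), ((.mul (.mul (.v (nat_lit 3)) (.v (nat_lit 2))) (.v (nat_lit 3))), (.mul (.v (nat_lit 2)) (.v (nat_lit 0)))), ((.mul (.v (nat_lit 5)) (.v (nat_lit 1))), (.mul (.v (nat_lit 1)) (.v (nat_lit 5)))), ((.mul (.mul (.v (nat_lit 3)) (.v (nat_lit 5))) (.v (nat_lit 3))), (.mul (.v (nat_lit 5)) (.v (nat_lit 1)))), ((.mul (.v (nat_lit 5)) (.v (nat_lit 2))), (.mul (.v (nat_lit 2)) (.v (nat_lit 5)))), ((.mul (.mul (.v (nat_lit 4)) (.v (nat_lit 5))) (.v (nat_lit 4))), (.mul (.v (nat_lit 5)) (.v (nat_lit 2))))] from t)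
    [(.v (nat_lit 0)), (.v (nat_lit 1)), (.v (nat_lit 2)), (.v (nat_lit 3)), (.v (nat_lit 4)), (.v (nat_lit 5))] (by decide +kernel)
noncomputable abbrev TA_o : Ops := pops (nat_lit 8) (nat_lit 3) (nat_lit 7) (nat_lit 0xfac688)
noncomputable def TA_cs : List ℕ := [(nat_lit 0xde54c1), (nat_lit 0xb3e053), (nat_lit 0xb3e21a), (nat_lit 0x681fa5), (nat_lit 0x688fac), (nat_lit 0x9774c1)]
noncomputable def TA_L : List (List ℕ) := [[(nat_lit 0xfac688), (nat_lit 0xde54c1), (nat_lit 0xb3e053), (nat_lit 0xb3e21a), (nat_lit 0x681fa5), (nat_lit 0x688fac), (nat_lit 371511), (nat_lit 371070)],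
  [(nat_lit 0xfac688), (nat_lit 0xb3e688), (nat_lit 0xde5688), (nat_lit 0x977688)],
  [(nat_lit 0xfac688), (nat_lit 0xdec4c8)]]
noncomputable def TA_WW : List (List (List ℕ)) := [[[],
  [(nat_lit 0)],
  [(nat_lit 1)],
  [(nat_lit 2)],
  [(nat_lit 3)],
  [(nat_lit 4)],
  [(nat_lit 1), (nat_lit 3)],
  [(nat_lit 2), (nat_lit 3)]],
  [[],
  [(nat_lit 0), (nat_lit 5)],
  [(nat_lit 0), (nat_lit 1), (nat_lit 2)],
  [(nat_lit 1), (nat_lit 2), (nat_lit 5)]],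
  [[],
  [(nat_lit 0), (nat_lit 3), (nat_lit 4)]]]
noncomputable def TA_b3_S0 : List ℕ := [nat_lit 0x1300000700000c004008, nat_lit 0x1700000700001000400a, nat_lit 0x1b00000b000010004006, nat_lit 0x1f000013000018004006, nat_lit 0x1f00000200001c00400a]
noncomputable def TA_b3_S : List (List ℕ) := [TA_b3_S0]
noncomputable def TA_b3_defs : List ℕ := [(nat_lit 0x20000400200002002000010010000100200000001000000000000000000000)]
noncomputable def TA_b3_recs : List ℕ := [(nat_lit 0x600007010000500007010000300006000000300005000000200004)]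
noncomputable def TA_b3_L0 : List ℕ := [nat_lit 0x700000100000b00000200000f000003, nat_lit 0x8000000000013000004000017000005, nat_lit 0x200000400000c00000000001b000006, nat_lit 0x600000500000a000006000010000000, nat_lit 0x100000200001400000100001f000007, nat_lit 0x500000300000e000007000018000001, nat_lit 0x1200000700000900000300001c000002, nat_lit 0x1100000600000d000005000020000004]
noncomputable def TA_b3_L : List (List ℕ) := [TA_b3_L0]
noncomputable def TA_b3_V : List ℕ := [(nat_lit 0x700000006000000050000000400000003000000020000000100000000)]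
noncomputable def TA_b3_D : H26.Dag := ⟨[], [[0,0],
  [1,1],
  [2,2],
  [2,1,2,1],
  [1,0,1,0],
  [2,0,2,0]], [], TA_b3_defs, TA_b3_recs⟩
theorem TA_b3_c : TA_b3_D.checkTab TA_b3_S 8 3 TA_b3_V TA_b3_L = true := by decide +kernel
theorem TA_b3 : Bound TA_r_R 3 8 :=
  bound_dag (Bound.zero TA_r_R) (K := 3) (J := [0,1,2,6,7,8]) (by decide +kernel) TA_b3_c (by decide +kernel)
noncomputable def TA_b5_S0 : List ℕ := [nat_lit 0x1, nat_lit 0x1, nat_lit 0x1, nat_lit 0x700000100000800400a, nat_lit 0x700000500000800400e, nat_lit 0x700000100000900000800c016, nat_lit 0xb00000100000c00400c, nat_lit 0xb00000900000c004010, nat_lit 0xb00000100000500000c00c014, nat_lit 0xf00000d00001000400c, nat_lit 0xf000015000010004010, nat_lit 0xf00000700000c004012, nat_lit 0xf00000d00001100001000c014]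
noncomputable def TA_b5_S : List (List ℕ) := [TA_b5_S0]
noncomputable def TA_b5_defs : List ℕ := [(nat_lit 0x400001004000000030000000000000)]
noncomputable def TA_b5_recs : List ℕ := [(nat_lit 0x10000300003030000200003020000300003000000300003010000200002020000200002000000200002020000100001010000100001000000100001020000000000010000000000000000000000)]
noncomputable def TA_b5_L0 : List ℕ := [nat_lit 0x100000000000500000000000900000000000700000100000b000002, nat_lit 0xd00000100001100000100001500000100000800000000000f000003, nat_lit 0x1900000200002100000200001d00000200002e00000300000c000000, nat_lit 0x2500000300003100000300002900000300002d000002000010000001]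
noncomputable def TA_b5_L : List (List ℕ) := [TA_b5_L0]
noncomputable def TA_b5_V : List ℕ := [(nat_lit 0x3000000020000000100000000)]
noncomputable def TA_b5_D : H26.Dag := ⟨[], [[0,0],
  [1,1],
  [2,2],
  [3,3],
  [4,4],
  [3,0,3,0],
  [4,0,4,0],
  [3,1,3,1],
  [4,2,4,2],
  [4,3,4,3],
  [1,0,4,1,4],
  [2,0,3,2,3]], [0,1,2], TA_b5_defs, TA_b5_recs⟩
theorem TA_b5_c : TA_b5_D.checkTab TA_b5_S 4 5 TA_b5_V TA_b5_L = true := by decide +kernel
theorem TA_b5 : Bound TA_r_R 5 32 :=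
  bound_dag TA_b3 (K := 5) (J := [0,1,2,3,4,9,10,12,13,14,15,16]) (by decide +kernel) TA_b5_c (by decide +kernel)
noncomputable def TA_b6_S0 : List ℕ := [nat_lit 0x1, nat_lit 0x1, nat_lit 0x1, nat_lit 0x1, nat_lit 0x1, nat_lit 0x700000100000800400c, nat_lit 0x700000500000800800e, nat_lit 0x7000009000008008012, nat_lit 0x1900000700000d000008008010, nat_lit 0x1d000007000011000008008014]
noncomputable def TA_b6_S : List (List ℕ) := [TA_b6_S0]
noncomputable def TA_b6_defs : List ℕ := [(nat_lit 0x50000000000000)]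
noncomputable def TA_b6_recs : List ℕ := [(nat_lit 0x40000100001030000100001020000100001010000100001000000100001040000000000030000000000020000000000010000000000000000000000)]
noncomputable def TA_b6_L0 : List ℕ := [nat_lit 0x100000000000500000000000900000000000d000000000011000000000007000001, nat_lit 0x1500000100001900000100001d000001000021000001000025000001000008000000]
noncomputable def TA_b6_L : List (List ℕ) := [TA_b6_L0]
noncomputable def TA_b6_V : List ℕ := [(nat_lit 0x100000000)]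
noncomputable def TA_b6_D : H26.Dag := ⟨[], [[0,0],
  [1,1],
  [2,2],
  [3,3],
  [4,4],
  [5,5],
  [5,0,5,0],
  [1,5,1,5],
  [5,1,3,5,3],
  [2,5,2,5],
  [5,2,4,5,4]], [0,1,2,3,4], TA_b6_defs, TA_b6_recs⟩
theorem TA_b6_c : TA_b6_D.checkTab TA_b6_S 2 6 TA_b6_V TA_b6_L = true := by decide +kernel
theorem TA_b6 : Bound TA_r_R 6 64 :=
  bound_dag TA_b5 (K := 6) (J := [0,1,2,3,4,5,11,17,18,19,20]) (by decide +kernel) TA_b6_c (by decide +kernel)
theorem TA_P : PModel (nat_lit 8) (nat_lit 3) (nat_lit 7) (nat_lit 0xfac688) TA_cs TA_r_R TA_L 64 :=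
  ⟨PkOK.of (by decide +kernel), by decide +kernel, by decide +kernel, TA_b6, ⟨TA_WW, by decide +kernel⟩,
    ⟨fun c => Nat.mod c (nat_lit 232), by decide +kernel⟩⟩
noncomputable def TA_soc_t0 : ST := (.node (nat_lit 94) (.node (nat_lit 34) (.node (nat_lit 6) (.node (nat_lit 3) (.node (nat_lit 2) (.leaf (nat_lit 4)) (.leaf (nat_lit 0))) (.node (nat_lit 5) (.leaf (nat_lit 4)) (.leaf (nat_lit 0)))) (.node (nat_lit 27) (.node (nat_lit 17) (.leaf (nat_lit 4)) (.leaf (nat_lit 0))) (.node (nat_lit 29) (.leaf (nat_lit 4)) (.leaf (nat_lit 0))))) (.node (nat_lit 78) (.node (nat_lit 65) (.node (nat_lit 36) (.leaf (nat_lit 32)) (.leaf (nat_lit 4))) (.node (nat_lit 67) (.leaf (nat_lit 0)) (.leaf (nat_lit 4)))) (.node (nat_lit 90) (.node (nat_lit 88) (.leaf (nat_lit 0)) (.leaf (nat_lit 4))) (.node (nat_lit 91) (.leaf (nat_lit 0)) (.leaf (nat_lit 4)))))) (.node (nat_lit 119) (.node (nat_lit 110)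 (.node (nat_lit 104) (.node (nat_lit 96) (.leaf (nat_lit 32)) (.leaf (nat_lit 4))) (.node (nat_lit 107) (.leaf (nat_lit 0)) (.leaf (nat_lit 4)))) (.node (nat_lit 114) (.node (nat_lit 112) (.leaf (nat_lit 32)) (.leaf (nat_lit 4))) (.node (nat_lit 115) (.leaf (nat_lit 0)) (.leaf (nat_lit 4))))) (.node (nat_lit 166) (.node (nat_lit 134) (.node (nat_lit 121) (.leaf (nat_lit 32)) (.leaf (nat_lit 4))) (.node (nat_lit 136) (.leaf (nat_lit 32)) (.leaf (nat_lit 4)))) (.node (nat_lit 190) (.node (nat_lit 176) (.leaf (nat_lit 0)) (.leaf (nat_lit 4))) (.node (nat_lit 195) (.leaf (nat_lit 0)) (.leaf (nat_lit 32)))))))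
noncomputable def TA_soc_t1 : ST := (.node (nat_lit 52) (.node (nat_lit 24) (.node (nat_lit 10) (.node (nat_lit 7) (.leaf (nat_lit 32)) (.leaf (nat_lit 8))) (.node (nat_lit 14) (.leaf (nat_lit 32)) (.node (nat_lit 15) (.leaf (nat_lit 8)) (.leaf (nat_lit 32))))) (.node (nat_lit 28) (.node (nat_lit 25) (.leaf (nat_lit 8)) (.leaf (nat_lit 4))) (.node (nat_lit 35) (.leaf (nat_lit 32)) (.node (nat_lit 38) (.leaf (nat_lit 0)) (.leaf (nat_lit 32)))))) (.node (nat_lit 102) (.node (nat_lit 70) (.node (nat_lit 53) (.leaf (nat_lit 4)) (.leaf (nat_lit 32))) (.node (nat_lit 74) (.leaf (nat_lit 8)) (.node (nat_lit 94) (.leaf (nat_lit 32)) (.leaf (nat_lit 8))))) (.node (nat_lit 125) (.node (nat_lit 122) (.leaf (nat_lit 32)) (.node (nat_lit 123) (.leaf (nat_lit 8)) (.leaf (nat_lit 32)))) (.node (nat_lit 128) (.leaf (nat_lit 8)) (.node (nat_lit 143) (.leaf (nat_lit 32)) (.leaf (nat_lit 8)))))))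
noncomputable def TA_soc_F : Fm := (.all TA_L (.or (.qf (.eq (.v (nat_lit 0)) .one)) (.exF TA_L (fun cs => TA_soc_t1.find (Nat.mod (nth (nat_lit 0) cs (nat_lit 0)) (nat_lit 146))) (.exF TA_L (fun cs => TA_soc_t0.find (Nat.mod (Nat.add (nth (nat_lit 0) cs (nat_lit 0)) (Nat.mul (nat_lit 7919) (nth (nat_lit 0) cs (nat_lit 1)))) (nat_lit 197))) (.qf (.or (.eq (.mul (.mul (.v (nat_lit 0)) (.v (nat_lit 2))) (.inv (.v (nat_lit 0)))) (.v (nat_lit 3))) (.or (.eq (.mul (.mul (.v (nat_lit 0)) (.v (nat_lit 2))) (.inv (.v (nat_lit 0)))) (.v (nat_lit 3))) (.or (.eq (.mul (.mul (.v (nat_lit 0)) (.mul (.mul (.mul (.v (nat_lit 2)) (.v (nat_lit 1))) (.inv (.v (nat_lit 2)))) (.inv (.v (nat_lit 1))))) (.inv (.v (nat_lit 0)))) (.v (nat_lit 3))) (.or (.eq (.mul (.mul (.v (nat_lit 0)) (.mul (.mul (.mul (.v (nat_lit 2)) (.v (nat_lit 1))) (.inv (.v (nat_lit 2)))) (.inv (.v (nat_lit 1))))) (.inv (.v (nat_lit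 0)))) (.v (nat_lit 3))) (.or (.eq (.mul (.mul (.mul (.mul (.mul (.mul (.v (nat_lit 2)) (.v (nat_lit 1))) (.inv (.v (nat_lit 2)))) (.inv (.v (nat_lit 1)))) (.v (nat_lit 0))) (.inv (.mul (.mul (.mul (.v (nat_lit 2)) (.v (nat_lit 1))) (.inv (.v (nat_lit 2)))) (.inv (.v (nat_lit 1)))))) (.inv (.v (nat_lit 0)))) (.v (nat_lit 3))) (.eq (.mul (.mul (.mul (.mul (.mul (.mul (.v (nat_lit 2)) (.v (nat_lit 1))) (.inv (.v (nat_lit 2)))) (.inv (.v (nat_lit 1)))) (.v (nat_lit 0))) (.inv (.mul (.mul (.mul (.v (nat_lit 2)) (.v (nat_lit 1))) (.inv (.v (nat_lit 2)))) (.inv (.v (nat_lit 1)))))) (.inv (.v (nat_lit 0)))) (.v (nat_lit 3)))))))))))))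
theorem TA_soc_chk : Fm.chk TA_o TA_soc_F TA_cs = true := by decide +kernel
theorem TA_soc {G : Type*} [Group G] {R : ℕ → G → Prop} {z u v a b r : G} {H : Subgroup G}
    (M : Mdl TA_o TA_cs TA_L R [z, u, v, a, b, r] H) :
    ∀ y_ ∈ H, y_ = 1 ∨ (∃ q_ ∈ H, ∃ k_ ∈ H, k_ * y_ * k_⁻¹ = z ∨ k_ * y_ * k_⁻¹ = z ∨ k_ * ⁅y_, q_⁆ * k_⁻¹ = z ∨ k_ * ⁅y_, q_⁆ * k_⁻¹ = z ∨ ⁅⁅y_, q_⁆, k_⁆ = z ∨ ⁅⁅y_, q_⁆, k_⁆ = z) :=
  have h : ∀ y_, InL TA_o R TA_L y_ → y_ = 1 ∨ (Good TA_o R TA_L → prods TA_o TA_L TA_o.one ≠ [] → ∃ q_, InL TA_o R TA_L q_ ∧ (Good TA_o R TA_L → prods TA_o TA_L TA_o.one ≠ [] → ∃ k_, InL TA_o R TA_L k_ ∧ (k_ * y_ * k_⁻¹ = z ∨ k_ * y_ * k_⁻¹ = z ∨ k_ * ⁅y_, q_⁆ * k_⁻¹ = z ∨ k_ * ⁅y_, q_⁆ * k_⁻¹ = z ∨ ⁅⁅y_, q_⁆, k_⁆ = z ∨ ⁅⁅y_, q_⁆, k_⁆ = z))) :=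
    Fm.sound M.μ TA_soc_F TA_soc_chk M.reps
  (fun y_ h0 => (Or.imp (fun h1 => h1) (fun h1 => (Exists.imp (fun q_ h2 => ⟨M.H.iff.1 h2.1, (Exists.imp (fun k_ h3 => ⟨M.H.iff.1 h3.1, h3.2⟩) (h2.2 M.H.good M.H.ne))⟩) (h1 M.H.good M.H.ne))) (h y_ (M.H.iff.2 h0))))
theorem TA_mdl {G : Type*} [Group G] {z u v a b r : G}
    (t : TA z u v a b r)
    (n1 : z ≠ 1) :
    ∃ R, Mdl TA_o TA_cs TA_L R [z, u, v, a, b, r] (sp [z, u, v, a, b, r]) ∧ #(sp [z, u, v, a, b, r]) = 64 :=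
  mdl_of TA_P rfl (TA_r t) (.v (nat_lit 0)) (.v (nat_lit 0)) n1 n1 
    fun _ ms _ M hl => match ms, M, (hl : ms.length = 6) with
      | [_, _, _, _, _, _], M, _ => TA_soc M
noncomputable def TA_lR0 : List ℕ := [(nat_lit 0xfac688), (nat_lit 0xde54c1), (nat_lit 0xb3e053), (nat_lit 0xb3e21a), (nat_lit 0x681fa5), (nat_lit 0x9774c1), (nat_lit 0x97721a), (nat_lit 0x977053), (nat_lit 0x4c8dec), (nat_lit 0xb3e688), (nat_lit 0xfac4c1), (nat_lit 371511), (nat_lit 0xde521a), (nat_lit 371070), (nat_lit 0xde5053), (nat_lit 0x213b37), (nat_lit 0x4c897e), (nat_lit 0x213dec), (nat_lit 0xde5688), (nat_lit 0x21397e), (nat_lit 0xfac053), (nat_lit 0xfac21a), (nat_lit 0x681b37), (nat_lit 372645), (nat_lit 0x681dec), (nat_lit 0x977688), (nat_lit 0x4c8fa5), (nat_lit 0x213fa5), (nat_lit 0x4c8b37), (nat_lit 372204), (nat_lit 0x68197e), (nat_lit 0xb3e4c1)]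
noncomputable def TA_lR0_W : List (List ℕ) := [[],
  [(nat_lit 0)],
  [(nat_lit 1)],
  [(nat_lit 2)],
  [(nat_lit 3)],
  [(nat_lit 4)],
  [(nat_lit 0), (nat_lit 1)],
  [(nat_lit 0), (nat_lit 2)],
  [(nat_lit 0), (nat_lit 3)],
  [(nat_lit 0), (nat_lit 4)],
  [(nat_lit 1), (nat_lit 2)],
  [(nat_lit 1), (nat_lit 3)],
  [(nat_lit 1), (nat_lit 4)],
  [(nat_lit 2), (nat_lit 3)],
  [(nat_lit 2), (nat_lit 4)],
  [(nat_lit 3), (nat_lit 2)],
  [(nat_lit 3), (nat_lit 4)],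
  [(nat_lit 4), (nat_lit 3)],
  [(nat_lit 0), (nat_lit 1), (nat_lit 2)],
  [(nat_lit 0), (nat_lit 1), (nat_lit 3)],
  [(nat_lit 0), (nat_lit 1), (nat_lit 4)],
  [(nat_lit 0), (nat_lit 2), (nat_lit 4)],
  [(nat_lit 0), (nat_lit 3), (nat_lit 4)],
  [(nat_lit 0), (nat_lit 4), (nat_lit 3)],
  [(nat_lit 1), (nat_lit 2), (nat_lit 3)],
  [(nat_lit 1), (nat_lit 2), (nat_lit 4)],
  [(nat_lit 1), (nat_lit 3), (nat_lit 2)],
  [(nat_lit 2), (nat_lit 3), (nat_lit 4)],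
  [(nat_lit 2), (nat_lit 4), (nat_lit 3)],
  [(nat_lit 3), (nat_lit 2), (nat_lit 4)],
  [(nat_lit 4), (nat_lit 3), (nat_lit 2)],
  [(nat_lit 0), (nat_lit 1), (nat_lit 2), (nat_lit 4)]]
noncomputable def TA_lR0_h (c : ℕ) : ℕ := Nat.mod c (nat_lit 122)
theorem TA_lR0_E {G : Type*} [Group G] {R : ℕ → G → Prop} {z u v a b r : G} {H : Subgroup G}
    (M : Mdl TA_o TA_cs TA_L R [z, u, v, a, b, r] H) :
    EnumS R TA_lR0 (sp [z, u, v, a, r]) :=
  enumS_sp M.μ.1 (M.reps.tms M.μ.1 [(.v (nat_lit 0)), (.v (nat_lit 1)), (.v (nat_lit 2)), (.v (nat_lit 3)), (.v (nat_lit 5))] (cs' := [(nat_lit 0xde54c1), (nat_lit 0xb3e053), (nat_lit 0xb3e21a), (nat_lit 0x681fa5), (nat_lit 0x9774c1)]) (by decide +kernel))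
    (Ws := TA_lR0_W) (by decide +kernel) (by decide +kernel)
theorem TA_lR0_c {G : Type*} [Group G] {R : ℕ → G → Prop} {z u v a b r : G} {H : Subgroup G}
    (M : Mdl TA_o TA_cs TA_L R [z, u, v, a, b, r] H) :
    #(sp [z, u, v, a, r]) = 32 :=
  (TA_lR0_E M).card M.μ (h := TA_lR0_h) (by decide +kernel)
noncomputable def TA_lR1 : List ℕ := [(nat_lit 0xfac688), (nat_lit 0xde54c1), (nat_lit 0xb3e053), (nat_lit 0xb3e21a), (nat_lit 0x681fa5), (nat_lit 0xb3e688), (nat_lit 0x97721a), (nat_lit 0x977053), (nat_lit 0x4c8dec), (nat_lit 0x9774c1), (nat_lit 0xfac4c1), (nat_lit 371511), (nat_lit 0xfac053), (nat_lit 371070), (nat_lit 0xfac21a), (nat_lit 0x213b37), (nat_lit 0x681b37), (nat_lit 372645), (nat_lit 0xde5688), (nat_lit 0x21397e), (nat_lit 0xde521a), (nat_lit 0xde5053), (nat_lit 0x4c897e), (nat_lit 0x213dec), (nat_lit 0x681dec), (nat_lit 0xb3e4c1), (nat_lit 0x4c8fa5), (nat_lit 372204),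 (nat_lit 0x68197e), (nat_lit 0x213fa5), (nat_lit 0x4c8b37), (nat_lit 0x977688)]
noncomputable def TA_lR1_W : List (List ℕ) := [[],
  [(nat_lit 0)],
  [(nat_lit 1)],
  [(nat_lit 2)],
  [(nat_lit 3)],
  [(nat_lit 4)],
  [(nat_lit 0), (nat_lit 1)],
  [(nat_lit 0), (nat_lit 2)],
  [(nat_lit 0), (nat_lit 3)],
  [(nat_lit 0), (nat_lit 4)],
  [(nat_lit 1), (nat_lit 2)],
  [(nat_lit 1), (nat_lit 3)],
  [(nat_lit 1), (nat_lit 4)],
  [(nat_lit 2), (nat_lit 3)],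
  [(nat_lit 2), (nat_lit 4)],
  [(nat_lit 3), (nat_lit 2)],
  [(nat_lit 3), (nat_lit 4)],
  [(nat_lit 4), (nat_lit 3)],
  [(nat_lit 0), (nat_lit 1), (nat_lit 2)],
  [(nat_lit 0), (nat_lit 1), (nat_lit 3)],
  [(nat_lit 0), (nat_lit 1), (nat_lit 4)],
  [(nat_lit 0), (nat_lit 2), (nat_lit 4)],
  [(nat_lit 0), (nat_lit 3), (nat_lit 4)],
  [(nat_lit 0), (nat_lit 4), (nat_lit 3)],
  [(nat_lit 1), (nat_lit 2), (nat_lit 3)],
  [(nat_lit 1), (nat_lit 2), (nat_lit 4)],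
  [(nat_lit 1), (nat_lit 3), (nat_lit 2)],
  [(nat_lit 2), (nat_lit 3), (nat_lit 4)],
  [(nat_lit 2), (nat_lit 4), (nat_lit 3)],
  [(nat_lit 3), (nat_lit 2), (nat_lit 4)],
  [(nat_lit 4), (nat_lit 3), (nat_lit 2)],
  [(nat_lit 0), (nat_lit 1), (nat_lit 2), (nat_lit 4)]]
noncomputable def TA_lR1_h (c : ℕ) : ℕ := Nat.mod c (nat_lit 122)
theorem TA_lR1_E {G : Type*} [Group G] {R : ℕ → G → Prop} {z u v a b r : G} {H : Subgroup G}
    (M : Mdl TA_o TA_cs TA_L R [z, u, v, a, b, r] H) :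
    EnumS R TA_lR1 (sp [z, u, v, a, r * z]) :=
  enumS_sp M.μ.1 (M.reps.tms M.μ.1 [(.v (nat_lit 0)), (.v (nat_lit 1)), (.v (nat_lit 2)), (.v (nat_lit 3)), (.mul (.v (nat_lit 5)) (.v (nat_lit 0)))] (cs' := [(nat_lit 0xde54c1), (nat_lit 0xb3e053), (nat_lit 0xb3e21a), (nat_lit 0x681fa5), (nat_lit 0xb3e688)]) (by decide +kernel))
    (Ws := TA_lR1_W) (by decide +kernel) (by decide +kernel)
theorem TA_lR1_c {G : Type*} [Group G] {R : ℕ → G → Prop} {z u v a b r : G} {H : Subgroup G}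
    (M : Mdl TA_o TA_cs TA_L R [z, u, v, a, b, r] H) :
    #(sp [z, u, v, a, r * z]) = 32 :=
  (TA_lR1_E M).card M.μ (h := TA_lR1_h) (by decide +kernel)
noncomputable def TA_4_F : Fm := (.allS TA_lR0 (.qf (.eq (.pw (.v (nat_lit 0)) (nat_lit 4)) .one)))
theorem TA_4_chk : Fm.chk TA_o TA_4_F TA_cs = true := by decide +kernel
theorem TA_4 {G : Type*} [Group G] {R : ℕ → G → Prop} {z u v a b r : G} {H : Subgroup G}
    (M : Mdl TA_o TA_cs TA_L R [z, u, v, a, b, r] H) :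
    ∀ y ∈ sp [z, u, v, a, r], y ^ 4 = 1 :=
  have h : ∀ y, InS R TA_lR0 y → y ^ 4 = 1 :=
    Fm.sound M.μ TA_4_F TA_4_chk M.reps
  (fun y h0 => (h y ((TA_lR0_E M).iff.2 h0)))
noncomputable def TA_e_F : Fm := (.qf (.and (.not (.eq (.v (nat_lit 1)) (.v (nat_lit 0)))) (.and (.eq (.mul (.v (nat_lit 3)) (.v (nat_lit 0))) (.mul (.v (nat_lit 0)) (.v (nat_lit 3)))) (.and (.eq (.mul (.v (nat_lit 3)) (.v (nat_lit 1))) (.mul (.v (nat_lit 1)) (.v (nat_lit 3)))) (.and (.eq (.mul (.v (nat_lit 2)) (.v (nat_lit 0))) (.mul (.v (nat_lit 0)) (.v (nat_lit 2)))) (.and (.eq (.mul (.v (nat_lit 2)) (.v (nat_lit 1))) (.mul (.v (nat_lit 1)) (.v (nat_lit 2)))) (.and (.eq (.mul (.v (nat_lit 5)) (.v (nat_lit 0))) (.mul (.v (nat_lit 0)) (.v (nat_lit 5)))) (.eq (.mul (.v (nat_lit 5)) (.v (nat_lit 1))) (.mul (.v (nat_lit 1)) (.v (nat_lit 5)))))))))))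
theorem TA_e_chk : Fm.chk TA_o TA_e_F TA_cs = true := by decide +kernel
theorem TA_e {G : Type*} [Group G] {R : ℕ → G → Prop} {z u v a b r : G} {H : Subgroup G}
    (M : Mdl TA_o TA_cs TA_L R [z, u, v, a, b, r] H) :
    u ≠ z ∧ a * z = z * a ∧ a * u = u * a ∧ v * z = z * v ∧ v * u = u * v ∧ r * z = z * r ∧ r * u = u * r :=
  Fm.sound M.μ TA_e_F TA_e_chk M.reps
noncomputable def TA_a_F : Fm := (.allS TA_lR0 (.imp (.eq (.mul (.v (nat_lit 0)) (.v (nat_lit 0))) .one) (.allS TA_lR0 (.imp (.eq (.mul (.v (nat_lit 0)) (.v (nat_lit 0))) .one) (.imp (.eq (.mul (.mul (.v (nat_lit 1)) (.v (nat_lit 0))) (.v (nat_lit 1))) (.mul (.v (nat_lit 0)) (.v (nat_lit 3)))) (.allS TA_lR0 (.imp (.eq (.mul (.v (nat_lit 0)) (.v (nat_lit 0))) .one) (.imp (.eq (.mul (.mul (.v (nat_lit 2)) (.v (nat_lit 0))) (.v (nat_lit 2))) (.mul (.v (nat_lit 0)) (.mul (.v (nat_lit 3)) (.v (nat_lit 4))))) (.qf (.or (.eq (.v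 (nat_lit 2)) (.v (nat_lit 6))) (.or (.eq (.v (nat_lit 2)) (.mul (.v (nat_lit 6)) (.v (nat_lit 3)))) (.or (.eq (.v (nat_lit 2)) (.mul (.v (nat_lit 6)) (.v (nat_lit 4)))) (.eq (.v (nat_lit 2)) (.mul (.v (nat_lit 6)) (.mul (.v (nat_lit 3)) (.v (nat_lit 4)))))))))))))))))
theorem TA_a_chk : Fm.chk TA_o TA_a_F TA_cs = true := by decide +kernel
theorem TA_a {G : Type*} [Group G] {R : ℕ → G → Prop} {z u v a b r : G} {H : Subgroup G}
    (M : Mdl TA_o TA_cs TA_L R [z, u, v, a, b, r] H) :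
    ∀ c ∈ sp [z, u, v, a, r], c * c = 1 → (∀ d ∈ sp [z, u, v, a, r], d * d = 1 → c * d * c = d * u → (∀ e ∈ sp [z, u, v, a, r], e * e = 1 → c * e * c = e * (z * u) → c = a ∨ c = a * z ∨ c = a * u ∨ c = a * (z * u))) :=
  have h : ∀ c, InS R TA_lR0 c → c * c = 1 → (∀ d, InS R TA_lR0 d → d * d = 1 → c * d * c = d * u → (∀ e, InS R TA_lR0 e → e * e = 1 → c * e * c = e * (z * u) → c = a ∨ c = a * z ∨ c = a * u ∨ c = a * (z * u))) :=
    Fm.sound M.μ TA_a_F TA_a_chk M.reps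
  (fun c h0 => (fun h1 => (fun d h2 => (fun h3 => (fun h4 => (fun e h5 => ((((((h c ((TA_lR0_E M).iff.2 h0)) h1) d ((TA_lR0_E M).iff.2 h2)) h3) h4) e ((TA_lR0_E M).iff.2 h5))))))))
noncomputable def TA_fix_F : Fm := (.qf (.and (.and (.eq (.mul (.v (nat_lit 2)) (.v (nat_lit 0))) (.mul (.v (nat_lit 0)) (.v (nat_lit 2)))) (.and (.eq (.mul (.v (nat_lit 2)) (.v (nat_lit 1))) (.mul (.v (nat_lit 1)) (.v (nat_lit 2)))) (.eq (.mul (.mul (.v (nat_lit 2)) (.v (nat_lit 3))) (.inv (.v (nat_lit 2)))) (.mul (.v (nat_lit 3)) (.v (nat_lit 0)))))) (.and (.and (.eq (.mul (.v (nat_lit 5)) (.v (nat_lit 0))) (.mul (.v (nat_lit 0)) (.v (nat_lit 5)))) (.and (.eq (.mul (.v (nat_lit 5)) (.v (nat_lit 1))) (.mul (.v (nat_lit 1)) (.v (nat_lit 5)))) (.eq (.mul (.mul (.v (nat_lit 5)) (.v (nat_lit 3))) (.inv (.v (nat_lit 5)))) (.mul (.v (nat_lit 3)) (.v (nat_lit 1)))))) (.and (.eq (.mul (.mul (.v (nat_lit 2))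 (.v (nat_lit 5))) (.v (nat_lit 0))) (.mul (.v (nat_lit 0)) (.mul (.v (nat_lit 2)) (.v (nat_lit 5))))) (.and (.eq (.mul (.mul (.v (nat_lit 2)) (.v (nat_lit 5))) (.v (nat_lit 1))) (.mul (.v (nat_lit 1)) (.mul (.v (nat_lit 2)) (.v (nat_lit 5))))) (.eq (.mul (.mul (.mul (.v (nat_lit 2)) (.v (nat_lit 5))) (.v (nat_lit 3))) (.inv (.mul (.v (nat_lit 2)) (.v (nat_lit 5))))) (.mul (.v (nat_lit 3)) (.mul (.v (nat_lit 0)) (.v (nat_lit 1))))))))))
theorem TA_fix_chk : Fm.chk TA_o TA_fix_F TA_cs = true := by decide +kernel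
theorem TA_fix {G : Type*} [Group G] {R : ℕ → G → Prop} {z u v a b r : G} {H : Subgroup G}
    (M : Mdl TA_o TA_cs TA_L R [z, u, v, a, b, r] H) :
    (v * z = z * v ∧ v * u = u * v ∧ v * a * v⁻¹ = a * z) ∧ (r * z = z * r ∧ r * u = u * r ∧ r * a * r⁻¹ = a * u) ∧ v * r * z = z * (v * r) ∧ v * r * u = u * (v * r) ∧ v * r * a * (v * r)⁻¹ = a * (z * u) :=
  Fm.sound M.μ TA_fix_F TA_fix_chk M.reps
noncomputable def TA_v_F : Fm := (.allS TA_lR0 (.imp (.eq (.mul (.v (nat_lit 0)) (.v (nat_lit 0))) .one) (.imp (.eq (.mul (.mul (.v (nat_lit 4)) (.v (nat_lit 0))) (.v (nat_lit 4))) (.mul (.v (nat_lit 0)) (.v (nat_lit 2)))) (.qf (.or (.eq (.v (nat_lit 0)) (.v (nat_lit 6))) (.or (.eq (.v (nat_lit 0)) (.mul (.v (nat_lit 6)) (.v (nat_lit 1)))) (.or (.eq (.v (nat_lit 0)) (.mul (.v (nat_lit 6)) (.v (nat_lit 2)))) (.eq (.v (nat_lit 0)) (.mul (.v (nat_lit 6)) (.mul (.v (nat_lit 1)) (.v (nat_lit 2))))))))))))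
theorem TA_v_chk : Fm.chk TA_o TA_v_F TA_cs = true := by decide +kernel
theorem TA_v {G : Type*} [Group G] {R : ℕ → G → Prop} {z u v a b r : G} {H : Subgroup G}
    (M : Mdl TA_o TA_cs TA_L R [z, u, v, a, b, r] H) :
    ∀ d ∈ sp [z, u, v, a, r], d * d = 1 → a * d * a = d * u → d = r ∨ d = r * z ∨ d = r * u ∨ d = r * (z * u) :=
  have h : ∀ d, InS R TA_lR0 d → d * d = 1 → a * d * a = d * u → d = r ∨ d = r * z ∨ d = r * u ∨ d = r * (z * u) :=
    Fm.sound M.μ TA_v_F TA_v_chk M.reps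
  (fun d h0 => (h d ((TA_lR0_E M).iff.2 h0)))
noncomputable def TA_w_F : Fm := (.allS TA_lR0 (.imp (.eq (.mul (.v (nat_lit 0)) (.v (nat_lit 0))) .one) (.imp (.eq (.mul (.mul (.v (nat_lit 4)) (.v (nat_lit 0))) (.v (nat_lit 4))) (.mul (.v (nat_lit 0)) (.mul (.v (nat_lit 1)) (.v (nat_lit 2))))) (.qf (.or (.eq (.v (nat_lit 0)) (.mul (.v (nat_lit 3)) (.v (nat_lit 6)))) (.or (.eq (.v (nat_lit 0)) (.mul (.mul (.v (nat_lit 3)) (.v (nat_lit 6))) (.v (nat_lit 1)))) (.or (.eq (.v (nat_lit 0)) (.mul (.mul (.v (nat_lit 3)) (.v (nat_lit 6))) (.v (nat_lit 2)))) (.eq (.v (nat_lit 0)) (.mul (.mul (.v (nat_lit 3)) (.v (nat_lit 6))) (.mul (.v (nat_lit 1)) (.v (nat_lit 2))))))))))))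
theorem TA_w_chk : Fm.chk TA_o TA_w_F TA_cs = true := by decide +kernel
theorem TA_w {G : Type*} [Group G] {R : ℕ → G → Prop} {z u v a b r : G} {H : Subgroup G}
    (M : Mdl TA_o TA_cs TA_L R [z, u, v, a, b, r] H) :
    ∀ e ∈ sp [z, u, v, a, r], e * e = 1 → a * e * a = e * (z * u) → e = v * r ∨ e = v * r * z ∨ e = v * r * u ∨ e = v * r * (z * u) :=
  have h : ∀ e, InS R TA_lR0 e → e * e = 1 → a * e * a = e * (z * u) → e = v * r ∨ e = v * r * z ∨ e = v * r * u ∨ e = v * r * (z * u) :=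
    Fm.sound M.μ TA_w_F TA_w_chk M.reps
  (fun e h0 => (h e ((TA_lR0_E M).iff.2 h0)))
noncomputable def TA_s_F : Fm := (.allS TA_lR0 (.imp (.eq (.mul (.v (nat_lit 0)) (.v (nat_lit 3))) (.mul (.v (nat_lit 3)) (.v (nat_lit 0)))) (.imp (.eq (.mul (.v (nat_lit 0)) (.v (nat_lit 4))) (.mul (.v (nat_lit 4)) (.v (nat_lit 0)))) (.imp (.eq (.mul (.v (nat_lit 0)) (.v (nat_lit 6))) (.mul (.v (nat_lit 6)) (.v (nat_lit 0)))) (.qf (.or (.eq (.v (nat_lit 0)) .one) (.or (.eq (.v (nat_lit 0)) (.v (nat_lit 1))) (.or (.eq (.v (nat_lit 0)) (.v (nat_lit 2))) (.eq (.v (nat_lit 0)) (.mul (.v (nat_lit 1)) (.v (nat_lit 2))))))))))))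
theorem TA_s_chk : Fm.chk TA_o TA_s_F TA_cs = true := by decide +kernel
theorem TA_s {G : Type*} [Group G] {R : ℕ → G → Prop} {z u v a b r : G} {H : Subgroup G}
    (M : Mdl TA_o TA_cs TA_L R [z, u, v, a, b, r] H) :
    ∀ s ∈ sp [z, u, v, a, r], s * v = v * s → s * a = a * s → s * r = r * s → s = 1 ∨ s = z ∨ s = u ∨ s = z * u :=
  have h : ∀ s, InS R TA_lR0 s → s * v = v * s → s * a = a * s → s * r = r * s → s = 1 ∨ s = z ∨ s = u ∨ s = z * u :=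
    Fm.sound M.μ TA_s_F TA_s_chk M.reps
  (fun s h0 => (h s ((TA_lR0_E M).iff.2 h0)))
noncomputable def TA_bad_F : Fm := (.allS TA_lR0 (.qf (.not (.eq (.mul (.mul (.v (nat_lit 0)) (.v (nat_lit 3))) (.inv (.v (nat_lit 0)))) (.mul (.mul (.v (nat_lit 3)) (.v (nat_lit 2))) (.v (nat_lit 1)))))))
theorem TA_bad_chk : Fm.chk TA_o TA_bad_F TA_cs = true := by decide +kernel
theorem TA_bad {G : Type*} [Group G] {R : ℕ → G → Prop} {z u v a b r : G} {H : Subgroup G}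
    (M : Mdl TA_o TA_cs TA_L R [z, u, v, a, b, r] H) :
    ∀ s ∈ sp [z, u, v, a, r], s * v * s⁻¹ ≠ v * u * z :=
  have h : ∀ s, InS R TA_lR0 s → s * v * s⁻¹ ≠ v * u * z :=
    Fm.sound M.μ TA_bad_F TA_bad_chk M.reps
  (fun s h0 => (h s ((TA_lR0_E M).iff.2 h0)))
noncomputable def TA_R1_F : Fm := (.allS TA_lR0 (.qf (.mem (.v (nat_lit 0)) TA_lR1)))
theorem TA_R1_chk : Fm.chk TA_o TA_R1_F TA_cs = true := by decide +kernel
theorem TA_R1 {G : Type*} [Group G] {R : ℕ → G → Prop} {z u v a b r : G} {H : Subgroup G}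
    (M : Mdl TA_o TA_cs TA_L R [z, u, v, a, b, r] H) :
    ∀ y ∈ sp [z, u, v, a, r], y ∈ sp [z, u, v, a, r * z] :=
  have h : ∀ y, InS R TA_lR0 y → InS R TA_lR1 (y) :=
    Fm.sound M.μ TA_R1_F TA_R1_chk M.reps
  (fun y h0 => ((TA_lR1_E M).iff.1 (h y ((TA_lR0_E M).iff.2 h0))))
noncomputable def TA_rz_f_F : Fm := (.qf (.and (.eq (.mul (.v (nat_lit 0)) (.v (nat_lit 0))) .one) (.and (.eq (.mul (.v (nat_lit 1)) (.v (nat_lit 1))) .one) (.and (.eq (.mul (.v (nat_lit 2)) (.v (nat_lit 2))) .one) (.and (.eq (.mul (.v (nat_lit 3)) (.v (nat_lit 3))) .one) (.and (.eq (.mul (.v (nat_lit 4)) (.v (nat_lit 4))) .one) (.and (.eq (.mul (.mul (.v (nat_lit 5)) (.v (nat_lit 0))) (.mul (.v (nat_lit 5)) (.v (nat_lit 0)))) .one) (.and (.eq (.mul (.v (nat_lit 1)) (.v (nat_lit 2))) (.mul (.v (nat_lit 2)) (.v (nat_lit 1)))) (.and (.eq (.mul (.v (nat_lit 0)) (.v (nat_lit 1))) (.mul (.v (nat_lit 1)) (.v (nat_lit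 0)))) (.and (.eq (.mul (.v (nat_lit 0)) (.v (nat_lit 2))) (.mul (.v (nat_lit 2)) (.v (nat_lit 0)))) (.and (.eq (.mul (.v (nat_lit 0)) (.v (nat_lit 3))) (.mul (.v (nat_lit 3)) (.v (nat_lit 0)))) (.and (.eq (.mul (.v (nat_lit 0)) (.v (nat_lit 4))) (.mul (.v (nat_lit 4)) (.v (nat_lit 0)))) (.and (.eq (.mul (.v (nat_lit 0)) (.mul (.v (nat_lit 5)) (.v (nat_lit 0)))) (.mul (.mul (.v (nat_lit 5)) (.v (nat_lit 0))) (.v (nat_lit 0)))) (.and (.eq (.mul (.v (nat_lit 1)) (.v (nat_lit 3))) (.mul (.v (nat_lit 3)) (.v (nat_lit 1)))) (.and (.eq (.mul (.v (nat_lit 2)) (.v (nat_lit 4))) (.mul (.v (nat_lit 4)) (.v (nat_lit 2)))) (.and (.eq (.mul (.v (nat_lit 3)) (.v (nat_lit 4))) (.mul (.v (nat_lit 4)) (.v (nat_lit 3)))) (.and (.eq (.mul (.mul (.v (nat_lit 4)) (.v (nat_lit 1))) (.v (nat_lit 4))) (.mul (.v (nat_lit 1)) (.v (nat_lit 0)))) (.and (.eq (.mul (.mul (.v (nat_lit 3)) (.v (nat_lit 2))) (.v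 (nat_lit 3))) (.mul (.v (nat_lit 2)) (.v (nat_lit 0)))) (.and (.eq (.mul (.mul (.v (nat_lit 5)) (.v (nat_lit 0))) (.v (nat_lit 1))) (.mul (.v (nat_lit 1)) (.mul (.v (nat_lit 5)) (.v (nat_lit 0))))) (.and (.eq (.mul (.mul (.v (nat_lit 3)) (.mul (.v (nat_lit 5)) (.v (nat_lit 0)))) (.v (nat_lit 3))) (.mul (.mul (.v (nat_lit 5)) (.v (nat_lit 0))) (.v (nat_lit 1)))) (.and (.eq (.mul (.mul (.v (nat_lit 5)) (.v (nat_lit 0))) (.v (nat_lit 2))) (.mul (.v (nat_lit 2)) (.mul (.v (nat_lit 5)) (.v (nat_lit 0))))) (.eq (.mul (.mul (.v (nat_lit 4)) (.mul (.v (nat_lit 5)) (.v (nat_lit 0)))) (.v (nat_lit 4))) (.mul (.mul (.v (nat_lit 5)) (.v (nat_lit 0))) (.v (nat_lit 2)))))))))))))))))))))))))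
theorem TA_rz_f_chk : Fm.chk TA_o TA_rz_f_F TA_cs = true := by decide +kernel
theorem TA_rz_f {G : Type*} [Group G] {R : ℕ → G → Prop} {z u v a b r : G} {H : Subgroup G}
    (M : Mdl TA_o TA_cs TA_L R [z, u, v, a, b, r] H) :
    z * z = 1 ∧ u * u = 1 ∧ v * v = 1 ∧ a * a = 1 ∧ b * b = 1 ∧ r * z * (r * z) = 1 ∧ u * v = v * u ∧ z * u = u * z ∧ z * v = v * z ∧ z * a = a * z ∧ z * b = b * z ∧ z * (r * z) = r * z * z ∧ u * a = a * u ∧ v * b = b * v ∧ a * b = b * a ∧ b * u * b = u * z ∧ a * v * a = v * z ∧ r * z * u = u * (r * z) ∧ a * (r * z) * a = r * z * u ∧ r * z * v = v * (r * z) ∧ b * (r * z) * b = r * z * v :=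
  Fm.sound M.μ TA_rz_f_F TA_rz_f_chk M.reps
theorem TA_rz {G : Type*} [Group G] {R : ℕ → G → Prop} {z u v a b r : G} {H : Subgroup G}
    (M : Mdl TA_o TA_cs TA_L R [z, u, v, a, b, r] H) :
    TA z u v a b (r * z) :=
  have h := TA_rz_f M
  ⟨h.1, h.2.1, h.2.2.1, h.2.2.2.1, h.2.2.2.2.1, h.2.2.2.2.2.1, h.2.2.2.2.2.2.1, h.2.2.2.2.2.2.2.1, h.2.2.2.2.2.2.2.2.1, h.2.2.2.2.2.2.2.2.2.1, h.2.2.2.2.2.2.2.2.2.2.1, h.2.2.2.2.2.2.2.2.2.2.2.1, h.2.2.2.2.2.2.2.2.2.2.2.2.1, h.2.2.2.2.2.2.2.2.2.2.2.2.2.1, h.2.2.2.2.2.2.2.2.2.2.2.2.2.2.1, h.2.2.2.2.2.2.2.2.2.2.2.2.2.2.2.1, h.2.2.2.2.2.2.2.2.2.2.2.2.2.2.2.2.1, h.2.2.2.2.2.2.2.2.2.2.2.2.2.2.2.2.2.1, h.2.2.2.2.2.2.2.2.2.2.2.2.2.2.2.2.2.2.1, h.2.2.2.2.2.2.2.2.2.2.2.2.2.2.2.2.2.2.2.1, h.2.2.2.2.2.2.2.2.2.2.2.2.2.2.2.2.2.2.2.2, trivial⟩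
noncomputable def pa01_r_R : List (List ℕ) := [[0,0],
  [1,1],
  [2,2],
  [3,3],
  [4,4],
  [5,5],
  [6,7],
  [7,6],
  [2,1,2,1],
  [1,0,1,0],
  [2,0,2,0],
  [3,0,3,0],
  [4,0,4,0],
  [5,0,5,0],
  [3,1,3,1],
  [4,2,4,2],
  [4,3,4,3],
  [1,0,4,1,4],
  [2,0,3,2,3],
  [1,5,1,5],
  [5,1,3,5,3],
  [2,5,2,5],
  [5,2,4,5,4],
  [6,6,6],
  [1,7,0,6],
  [0,1,7,1,6],
  [3,7,3,6],
  [5,7,2,6],
  [2,5,0,7,5,6]]
theorem pa01_r {G : Type*} [Group G] {z u v a b r p : G}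
    (t : TA z u v a b r)
    (h : P0 z u p)
    (e0 : p * a * p⁻¹ = a)
    (e1 : p * v * p⁻¹ = r)
    (e2 : p * r * p⁻¹ = v * r * z) :
    Rels (nthG [z, u, v, a, b, r, p, p⁻¹]) pa01_r_R :=
  rels_of_eqs ((InvI.cons t.1 (InvI.cons t.2.1 (InvI.cons t.2.2.1 (InvI.cons t.2.2.2.1 (InvI.cons t.2.2.2.2.1 (InvI.cons t.2.2.2.2.2.1 InvI.nil)))))) : InvI [z, u, v, a, b, r, p] [(nat_lit 0), (nat_lit 1), (nat_lit 2), (nat_lit 3), (nat_lit 4), (nat_lit 5)])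
    (AllEq.append (show AllEq [z, u, v, a, b, r, p] [((.mul (.v (nat_lit 0)) (.v (nat_lit 0))), .one), ((.mul (.v (nat_lit 1)) (.v (nat_lit 1))), .one), ((.mul (.v (nat_lit 2)) (.v (nat_lit 2))), .one), ((.mul (.v (nat_lit 3)) (.v (nat_lit 3))), .one), ((.mul (.v (nat_lit 4)) (.v (nat_lit 4))), .one), ((.mul (.v (nat_lit 5)) (.v (nat_lit 5))), .one), ((.mul (.v (nat_lit 1)) (.v (nat_lit 2))), (.mul (.v (nat_lit 2)) (.v (nat_lit 1)))), ((.mul (.v (nat_lit 0)) (.v (nat_lit 1))), (.mul (.v (nat_lit 1)) (.v (nat_lit 0)))), ((.mul (.v (nat_lit 0)) (.v (nat_lit 2))), (.mul (.v (nat_lit 2)) (.v (nat_lit 0)))), ((.mul (.v (nat_lit 0)) (.v (nat_lit 3))), (.mul (.v (nat_lit 3)) (.v (nat_lit 0)))), ((.mul (.v (nat_lit 0)) (.v (nat_lit 4))), (.mul (.v (nat_lit 4)) (.v (nat_lit 0)))), ((.mul (.v (nat_lit 0)) (.v (nat_lit 5))), (.mul (.v (nat_lit 5)) (.v (nat_lit 0)))), ((.mul (.v (nat_lit 1))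 (.v (nat_lit 3))), (.mul (.v (nat_lit 3)) (.v (nat_lit 1)))), ((.mul (.v (nat_lit 2)) (.v (nat_lit 4))), (.mul (.v (nat_lit 4)) (.v (nat_lit 2)))), ((.mul (.v (nat_lit 3)) (.v (nat_lit 4))), (.mul (.v (nat_lit 4)) (.v (nat_lit 3)))), ((.mul (.mul (.v (nat_lit 4)) (.v (nat_lit 1))) (.v (nat_lit 4))), (.mul (.v (nat_lit 1)) (.v (nat_lit 0)))), ((.mul (.mul (.v (nat_lit 3)) (.v (nat_lit 2))) (.v (nat_lit 3))), (.mul (.v (nat_lit 2)) (.v (nat_lit 0)))), ((.mul (.v (nat_lit 5)) (.v (nat_lit 1))), (.mul (.v (nat_lit 1)) (.v (nat_lit 5)))), ((.mul (.mul (.v (nat_lit 3)) (.v (nat_lit 5))) (.v (nat_lit 3))), (.mul (.v (nat_lit 5)) (.v (nat_lit 1)))), ((.mul (.v (nat_lit 5)) (.v (nat_lit 2))), (.mul (.v (nat_lit 2)) (.v (nat_lit 5)))), ((.mul (.mul (.v (nat_lit 4)) (.v (nat_lit 5))) (.v (nat_lit 4))), (.mul (.v (nat_lit 5)) (.v (nat_lit 2))))] from t)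
    (AllEq.append (show AllEq [z, u, v, a, b, r, p] [((.pw (.v (nat_lit 6)) (nat_lit 3)), .one), ((.mul (.mul (.v (nat_lit 6)) (.v (nat_lit 0))) (.inv (.v (nat_lit 6)))), (.v (nat_lit 1))), ((.mul (.mul (.v (nat_lit 6)) (.v (nat_lit 1))) (.inv (.v (nat_lit 6)))), (.mul (.v (nat_lit 0)) (.v (nat_lit 1))))] from h)
    (AllEq.append (show AllEq [z, u, v, a, b, r, p] [((.mul (.mul (.v (nat_lit 6)) (.v (nat_lit 3))) (.inv (.v (nat_lit 6)))), (.v (nat_lit 3)))] from ⟨e0, trivial⟩)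
    (AllEq.append (show AllEq [z, u, v, a, b, r, p] [((.mul (.mul (.v (nat_lit 6)) (.v (nat_lit 2))) (.inv (.v (nat_lit 6)))), (.v (nat_lit 5)))] from ⟨e1, trivial⟩)
    (show AllEq [z, u, v, a, b, r, p] [((.mul (.mul (.v (nat_lit 6)) (.v (nat_lit 5))) (.inv (.v (nat_lit 6)))), (.mul (.mul (.v (nat_lit 2)) (.v (nat_lit 5))) (.v (nat_lit 0))))] from ⟨e2, trivial⟩)))))
    [(.v (nat_lit 0)), (.v (nat_lit 1)), (.v (nat_lit 2)), (.v (nat_lit 3)), (.v (nat_lit 4)), (.v (nat_lit 5)), (.v (nat_lit 6)), (.inv (.v (nat_lit 6)))] (by decide +kernel)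
noncomputable def pa01_0_S0 : List ℕ := [nat_lit 0x17000014006018, nat_lit 0x1b00000700000c004012, nat_lit 0x1f000007000010004014, nat_lit 0x2b00000b00001800801a, nat_lit 0x2f00000f00001400001e, nat_lit 0x33000030006018, nat_lit 0x3b00000200003800401e, nat_lit 0x3f00001b000020004010, nat_lit 0x3f000006000028004014, nat_lit 0x4300001f000024008016, nat_lit 0x3b000017000008000024000025014020, nat_lit 0x2900001a004018, nat_lit 0x4700000a00003000001a, nat_lit 0x4700004400002e00003700001100e020, nat_lit 0x1e00004800003200003500004701001c, nat_lit 0x9000039000022000000, nat_lit 0x1000003e000027000004, nat_lit 0x1700004200002c00000c, nat_lit 0x4600000e000000, nat_lit 0x1600001200000100004900003c000020, nat_lit 0x4400002900004d00003300401e, nat_lit 0x1000005100001f000004, nat_lit 0x56000007000000]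
noncomputable def pa01_0_S : List (List ℕ) := [pa01_0_S0]
noncomputable def pa01_0_defs : List ℕ := [(nat_lit 0x6000070050000700200006005000050020000400700003006000030070000200200002005000010020000100100001007000000060000000200000001000000000000000000000)]
noncomputable def pa01_0_recs : List ℕ := [(nat_lit 0xff0000100000ff0000300007020000e0000c000000500005ff0000a00005ff0000200000ff0000900003ff000070000f000000b00011010000b00011060000d0001006000100000e02000080001000000090000f01000070000f070000d0000e070000b0000c05000040000b00000050000a000000300007000000200006070000400005)]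
noncomputable def pa01_0_T : List (List ℕ × ℕ) := [([0], (nat_lit 0x59))]
noncomputable def pa01_0_D : H26.Dag := ⟨[0,1,2,3,4,5,7,6], [[0,0],
  [1,1],
  [2,2],
  [3,3],
  [4,4],
  [5,5],
  [6,7],
  [7,6],
  [2,1,2,1],
  [1,0,1,0],
  [2,0,2,0],
  [2,5,2,5],
  [6,6,6],
  [1,7,0,6],
  [0,1,7,1,6],
  [5,7,2,6],
  [2,5,0,7,5,6]], [], pa01_0_defs, pa01_0_recs⟩
theorem pa01_0_c : pa01_0_D.check pa01_0_S pa01_0_T = true := by decide +kernel
theorem pa01_0 {G : Type*} [Group G] {g : ℕ → G} (hR : Rels g pa01_r_R) {H : Subgroup G}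
    (hH : ∀ k ∈ [], g k ∈ H) : evA g [0] ∈ H :=
  mem_dag (K := 8) (J := [0,1,2,3,4,5,6,7,8,9,10,21,23,24,25,27,28]) (D := pa01_0_D) (by decide +kernel) pa01_0_c (by decide +kernel) hR hH
theorem pa01 {G : Type*} [Group G] {z u v a b r p : G}
    (t : TA z u v a b r)
    (h : P0 z u p)
    (e0 : p * a * p⁻¹ = a)
    (e1 : p * v * p⁻¹ = r)
    (e2 : p * r * p⁻¹ = v * r * z) :
    z = 1 :=
  mul_inv_eq_one.1 ((evA_eq_tm ((InvI.cons t.1 (InvI.cons t.2.1 (InvI.cons t.2.2.1 (InvI.cons t.2.2.2.1 (InvI.cons t.2.2.2.2.1 (InvI.cons t.2.2.2.2.2.1 InvI.nil)))))) : InvI [z, u, v, a, b, r, p] [(nat_lit 0), (nat_lit 1), (nat_lit 2), (nat_lit 3), (nat_lit 4), (nat_lit 5)]) [(.v (nat_lit 0)), (.v (nat_lit 1)), (.v (nat_lit 2)), (.v (nat_lit 3)), (.v (nat_lit 4)), (.v (nat_lit 5)), (.v (nat_lit 6)), (.inv (.v (nat_lit 6)))] [0] (.mul (.v (nat_lit 0)) (.inv .one)) (by decide +kernel)).symm.trans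 (Subgroup.mem_bot.1 (pa01_0 (pa01_r t h e0 e1 e2) (H := ⊥) (List.forall_mem_nil _))))
noncomputable def pa02_r_R : List (List ℕ) := [[0,0],
  [1,1],
  [2,2],
  [3,3],
  [4,4],
  [5,5],
  [6,7],
  [7,6],
  [2,1,2,1],
  [1,0,1,0],
  [2,0,2,0],
  [3,0,3,0],
  [4,0,4,0],
  [5,0,5,0],
  [3,1,3,1],
  [4,2,4,2],
  [4,3,4,3],
  [1,0,4,1,4],
  [2,0,3,2,3],
  [1,5,1,5],
  [5,1,3,5,3],
  [2,5,2,5],
  [5,2,4,5,4],
  [6,6,6],
  [1,7,0,6],
  [0,1,7,1,6],
  [3,7,3,6],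
  [5,7,2,6],
  [2,5,1,7,5,6]]
theorem pa02_r {G : Type*} [Group G] {z u v a b r p : G}
    (t : TA z u v a b r)
    (h : P0 z u p)
    (e0 : p * a * p⁻¹ = a)
    (e1 : p * v * p⁻¹ = r)
    (e2 : p * r * p⁻¹ = v * r * u) :
    Rels (nthG [z, u, v, a, b, r, p, p⁻¹]) pa02_r_R :=
  rels_of_eqs ((InvI.cons t.1 (InvI.cons t.2.1 (InvI.cons t.2.2.1 (InvI.cons t.2.2.2.1 (InvI.cons t.2.2.2.2.1 (InvI.cons t.2.2.2.2.2.1 InvI.nil)))))) : InvI [z, u, v, a, b, r, p] [(nat_lit 0), (nat_lit 1), (nat_lit 2), (nat_lit 3), (nat_lit 4), (nat_lit 5)])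
    (AllEq.append (show AllEq [z, u, v, a, b, r, p] [((.mul (.v (nat_lit 0)) (.v (nat_lit 0))), .one), ((.mul (.v (nat_lit 1)) (.v (nat_lit 1))), .one), ((.mul (.v (nat_lit 2)) (.v (nat_lit 2))), .one), ((.mul (.v (nat_lit 3)) (.v (nat_lit 3))), .one), ((.mul (.v (nat_lit 4)) (.v (nat_lit 4))), .one), ((.mul (.v (nat_lit 5)) (.v (nat_lit 5))), .one), ((.mul (.v (nat_lit 1)) (.v (nat_lit 2))), (.mul (.v (nat_lit 2)) (.v (nat_lit 1)))), ((.mul (.v (nat_lit 0)) (.v (nat_lit 1))), (.mul (.v (nat_lit 1)) (.v (nat_lit 0)))), ((.mul (.v (nat_lit 0)) (.v (nat_lit 2))), (.mul (.v (nat_lit 2)) (.v (nat_lit 0)))), ((.mul (.v (nat_lit 0)) (.v (nat_lit 3))), (.mul (.v (nat_lit 3)) (.v (nat_lit 0)))), ((.mul (.v (nat_lit 0)) (.v (nat_lit 4))), (.mul (.v (nat_lit 4)) (.v (nat_lit 0)))), ((.mul (.v (nat_lit 0)) (.v (nat_lit 5))), (.mul (.v (nat_lit 5)) (.v (nat_lit 0)))), ((.mul (.v (nat_lit 1))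 (.v (nat_lit 3))), (.mul (.v (nat_lit 3)) (.v (nat_lit 1)))), ((.mul (.v (nat_lit 2)) (.v (nat_lit 4))), (.mul (.v (nat_lit 4)) (.v (nat_lit 2)))), ((.mul (.v (nat_lit 3)) (.v (nat_lit 4))), (.mul (.v (nat_lit 4)) (.v (nat_lit 3)))), ((.mul (.mul (.v (nat_lit 4)) (.v (nat_lit 1))) (.v (nat_lit 4))), (.mul (.v (nat_lit 1)) (.v (nat_lit 0)))), ((.mul (.mul (.v (nat_lit 3)) (.v (nat_lit 2))) (.v (nat_lit 3))), (.mul (.v (nat_lit 2)) (.v (nat_lit 0)))), ((.mul (.v (nat_lit 5)) (.v (nat_lit 1))), (.mul (.v (nat_lit 1)) (.v (nat_lit 5)))), ((.mul (.mul (.v (nat_lit 3)) (.v (nat_lit 5))) (.v (nat_lit 3))), (.mul (.v (nat_lit 5)) (.v (nat_lit 1)))), ((.mul (.v (nat_lit 5)) (.v (nat_lit 2))), (.mul (.v (nat_lit 2)) (.v (nat_lit 5)))), ((.mul (.mul (.v (nat_lit 4)) (.v (nat_lit 5))) (.v (nat_lit 4))), (.mul (.v (nat_lit 5)) (.v (nat_lit 2))))] from t)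
    (AllEq.append (show AllEq [z, u, v, a, b, r, p] [((.pw (.v (nat_lit 6)) (nat_lit 3)), .one), ((.mul (.mul (.v (nat_lit 6)) (.v (nat_lit 0))) (.inv (.v (nat_lit 6)))), (.v (nat_lit 1))), ((.mul (.mul (.v (nat_lit 6)) (.v (nat_lit 1))) (.inv (.v (nat_lit 6)))), (.mul (.v (nat_lit 0)) (.v (nat_lit 1))))] from h)
    (AllEq.append (show AllEq [z, u, v, a, b, r, p] [((.mul (.mul (.v (nat_lit 6)) (.v (nat_lit 3))) (.inv (.v (nat_lit 6)))), (.v (nat_lit 3)))] from ⟨e0, trivial⟩)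
    (AllEq.append (show AllEq [z, u, v, a, b, r, p] [((.mul (.mul (.v (nat_lit 6)) (.v (nat_lit 2))) (.inv (.v (nat_lit 6)))), (.v (nat_lit 5)))] from ⟨e1, trivial⟩)
    (show AllEq [z, u, v, a, b, r, p] [((.mul (.mul (.v (nat_lit 6)) (.v (nat_lit 5))) (.inv (.v (nat_lit 6)))), (.mul (.mul (.v (nat_lit 2)) (.v (nat_lit 5))) (.v (nat_lit 1))))] from ⟨e2, trivial⟩)))))
    [(.v (nat_lit 0)), (.v (nat_lit 1)), (.v (nat_lit 2)), (.v (nat_lit 3)), (.v (nat_lit 4)), (.v (nat_lit 5)), (.v (nat_lit 6)), (.inv (.v (nat_lit 6)))] (by decide +kernel)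
noncomputable def pa02_0_S0 : List ℕ := [nat_lit 0xf00000b00000700c010, nat_lit 0x1700001300000200c012, nat_lit 0x1b000007000005008014, nat_lit 0x2300001f00000700c016, nat_lit 0x2b000027008018, nat_lit 0x2f00000e00001100801c, nat_lit 0x3300000b00001c008012, nat_lit 0x3b000037008018, nat_lit 0x3700000700002800001c, nat_lit 0x3f00001a00001b00001d00c01a, nat_lit 0x1600002b00002100003c00002500401e, nat_lit 0x1900004000002900002f00002300001f01201e, nat_lit 0x800002d00000a000004, nat_lit 0x32000006000000]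
noncomputable def pa02_0_S : List (List ℕ) := [pa02_0_S0]
noncomputable def pa02_0_defs : List ℕ := [(nat_lit 0x70000c0060000d0060000100000002007000080060000900600000002000070050000100000001001000040000000300200002001000010020000000000000)]
noncomputable def pa02_0_recs : List ℕ := [(nat_lit 0xff0000500000ff0000100006050000f0000b010000e0000f05000090000d06000010000e01000060000c020000a0000b06000000000a050000000008020000500006000000000005010000000003)]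
noncomputable def pa02_0_T : List (List ℕ × ℕ) := [([0], (nat_lit 0x35))]
noncomputable def pa02_0_D : H26.Dag := ⟨[0,1,2,3,4,5,7,6], [[0,0],
  [1,1],
  [2,2],
  [3,3],
  [4,4],
  [5,5],
  [6,7],
  [7,6],
  [2,1,2,1],
  [1,0,1,0],
  [2,0,2,0],
  [2,5,2,5],
  [6,6,6],
  [0,1,7,1,6],
  [5,7,2,6],
  [2,5,1,7,5,6]], [], pa02_0_defs, pa02_0_recs⟩
theorem pa02_0_c : pa02_0_D.check pa02_0_S pa02_0_T = true := by decide +kernel
theorem pa02_0 {G : Type*} [Group G] {g : ℕ → G} (hR : Rels g pa02_r_R) {H : Subgroup G}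
    (hH : ∀ k ∈ [], g k ∈ H) : evA g [0] ∈ H :=
  mem_dag (K := 8) (J := [0,1,2,3,4,5,6,7,8,9,10,21,23,25,27,28]) (D := pa02_0_D) (by decide +kernel) pa02_0_c (by decide +kernel) hR hH
theorem pa02 {G : Type*} [Group G] {z u v a b r p : G}
    (t : TA z u v a b r)
    (h : P0 z u p)
    (e0 : p * a * p⁻¹ = a)
    (e1 : p * v * p⁻¹ = r)
    (e2 : p * r * p⁻¹ = v * r * u) :
    z = 1 :=
  mul_inv_eq_one.1 ((evA_eq_tm ((InvI.cons t.1 (InvI.cons t.2.1 (InvI.cons t.2.2.1 (InvI.cons t.2.2.2.1 (InvI.cons t.2.2.2.2.1 (InvI.cons t.2.2.2.2.2.1 InvI.nil)))))) : InvI [z, u, v, a, b, r, p] [(nat_lit 0), (nat_lit 1), (nat_lit 2), (nat_lit 3), (nat_lit 4), (nat_lit 5)]) [(.v (nat_lit 0)), (.v (nat_lit 1)), (.v (nat_lit 2)), (.v (nat_lit 3)), (.v (nat_lit 4)), (.v (nat_lit 5)), (.v (nat_lit 6)), (.inv (.v (nat_lit 6)))] [0] (.mul (.v (nat_lit 0)) (.inv .one)) (by decide +kernel)).symm.trans (Subgroup.mem_bot.1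 (pa02_0 (pa02_r t h e0 e1 e2) (H := ⊥) (List.forall_mem_nil _))))
noncomputable def pa03_r_R : List (List ℕ) := [[0,0],
  [1,1],
  [2,2],
  [3,3],
  [4,4],
  [5,5],
  [6,7],
  [7,6],
  [2,1,2,1],
  [1,0,1,0],
  [2,0,2,0],
  [3,0,3,0],
  [4,0,4,0],
  [5,0,5,0],
  [3,1,3,1],
  [4,2,4,2],
  [4,3,4,3],
  [1,0,4,1,4],
  [2,0,3,2,3],
  [1,5,1,5],
  [5,1,3,5,3],
  [2,5,2,5],
  [5,2,4,5,4],
  [6,6,6],
  [1,7,0,6],
  [0,1,7,1,6],
  [3,7,3,6],
  [5,7,2,6],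
  [2,5,0,1,7,5,6]]
theorem pa03_r {G : Type*} [Group G] {z u v a b r p : G}
    (t : TA z u v a b r)
    (h : P0 z u p)
    (e0 : p * a * p⁻¹ = a)
    (e1 : p * v * p⁻¹ = r)
    (e2 : p * r * p⁻¹ = v * r * (z * u)) :
    Rels (nthG [z, u, v, a, b, r, p, p⁻¹]) pa03_r_R :=
  rels_of_eqs ((InvI.cons t.1 (InvI.cons t.2.1 (InvI.cons t.2.2.1 (InvI.cons t.2.2.2.1 (InvI.cons t.2.2.2.2.1 (InvI.cons t.2.2.2.2.2.1 InvI.nil)))))) : InvI [z, u, v, a, b, r, p] [(nat_lit 0), (nat_lit 1), (nat_lit 2), (nat_lit 3), (nat_lit 4), (nat_lit 5)])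
    (AllEq.append (show AllEq [z, u, v, a, b, r, p] [((.mul (.v (nat_lit 0)) (.v (nat_lit 0))), .one), ((.mul (.v (nat_lit 1)) (.v (nat_lit 1))), .one), ((.mul (.v (nat_lit 2)) (.v (nat_lit 2))), .one), ((.mul (.v (nat_lit 3)) (.v (nat_lit 3))), .one), ((.mul (.v (nat_lit 4)) (.v (nat_lit 4))), .one), ((.mul (.v (nat_lit 5)) (.v (nat_lit 5))), .one), ((.mul (.v (nat_lit 1)) (.v (nat_lit 2))), (.mul (.v (nat_lit 2)) (.v (nat_lit 1)))), ((.mul (.v (nat_lit 0)) (.v (nat_lit 1))), (.mul (.v (nat_lit 1)) (.v (nat_lit 0)))), ((.mul (.v (nat_lit 0)) (.v (nat_lit 2))), (.mul (.v (nat_lit 2)) (.v (nat_lit 0)))), ((.mul (.v (nat_lit 0)) (.v (nat_lit 3))), (.mul (.v (nat_lit 3)) (.v (nat_lit 0)))), ((.mul (.v (nat_lit 0)) (.v (nat_lit 4))), (.mul (.v (nat_lit 4)) (.v (nat_lit 0)))), ((.mul (.v (nat_lit 0)) (.v (nat_lit 5))), (.mul (.v (nat_lit 5)) (.v (nat_lit 0)))), ((.mul (.v (nat_lit 1))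 (.v (nat_lit 3))), (.mul (.v (nat_lit 3)) (.v (nat_lit 1)))), ((.mul (.v (nat_lit 2)) (.v (nat_lit 4))), (.mul (.v (nat_lit 4)) (.v (nat_lit 2)))), ((.mul (.v (nat_lit 3)) (.v (nat_lit 4))), (.mul (.v (nat_lit 4)) (.v (nat_lit 3)))), ((.mul (.mul (.v (nat_lit 4)) (.v (nat_lit 1))) (.v (nat_lit 4))), (.mul (.v (nat_lit 1)) (.v (nat_lit 0)))), ((.mul (.mul (.v (nat_lit 3)) (.v (nat_lit 2))) (.v (nat_lit 3))), (.mul (.v (nat_lit 2)) (.v (nat_lit 0)))), ((.mul (.v (nat_lit 5)) (.v (nat_lit 1))), (.mul (.v (nat_lit 1)) (.v (nat_lit 5)))), ((.mul (.mul (.v (nat_lit 3)) (.v (nat_lit 5))) (.v (nat_lit 3))), (.mul (.v (nat_lit 5)) (.v (nat_lit 1)))), ((.mul (.v (nat_lit 5)) (.v (nat_lit 2))), (.mul (.v (nat_lit 2)) (.v (nat_lit 5)))), ((.mul (.mul (.v (nat_lit 4)) (.v (nat_lit 5))) (.v (nat_lit 4))), (.mul (.v (nat_lit 5)) (.v (nat_lit 2))))] from t)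
    (AllEq.append (show AllEq [z, u, v, a, b, r, p] [((.pw (.v (nat_lit 6)) (nat_lit 3)), .one), ((.mul (.mul (.v (nat_lit 6)) (.v (nat_lit 0))) (.inv (.v (nat_lit 6)))), (.v (nat_lit 1))), ((.mul (.mul (.v (nat_lit 6)) (.v (nat_lit 1))) (.inv (.v (nat_lit 6)))), (.mul (.v (nat_lit 0)) (.v (nat_lit 1))))] from h)
    (AllEq.append (show AllEq [z, u, v, a, b, r, p] [((.mul (.mul (.v (nat_lit 6)) (.v (nat_lit 3))) (.inv (.v (nat_lit 6)))), (.v (nat_lit 3)))] from ⟨e0, trivial⟩)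
    (AllEq.append (show AllEq [z, u, v, a, b, r, p] [((.mul (.mul (.v (nat_lit 6)) (.v (nat_lit 2))) (.inv (.v (nat_lit 6)))), (.v (nat_lit 5)))] from ⟨e1, trivial⟩)
    (show AllEq [z, u, v, a, b, r, p] [((.mul (.mul (.v (nat_lit 6)) (.v (nat_lit 5))) (.inv (.v (nat_lit 6)))), (.mul (.mul (.v (nat_lit 2)) (.v (nat_lit 5))) (.mul (.v (nat_lit 0)) (.v (nat_lit 1)))))] from ⟨e2, trivial⟩)))))
    [(.v (nat_lit 0)), (.v (nat_lit 1)), (.v (nat_lit 2)), (.v (nat_lit 3)), (.v (nat_lit 4)), (.v (nat_lit 5)), (.v (nat_lit 6)), (.inv (.v (nat_lit 6)))] (by decide +kernel)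
noncomputable def pa03_0_S0 : List ℕ := [nat_lit 0x1b000018006016, nat_lit 0x1f000007000010004010, nat_lit 0x2b000028006016, nat_lit 0x2f00000b00001c008018, nat_lit 0x2f00000b00000800002c00c01a, nat_lit 0x3300000f000014008014, nat_lit 0x3700000f00001800001c, nat_lit 0x3b000038006016, nat_lit 0x4300000200004000401c, nat_lit 0x47000006000034004012, nat_lit 0x4700001f000024008014, nat_lit 0x4b000006000038000018, nat_lit 0x4b00001f00002800001c, nat_lit 0x4f00004c006016, nat_lit 0x4300000d00001200000a00003100003501a01e, nat_lit 0x4700005000003900401c, nat_lit 0x2100003d00a016, nat_lit 0x2600003300000f00001c00004400003d00c01e, nat_lit 0x3d00004500003e008018, nat_lit 0x3900004900003a00c010, nat_lit 0x4d00003600002e00001d00401a, nat_lit 0x1d000051000036008018, nat_lit 0x3300003800002d00005500001a00004000004201801e, nat_lit 0x1500005a00002a000004, nat_lit 0x1400005e00002300000a, nat_lit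 0x62000007000000]
noncomputable def pa03_0_S : List (List ℕ) := [pa03_0_S0]
noncomputable def pa03_0_defs : List ℕ := [(nat_lit 0x70000700600007005000070050000600200005007000030060000300500003007000020070000100600001005000010020000100700000006000000050000000200000001000000000000000000000)]
noncomputable def pa03_0_recs : List ℕ := [(nat_lit 0xff0000100000ff0000800004ff000110000c00000120000d010000e0001300000130001300000100001001000110001107000110000f070001000011020001300010070001200013050000900012010000d00012020000800011000000c00011070000f00010070000d0000e05000050000d02000040000c010000a0000b00000060000b07000090000a000000300007070000500006)]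
noncomputable def pa03_0_T : List (List ℕ × ℕ) := [([0], (nat_lit 0x65))]
noncomputable def pa03_0_D : H26.Dag := ⟨[0,1,2,3,4,5,7,6], [[0,0],
  [1,1],
  [2,2],
  [3,3],
  [4,4],
  [5,5],
  [6,7],
  [7,6],
  [2,0,2,0],
  [5,0,5,0],
  [2,5,2,5],
  [6,6,6],
  [1,7,0,6],
  [0,1,7,1,6],
  [5,7,2,6],
  [2,5,0,1,7,5,6]], [], pa03_0_defs, pa03_0_recs⟩
theorem pa03_0_c : pa03_0_D.check pa03_0_S pa03_0_T = true := by decide +kernel
theorem pa03_0 {G : Type*} [Group G] {g : ℕ → G} (hR : Rels g pa03_r_R) {H : Subgroup G}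
    (hH : ∀ k ∈ [], g k ∈ H) : evA g [0] ∈ H :=
  mem_dag (K := 8) (J := [0,1,2,3,4,5,6,7,10,13,21,23,24,25,27,28]) (D := pa03_0_D) (by decide +kernel) pa03_0_c (by decide +kernel) hR hH
theorem pa03 {G : Type*} [Group G] {z u v a b r p : G}
    (t : TA z u v a b r)
    (h : P0 z u p)
    (e0 : p * a * p⁻¹ = a)
    (e1 : p * v * p⁻¹ = r)
    (e2 : p * r * p⁻¹ = v * r * (z * u)) :
    z = 1 :=
  mul_inv_eq_one.1 ((evA_eq_tm ((InvI.cons t.1 (InvI.cons t.2.1 (InvI.cons t.2.2.1 (InvI.cons t.2.2.2.1 (InvI.cons t.2.2.2.2.1 (InvI.cons t.2.2.2.2.2.1 InvI.nil)))))) : InvI [z, u, v, a, b, r, p] [(nat_lit 0), (nat_lit 1), (nat_lit 2), (nat_lit 3), (nat_lit 4), (nat_lit 5)]) [(.v (nat_lit 0)), (.v (nat_lit 1)), (.v (nat_lit 2)), (.v (nat_lit 3)), (.v (nat_lit 4)), (.v (nat_lit 5)), (.v (nat_lit 6)), (.inv (.v (nat_lit 6)))] [0] (.mul (.v (nat_lit 0)) (.inv .one)) (by decide +kernel)).symm.trans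 (Subgroup.mem_bot.1 (pa03_0 (pa03_r t h e0 e1 e2) (H := ⊥) (List.forall_mem_nil _))))
noncomputable def pa10_r_R : List (List ℕ) := [[0,0],
  [1,1],
  [2,2],
  [3,3],
  [4,4],
  [5,5],
  [6,7],
  [7,6],
  [2,1,2,1],
  [1,0,1,0],
  [2,0,2,0],
  [3,0,3,0],
  [4,0,4,0],
  [5,0,5,0],
  [3,1,3,1],
  [4,2,4,2],
  [4,3,4,3],
  [1,0,4,1,4],
  [2,0,3,2,3],
  [1,5,1,5],
  [5,1,3,5,3],
  [2,5,2,5],
  [5,2,4,5,4],
  [6,6,6],
  [1,7,0,6],
  [0,1,7,1,6],
  [3,7,3,6],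
  [5,0,7,2,6],
  [2,5,7,5,6]]
theorem pa10_r {G : Type*} [Group G] {z u v a b r p : G}
    (t : TA z u v a b r)
    (h : P0 z u p)
    (e0 : p * a * p⁻¹ = a)
    (e1 : p * v * p⁻¹ = r * z)
    (e2 : p * r * p⁻¹ = v * r) :
    Rels (nthG [z, u, v, a, b, r, p, p⁻¹]) pa10_r_R :=
  rels_of_eqs ((InvI.cons t.1 (InvI.cons t.2.1 (InvI.cons t.2.2.1 (InvI.cons t.2.2.2.1 (InvI.cons t.2.2.2.2.1 (InvI.cons t.2.2.2.2.2.1 InvI.nil)))))) : InvI [z, u, v, a, b, r, p] [(nat_lit 0), (nat_lit 1), (nat_lit 2), (nat_lit 3), (nat_lit 4), (nat_lit 5)])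
    (AllEq.append (show AllEq [z, u, v, a, b, r, p] [((.mul (.v (nat_lit 0)) (.v (nat_lit 0))), .one), ((.mul (.v (nat_lit 1)) (.v (nat_lit 1))), .one), ((.mul (.v (nat_lit 2)) (.v (nat_lit 2))), .one), ((.mul (.v (nat_lit 3)) (.v (nat_lit 3))), .one), ((.mul (.v (nat_lit 4)) (.v (nat_lit 4))), .one), ((.mul (.v (nat_lit 5)) (.v (nat_lit 5))), .one), ((.mul (.v (nat_lit 1)) (.v (nat_lit 2))), (.mul (.v (nat_lit 2)) (.v (nat_lit 1)))), ((.mul (.v (nat_lit 0)) (.v (nat_lit 1))), (.mul (.v (nat_lit 1)) (.v (nat_lit 0)))), ((.mul (.v (nat_lit 0)) (.v (nat_lit 2))), (.mul (.v (nat_lit 2)) (.v (nat_lit 0)))), ((.mul (.v (nat_lit 0)) (.v (nat_lit 3))), (.mul (.v (nat_lit 3)) (.v (nat_lit 0)))), ((.mul (.v (nat_lit 0)) (.v (nat_lit 4))), (.mul (.v (nat_lit 4)) (.v (nat_lit 0)))), ((.mul (.v (nat_lit 0)) (.v (nat_lit 5))), (.mul (.v (nat_lit 5)) (.v (nat_lit 0)))), ((.mul (.v (nat_lit 1))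 (.v (nat_lit 3))), (.mul (.v (nat_lit 3)) (.v (nat_lit 1)))), ((.mul (.v (nat_lit 2)) (.v (nat_lit 4))), (.mul (.v (nat_lit 4)) (.v (nat_lit 2)))), ((.mul (.v (nat_lit 3)) (.v (nat_lit 4))), (.mul (.v (nat_lit 4)) (.v (nat_lit 3)))), ((.mul (.mul (.v (nat_lit 4)) (.v (nat_lit 1))) (.v (nat_lit 4))), (.mul (.v (nat_lit 1)) (.v (nat_lit 0)))), ((.mul (.mul (.v (nat_lit 3)) (.v (nat_lit 2))) (.v (nat_lit 3))), (.mul (.v (nat_lit 2)) (.v (nat_lit 0)))), ((.mul (.v (nat_lit 5)) (.v (nat_lit 1))), (.mul (.v (nat_lit 1)) (.v (nat_lit 5)))), ((.mul (.mul (.v (nat_lit 3)) (.v (nat_lit 5))) (.v (nat_lit 3))), (.mul (.v (nat_lit 5)) (.v (nat_lit 1)))), ((.mul (.v (nat_lit 5)) (.v (nat_lit 2))), (.mul (.v (nat_lit 2)) (.v (nat_lit 5)))), ((.mul (.mul (.v (nat_lit 4)) (.v (nat_lit 5))) (.v (nat_lit 4))), (.mul (.v (nat_lit 5)) (.v (nat_lit 2))))] from t)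
    (AllEq.append (show AllEq [z, u, v, a, b, r, p] [((.pw (.v (nat_lit 6)) (nat_lit 3)), .one), ((.mul (.mul (.v (nat_lit 6)) (.v (nat_lit 0))) (.inv (.v (nat_lit 6)))), (.v (nat_lit 1))), ((.mul (.mul (.v (nat_lit 6)) (.v (nat_lit 1))) (.inv (.v (nat_lit 6)))), (.mul (.v (nat_lit 0)) (.v (nat_lit 1))))] from h)
    (AllEq.append (show AllEq [z, u, v, a, b, r, p] [((.mul (.mul (.v (nat_lit 6)) (.v (nat_lit 3))) (.inv (.v (nat_lit 6)))), (.v (nat_lit 3)))] from ⟨e0, trivial⟩)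
    (AllEq.append (show AllEq [z, u, v, a, b, r, p] [((.mul (.mul (.v (nat_lit 6)) (.v (nat_lit 2))) (.inv (.v (nat_lit 6)))), (.mul (.v (nat_lit 5)) (.v (nat_lit 0))))] from ⟨e1, trivial⟩)
    (show AllEq [z, u, v, a, b, r, p] [((.mul (.mul (.v (nat_lit 6)) (.v (nat_lit 5))) (.inv (.v (nat_lit 6)))), (.mul (.v (nat_lit 2)) (.v (nat_lit 5))))] from ⟨e2, trivial⟩)))))
    [(.v (nat_lit 0)), (.v (nat_lit 1)), (.v (nat_lit 2)), (.v (nat_lit 3)), (.v (nat_lit 4)), (.v (nat_lit 5)), (.v (nat_lit 6)), (.inv (.v (nat_lit 6)))] (by decide +kernel)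
noncomputable def pa10_0_S0 : List ℕ := [nat_lit 0x1f000007000014004014, nat_lit 0x23000007000018000018, nat_lit 0x27000024006016, nat_lit 0x2f00000b00001800000500001a, nat_lit 0x3300000b00001c008018, nat_lit 0x3300000b00000800002800c01a, nat_lit 0x3b000038006016, nat_lit 0x43000040006016, nat_lit 0x4300000100001f00002800c01c, nat_lit 0x4300001300001000003c00c01e, nat_lit 0x1900002500002200000a00c01e, nat_lit 0x2b00003000000e00002900003701001c, nat_lit 0x1000002d00002b000004, nat_lit 0x1b00003200003400000c, nat_lit 0x36000012000000, nat_lit 0x36000016000002, nat_lit 0x3d00003900003e004010, nat_lit 0x2200004100002100c012, nat_lit 0x1d00004500002600001a00c01c, nat_lit 0x1f00002400002900004900003f01001e, nat_lit 0x1400004d00001f00000a, nat_lit 0x52000007000000]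
noncomputable def pa10_0_S : List (List ℕ) := [pa10_0_S0]
noncomputable def pa10_0_defs : List ℕ := [(nat_lit 0x70000400600004007000030060000300700002006000020020000200700001006000010050000100700000006000000050000000200000001000000000000000000000)]
noncomputable def pa10_0_recs : List ℕ := [(nat_lit 0xff0000100000ff0000400007020000d0000f000001000010000000900009010000900006000000600006ff0000c00006ff0000200000ff000030000a05000080000d050000e00010020000900010070000f00010070000d0000e01000090000c00000060000c00000080000b070000800009010000500008000000400007)]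
noncomputable def pa10_0_T : List (List ℕ × ℕ) := [([0], (nat_lit 0x55))]
noncomputable def pa10_0_D : H26.Dag := ⟨[0,1,2,3,4,5,7,6], [[0,0],
  [1,1],
  [2,2],
  [3,3],
  [4,4],
  [5,5],
  [6,7],
  [7,6],
  [1,0,1,0],
  [2,0,2,0],
  [5,0,5,0],
  [6,6,6],
  [1,7,0,6],
  [0,1,7,1,6],
  [5,0,7,2,6],
  [2,5,7,5,6]], [], pa10_0_defs, pa10_0_recs⟩
theorem pa10_0_c : pa10_0_D.check pa10_0_S pa10_0_T = true := by decide +kernel
theorem pa10_0 {G : Type*} [Group G] {g : ℕ → G} (hR : Rels g pa10_r_R) {H : Subgroup G}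
    (hH : ∀ k ∈ [], g k ∈ H) : evA g [0] ∈ H :=
  mem_dag (K := 8) (J := [0,1,2,3,4,5,6,7,9,10,13,23,24,25,27,28]) (D := pa10_0_D) (by decide +kernel) pa10_0_c (by decide +kernel) hR hH
theorem pa10 {G : Type*} [Group G] {z u v a b r p : G}
    (t : TA z u v a b r)
    (h : P0 z u p)
    (e0 : p * a * p⁻¹ = a)
    (e1 : p * v * p⁻¹ = r * z)
    (e2 : p * r * p⁻¹ = v * r) :
    z = 1 :=
  mul_inv_eq_one.1 ((evA_eq_tm ((InvI.cons t.1 (InvI.cons t.2.1 (InvI.cons t.2.2.1 (InvI.cons t.2.2.2.1 (InvI.cons t.2.2.2.2.1 (InvI.cons t.2.2.2.2.2.1 InvI.nil)))))) : InvI [z, u, v, a, b, r, p] [(nat_lit 0), (nat_lit 1), (nat_lit 2), (nat_lit 3), (nat_lit 4), (nat_lit 5)]) [(.v (nat_lit 0)), (.v (nat_lit 1)), (.v (nat_lit 2)), (.v (nat_lit 3)), (.v (nat_lit 4)), (.v (nat_lit 5)), (.v (nat_lit 6)), (.inv (.v (nat_lit 6)))] [0] (.mul (.v (nat_lit 0)) (.inv .one)) (by decide +kernel)).symm.trans (Subgroup.mem_bot.1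 (pa10_0 (pa10_r t h e0 e1 e2) (H := ⊥) (List.forall_mem_nil _))))
noncomputable def pa11_r_R : List (List ℕ) := [[0,0],
  [1,1],
  [2,2],
  [3,3],
  [4,4],
  [5,5],
  [6,7],
  [7,6],
  [2,1,2,1],
  [1,0,1,0],
  [2,0,2,0],
  [3,0,3,0],
  [4,0,4,0],
  [5,0,5,0],
  [3,1,3,1],
  [4,2,4,2],
  [4,3,4,3],
  [1,0,4,1,4],
  [2,0,3,2,3],
  [1,5,1,5],
  [5,1,3,5,3],
  [2,5,2,5],
  [5,2,4,5,4],
  [6,6,6],
  [1,7,0,6],
  [0,1,7,1,6],
  [3,7,3,6],
  [5,0,7,2,6],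
  [2,5,0,7,5,6]]
theorem pa11_r {G : Type*} [Group G] {z u v a b r p : G}
    (t : TA z u v a b r)
    (h : P0 z u p)
    (e0 : p * a * p⁻¹ = a)
    (e1 : p * v * p⁻¹ = r * z)
    (e2 : p * r * p⁻¹ = v * r * z) :
    Rels (nthG [z, u, v, a, b, r, p, p⁻¹]) pa11_r_R :=
  rels_of_eqs ((InvI.cons t.1 (InvI.cons t.2.1 (InvI.cons t.2.2.1 (InvI.cons t.2.2.2.1 (InvI.cons t.2.2.2.2.1 (InvI.cons t.2.2.2.2.2.1 InvI.nil)))))) : InvI [z, u, v, a, b, r, p] [(nat_lit 0), (nat_lit 1), (nat_lit 2), (nat_lit 3), (nat_lit 4), (nat_lit 5)])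
    (AllEq.append (show AllEq [z, u, v, a, b, r, p] [((.mul (.v (nat_lit 0)) (.v (nat_lit 0))), .one), ((.mul (.v (nat_lit 1)) (.v (nat_lit 1))), .one), ((.mul (.v (nat_lit 2)) (.v (nat_lit 2))), .one), ((.mul (.v (nat_lit 3)) (.v (nat_lit 3))), .one), ((.mul (.v (nat_lit 4)) (.v (nat_lit 4))), .one), ((.mul (.v (nat_lit 5)) (.v (nat_lit 5))), .one), ((.mul (.v (nat_lit 1)) (.v (nat_lit 2))), (.mul (.v (nat_lit 2)) (.v (nat_lit 1)))), ((.mul (.v (nat_lit 0)) (.v (nat_lit 1))), (.mul (.v (nat_lit 1)) (.v (nat_lit 0)))), ((.mul (.v (nat_lit 0)) (.v (nat_lit 2))), (.mul (.v (nat_lit 2)) (.v (nat_lit 0)))), ((.mul (.v (nat_lit 0)) (.v (nat_lit 3))), (.mul (.v (nat_lit 3)) (.v (nat_lit 0)))), ((.mul (.v (nat_lit 0)) (.v (nat_lit 4))), (.mul (.v (nat_lit 4)) (.v (nat_lit 0)))), ((.mul (.v (nat_lit 0)) (.v (nat_lit 5))), (.mul (.v (nat_lit 5)) (.v (nat_lit 0)))), ((.mul (.v (nat_lit 1))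 (.v (nat_lit 3))), (.mul (.v (nat_lit 3)) (.v (nat_lit 1)))), ((.mul (.v (nat_lit 2)) (.v (nat_lit 4))), (.mul (.v (nat_lit 4)) (.v (nat_lit 2)))), ((.mul (.v (nat_lit 3)) (.v (nat_lit 4))), (.mul (.v (nat_lit 4)) (.v (nat_lit 3)))), ((.mul (.mul (.v (nat_lit 4)) (.v (nat_lit 1))) (.v (nat_lit 4))), (.mul (.v (nat_lit 1)) (.v (nat_lit 0)))), ((.mul (.mul (.v (nat_lit 3)) (.v (nat_lit 2))) (.v (nat_lit 3))), (.mul (.v (nat_lit 2)) (.v (nat_lit 0)))), ((.mul (.v (nat_lit 5)) (.v (nat_lit 1))), (.mul (.v (nat_lit 1)) (.v (nat_lit 5)))), ((.mul (.mul (.v (nat_lit 3)) (.v (nat_lit 5))) (.v (nat_lit 3))), (.mul (.v (nat_lit 5)) (.v (nat_lit 1)))), ((.mul (.v (nat_lit 5)) (.v (nat_lit 2))), (.mul (.v (nat_lit 2)) (.v (nat_lit 5)))), ((.mul (.mul (.v (nat_lit 4)) (.v (nat_lit 5))) (.v (nat_lit 4))), (.mul (.v (nat_lit 5)) (.v (nat_lit 2))))] from t)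
    (AllEq.append (show AllEq [z, u, v, a, b, r, p] [((.pw (.v (nat_lit 6)) (nat_lit 3)), .one), ((.mul (.mul (.v (nat_lit 6)) (.v (nat_lit 0))) (.inv (.v (nat_lit 6)))), (.v (nat_lit 1))), ((.mul (.mul (.v (nat_lit 6)) (.v (nat_lit 1))) (.inv (.v (nat_lit 6)))), (.mul (.v (nat_lit 0)) (.v (nat_lit 1))))] from h)
    (AllEq.append (show AllEq [z, u, v, a, b, r, p] [((.mul (.mul (.v (nat_lit 6)) (.v (nat_lit 3))) (.inv (.v (nat_lit 6)))), (.v (nat_lit 3)))] from ⟨e0, trivial⟩)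
    (AllEq.append (show AllEq [z, u, v, a, b, r, p] [((.mul (.mul (.v (nat_lit 6)) (.v (nat_lit 2))) (.inv (.v (nat_lit 6)))), (.mul (.v (nat_lit 5)) (.v (nat_lit 0))))] from ⟨e1, trivial⟩)
    (show AllEq [z, u, v, a, b, r, p] [((.mul (.mul (.v (nat_lit 6)) (.v (nat_lit 5))) (.inv (.v (nat_lit 6)))), (.mul (.mul (.v (nat_lit 2)) (.v (nat_lit 5))) (.v (nat_lit 0))))] from ⟨e2, trivial⟩)))))
    [(.v (nat_lit 0)), (.v (nat_lit 1)), (.v (nat_lit 2)), (.v (nat_lit 3)), (.v (nat_lit 4)), (.v (nat_lit 5)), (.v (nat_lit 6)), (.inv (.v (nat_lit 6)))] (by decide +kernel)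
noncomputable def pa11_0_S0 : List ℕ := [nat_lit 0xf00000b00000700c010, nat_lit 0x1700001300000200c012, nat_lit 0x1b000007000005008014, nat_lit 0x2300001f008016, nat_lit 0x2f00002b00002700000d00c01c, nat_lit 0x3300000b00001c008012, nat_lit 0x3b000037008016, nat_lit 0x2f00002b00002700000800001901001e, nat_lit 0x3f00000b000019008018, nat_lit 0x4300001600001b00001900c01a, nat_lit 0x47000040004016, nat_lit 0x2400001100001e00002100002900601e, nat_lit 0x2d00001f00000800003800401c, nat_lit 0x2600003b00003100002a004018, nat_lit 0x4000003500004300000e, nat_lit 0xc00003a000016000002, nat_lit 0x800003e00000a000004, nat_lit 0x42000006000000]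
noncomputable def pa11_0_S : List (List ℕ) := [pa11_0_S0]
noncomputable def pa11_0_defs : List ℕ := [(nat_lit 0x6000020070000c007000020060000d00600001000000020070000a0000000900500000006000070060000000000001001000040000000300200002001000010020000000000000)]
noncomputable def pa11_0_recs : List ℕ := [(nat_lit 0xff0000500000ff0000600001ff0000c00002ff0000f00010000000d00011050001100007060000f00011010000e00010000000e0000f050000e0000b06000010000e01000060000c02000080000b060000000008020000500006000000000005010000000003)]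
noncomputable def pa11_0_T : List (List ℕ × ℕ) := [([0], (nat_lit 0x45))]
noncomputable def pa11_0_D : H26.Dag := ⟨[0,1,2,3,4,5,7,6], [[0,0],
  [1,1],
  [2,2],
  [3,3],
  [4,4],
  [5,5],
  [6,7],
  [7,6],
  [2,1,2,1],
  [1,0,1,0],
  [2,0,2,0],
  [6,6,6],
  [1,7,0,6],
  [0,1,7,1,6],
  [5,0,7,2,6],
  [2,5,0,7,5,6]], [], pa11_0_defs, pa11_0_recs⟩
theorem pa11_0_c : pa11_0_D.check pa11_0_S pa11_0_T = true := by decide +kernel
theorem pa11_0 {G : Type*} [Group G] {g : ℕ → G} (hR : Rels g pa11_r_R) {H : Subgroup G}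
    (hH : ∀ k ∈ [], g k ∈ H) : evA g [0] ∈ H :=
  mem_dag (K := 8) (J := [0,1,2,3,4,5,6,7,8,9,10,23,24,25,27,28]) (D := pa11_0_D) (by decide +kernel) pa11_0_c (by decide +kernel) hR hH
theorem pa11 {G : Type*} [Group G] {z u v a b r p : G}
    (t : TA z u v a b r)
    (h : P0 z u p)
    (e0 : p * a * p⁻¹ = a)
    (e1 : p * v * p⁻¹ = r * z)
    (e2 : p * r * p⁻¹ = v * r * z) :
    z = 1 :=
  mul_inv_eq_one.1 ((evA_eq_tm ((InvI.cons t.1 (InvI.cons t.2.1 (InvI.cons t.2.2.1 (InvI.cons t.2.2.2.1 (InvI.cons t.2.2.2.2.1 (InvI.cons t.2.2.2.2.2.1 InvI.nil)))))) : InvI [z, u, v, a, b, r, p] [(nat_lit 0), (nat_lit 1), (nat_lit 2), (nat_lit 3), (nat_lit 4), (nat_lit 5)]) [(.v (nat_lit 0)), (.v (nat_lit 1)), (.v (nat_lit 2)), (.v (nat_lit 3)), (.v (nat_lit 4)), (.v (nat_lit 5)), (.v (nat_lit 6)), (.inv (.v (nat_lit 6)))] [0] (.mul (.v (nat_lit 0)) (.inv .one)) (by decide +kernel)).symm.trans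 (Subgroup.mem_bot.1 (pa11_0 (pa11_r t h e0 e1 e2) (H := ⊥) (List.forall_mem_nil _))))
noncomputable def pa12_r_R : List (List ℕ) := [[0,0],
  [1,1],
  [2,2],
  [3,3],
  [4,4],
  [5,5],
  [6,7],
  [7,6],
  [2,1,2,1],
  [1,0,1,0],
  [2,0,2,0],
  [3,0,3,0],
  [4,0,4,0],
  [5,0,5,0],
  [3,1,3,1],
  [4,2,4,2],
  [4,3,4,3],
  [1,0,4,1,4],
  [2,0,3,2,3],
  [1,5,1,5],
  [5,1,3,5,3],
  [2,5,2,5],
  [5,2,4,5,4],
  [6,6,6],
  [1,7,0,6],
  [0,1,7,1,6],
  [3,7,3,6],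
  [5,0,7,2,6],
  [2,5,1,7,5,6]]
theorem pa12_r {G : Type*} [Group G] {z u v a b r p : G}
    (t : TA z u v a b r)
    (h : P0 z u p)
    (e0 : p * a * p⁻¹ = a)
    (e1 : p * v * p⁻¹ = r * z)
    (e2 : p * r * p⁻¹ = v * r * u) :
    Rels (nthG [z, u, v, a, b, r, p, p⁻¹]) pa12_r_R :=
  rels_of_eqs ((InvI.cons t.1 (InvI.cons t.2.1 (InvI.cons t.2.2.1 (InvI.cons t.2.2.2.1 (InvI.cons t.2.2.2.2.1 (InvI.cons t.2.2.2.2.2.1 InvI.nil)))))) : InvI [z, u, v, a, b, r, p] [(nat_lit 0), (nat_lit 1), (nat_lit 2), (nat_lit 3), (nat_lit 4), (nat_lit 5)])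
    (AllEq.append (show AllEq [z, u, v, a, b, r, p] [((.mul (.v (nat_lit 0)) (.v (nat_lit 0))), .one), ((.mul (.v (nat_lit 1)) (.v (nat_lit 1))), .one), ((.mul (.v (nat_lit 2)) (.v (nat_lit 2))), .one), ((.mul (.v (nat_lit 3)) (.v (nat_lit 3))), .one), ((.mul (.v (nat_lit 4)) (.v (nat_lit 4))), .one), ((.mul (.v (nat_lit 5)) (.v (nat_lit 5))), .one), ((.mul (.v (nat_lit 1)) (.v (nat_lit 2))), (.mul (.v (nat_lit 2)) (.v (nat_lit 1)))), ((.mul (.v (nat_lit 0)) (.v (nat_lit 1))), (.mul (.v (nat_lit 1)) (.v (nat_lit 0)))), ((.mul (.v (nat_lit 0)) (.v (nat_lit 2))), (.mul (.v (nat_lit 2)) (.v (nat_lit 0)))), ((.mul (.v (nat_lit 0)) (.v (nat_lit 3))), (.mul (.v (nat_lit 3)) (.v (nat_lit 0)))), ((.mul (.v (nat_lit 0)) (.v (nat_lit 4))), (.mul (.v (nat_lit 4)) (.v (nat_lit 0)))), ((.mul (.v (nat_lit 0)) (.v (nat_lit 5))), (.mul (.v (nat_lit 5)) (.v (nat_lit 0)))), ((.mul (.v (nat_lit 1))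 (.v (nat_lit 3))), (.mul (.v (nat_lit 3)) (.v (nat_lit 1)))), ((.mul (.v (nat_lit 2)) (.v (nat_lit 4))), (.mul (.v (nat_lit 4)) (.v (nat_lit 2)))), ((.mul (.v (nat_lit 3)) (.v (nat_lit 4))), (.mul (.v (nat_lit 4)) (.v (nat_lit 3)))), ((.mul (.mul (.v (nat_lit 4)) (.v (nat_lit 1))) (.v (nat_lit 4))), (.mul (.v (nat_lit 1)) (.v (nat_lit 0)))), ((.mul (.mul (.v (nat_lit 3)) (.v (nat_lit 2))) (.v (nat_lit 3))), (.mul (.v (nat_lit 2)) (.v (nat_lit 0)))), ((.mul (.v (nat_lit 5)) (.v (nat_lit 1))), (.mul (.v (nat_lit 1)) (.v (nat_lit 5)))), ((.mul (.mul (.v (nat_lit 3)) (.v (nat_lit 5))) (.v (nat_lit 3))), (.mul (.v (nat_lit 5)) (.v (nat_lit 1)))), ((.mul (.v (nat_lit 5)) (.v (nat_lit 2))), (.mul (.v (nat_lit 2)) (.v (nat_lit 5)))), ((.mul (.mul (.v (nat_lit 4)) (.v (nat_lit 5))) (.v (nat_lit 4))), (.mul (.v (nat_lit 5)) (.v (nat_lit 2))))] from t)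
    (AllEq.append (show AllEq [z, u, v, a, b, r, p] [((.pw (.v (nat_lit 6)) (nat_lit 3)), .one), ((.mul (.mul (.v (nat_lit 6)) (.v (nat_lit 0))) (.inv (.v (nat_lit 6)))), (.v (nat_lit 1))), ((.mul (.mul (.v (nat_lit 6)) (.v (nat_lit 1))) (.inv (.v (nat_lit 6)))), (.mul (.v (nat_lit 0)) (.v (nat_lit 1))))] from h)
    (AllEq.append (show AllEq [z, u, v, a, b, r, p] [((.mul (.mul (.v (nat_lit 6)) (.v (nat_lit 3))) (.inv (.v (nat_lit 6)))), (.v (nat_lit 3)))] from ⟨e0, trivial⟩)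
    (AllEq.append (show AllEq [z, u, v, a, b, r, p] [((.mul (.mul (.v (nat_lit 6)) (.v (nat_lit 2))) (.inv (.v (nat_lit 6)))), (.mul (.v (nat_lit 5)) (.v (nat_lit 0))))] from ⟨e1, trivial⟩)
    (show AllEq [z, u, v, a, b, r, p] [((.mul (.mul (.v (nat_lit 6)) (.v (nat_lit 5))) (.inv (.v (nat_lit 6)))), (.mul (.mul (.v (nat_lit 2)) (.v (nat_lit 5))) (.v (nat_lit 1))))] from ⟨e2, trivial⟩)))))
    [(.v (nat_lit 0)), (.v (nat_lit 1)), (.v (nat_lit 2)), (.v (nat_lit 3)), (.v (nat_lit 4)), (.v (nat_lit 5)), (.v (nat_lit 6)), (.inv (.v (nat_lit 6)))] (by decide +kernel)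
noncomputable def pa12_0_S0 : List ℕ := [nat_lit 0x1b00001800601a, nat_lit 0x1f00000700000c004010, nat_lit 0x23000007000014004014, nat_lit 0x2700000700001800001c, nat_lit 0x2f00000b000014008016, nat_lit 0x3300000b00001c00801c, nat_lit 0x3300000b00000800002c00c01e, nat_lit 0x3b00003800601a, nat_lit 0x4300004000601a, nat_lit 0x4300000900002300002c00c020, nat_lit 0x4700000d00002700002000201e, nat_lit 0x47000017000010000038012020, nat_lit 0x4f00001500001a004010, nat_lit 0x4f00000200004800401c, nat_lit 0x4f00001b00000c00000501001e, nat_lit 0x5300001b000008000024010020, nat_lit 0x5700005000003600002e00001d016022, nat_lit 0x5300005800004200c018, nat_lit 0x1200001300001000003c00004500003e00c022, nat_lit 0x2400004900002f00000a, nat_lit 0x800004e000005000000, nat_lit 0x1700005200002900000e, nat_lit 0x1b00005200003900000c, nat_lit 0x4b00005600002e00000a, nat_lit 0x5a000032000000, nat_lit 0x5d00004b00000a,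 nat_lit 0x2600006100005400c012, nat_lit 0x1d000045000069000022006020, nat_lit 0xe00001700001400004000006d000066012022, nat_lit 0x1800007100002700000c, nat_lit 0x76000007000000]
noncomputable def pa12_0_S : List (List ℕ) := [pa12_0_S0]
noncomputable def pa12_0_defs : List ℕ := [(nat_lit 0x500006002000060010000600500005000000050070000400600004007000030060000300700002005000020070000100600001005000010010000100700000006000000050000000200000001000000000000000000000)]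
noncomputable def pa12_0_recs : List ℕ := [(nat_lit 0xff0000100000ff0000500009020000f0000d00000140001005000050000d000000a00006ff0000d00012ff0001300006ff0001100005ff0000700000ff0000200001ff000080000b050000e00014020000e00015060000800014060000700013070001100013000000a00013050000d00011070000700011020000a00010070000f00010070000d0000e010000a0000c00000060000c01000040000b010000500009000000400008000000200007070000500006)]
noncomputable def pa12_0_T : List (List ℕ × ℕ) := [([0], (nat_lit 0x79))]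
noncomputable def pa12_0_D : H26.Dag := ⟨[0,1,2,3,4,5,7,6], [[0,0],
  [1,1],
  [2,2],
  [3,3],
  [4,4],
  [5,5],
  [6,7],
  [7,6],
  [1,0,1,0],
  [2,0,2,0],
  [5,0,5,0],
  [1,5,1,5],
  [2,5,2,5],
  [6,6,6],
  [1,7,0,6],
  [0,1,7,1,6],
  [5,0,7,2,6],
  [2,5,1,7,5,6]], [], pa12_0_defs, pa12_0_recs⟩
theorem pa12_0_c : pa12_0_D.check pa12_0_S pa12_0_T = true := by decide +kernel
theorem pa12_0 {G : Type*} [Group G] {g : ℕ → G} (hR : Rels g pa12_r_R) {H : Subgroup G}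
    (hH : ∀ k ∈ [], g k ∈ H) : evA g [0] ∈ H :=
  mem_dag (K := 8) (J := [0,1,2,3,4,5,6,7,9,10,13,19,21,23,24,25,27,28]) (D := pa12_0_D) (by decide +kernel) pa12_0_c (by decide +kernel) hR hH
theorem pa12 {G : Type*} [Group G] {z u v a b r p : G}
    (t : TA z u v a b r)
    (h : P0 z u p)
    (e0 : p * a * p⁻¹ = a)
    (e1 : p * v * p⁻¹ = r * z)
    (e2 : p * r * p⁻¹ = v * r * u) :
    z = 1 :=
  mul_inv_eq_one.1 ((evA_eq_tm ((InvI.cons t.1 (InvI.cons t.2.1 (InvI.cons t.2.2.1 (InvI.cons t.2.2.2.1 (InvI.cons t.2.2.2.2.1 (InvI.cons t.2.2.2.2.2.1 InvI.nil)))))) : InvI [z, u, v, a, b, r, p] [(nat_lit 0), (nat_lit 1), (nat_lit 2), (nat_lit 3), (nat_lit 4), (nat_lit 5)]) [(.v (nat_lit 0)), (.v (nat_lit 1)), (.v (nat_lit 2)), (.v (nat_lit 3)), (.v (nat_lit 4)), (.v (nat_lit 5)), (.v (nat_lit 6)), (.inv (.v (nat_lit 6)))] [0] (.mul (.v (nat_lit 0)) (.inv .one)) (by decide +kernel)).symm.trans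 (Subgroup.mem_bot.1 (pa12_0 (pa12_r t h e0 e1 e2) (H := ⊥) (List.forall_mem_nil _))))
noncomputable def pa13_r_R : List (List ℕ) := [[0,0],
  [1,1],
  [2,2],
  [3,3],
  [4,4],
  [5,5],
  [6,7],
  [7,6],
  [2,1,2,1],
  [1,0,1,0],
  [2,0,2,0],
  [3,0,3,0],
  [4,0,4,0],
  [5,0,5,0],
  [3,1,3,1],
  [4,2,4,2],
  [4,3,4,3],
  [1,0,4,1,4],
  [2,0,3,2,3],
  [1,5,1,5],
  [5,1,3,5,3],
  [2,5,2,5],
  [5,2,4,5,4],
  [6,6,6],
  [1,7,0,6],
  [0,1,7,1,6],
  [3,7,3,6],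
  [5,0,7,2,6],
  [2,5,0,1,7,5,6]]
theorem pa13_r {G : Type*} [Group G] {z u v a b r p : G}
    (t : TA z u v a b r)
    (h : P0 z u p)
    (e0 : p * a * p⁻¹ = a)
    (e1 : p * v * p⁻¹ = r * z)
    (e2 : p * r * p⁻¹ = v * r * (z * u)) :
    Rels (nthG [z, u, v, a, b, r, p, p⁻¹]) pa13_r_R :=
  rels_of_eqs ((InvI.cons t.1 (InvI.cons t.2.1 (InvI.cons t.2.2.1 (InvI.cons t.2.2.2.1 (InvI.cons t.2.2.2.2.1 (InvI.cons t.2.2.2.2.2.1 InvI.nil)))))) : InvI [z, u, v, a, b, r, p] [(nat_lit 0), (nat_lit 1), (nat_lit 2), (nat_lit 3), (nat_lit 4), (nat_lit 5)])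
    (AllEq.append (show AllEq [z, u, v, a, b, r, p] [((.mul (.v (nat_lit 0)) (.v (nat_lit 0))), .one), ((.mul (.v (nat_lit 1)) (.v (nat_lit 1))), .one), ((.mul (.v (nat_lit 2)) (.v (nat_lit 2))), .one), ((.mul (.v (nat_lit 3)) (.v (nat_lit 3))), .one), ((.mul (.v (nat_lit 4)) (.v (nat_lit 4))), .one), ((.mul (.v (nat_lit 5)) (.v (nat_lit 5))), .one), ((.mul (.v (nat_lit 1)) (.v (nat_lit 2))), (.mul (.v (nat_lit 2)) (.v (nat_lit 1)))), ((.mul (.v (nat_lit 0)) (.v (nat_lit 1))), (.mul (.v (nat_lit 1)) (.v (nat_lit 0)))), ((.mul (.v (nat_lit 0)) (.v (nat_lit 2))), (.mul (.v (nat_lit 2)) (.v (nat_lit 0)))), ((.mul (.v (nat_lit 0)) (.v (nat_lit 3))), (.mul (.v (nat_lit 3)) (.v (nat_lit 0)))), ((.mul (.v (nat_lit 0)) (.v (nat_lit 4))), (.mul (.v (nat_lit 4)) (.v (nat_lit 0)))), ((.mul (.v (nat_lit 0)) (.v (nat_lit 5))), (.mul (.v (nat_lit 5)) (.v (nat_lit 0)))), ((.mul (.v (nat_lit 1))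 (.v (nat_lit 3))), (.mul (.v (nat_lit 3)) (.v (nat_lit 1)))), ((.mul (.v (nat_lit 2)) (.v (nat_lit 4))), (.mul (.v (nat_lit 4)) (.v (nat_lit 2)))), ((.mul (.v (nat_lit 3)) (.v (nat_lit 4))), (.mul (.v (nat_lit 4)) (.v (nat_lit 3)))), ((.mul (.mul (.v (nat_lit 4)) (.v (nat_lit 1))) (.v (nat_lit 4))), (.mul (.v (nat_lit 1)) (.v (nat_lit 0)))), ((.mul (.mul (.v (nat_lit 3)) (.v (nat_lit 2))) (.v (nat_lit 3))), (.mul (.v (nat_lit 2)) (.v (nat_lit 0)))), ((.mul (.v (nat_lit 5)) (.v (nat_lit 1))), (.mul (.v (nat_lit 1)) (.v (nat_lit 5)))), ((.mul (.mul (.v (nat_lit 3)) (.v (nat_lit 5))) (.v (nat_lit 3))), (.mul (.v (nat_lit 5)) (.v (nat_lit 1)))), ((.mul (.v (nat_lit 5)) (.v (nat_lit 2))), (.mul (.v (nat_lit 2)) (.v (nat_lit 5)))), ((.mul (.mul (.v (nat_lit 4)) (.v (nat_lit 5))) (.v (nat_lit 4))), (.mul (.v (nat_lit 5)) (.v (nat_lit 2))))] from t)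
    (AllEq.append (show AllEq [z, u, v, a, b, r, p] [((.pw (.v (nat_lit 6)) (nat_lit 3)), .one), ((.mul (.mul (.v (nat_lit 6)) (.v (nat_lit 0))) (.inv (.v (nat_lit 6)))), (.v (nat_lit 1))), ((.mul (.mul (.v (nat_lit 6)) (.v (nat_lit 1))) (.inv (.v (nat_lit 6)))), (.mul (.v (nat_lit 0)) (.v (nat_lit 1))))] from h)
    (AllEq.append (show AllEq [z, u, v, a, b, r, p] [((.mul (.mul (.v (nat_lit 6)) (.v (nat_lit 3))) (.inv (.v (nat_lit 6)))), (.v (nat_lit 3)))] from ⟨e0, trivial⟩)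
    (AllEq.append (show AllEq [z, u, v, a, b, r, p] [((.mul (.mul (.v (nat_lit 6)) (.v (nat_lit 2))) (.inv (.v (nat_lit 6)))), (.mul (.v (nat_lit 5)) (.v (nat_lit 0))))] from ⟨e1, trivial⟩)
    (show AllEq [z, u, v, a, b, r, p] [((.mul (.mul (.v (nat_lit 6)) (.v (nat_lit 5))) (.inv (.v (nat_lit 6)))), (.mul (.mul (.v (nat_lit 2)) (.v (nat_lit 5))) (.mul (.v (nat_lit 0)) (.v (nat_lit 1)))))] from ⟨e2, trivial⟩)))))
    [(.v (nat_lit 0)), (.v (nat_lit 1)), (.v (nat_lit 2)), (.v (nat_lit 3)), (.v (nat_lit 4)), (.v (nat_lit 5)), (.v (nat_lit 6)), (.inv (.v (nat_lit 6)))] (by decide +kernel)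
noncomputable def pa13_0_S0 : List ℕ := [nat_lit 0x1f00001300000b00000800001000001800e012, nat_lit 0x1b00002000000200c010]
noncomputable def pa13_0_S : List (List ℕ) := [pa13_0_S0]
noncomputable def pa13_0_defs : List ℕ := [(nat_lit 0x60000400000004000000030050000200500001007000000020000000000000)]
noncomputable def pa13_0_recs : List ℕ := [(nat_lit 0x60000500006010000500007)]
noncomputable def pa13_0_T : List (List ℕ × ℕ) := [([2,5,0,7,0,5,6], (nat_lit 0xc00001400001c00000600001700000f000007))]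
noncomputable def pa13_0_D : H26.Dag := ⟨[0,1,2,3,4,5,7,6], [[0,0],
  [1,1],
  [2,2],
  [3,3],
  [4,4],
  [5,5],
  [6,7],
  [7,6],
  [1,7,0,6],
  [2,5,0,1,7,5,6]], [], pa13_0_defs, pa13_0_recs⟩
theorem pa13_0_c : pa13_0_D.check pa13_0_S pa13_0_T = true := by decide +kernel
theorem pa13_0 {G : Type*} [Group G] {g : ℕ → G} (hR : Rels g pa13_r_R) {H : Subgroup G}
    (hH : ∀ k ∈ [], g k ∈ H) : evA g [2,5,0,7,0,5,6] ∈ H :=
  mem_dag (K := 8) (J := [0,1,2,3,4,5,6,7,24,28]) (D := pa13_0_D) (by decide +kernel) pa13_0_c (by decide +kernel) hR hH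
theorem pa13 {G : Type*} [Group G] {z u v a b r p : G}
    (t : TA z u v a b r)
    (h : P0 z u p)
    (e0 : p * a * p⁻¹ = a)
    (e1 : p * v * p⁻¹ = r * z)
    (e2 : p * r * p⁻¹ = v * r * (z * u)) :
    p * (r * z) * p⁻¹ = v * (r * z) :=
  mul_inv_eq_one.1 ((evA_eq_tm ((InvI.cons t.1 (InvI.cons t.2.1 (InvI.cons t.2.2.1 (InvI.cons t.2.2.2.1 (InvI.cons t.2.2.2.2.1 (InvI.cons t.2.2.2.2.2.1 InvI.nil)))))) : InvI [z, u, v, a, b, r, p] [(nat_lit 0), (nat_lit 1), (nat_lit 2), (nat_lit 3), (nat_lit 4), (nat_lit 5)]) [(.v (nat_lit 0)), (.v (nat_lit 1)), (.v (nat_lit 2)), (.v (nat_lit 3)), (.v (nat_lit 4)), (.v (nat_lit 5)), (.v (nat_lit 6)), (.inv (.v (nat_lit 6)))] [2,5,0,7,0,5,6] (.mul (.mul (.mul (.v (nat_lit 6)) (.mul (.v (nat_lit 5)) (.v (nat_lit 0)))) (.inv (.v (nat_lit 6)))) (.inv (.mul (.v (nat_lit 2)) (.mul (.v (nat_lit 5)) (.v (nat_lit 0)))))) (by decide +kernel)).symm.trans (Subgroup.mem_bot.1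 (pa13_0 (pa13_r t h e0 e1 e2) (H := ⊥) (List.forall_mem_nil _))))
noncomputable def pa20_r_R : List (List ℕ) := [[0,0],
  [1,1],
  [2,2],
  [3,3],
  [4,4],
  [5,5],
  [6,7],
  [7,6],
  [2,1,2,1],
  [1,0,1,0],
  [2,0,2,0],
  [3,0,3,0],
  [4,0,4,0],
  [5,0,5,0],
  [3,1,3,1],
  [4,2,4,2],
  [4,3,4,3],
  [1,0,4,1,4],
  [2,0,3,2,3],
  [1,5,1,5],
  [5,1,3,5,3],
  [2,5,2,5],
  [5,2,4,5,4],
  [6,6,6],
  [1,7,0,6],
  [0,1,7,1,6],
  [3,7,3,6],
  [5,1,7,2,6],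
  [2,5,7,5,6]]
theorem pa20_r {G : Type*} [Group G] {z u v a b r p : G}
    (t : TA z u v a b r)
    (h : P0 z u p)
    (e0 : p * a * p⁻¹ = a)
    (e1 : p * v * p⁻¹ = r * u)
    (e2 : p * r * p⁻¹ = v * r) :
    Rels (nthG [z, u, v, a, b, r, p, p⁻¹]) pa20_r_R :=
  rels_of_eqs ((InvI.cons t.1 (InvI.cons t.2.1 (InvI.cons t.2.2.1 (InvI.cons t.2.2.2.1 (InvI.cons t.2.2.2.2.1 (InvI.cons t.2.2.2.2.2.1 InvI.nil)))))) : InvI [z, u, v, a, b, r, p] [(nat_lit 0), (nat_lit 1), (nat_lit 2), (nat_lit 3), (nat_lit 4), (nat_lit 5)])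
    (AllEq.append (show AllEq [z, u, v, a, b, r, p] [((.mul (.v (nat_lit 0)) (.v (nat_lit 0))), .one), ((.mul (.v (nat_lit 1)) (.v (nat_lit 1))), .one), ((.mul (.v (nat_lit 2)) (.v (nat_lit 2))), .one), ((.mul (.v (nat_lit 3)) (.v (nat_lit 3))), .one), ((.mul (.v (nat_lit 4)) (.v (nat_lit 4))), .one), ((.mul (.v (nat_lit 5)) (.v (nat_lit 5))), .one), ((.mul (.v (nat_lit 1)) (.v (nat_lit 2))), (.mul (.v (nat_lit 2)) (.v (nat_lit 1)))), ((.mul (.v (nat_lit 0)) (.v (nat_lit 1))), (.mul (.v (nat_lit 1)) (.v (nat_lit 0)))), ((.mul (.v (nat_lit 0)) (.v (nat_lit 2))), (.mul (.v (nat_lit 2)) (.v (nat_lit 0)))), ((.mul (.v (nat_lit 0)) (.v (nat_lit 3))), (.mul (.v (nat_lit 3)) (.v (nat_lit 0)))), ((.mul (.v (nat_lit 0)) (.v (nat_lit 4))), (.mul (.v (nat_lit 4)) (.v (nat_lit 0)))), ((.mul (.v (nat_lit 0)) (.v (nat_lit 5))), (.mul (.v (nat_lit 5)) (.v (nat_lit 0)))), ((.mul (.v (nat_lit 1))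 (.v (nat_lit 3))), (.mul (.v (nat_lit 3)) (.v (nat_lit 1)))), ((.mul (.v (nat_lit 2)) (.v (nat_lit 4))), (.mul (.v (nat_lit 4)) (.v (nat_lit 2)))), ((.mul (.v (nat_lit 3)) (.v (nat_lit 4))), (.mul (.v (nat_lit 4)) (.v (nat_lit 3)))), ((.mul (.mul (.v (nat_lit 4)) (.v (nat_lit 1))) (.v (nat_lit 4))), (.mul (.v (nat_lit 1)) (.v (nat_lit 0)))), ((.mul (.mul (.v (nat_lit 3)) (.v (nat_lit 2))) (.v (nat_lit 3))), (.mul (.v (nat_lit 2)) (.v (nat_lit 0)))), ((.mul (.v (nat_lit 5)) (.v (nat_lit 1))), (.mul (.v (nat_lit 1)) (.v (nat_lit 5)))), ((.mul (.mul (.v (nat_lit 3)) (.v (nat_lit 5))) (.v (nat_lit 3))), (.mul (.v (nat_lit 5)) (.v (nat_lit 1)))), ((.mul (.v (nat_lit 5)) (.v (nat_lit 2))), (.mul (.v (nat_lit 2)) (.v (nat_lit 5)))), ((.mul (.mul (.v (nat_lit 4)) (.v (nat_lit 5))) (.v (nat_lit 4))), (.mul (.v (nat_lit 5)) (.v (nat_lit 2))))] from t)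
    (AllEq.append (show AllEq [z, u, v, a, b, r, p] [((.pw (.v (nat_lit 6)) (nat_lit 3)), .one), ((.mul (.mul (.v (nat_lit 6)) (.v (nat_lit 0))) (.inv (.v (nat_lit 6)))), (.v (nat_lit 1))), ((.mul (.mul (.v (nat_lit 6)) (.v (nat_lit 1))) (.inv (.v (nat_lit 6)))), (.mul (.v (nat_lit 0)) (.v (nat_lit 1))))] from h)
    (AllEq.append (show AllEq [z, u, v, a, b, r, p] [((.mul (.mul (.v (nat_lit 6)) (.v (nat_lit 3))) (.inv (.v (nat_lit 6)))), (.v (nat_lit 3)))] from ⟨e0, trivial⟩)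
    (AllEq.append (show AllEq [z, u, v, a, b, r, p] [((.mul (.mul (.v (nat_lit 6)) (.v (nat_lit 2))) (.inv (.v (nat_lit 6)))), (.mul (.v (nat_lit 5)) (.v (nat_lit 1))))] from ⟨e1, trivial⟩)
    (show AllEq [z, u, v, a, b, r, p] [((.mul (.mul (.v (nat_lit 6)) (.v (nat_lit 5))) (.inv (.v (nat_lit 6)))), (.mul (.v (nat_lit 2)) (.v (nat_lit 5))))] from ⟨e2, trivial⟩)))))
    [(.v (nat_lit 0)), (.v (nat_lit 1)), (.v (nat_lit 2)), (.v (nat_lit 3)), (.v (nat_lit 4)), (.v (nat_lit 5)), (.v (nat_lit 6)), (.inv (.v (nat_lit 6)))] (by decide +kernel)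
noncomputable def pa20_0_S0 : List ℕ := [nat_lit 0x1b000007000014004010, nat_lit 0x1f000007000018000016, nat_lit 0x23000020006014, nat_lit 0x2700000b000014008012, nat_lit 0x2f00000f00001800000500001a, nat_lit 0x33000030006014, nat_lit 0x3b000038006014, nat_lit 0x3b00000d00002700002c00c01a, nat_lit 0x3b00001300001000003400c01c, nat_lit 0xa00001100001500002100001e00001c, nat_lit 0x2400002600002b00000e, nat_lit 0x1b00002a00002800000a, nat_lit 0x2e00000e000002, nat_lit 0x3b00003100000200003c00c018, nat_lit 0x1900003500002200001600c01a, nat_lit 0x1b00002000001100003900003701001c, nat_lit 0x1400003d00001b00000a, nat_lit 0x42000007000000]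
noncomputable def pa20_0_S : List (List ℕ) := [pa20_0_S0]
noncomputable def pa20_0_defs : List ℕ := [(nat_lit 0x7000040060000400700003006000030070000200500002007000010060000100500001006000000050000000200000001000000000000000000000)]
noncomputable def pa20_0_recs : List ℕ := [(nat_lit 0xff0000100000ff0000400006020000b0000d010000e0000e010000400006ff0000900006ff0000200001ff0000a00008050000c0000e020000a0000e070000d0000e070000b0000c05000070000b010000400009070000700008010000500007000000400006)]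
noncomputable def pa20_0_T : List (List ℕ × ℕ) := [([0], (nat_lit 0x45))]
noncomputable def pa20_0_D : H26.Dag := ⟨[0,1,2,3,4,5,7,6], [[0,0],
  [1,1],
  [2,2],
  [3,3],
  [4,4],
  [5,5],
  [6,7],
  [7,6],
  [5,0,5,0],
  [1,5,1,5],
  [6,6,6],
  [1,7,0,6],
  [0,1,7,1,6],
  [5,1,7,2,6],
  [2,5,7,5,6]], [], pa20_0_defs, pa20_0_recs⟩
theorem pa20_0_c : pa20_0_D.check pa20_0_S pa20_0_T = true := by decide +kernel
theorem pa20_0 {G : Type*} [Group G] {g : ℕ → G} (hR : Rels g pa20_r_R) {H : Subgroup G}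
    (hH : ∀ k ∈ [], g k ∈ H) : evA g [0] ∈ H :=
  mem_dag (K := 8) (J := [0,1,2,3,4,5,6,7,13,19,23,24,25,27,28]) (D := pa20_0_D) (by decide +kernel) pa20_0_c (by decide +kernel) hR hH
theorem pa20 {G : Type*} [Group G] {z u v a b r p : G}
    (t : TA z u v a b r)
    (h : P0 z u p)
    (e0 : p * a * p⁻¹ = a)
    (e1 : p * v * p⁻¹ = r * u)
    (e2 : p * r * p⁻¹ = v * r) :
    z = 1 :=
  mul_inv_eq_one.1 ((evA_eq_tm ((InvI.cons t.1 (InvI.cons t.2.1 (InvI.cons t.2.2.1 (InvI.cons t.2.2.2.1 (InvI.cons t.2.2.2.2.1 (InvI.cons t.2.2.2.2.2.1 InvI.nil)))))) : InvI [z, u, v, a, b, r, p] [(nat_lit 0), (nat_lit 1), (nat_lit 2), (nat_lit 3), (nat_lit 4), (nat_lit 5)]) [(.v (nat_lit 0)), (.v (nat_lit 1)), (.v (nat_lit 2)), (.v (nat_lit 3)), (.v (nat_lit 4)), (.v (nat_lit 5)), (.v (nat_lit 6)), (.inv (.v (nat_lit 6)))] [0] (.mul (.v (nat_lit 0)) (.inv .one)) (by decide +kernel)).symm.trans (Subgroup.mem_bot.1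 (pa20_0 (pa20_r t h e0 e1 e2) (H := ⊥) (List.forall_mem_nil _))))
noncomputable def pa21_r_R : List (List ℕ) := [[0,0],
  [1,1],
  [2,2],
  [3,3],
  [4,4],
  [5,5],
  [6,7],
  [7,6],
  [2,1,2,1],
  [1,0,1,0],
  [2,0,2,0],
  [3,0,3,0],
  [4,0,4,0],
  [5,0,5,0],
  [3,1,3,1],
  [4,2,4,2],
  [4,3,4,3],
  [1,0,4,1,4],
  [2,0,3,2,3],
  [1,5,1,5],
  [5,1,3,5,3],
  [2,5,2,5],
  [5,2,4,5,4],
  [6,6,6],
  [1,7,0,6],
  [0,1,7,1,6],
  [3,7,3,6],
  [5,1,7,2,6],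
  [2,5,0,7,5,6]]
theorem pa21_r {G : Type*} [Group G] {z u v a b r p : G}
    (t : TA z u v a b r)
    (h : P0 z u p)
    (e0 : p * a * p⁻¹ = a)
    (e1 : p * v * p⁻¹ = r * u)
    (e2 : p * r * p⁻¹ = v * r * z) :
    Rels (nthG [z, u, v, a, b, r, p, p⁻¹]) pa21_r_R :=
  rels_of_eqs ((InvI.cons t.1 (InvI.cons t.2.1 (InvI.cons t.2.2.1 (InvI.cons t.2.2.2.1 (InvI.cons t.2.2.2.2.1 (InvI.cons t.2.2.2.2.2.1 InvI.nil)))))) : InvI [z, u, v, a, b, r, p] [(nat_lit 0), (nat_lit 1), (nat_lit 2), (nat_lit 3), (nat_lit 4), (nat_lit 5)])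
    (AllEq.append (show AllEq [z, u, v, a, b, r, p] [((.mul (.v (nat_lit 0)) (.v (nat_lit 0))), .one), ((.mul (.v (nat_lit 1)) (.v (nat_lit 1))), .one), ((.mul (.v (nat_lit 2)) (.v (nat_lit 2))), .one), ((.mul (.v (nat_lit 3)) (.v (nat_lit 3))), .one), ((.mul (.v (nat_lit 4)) (.v (nat_lit 4))), .one), ((.mul (.v (nat_lit 5)) (.v (nat_lit 5))), .one), ((.mul (.v (nat_lit 1)) (.v (nat_lit 2))), (.mul (.v (nat_lit 2)) (.v (nat_lit 1)))), ((.mul (.v (nat_lit 0)) (.v (nat_lit 1))), (.mul (.v (nat_lit 1)) (.v (nat_lit 0)))), ((.mul (.v (nat_lit 0)) (.v (nat_lit 2))), (.mul (.v (nat_lit 2)) (.v (nat_lit 0)))), ((.mul (.v (nat_lit 0)) (.v (nat_lit 3))), (.mul (.v (nat_lit 3)) (.v (nat_lit 0)))), ((.mul (.v (nat_lit 0)) (.v (nat_lit 4))), (.mul (.v (nat_lit 4)) (.v (nat_lit 0)))), ((.mul (.v (nat_lit 0)) (.v (nat_lit 5))), (.mul (.v (nat_lit 5)) (.v (nat_lit 0)))), ((.mul (.v (nat_lit 1))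 (.v (nat_lit 3))), (.mul (.v (nat_lit 3)) (.v (nat_lit 1)))), ((.mul (.v (nat_lit 2)) (.v (nat_lit 4))), (.mul (.v (nat_lit 4)) (.v (nat_lit 2)))), ((.mul (.v (nat_lit 3)) (.v (nat_lit 4))), (.mul (.v (nat_lit 4)) (.v (nat_lit 3)))), ((.mul (.mul (.v (nat_lit 4)) (.v (nat_lit 1))) (.v (nat_lit 4))), (.mul (.v (nat_lit 1)) (.v (nat_lit 0)))), ((.mul (.mul (.v (nat_lit 3)) (.v (nat_lit 2))) (.v (nat_lit 3))), (.mul (.v (nat_lit 2)) (.v (nat_lit 0)))), ((.mul (.v (nat_lit 5)) (.v (nat_lit 1))), (.mul (.v (nat_lit 1)) (.v (nat_lit 5)))), ((.mul (.mul (.v (nat_lit 3)) (.v (nat_lit 5))) (.v (nat_lit 3))), (.mul (.v (nat_lit 5)) (.v (nat_lit 1)))), ((.mul (.v (nat_lit 5)) (.v (nat_lit 2))), (.mul (.v (nat_lit 2)) (.v (nat_lit 5)))), ((.mul (.mul (.v (nat_lit 4)) (.v (nat_lit 5))) (.v (nat_lit 4))), (.mul (.v (nat_lit 5)) (.v (nat_lit 2))))] from t)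
    (AllEq.append (show AllEq [z, u, v, a, b, r, p] [((.pw (.v (nat_lit 6)) (nat_lit 3)), .one), ((.mul (.mul (.v (nat_lit 6)) (.v (nat_lit 0))) (.inv (.v (nat_lit 6)))), (.v (nat_lit 1))), ((.mul (.mul (.v (nat_lit 6)) (.v (nat_lit 1))) (.inv (.v (nat_lit 6)))), (.mul (.v (nat_lit 0)) (.v (nat_lit 1))))] from h)
    (AllEq.append (show AllEq [z, u, v, a, b, r, p] [((.mul (.mul (.v (nat_lit 6)) (.v (nat_lit 3))) (.inv (.v (nat_lit 6)))), (.v (nat_lit 3)))] from ⟨e0, trivial⟩)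
    (AllEq.append (show AllEq [z, u, v, a, b, r, p] [((.mul (.mul (.v (nat_lit 6)) (.v (nat_lit 2))) (.inv (.v (nat_lit 6)))), (.mul (.v (nat_lit 5)) (.v (nat_lit 1))))] from ⟨e1, trivial⟩)
    (show AllEq [z, u, v, a, b, r, p] [((.mul (.mul (.v (nat_lit 6)) (.v (nat_lit 5))) (.inv (.v (nat_lit 6)))), (.mul (.mul (.v (nat_lit 2)) (.v (nat_lit 5))) (.v (nat_lit 0))))] from ⟨e2, trivial⟩)))))
    [(.v (nat_lit 0)), (.v (nat_lit 1)), (.v (nat_lit 2)), (.v (nat_lit 3)), (.v (nat_lit 4)), (.v (nat_lit 5)), (.v (nat_lit 6)), (.inv (.v (nat_lit 6)))] (by decide +kernel)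
noncomputable def pa21_0_S0 : List ℕ := [nat_lit 0xf00000700000c004010, nat_lit 0x2b000014004014, nat_lit 0x2f000018004014, nat_lit 0x2f00000200002c000016, nat_lit 0x3300000500000d00000a004018, nat_lit 0x1b00003400001200002000c012, nat_lit 0x27000015000024008016]
noncomputable def pa21_0_S : List (List ℕ) := [pa21_0_S0]
noncomputable def pa21_0_defs : List ℕ := [(nat_lit 0x4006000030060000200700007007000060040000500400004007000030070000200400001004000000000000000000000)]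
noncomputable def pa21_0_recs : List ℕ := [(nat_lit 0x80000901000070000601000050000c010000a0000b06000050000b06000040000a000000200003)]
noncomputable def pa21_0_T : List (List ℕ × ℕ) := [([0,4,7,4,7,0,6,4,6,4], (nat_lit 0xc00001400001c00002400001900002700001f00001700000f000007))]
noncomputable def pa21_0_D : H26.Dag := ⟨[0,1,2,3,4,5,7,6], [[0,0],
  [1,1],
  [2,2],
  [3,3],
  [4,4],
  [5,5],
  [6,7],
  [7,6],
  [4,0,4,0],
  [1,0,4,1,4],
  [6,6,6],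
  [1,7,0,6],
  [0,1,7,1,6]], [], pa21_0_defs, pa21_0_recs⟩
theorem pa21_0_c : pa21_0_D.check pa21_0_S pa21_0_T = true := by decide +kernel
theorem pa21_0 {G : Type*} [Group G] {g : ℕ → G} (hR : Rels g pa21_r_R) {H : Subgroup G}
    (hH : ∀ k ∈ [], g k ∈ H) : evA g [0,4,7,4,7,0,6,4,6,4] ∈ H :=
  mem_dag (K := 8) (J := [0,1,2,3,4,5,6,7,12,17,23,24,25]) (D := pa21_0_D) (by decide +kernel) pa21_0_c (by decide +kernel) hR hH
noncomputable def pa21_1_S0 : List ℕ := [nat_lit 0x2b00000b000008000010012010, nat_lit 0x1700000100002b00001400c012, nat_lit 0x2f00001b000005000020012010, nat_lit 0x2700000900002f00002400c012]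
noncomputable def pa21_1_S : List (List ℕ) := [pa21_1_S0]
noncomputable def pa21_1_defs : List ℕ := [(nat_lit 0x60000000200700007007000060040000500400004007000030070000200400001004000000010000000000000)]
noncomputable def pa21_1_recs : List ℕ := [(nat_lit 0x1000080000901000070000b01000040000501000030000a)]
noncomputable def pa21_1_T : List (List ℕ × ℕ) := [([1,4,7,4,7,1,6,4,6,4], (nat_lit 0xc00001400001c00002400000d00002700001f00001700000f000007))]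
noncomputable def pa21_1_D : H26.Dag := ⟨[0,1,2,3,4,5,7,6], [[0,0],
  [1,1],
  [2,2],
  [3,3],
  [4,4],
  [5,5],
  [6,7],
  [7,6],
  [1,0,4,1,4],
  [0,1,7,1,6]], [], pa21_1_defs, pa21_1_recs⟩
theorem pa21_1_c : pa21_1_D.check pa21_1_S pa21_1_T = true := by decide +kernel
theorem pa21_1 {G : Type*} [Group G] {g : ℕ → G} (hR : Rels g pa21_r_R) {H : Subgroup G}
    (hH : ∀ k ∈ [], g k ∈ H) : evA g [1,4,7,4,7,1,6,4,6,4] ∈ H :=
  mem_dag (K := 8) (J := [0,1,2,3,4,5,6,7,17,25]) (D := pa21_1_D) (by decide +kernel) pa21_1_c (by decide +kernel) hR hH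
noncomputable def pa21_2_S0 : List ℕ := [nat_lit 0x1700000700000c004012, nat_lit 0x1b000007000010004014, nat_lit 0x1f000007000014004016, nat_lit 0x2300000b000010004010, nat_lit 0x2700000100001700002000c01a, nat_lit 0x3700001700001c004010, nat_lit 0x37000002000024004014, nat_lit 0x3b000006000030004016, nat_lit 0x4300001900001600003c00c01a, nat_lit 0x4700002300002c00801c, nat_lit 0x4b00002700002400004801001e, nat_lit 0x4f000012000040008020, nat_lit 0x4f00001200000a00003400c022, nat_lit 0x53000025000029004018, nat_lit 0x5300002500004700004400c01e, nat_lit 0x5700001d000021004012, nat_lit 0x5700002f00000500001501001a, nat_lit 0x5f00003f00001100004c010024, nat_lit 0x6300002d00003200005c00c01a, nat_lit 0x6700003e000039000036000045010026, nat_lit 0x6f00006300006000004d01001e, nat_lit 0x7300006b000049000070010024]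
noncomputable def pa21_2_S : List (List ℕ) := [pa21_2_S0]
noncomputable def pa21_2_defs : List ℕ := [(nat_lit 0x20001a0050001800700016007000150040000f0020000f0040000c0010000b0040000a0070000900500009005000080040000800700007004000060020000500700004004000030050000200400002002000020040000100200001001000010040000000200000001000000000000000000000)]
noncomputable def pa21_2_recs : List ℕ := [(nat_lit 0x60001b0001c04000190001b050001700019010001600018060001200017040000d00015000001000015050001000014020001200014010000c00013000000f00013040001100012020000a00011010000e00010000000b0000e00000080000d01000060000d010000700009010000300008000000400007000000300006000000200005)]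
noncomputable def pa21_2_T : List (List ℕ × ℕ) := [([2,1,0,4,7,4,7,2,6,4,6,4], (nat_lit 0x1400003400005c00006c00007400005600005200006700004200001a00000e00000f))]
noncomputable def pa21_2_D : H26.Dag := ⟨[0,1,2,3,4,5,7,6], [[0,0],
  [1,1],
  [2,2],
  [3,3],
  [4,4],
  [5,5],
  [6,7],
  [7,6],
  [2,1,2,1],
  [1,0,1,0],
  [2,0,2,0],
  [4,0,4,0],
  [4,2,4,2],
  [1,0,4,1,4],
  [2,5,2,5],
  [5,2,4,5,4],
  [1,7,0,6],
  [0,1,7,1,6],
  [5,1,7,2,6],
  [2,5,0,7,5,6]], [], pa21_2_defs, pa21_2_recs⟩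
theorem pa21_2_c : pa21_2_D.check pa21_2_S pa21_2_T = true := by decide +kernel
theorem pa21_2 {G : Type*} [Group G] {g : ℕ → G} (hR : Rels g pa21_r_R) {H : Subgroup G}
    (hH : ∀ k ∈ [], g k ∈ H) : evA g [2,1,0,4,7,4,7,2,6,4,6,4] ∈ H :=
  mem_dag (K := 8) (J := [0,1,2,3,4,5,6,7,8,9,10,12,15,17,21,22,24,25,27,28]) (D := pa21_2_D) (by decide +kernel) pa21_2_c (by decide +kernel) hR hH
theorem pa21 {G : Type*} [Group G] {z u v a b r p : G}
    (t : TA z u v a b r)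
    (h : P0 z u p)
    (e0 : p * a * p⁻¹ = a)
    (e1 : p * v * p⁻¹ = r * u)
    (e2 : p * r * p⁻¹ = v * r * z) :
    (b * p) ^ 2 * z = z * (b * p) ^ 2 ∧ (b * p) ^ 2 * u = u * (b * p) ^ 2 ∧ (b * p) ^ 2 * v * ((b * p) ^ 2)⁻¹ = v * u * z :=
  ⟨mul_inv_eq_one.1 ((evA_eq_tm ((InvI.cons t.1 (InvI.cons t.2.1 (InvI.cons t.2.2.1 (InvI.cons t.2.2.2.1 (InvI.cons t.2.2.2.2.1 (InvI.cons t.2.2.2.2.2.1 InvI.nil)))))) : InvI [z, u, v, a, b, r, p] [(nat_lit 0), (nat_lit 1), (nat_lit 2), (nat_lit 3), (nat_lit 4), (nat_lit 5)]) [(.v (nat_lit 0)), (.v (nat_lit 1)), (.v (nat_lit 2)), (.v (nat_lit 3)), (.v (nat_lit 4)), (.v (nat_lit 5)), (.v (nat_lit 6)), (.inv (.v (nat_lit 6)))] [0,4,7,4,7,0,6,4,6,4] (.mul (.mul (.pw (.mul (.v (nat_lit 4)) (.v (nat_lit 6))) (nat_lit 2)) (.v (nat_lit 0))) (.inv (.mul (.v (nat_lit 0)) (.pw (.mul (.v (nat_lit 4)) (.v (nat_lit 6))) (nat_lit 2))))) (by decide +kernel)).symm.trans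 (Subgroup.mem_bot.1 (pa21_0 (pa21_r t h e0 e1 e2) (H := ⊥) (List.forall_mem_nil _)))),
   mul_inv_eq_one.1 ((evA_eq_tm ((InvI.cons t.1 (InvI.cons t.2.1 (InvI.cons t.2.2.1 (InvI.cons t.2.2.2.1 (InvI.cons t.2.2.2.2.1 (InvI.cons t.2.2.2.2.2.1 InvI.nil)))))) : InvI [z, u, v, a, b, r, p] [(nat_lit 0), (nat_lit 1), (nat_lit 2), (nat_lit 3), (nat_lit 4), (nat_lit 5)]) [(.v (nat_lit 0)), (.v (nat_lit 1)), (.v (nat_lit 2)), (.v (nat_lit 3)), (.v (nat_lit 4)), (.v (nat_lit 5)), (.v (nat_lit 6)), (.inv (.v (nat_lit 6)))] [1,4,7,4,7,1,6,4,6,4] (.mul (.mul (.pw (.mul (.v (nat_lit 4)) (.v (nat_lit 6))) (nat_lit 2)) (.v (nat_lit 1))) (.inv (.mul (.v (nat_lit 1)) (.pw (.mul (.v (nat_lit 4)) (.v (nat_lit 6))) (nat_lit 2))))) (by decide +kernel)).symm.trans (Subgroup.mem_bot.1 (pa21_1 (pa21_r t h e0 e1 e2) (H := ⊥) (List.forall_mem_nil _)))),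
   mul_inv_eq_one.1 ((evA_eq_tm ((InvI.cons t.1 (InvI.cons t.2.1 (InvI.cons t.2.2.1 (InvI.cons t.2.2.2.1 (InvI.cons t.2.2.2.2.1 (InvI.cons t.2.2.2.2.2.1 InvI.nil)))))) : InvI [z, u, v, a, b, r, p] [(nat_lit 0), (nat_lit 1), (nat_lit 2), (nat_lit 3), (nat_lit 4), (nat_lit 5)]) [(.v (nat_lit 0)), (.v (nat_lit 1)), (.v (nat_lit 2)), (.v (nat_lit 3)), (.v (nat_lit 4)), (.v (nat_lit 5)), (.v (nat_lit 6)), (.inv (.v (nat_lit 6)))] [2,1,0,4,7,4,7,2,6,4,6,4] (.mul (.mul (.mul (.pw (.mul (.v (nat_lit 4)) (.v (nat_lit 6))) (nat_lit 2)) (.v (nat_lit 2))) (.inv (.pw (.mul (.v (nat_lit 4)) (.v (nat_lit 6))) (nat_lit 2)))) (.inv (.mul (.mul (.v (nat_lit 2)) (.v (nat_lit 1))) (.v (nat_lit 0))))) (by decide +kernel)).symm.trans (Subgroup.mem_bot.1 (pa21_2 (pa21_r t h e0 e1 e2) (H := ⊥) (List.forall_mem_nil _))))⟩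
noncomputable def pa22_r_R : List (List ℕ) := [[0,0],
  [1,1],
  [2,2],
  [3,3],
  [4,4],
  [5,5],
  [6,7],
  [7,6],
  [2,1,2,1],
  [1,0,1,0],
  [2,0,2,0],
  [3,0,3,0],
  [4,0,4,0],
  [5,0,5,0],
  [3,1,3,1],
  [4,2,4,2],
  [4,3,4,3],
  [1,0,4,1,4],
  [2,0,3,2,3],
  [1,5,1,5],
  [5,1,3,5,3],
  [2,5,2,5],
  [5,2,4,5,4],
  [6,6,6],
  [1,7,0,6],
  [0,1,7,1,6],
  [3,7,3,6],
  [5,1,7,2,6],
  [2,5,1,7,5,6]]
theorem pa22_r {G : Type*} [Group G] {z u v a b r p : G}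
    (t : TA z u v a b r)
    (h : P0 z u p)
    (e0 : p * a * p⁻¹ = a)
    (e1 : p * v * p⁻¹ = r * u)
    (e2 : p * r * p⁻¹ = v * r * u) :
    Rels (nthG [z, u, v, a, b, r, p, p⁻¹]) pa22_r_R :=
  rels_of_eqs ((InvI.cons t.1 (InvI.cons t.2.1 (InvI.cons t.2.2.1 (InvI.cons t.2.2.2.1 (InvI.cons t.2.2.2.2.1 (InvI.cons t.2.2.2.2.2.1 InvI.nil)))))) : InvI [z, u, v, a, b, r, p] [(nat_lit 0), (nat_lit 1), (nat_lit 2), (nat_lit 3), (nat_lit 4), (nat_lit 5)])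
    (AllEq.append (show AllEq [z, u, v, a, b, r, p] [((.mul (.v (nat_lit 0)) (.v (nat_lit 0))), .one), ((.mul (.v (nat_lit 1)) (.v (nat_lit 1))), .one), ((.mul (.v (nat_lit 2)) (.v (nat_lit 2))), .one), ((.mul (.v (nat_lit 3)) (.v (nat_lit 3))), .one), ((.mul (.v (nat_lit 4)) (.v (nat_lit 4))), .one), ((.mul (.v (nat_lit 5)) (.v (nat_lit 5))), .one), ((.mul (.v (nat_lit 1)) (.v (nat_lit 2))), (.mul (.v (nat_lit 2)) (.v (nat_lit 1)))), ((.mul (.v (nat_lit 0)) (.v (nat_lit 1))), (.mul (.v (nat_lit 1)) (.v (nat_lit 0)))), ((.mul (.v (nat_lit 0)) (.v (nat_lit 2))), (.mul (.v (nat_lit 2)) (.v (nat_lit 0)))), ((.mul (.v (nat_lit 0)) (.v (nat_lit 3))), (.mul (.v (nat_lit 3)) (.v (nat_lit 0)))), ((.mul (.v (nat_lit 0)) (.v (nat_lit 4))), (.mul (.v (nat_lit 4)) (.v (nat_lit 0)))), ((.mul (.v (nat_lit 0)) (.v (nat_lit 5))), (.mul (.v (nat_lit 5)) (.v (nat_lit 0)))), ((.mul (.v (nat_lit 1))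 (.v (nat_lit 3))), (.mul (.v (nat_lit 3)) (.v (nat_lit 1)))), ((.mul (.v (nat_lit 2)) (.v (nat_lit 4))), (.mul (.v (nat_lit 4)) (.v (nat_lit 2)))), ((.mul (.v (nat_lit 3)) (.v (nat_lit 4))), (.mul (.v (nat_lit 4)) (.v (nat_lit 3)))), ((.mul (.mul (.v (nat_lit 4)) (.v (nat_lit 1))) (.v (nat_lit 4))), (.mul (.v (nat_lit 1)) (.v (nat_lit 0)))), ((.mul (.mul (.v (nat_lit 3)) (.v (nat_lit 2))) (.v (nat_lit 3))), (.mul (.v (nat_lit 2)) (.v (nat_lit 0)))), ((.mul (.v (nat_lit 5)) (.v (nat_lit 1))), (.mul (.v (nat_lit 1)) (.v (nat_lit 5)))), ((.mul (.mul (.v (nat_lit 3)) (.v (nat_lit 5))) (.v (nat_lit 3))), (.mul (.v (nat_lit 5)) (.v (nat_lit 1)))), ((.mul (.v (nat_lit 5)) (.v (nat_lit 2))), (.mul (.v (nat_lit 2)) (.v (nat_lit 5)))), ((.mul (.mul (.v (nat_lit 4)) (.v (nat_lit 5))) (.v (nat_lit 4))), (.mul (.v (nat_lit 5)) (.v (nat_lit 2))))] from t)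
    (AllEq.append (show AllEq [z, u, v, a, b, r, p] [((.pw (.v (nat_lit 6)) (nat_lit 3)), .one), ((.mul (.mul (.v (nat_lit 6)) (.v (nat_lit 0))) (.inv (.v (nat_lit 6)))), (.v (nat_lit 1))), ((.mul (.mul (.v (nat_lit 6)) (.v (nat_lit 1))) (.inv (.v (nat_lit 6)))), (.mul (.v (nat_lit 0)) (.v (nat_lit 1))))] from h)
    (AllEq.append (show AllEq [z, u, v, a, b, r, p] [((.mul (.mul (.v (nat_lit 6)) (.v (nat_lit 3))) (.inv (.v (nat_lit 6)))), (.v (nat_lit 3)))] from ⟨e0, trivial⟩)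
    (AllEq.append (show AllEq [z, u, v, a, b, r, p] [((.mul (.mul (.v (nat_lit 6)) (.v (nat_lit 2))) (.inv (.v (nat_lit 6)))), (.mul (.v (nat_lit 5)) (.v (nat_lit 1))))] from ⟨e1, trivial⟩)
    (show AllEq [z, u, v, a, b, r, p] [((.mul (.mul (.v (nat_lit 6)) (.v (nat_lit 5))) (.inv (.v (nat_lit 6)))), (.mul (.mul (.v (nat_lit 2)) (.v (nat_lit 5))) (.v (nat_lit 1))))] from ⟨e2, trivial⟩)))))
    [(.v (nat_lit 0)), (.v (nat_lit 1)), (.v (nat_lit 2)), (.v (nat_lit 3)), (.v (nat_lit 4)), (.v (nat_lit 5)), (.v (nat_lit 6)), (.inv (.v (nat_lit 6)))] (by decide +kernel)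
noncomputable def pa22_0_S0 : List ℕ := [nat_lit 0x1f000007000018000016, nat_lit 0x2700000b000014008012, nat_lit 0x2b00000b00000800002400c018, nat_lit 0x2f00000f00001800000100001a, nat_lit 0x33000030006014, nat_lit 0x3700001300001800000100000d00001c, nat_lit 0x3b000038006014, nat_lit 0x3b00000500002700002c00c01a, nat_lit 0x3f00001b00000c00002801001a, nat_lit 0x3300000f00001400000500002100601c, nat_lit 0x2500001200001500001900401a, nat_lit 0x900001d00002900003f000010, nat_lit 0x1c00002d00002300000e, nat_lit 0x32000007000000]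
noncomputable def pa22_0_S : List (List ℕ) := [pa22_0_S0]
noncomputable def pa22_0_defs : List ℕ := [(nat_lit 0x200006007000040060000400700003006000030070000200500002007000010060000100700000006000000050000000200000001000000000000000000000)]
noncomputable def pa22_0_recs : List ℕ := [(nat_lit 0xff0000100000ff0000600008010000e0000f050000f0000c06000090000f020000a0000e070000d0000e020000b0000d070000b0000c05000070000b01000080000a010000400009010000500007)]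
noncomputable def pa22_0_T : List (List ℕ × ℕ) := [([0], (nat_lit 0x35))]
noncomputable def pa22_0_D : H26.Dag := ⟨[0,1,2,3,4,5,7,6], [[0,0],
  [1,1],
  [2,2],
  [3,3],
  [4,4],
  [5,5],
  [6,7],
  [7,6],
  [2,1,2,1],
  [1,5,1,5],
  [6,6,6],
  [1,7,0,6],
  [0,1,7,1,6],
  [5,1,7,2,6],
  [2,5,1,7,5,6]], [], pa22_0_defs, pa22_0_recs⟩
theorem pa22_0_c : pa22_0_D.check pa22_0_S pa22_0_T = true := by decide +kernel
theorem pa22_0 {G : Type*} [Group G] {g : ℕ → G} (hR : Rels g pa22_r_R) {H : Subgroup G}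
    (hH : ∀ k ∈ [], g k ∈ H) : evA g [0] ∈ H :=
  mem_dag (K := 8) (J := [0,1,2,3,4,5,6,7,8,19,23,24,25,27,28]) (D := pa22_0_D) (by decide +kernel) pa22_0_c (by decide +kernel) hR hH
theorem pa22 {G : Type*} [Group G] {z u v a b r p : G}
    (t : TA z u v a b r)
    (h : P0 z u p)
    (e0 : p * a * p⁻¹ = a)
    (e1 : p * v * p⁻¹ = r * u)
    (e2 : p * r * p⁻¹ = v * r * u) :
    z = 1 :=
  mul_inv_eq_one.1 ((evA_eq_tm ((InvI.cons t.1 (InvI.cons t.2.1 (InvI.cons t.2.2.1 (InvI.cons t.2.2.2.1 (InvI.cons t.2.2.2.2.1 (InvI.cons t.2.2.2.2.2.1 InvI.nil)))))) : InvI [z, u, v, a, b, r, p] [(nat_lit 0), (nat_lit 1), (nat_lit 2), (nat_lit 3), (nat_lit 4), (nat_lit 5)]) [(.v (nat_lit 0)), (.v (nat_lit 1)), (.v (nat_lit 2)), (.v (nat_lit 3)), (.v (nat_lit 4)), (.v (nat_lit 5)), (.v (nat_lit 6)), (.inv (.v (nat_lit 6)))] [0] (.mul (.v (nat_lit 0)) (.inv .one)) (by decide +kernel)).symm.trans (Subgroup.mem_bot.1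 (pa22_0 (pa22_r t h e0 e1 e2) (H := ⊥) (List.forall_mem_nil _))))
noncomputable def pa23_r_R : List (List ℕ) := [[0,0],
  [1,1],
  [2,2],
  [3,3],
  [4,4],
  [5,5],
  [6,7],
  [7,6],
  [2,1,2,1],
  [1,0,1,0],
  [2,0,2,0],
  [3,0,3,0],
  [4,0,4,0],
  [5,0,5,0],
  [3,1,3,1],
  [4,2,4,2],
  [4,3,4,3],
  [1,0,4,1,4],
  [2,0,3,2,3],
  [1,5,1,5],
  [5,1,3,5,3],
  [2,5,2,5],
  [5,2,4,5,4],
  [6,6,6],
  [1,7,0,6],
  [0,1,7,1,6],
  [3,7,3,6],
  [5,1,7,2,6],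
  [2,5,0,1,7,5,6]]
theorem pa23_r {G : Type*} [Group G] {z u v a b r p : G}
    (t : TA z u v a b r)
    (h : P0 z u p)
    (e0 : p * a * p⁻¹ = a)
    (e1 : p * v * p⁻¹ = r * u)
    (e2 : p * r * p⁻¹ = v * r * (z * u)) :
    Rels (nthG [z, u, v, a, b, r, p, p⁻¹]) pa23_r_R :=
  rels_of_eqs ((InvI.cons t.1 (InvI.cons t.2.1 (InvI.cons t.2.2.1 (InvI.cons t.2.2.2.1 (InvI.cons t.2.2.2.2.1 (InvI.cons t.2.2.2.2.2.1 InvI.nil)))))) : InvI [z, u, v, a, b, r, p] [(nat_lit 0), (nat_lit 1), (nat_lit 2), (nat_lit 3), (nat_lit 4), (nat_lit 5)])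
    (AllEq.append (show AllEq [z, u, v, a, b, r, p] [((.mul (.v (nat_lit 0)) (.v (nat_lit 0))), .one), ((.mul (.v (nat_lit 1)) (.v (nat_lit 1))), .one), ((.mul (.v (nat_lit 2)) (.v (nat_lit 2))), .one), ((.mul (.v (nat_lit 3)) (.v (nat_lit 3))), .one), ((.mul (.v (nat_lit 4)) (.v (nat_lit 4))), .one), ((.mul (.v (nat_lit 5)) (.v (nat_lit 5))), .one), ((.mul (.v (nat_lit 1)) (.v (nat_lit 2))), (.mul (.v (nat_lit 2)) (.v (nat_lit 1)))), ((.mul (.v (nat_lit 0)) (.v (nat_lit 1))), (.mul (.v (nat_lit 1)) (.v (nat_lit 0)))), ((.mul (.v (nat_lit 0)) (.v (nat_lit 2))), (.mul (.v (nat_lit 2)) (.v (nat_lit 0)))), ((.mul (.v (nat_lit 0)) (.v (nat_lit 3))), (.mul (.v (nat_lit 3)) (.v (nat_lit 0)))), ((.mul (.v (nat_lit 0)) (.v (nat_lit 4))), (.mul (.v (nat_lit 4)) (.v (nat_lit 0)))), ((.mul (.v (nat_lit 0)) (.v (nat_lit 5))), (.mul (.v (nat_lit 5)) (.v (nat_lit 0)))), ((.mul (.v (nat_lit 1))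 (.v (nat_lit 3))), (.mul (.v (nat_lit 3)) (.v (nat_lit 1)))), ((.mul (.v (nat_lit 2)) (.v (nat_lit 4))), (.mul (.v (nat_lit 4)) (.v (nat_lit 2)))), ((.mul (.v (nat_lit 3)) (.v (nat_lit 4))), (.mul (.v (nat_lit 4)) (.v (nat_lit 3)))), ((.mul (.mul (.v (nat_lit 4)) (.v (nat_lit 1))) (.v (nat_lit 4))), (.mul (.v (nat_lit 1)) (.v (nat_lit 0)))), ((.mul (.mul (.v (nat_lit 3)) (.v (nat_lit 2))) (.v (nat_lit 3))), (.mul (.v (nat_lit 2)) (.v (nat_lit 0)))), ((.mul (.v (nat_lit 5)) (.v (nat_lit 1))), (.mul (.v (nat_lit 1)) (.v (nat_lit 5)))), ((.mul (.mul (.v (nat_lit 3)) (.v (nat_lit 5))) (.v (nat_lit 3))), (.mul (.v (nat_lit 5)) (.v (nat_lit 1)))), ((.mul (.v (nat_lit 5)) (.v (nat_lit 2))), (.mul (.v (nat_lit 2)) (.v (nat_lit 5)))), ((.mul (.mul (.v (nat_lit 4)) (.v (nat_lit 5))) (.v (nat_lit 4))), (.mul (.v (nat_lit 5)) (.v (nat_lit 2))))] from t)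
    (AllEq.append (show AllEq [z, u, v, a, b, r, p] [((.pw (.v (nat_lit 6)) (nat_lit 3)), .one), ((.mul (.mul (.v (nat_lit 6)) (.v (nat_lit 0))) (.inv (.v (nat_lit 6)))), (.v (nat_lit 1))), ((.mul (.mul (.v (nat_lit 6)) (.v (nat_lit 1))) (.inv (.v (nat_lit 6)))), (.mul (.v (nat_lit 0)) (.v (nat_lit 1))))] from h)
    (AllEq.append (show AllEq [z, u, v, a, b, r, p] [((.mul (.mul (.v (nat_lit 6)) (.v (nat_lit 3))) (.inv (.v (nat_lit 6)))), (.v (nat_lit 3)))] from ⟨e0, trivial⟩)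
    (AllEq.append (show AllEq [z, u, v, a, b, r, p] [((.mul (.mul (.v (nat_lit 6)) (.v (nat_lit 2))) (.inv (.v (nat_lit 6)))), (.mul (.v (nat_lit 5)) (.v (nat_lit 1))))] from ⟨e1, trivial⟩)
    (show AllEq [z, u, v, a, b, r, p] [((.mul (.mul (.v (nat_lit 6)) (.v (nat_lit 5))) (.inv (.v (nat_lit 6)))), (.mul (.mul (.v (nat_lit 2)) (.v (nat_lit 5))) (.mul (.v (nat_lit 0)) (.v (nat_lit 1)))))] from ⟨e2, trivial⟩)))))
    [(.v (nat_lit 0)), (.v (nat_lit 1)), (.v (nat_lit 2)), (.v (nat_lit 3)), (.v (nat_lit 4)), (.v (nat_lit 5)), (.v (nat_lit 6)), (.inv (.v (nat_lit 6)))] (by decide +kernel)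
noncomputable def pa23_0_S0 : List ℕ := [nat_lit 0x1f000007000014004010, nat_lit 0x23000007000018000018, nat_lit 0x27000024006016, nat_lit 0x2b00000b000014008012, nat_lit 0x2f00000b00001c008018, nat_lit 0x2f00000b00000800002800c01a, nat_lit 0x3300000f00001800000500001c, nat_lit 0x37000034006016, nat_lit 0x3b00001b00000c00002c01001c, nat_lit 0x3f00001100001600000a00001900001d01a01e, nat_lit 0x3b00004000002600c014, nat_lit 0x200001300001000003800002900002200000e00c01e, nat_lit 0x1400002d00001f00000a, nat_lit 0x32000007000000]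
noncomputable def pa23_0_S : List (List ℕ) := [pa23_0_S0]
noncomputable def pa23_0_defs : List ℕ := [(nat_lit 0x500006002000060070000300600003007000020050000200700001006000010050000100700000006000000050000000200000001000000000000000000000)]
noncomputable def pa23_0_recs : List ℕ := [(nat_lit 0xff0000100000ff0000400007050000d0000e020000d0000f060000a0000e070000c0000d05000080000c01000090000b00000060000b01000040000a070000800009010000500008000000400007)]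
noncomputable def pa23_0_T : List (List ℕ × ℕ) := [([0], (nat_lit 0x35))]
noncomputable def pa23_0_D : H26.Dag := ⟨[0,1,2,3,4,5,7,6], [[0,0],
  [1,1],
  [2,2],
  [3,3],
  [4,4],
  [5,5],
  [6,7],
  [7,6],
  [5,0,5,0],
  [1,5,1,5],
  [2,5,2,5],
  [6,6,6],
  [1,7,0,6],
  [0,1,7,1,6],
  [5,1,7,2,6],
  [2,5,0,1,7,5,6]], [], pa23_0_defs, pa23_0_recs⟩
theorem pa23_0_c : pa23_0_D.check pa23_0_S pa23_0_T = true := by decide +kernel
theorem pa23_0 {G : Type*} [Group G] {g : ℕ → G} (hR : Rels g pa23_r_R) {H : Subgroup G}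
    (hH : ∀ k ∈ [], g k ∈ H) : evA g [0] ∈ H :=
  mem_dag (K := 8) (J := [0,1,2,3,4,5,6,7,13,19,21,23,24,25,27,28]) (D := pa23_0_D) (by decide +kernel) pa23_0_c (by decide +kernel) hR hH
theorem pa23 {G : Type*} [Group G] {z u v a b r p : G}
    (t : TA z u v a b r)
    (h : P0 z u p)
    (e0 : p * a * p⁻¹ = a)
    (e1 : p * v * p⁻¹ = r * u)
    (e2 : p * r * p⁻¹ = v * r * (z * u)) :
    z = 1 :=
  mul_inv_eq_one.1 ((evA_eq_tm ((InvI.cons t.1 (InvI.cons t.2.1 (InvI.cons t.2.2.1 (InvI.cons t.2.2.2.1 (InvI.cons t.2.2.2.2.1 (InvI.cons t.2.2.2.2.2.1 InvI.nil)))))) : InvI [z, u, v, a, b, r, p] [(nat_lit 0), (nat_lit 1), (nat_lit 2), (nat_lit 3), (nat_lit 4), (nat_lit 5)]) [(.v (nat_lit 0)), (.v (nat_lit 1)), (.v (nat_lit 2)), (.v (nat_lit 3)), (.v (nat_lit 4)), (.v (nat_lit 5)), (.v (nat_lit 6)), (.inv (.v (nat_lit 6)))] [0] (.mul (.v (nat_lit 0)) (.inv .one)) (by decide +kernel)).symm.trans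 (Subgroup.mem_bot.1 (pa23_0 (pa23_r t h e0 e1 e2) (H := ⊥) (List.forall_mem_nil _))))
noncomputable def pa30_r_R : List (List ℕ) := [[0,0],
  [1,1],
  [2,2],
  [3,3],
  [4,4],
  [5,5],
  [6,7],
  [7,6],
  [2,1,2,1],
  [1,0,1,0],
  [2,0,2,0],
  [3,0,3,0],
  [4,0,4,0],
  [5,0,5,0],
  [3,1,3,1],
  [4,2,4,2],
  [4,3,4,3],
  [1,0,4,1,4],
  [2,0,3,2,3],
  [1,5,1,5],
  [5,1,3,5,3],
  [2,5,2,5],
  [5,2,4,5,4],
  [6,6,6],
  [1,7,0,6],
  [0,1,7,1,6],
  [3,7,3,6],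
  [5,0,1,7,2,6],
  [2,5,7,5,6]]
theorem pa30_r {G : Type*} [Group G] {z u v a b r p : G}
    (t : TA z u v a b r)
    (h : P0 z u p)
    (e0 : p * a * p⁻¹ = a)
    (e1 : p * v * p⁻¹ = r * (z * u))
    (e2 : p * r * p⁻¹ = v * r) :
    Rels (nthG [z, u, v, a, b, r, p, p⁻¹]) pa30_r_R :=
  rels_of_eqs ((InvI.cons t.1 (InvI.cons t.2.1 (InvI.cons t.2.2.1 (InvI.cons t.2.2.2.1 (InvI.cons t.2.2.2.2.1 (InvI.cons t.2.2.2.2.2.1 InvI.nil)))))) : InvI [z, u, v, a, b, r, p] [(nat_lit 0), (nat_lit 1), (nat_lit 2), (nat_lit 3), (nat_lit 4), (nat_lit 5)])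
    (AllEq.append (show AllEq [z, u, v, a, b, r, p] [((.mul (.v (nat_lit 0)) (.v (nat_lit 0))), .one), ((.mul (.v (nat_lit 1)) (.v (nat_lit 1))), .one), ((.mul (.v (nat_lit 2)) (.v (nat_lit 2))), .one), ((.mul (.v (nat_lit 3)) (.v (nat_lit 3))), .one), ((.mul (.v (nat_lit 4)) (.v (nat_lit 4))), .one), ((.mul (.v (nat_lit 5)) (.v (nat_lit 5))), .one), ((.mul (.v (nat_lit 1)) (.v (nat_lit 2))), (.mul (.v (nat_lit 2)) (.v (nat_lit 1)))), ((.mul (.v (nat_lit 0)) (.v (nat_lit 1))), (.mul (.v (nat_lit 1)) (.v (nat_lit 0)))), ((.mul (.v (nat_lit 0)) (.v (nat_lit 2))), (.mul (.v (nat_lit 2)) (.v (nat_lit 0)))), ((.mul (.v (nat_lit 0)) (.v (nat_lit 3))), (.mul (.v (nat_lit 3)) (.v (nat_lit 0)))), ((.mul (.v (nat_lit 0)) (.v (nat_lit 4))), (.mul (.v (nat_lit 4)) (.v (nat_lit 0)))), ((.mul (.v (nat_lit 0)) (.v (nat_lit 5))), (.mul (.v (nat_lit 5)) (.v (nat_lit 0)))), ((.mul (.v (nat_lit 1))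 (.v (nat_lit 3))), (.mul (.v (nat_lit 3)) (.v (nat_lit 1)))), ((.mul (.v (nat_lit 2)) (.v (nat_lit 4))), (.mul (.v (nat_lit 4)) (.v (nat_lit 2)))), ((.mul (.v (nat_lit 3)) (.v (nat_lit 4))), (.mul (.v (nat_lit 4)) (.v (nat_lit 3)))), ((.mul (.mul (.v (nat_lit 4)) (.v (nat_lit 1))) (.v (nat_lit 4))), (.mul (.v (nat_lit 1)) (.v (nat_lit 0)))), ((.mul (.mul (.v (nat_lit 3)) (.v (nat_lit 2))) (.v (nat_lit 3))), (.mul (.v (nat_lit 2)) (.v (nat_lit 0)))), ((.mul (.v (nat_lit 5)) (.v (nat_lit 1))), (.mul (.v (nat_lit 1)) (.v (nat_lit 5)))), ((.mul (.mul (.v (nat_lit 3)) (.v (nat_lit 5))) (.v (nat_lit 3))), (.mul (.v (nat_lit 5)) (.v (nat_lit 1)))), ((.mul (.v (nat_lit 5)) (.v (nat_lit 2))), (.mul (.v (nat_lit 2)) (.v (nat_lit 5)))), ((.mul (.mul (.v (nat_lit 4)) (.v (nat_lit 5))) (.v (nat_lit 4))), (.mul (.v (nat_lit 5)) (.v (nat_lit 2))))] from t)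
    (AllEq.append (show AllEq [z, u, v, a, b, r, p] [((.pw (.v (nat_lit 6)) (nat_lit 3)), .one), ((.mul (.mul (.v (nat_lit 6)) (.v (nat_lit 0))) (.inv (.v (nat_lit 6)))), (.v (nat_lit 1))), ((.mul (.mul (.v (nat_lit 6)) (.v (nat_lit 1))) (.inv (.v (nat_lit 6)))), (.mul (.v (nat_lit 0)) (.v (nat_lit 1))))] from h)
    (AllEq.append (show AllEq [z, u, v, a, b, r, p] [((.mul (.mul (.v (nat_lit 6)) (.v (nat_lit 3))) (.inv (.v (nat_lit 6)))), (.v (nat_lit 3)))] from ⟨e0, trivial⟩)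
    (AllEq.append (show AllEq [z, u, v, a, b, r, p] [((.mul (.mul (.v (nat_lit 6)) (.v (nat_lit 2))) (.inv (.v (nat_lit 6)))), (.mul (.v (nat_lit 5)) (.mul (.v (nat_lit 0)) (.v (nat_lit 1)))))] from ⟨e1, trivial⟩)
    (show AllEq [z, u, v, a, b, r, p] [((.mul (.mul (.v (nat_lit 6)) (.v (nat_lit 5))) (.inv (.v (nat_lit 6)))), (.mul (.v (nat_lit 2)) (.v (nat_lit 5))))] from ⟨e2, trivial⟩)))))
    [(.v (nat_lit 0)), (.v (nat_lit 1)), (.v (nat_lit 2)), (.v (nat_lit 3)), (.v (nat_lit 4)), (.v (nat_lit 5)), (.v (nat_lit 6)), (.inv (.v (nat_lit 6)))] (by decide +kernel)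
noncomputable def pa30_0_S0 : List ℕ := [nat_lit 0x1f000007000018000012, nat_lit 0x2300000b000018000001000014, nat_lit 0x27000024006010, nat_lit 0x2b00000f000018000001000005000016, nat_lit 0x2f00002c006010, nat_lit 0x3300001300001000003000c018, nat_lit 0xa00000d000011000015000018, nat_lit 0x1b00000700001400003400001900002700c016, nat_lit 0xc00001d00001b000002, nat_lit 0x22000007000000]
noncomputable def pa30_0_S : List (List ℕ) := [pa30_0_S0]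
noncomputable def pa30_0_defs : List ℕ := [(nat_lit 0x700004007000030060000300700002006000020060000100100001006000000050000000200000001000000000000000000000)]
noncomputable def pa30_0_recs : List ℕ := [(nat_lit 0xff0000100000ff0000200006020000c00009050000b0000c070000a0000b05000080000a070000800009000000700008010000500007)]
noncomputable def pa30_0_T : List (List ℕ × ℕ) := [([0], (nat_lit 0x25))]
noncomputable def pa30_0_D : H26.Dag := ⟨[0,1,2,3,4,5,7,6], [[0,0],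
  [1,1],
  [2,2],
  [3,3],
  [4,4],
  [5,5],
  [6,7],
  [7,6],
  [6,6,6],
  [1,7,0,6],
  [0,1,7,1,6],
  [5,0,1,7,2,6],
  [2,5,7,5,6]], [], pa30_0_defs, pa30_0_recs⟩
theorem pa30_0_c : pa30_0_D.check pa30_0_S pa30_0_T = true := by decide +kernel
theorem pa30_0 {G : Type*} [Group G] {g : ℕ → G} (hR : Rels g pa30_r_R) {H : Subgroup G}
    (hH : ∀ k ∈ [], g k ∈ H) : evA g [0] ∈ H :=
  mem_dag (K := 8) (J := [0,1,2,3,4,5,6,7,23,24,25,27,28]) (D := pa30_0_D) (by decide +kernel) pa30_0_c (by decide +kernel) hR hH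
theorem pa30 {G : Type*} [Group G] {z u v a b r p : G}
    (t : TA z u v a b r)
    (h : P0 z u p)
    (e0 : p * a * p⁻¹ = a)
    (e1 : p * v * p⁻¹ = r * (z * u))
    (e2 : p * r * p⁻¹ = v * r) :
    z = 1 :=
  mul_inv_eq_one.1 ((evA_eq_tm ((InvI.cons t.1 (InvI.cons t.2.1 (InvI.cons t.2.2.1 (InvI.cons t.2.2.2.1 (InvI.cons t.2.2.2.2.1 (InvI.cons t.2.2.2.2.2.1 InvI.nil)))))) : InvI [z, u, v, a, b, r, p] [(nat_lit 0), (nat_lit 1), (nat_lit 2), (nat_lit 3), (nat_lit 4), (nat_lit 5)]) [(.v (nat_lit 0)), (.v (nat_lit 1)), (.v (nat_lit 2)), (.v (nat_lit 3)), (.v (nat_lit 4)), (.v (nat_lit 5)), (.v (nat_lit 6)), (.inv (.v (nat_lit 6)))] [0] (.mul (.v (nat_lit 0)) (.inv .one)) (by decide +kernel)).symm.trans (Subgroup.mem_bot.1 (pa30_0 (pa30_r t h e0 e1 e2) (H := ⊥) (List.forall_mem_nil _))))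
noncomputable def pa31_r_R : List (List ℕ) := [[0,0],
  [1,1],
  [2,2],
  [3,3],
  [4,4],
  [5,5],
  [6,7],
  [7,6],
  [2,1,2,1],
  [1,0,1,0],
  [2,0,2,0],
  [3,0,3,0],
  [4,0,4,0],
  [5,0,5,0],
  [3,1,3,1],
  [4,2,4,2],
  [4,3,4,3],
  [1,0,4,1,4],
  [2,0,3,2,3],
  [1,5,1,5],
  [5,1,3,5,3],
  [2,5,2,5],
  [5,2,4,5,4],
  [6,6,6],
  [1,7,0,6],
  [0,1,7,1,6],
  [3,7,3,6],
  [5,0,1,7,2,6],
  [2,5,0,7,5,6]]
theorem pa31_r {G : Type*} [Group G] {z u v a b r p : G}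
    (t : TA z u v a b r)
    (h : P0 z u p)
    (e0 : p * a * p⁻¹ = a)
    (e1 : p * v * p⁻¹ = r * (z * u))
    (e2 : p * r * p⁻¹ = v * r * z) :
    Rels (nthG [z, u, v, a, b, r, p, p⁻¹]) pa31_r_R :=
  rels_of_eqs ((InvI.cons t.1 (InvI.cons t.2.1 (InvI.cons t.2.2.1 (InvI.cons t.2.2.2.1 (InvI.cons t.2.2.2.2.1 (InvI.cons t.2.2.2.2.2.1 InvI.nil)))))) : InvI [z, u, v, a, b, r, p] [(nat_lit 0), (nat_lit 1), (nat_lit 2), (nat_lit 3), (nat_lit 4), (nat_lit 5)])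
    (AllEq.append (show AllEq [z, u, v, a, b, r, p] [((.mul (.v (nat_lit 0)) (.v (nat_lit 0))), .one), ((.mul (.v (nat_lit 1)) (.v (nat_lit 1))), .one), ((.mul (.v (nat_lit 2)) (.v (nat_lit 2))), .one), ((.mul (.v (nat_lit 3)) (.v (nat_lit 3))), .one), ((.mul (.v (nat_lit 4)) (.v (nat_lit 4))), .one), ((.mul (.v (nat_lit 5)) (.v (nat_lit 5))), .one), ((.mul (.v (nat_lit 1)) (.v (nat_lit 2))), (.mul (.v (nat_lit 2)) (.v (nat_lit 1)))), ((.mul (.v (nat_lit 0)) (.v (nat_lit 1))), (.mul (.v (nat_lit 1)) (.v (nat_lit 0)))), ((.mul (.v (nat_lit 0)) (.v (nat_lit 2))), (.mul (.v (nat_lit 2)) (.v (nat_lit 0)))), ((.mul (.v (nat_lit 0)) (.v (nat_lit 3))), (.mul (.v (nat_lit 3)) (.v (nat_lit 0)))), ((.mul (.v (nat_lit 0)) (.v (nat_lit 4))), (.mul (.v (nat_lit 4)) (.v (nat_lit 0)))), ((.mul (.v (nat_lit 0)) (.v (nat_lit 5))), (.mul (.v (nat_lit 5)) (.v (nat_lit 0)))), ((.mul (.v (nat_lit 1))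 (.v (nat_lit 3))), (.mul (.v (nat_lit 3)) (.v (nat_lit 1)))), ((.mul (.v (nat_lit 2)) (.v (nat_lit 4))), (.mul (.v (nat_lit 4)) (.v (nat_lit 2)))), ((.mul (.v (nat_lit 3)) (.v (nat_lit 4))), (.mul (.v (nat_lit 4)) (.v (nat_lit 3)))), ((.mul (.mul (.v (nat_lit 4)) (.v (nat_lit 1))) (.v (nat_lit 4))), (.mul (.v (nat_lit 1)) (.v (nat_lit 0)))), ((.mul (.mul (.v (nat_lit 3)) (.v (nat_lit 2))) (.v (nat_lit 3))), (.mul (.v (nat_lit 2)) (.v (nat_lit 0)))), ((.mul (.v (nat_lit 5)) (.v (nat_lit 1))), (.mul (.v (nat_lit 1)) (.v (nat_lit 5)))), ((.mul (.mul (.v (nat_lit 3)) (.v (nat_lit 5))) (.v (nat_lit 3))), (.mul (.v (nat_lit 5)) (.v (nat_lit 1)))), ((.mul (.v (nat_lit 5)) (.v (nat_lit 2))), (.mul (.v (nat_lit 2)) (.v (nat_lit 5)))), ((.mul (.mul (.v (nat_lit 4)) (.v (nat_lit 5))) (.v (nat_lit 4))), (.mul (.v (nat_lit 5)) (.v (nat_lit 2))))] from t)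
    (AllEq.append (show AllEq [z, u, v, a, b, r, p] [((.pw (.v (nat_lit 6)) (nat_lit 3)), .one), ((.mul (.mul (.v (nat_lit 6)) (.v (nat_lit 0))) (.inv (.v (nat_lit 6)))), (.v (nat_lit 1))), ((.mul (.mul (.v (nat_lit 6)) (.v (nat_lit 1))) (.inv (.v (nat_lit 6)))), (.mul (.v (nat_lit 0)) (.v (nat_lit 1))))] from h)
    (AllEq.append (show AllEq [z, u, v, a, b, r, p] [((.mul (.mul (.v (nat_lit 6)) (.v (nat_lit 3))) (.inv (.v (nat_lit 6)))), (.v (nat_lit 3)))] from ⟨e0, trivial⟩)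
    (AllEq.append (show AllEq [z, u, v, a, b, r, p] [((.mul (.mul (.v (nat_lit 6)) (.v (nat_lit 2))) (.inv (.v (nat_lit 6)))), (.mul (.v (nat_lit 5)) (.mul (.v (nat_lit 0)) (.v (nat_lit 1)))))] from ⟨e1, trivial⟩)
    (show AllEq [z, u, v, a, b, r, p] [((.mul (.mul (.v (nat_lit 6)) (.v (nat_lit 5))) (.inv (.v (nat_lit 6)))), (.mul (.mul (.v (nat_lit 2)) (.v (nat_lit 5))) (.v (nat_lit 0))))] from ⟨e2, trivial⟩)))))
    [(.v (nat_lit 0)), (.v (nat_lit 1)), (.v (nat_lit 2)), (.v (nat_lit 3)), (.v (nat_lit 4)), (.v (nat_lit 5)), (.v (nat_lit 6)), (.inv (.v (nat_lit 6)))] (by decide +kernel)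
noncomputable def pa31_0_S0 : List ℕ := [nat_lit 0x1f00000700000c004012, nat_lit 0x23000007000014004014, nat_lit 0x2700000700001800001c, nat_lit 0x2f00000b000014008016, nat_lit 0x3300000b00001800000900001e, nat_lit 0x3700003400601a, nat_lit 0x3700000b00001c00801c, nat_lit 0x3b00000f000018000009000011000020, nat_lit 0x3f00003c00601a, nat_lit 0x4700004400601a, nat_lit 0x4b000009000011008012, nat_lit 0x4b00000900002700002000201e, nat_lit 0x4f00004c00002a00003300002c002020, nat_lit 0x5300001b00000c00000101001e, nat_lit 0x47000013000008000020000035006020, nat_lit 0x57000054000039004010, nat_lit 0x5b00001900001600001d000021016022, nat_lit 0x5700005c00004200c018, nat_lit 0x600001300001000004000004500c022, nat_lit 0x600004800003d00004900401e, nat_lit 0xe00004800003d00004900000601201e, nat_lit 0x1400005100002f00000a, nat_lit 0x7000056000001000000, nat_lit 0xf00005600002c000004, nat_lit 0x2700005a00002d00000e,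 nat_lit 0x3b00005e00003100000e, nat_lit 0x6200004b000000, nat_lit 0x6600004f00000a, nat_lit 0x4900004d00004a00801c, nat_lit 0x2500003d000071000046000022010020, nat_lit 0x2300002800006a00006d000075000043014022, nat_lit 0x1400007900002300000a, nat_lit 0x7e000007000000]
noncomputable def pa31_0_S : List (List ℕ) := [pa31_0_S0]
noncomputable def pa31_0_defs : List ℕ := [(nat_lit 0x50000600200006001000060050000500000005007000040060000400700003006000030070000200600002005000020020000200600001005000010010000100700000006000000050000000200000001000000000000000000000)]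
noncomputable def pa31_0_recs : List ℕ := [(nat_lit 0xff0000100000ff0000400008020000e0001000000150001505000050000e000000500009ff000130000eff0001200009ff0000a00003ff0000700001ff0000200000ff000040000b010000800008070001500008050000f00015020000f00016010001100015020001400011060000700014070000a00013070000700012010000c00012070001000011070000e0000f050000c0000e00000060000d070000c0000d00000090000c01000040000b010000500009000000400008000000200007)]
noncomputable def pa31_0_T : List (List ℕ × ℕ) := [([0], (nat_lit 0x81))]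
noncomputable def pa31_0_D : H26.Dag := ⟨[0,1,2,3,4,5,7,6], [[0,0],
  [1,1],
  [2,2],
  [3,3],
  [4,4],
  [5,5],
  [6,7],
  [7,6],
  [2,1,2,1],
  [1,0,1,0],
  [5,0,5,0],
  [1,5,1,5],
  [2,5,2,5],
  [6,6,6],
  [1,7,0,6],
  [0,1,7,1,6],
  [5,0,1,7,2,6],
  [2,5,0,7,5,6]], [], pa31_0_defs, pa31_0_recs⟩
theorem pa31_0_c : pa31_0_D.check pa31_0_S pa31_0_T = true := by decide +kernel
theorem pa31_0 {G : Type*} [Group G] {g : ℕ → G} (hR : Rels g pa31_r_R) {H : Subgroup G}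
    (hH : ∀ k ∈ [], g k ∈ H) : evA g [0] ∈ H :=
  mem_dag (K := 8) (J := [0,1,2,3,4,5,6,7,8,9,13,19,21,23,24,25,27,28]) (D := pa31_0_D) (by decide +kernel) pa31_0_c (by decide +kernel) hR hH
theorem pa31 {G : Type*} [Group G] {z u v a b r p : G}
    (t : TA z u v a b r)
    (h : P0 z u p)
    (e0 : p * a * p⁻¹ = a)
    (e1 : p * v * p⁻¹ = r * (z * u))
    (e2 : p * r * p⁻¹ = v * r * z) :
    z = 1 :=
  mul_inv_eq_one.1 ((evA_eq_tm ((InvI.cons t.1 (InvI.cons t.2.1 (InvI.cons t.2.2.1 (InvI.cons t.2.2.2.1 (InvI.cons t.2.2.2.2.1 (InvI.cons t.2.2.2.2.2.1 InvI.nil)))))) : InvI [z, u, v, a, b, r, p] [(nat_lit 0), (nat_lit 1), (nat_lit 2), (nat_lit 3), (nat_lit 4), (nat_lit 5)]) [(.v (nat_lit 0)), (.v (nat_lit 1)), (.v (nat_lit 2)), (.v (nat_lit 3)), (.v (nat_lit 4)), (.v (nat_lit 5)), (.v (nat_lit 6)), (.inv (.v (nat_lit 6)))] [0] (.mul (.v (nat_lit 0)) (.inv .one)) (by decide +kernel)).symm.trans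 (Subgroup.mem_bot.1 (pa31_0 (pa31_r t h e0 e1 e2) (H := ⊥) (List.forall_mem_nil _))))
noncomputable def pa32_r_R : List (List ℕ) := [[0,0],
  [1,1],
  [2,2],
  [3,3],
  [4,4],
  [5,5],
  [6,7],
  [7,6],
  [2,1,2,1],
  [1,0,1,0],
  [2,0,2,0],
  [3,0,3,0],
  [4,0,4,0],
  [5,0,5,0],
  [3,1,3,1],
  [4,2,4,2],
  [4,3,4,3],
  [1,0,4,1,4],
  [2,0,3,2,3],
  [1,5,1,5],
  [5,1,3,5,3],
  [2,5,2,5],
  [5,2,4,5,4],
  [6,6,6],
  [1,7,0,6],
  [0,1,7,1,6],
  [3,7,3,6],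
  [5,0,1,7,2,6],
  [2,5,1,7,5,6]]
theorem pa32_r {G : Type*} [Group G] {z u v a b r p : G}
    (t : TA z u v a b r)
    (h : P0 z u p)
    (e0 : p * a * p⁻¹ = a)
    (e1 : p * v * p⁻¹ = r * (z * u))
    (e2 : p * r * p⁻¹ = v * r * u) :
    Rels (nthG [z, u, v, a, b, r, p, p⁻¹]) pa32_r_R :=
  rels_of_eqs ((InvI.cons t.1 (InvI.cons t.2.1 (InvI.cons t.2.2.1 (InvI.cons t.2.2.2.1 (InvI.cons t.2.2.2.2.1 (InvI.cons t.2.2.2.2.2.1 InvI.nil)))))) : InvI [z, u, v, a, b, r, p] [(nat_lit 0), (nat_lit 1), (nat_lit 2), (nat_lit 3), (nat_lit 4), (nat_lit 5)])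
    (AllEq.append (show AllEq [z, u, v, a, b, r, p] [((.mul (.v (nat_lit 0)) (.v (nat_lit 0))), .one), ((.mul (.v (nat_lit 1)) (.v (nat_lit 1))), .one), ((.mul (.v (nat_lit 2)) (.v (nat_lit 2))), .one), ((.mul (.v (nat_lit 3)) (.v (nat_lit 3))), .one), ((.mul (.v (nat_lit 4)) (.v (nat_lit 4))), .one), ((.mul (.v (nat_lit 5)) (.v (nat_lit 5))), .one), ((.mul (.v (nat_lit 1)) (.v (nat_lit 2))), (.mul (.v (nat_lit 2)) (.v (nat_lit 1)))), ((.mul (.v (nat_lit 0)) (.v (nat_lit 1))), (.mul (.v (nat_lit 1)) (.v (nat_lit 0)))), ((.mul (.v (nat_lit 0)) (.v (nat_lit 2))), (.mul (.v (nat_lit 2)) (.v (nat_lit 0)))), ((.mul (.v (nat_lit 0)) (.v (nat_lit 3))), (.mul (.v (nat_lit 3)) (.v (nat_lit 0)))), ((.mul (.v (nat_lit 0)) (.v (nat_lit 4))), (.mul (.v (nat_lit 4)) (.v (nat_lit 0)))), ((.mul (.v (nat_lit 0)) (.v (nat_lit 5))), (.mul (.v (nat_lit 5)) (.v (nat_lit 0)))), ((.mul (.v (nat_lit 1))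 (.v (nat_lit 3))), (.mul (.v (nat_lit 3)) (.v (nat_lit 1)))), ((.mul (.v (nat_lit 2)) (.v (nat_lit 4))), (.mul (.v (nat_lit 4)) (.v (nat_lit 2)))), ((.mul (.v (nat_lit 3)) (.v (nat_lit 4))), (.mul (.v (nat_lit 4)) (.v (nat_lit 3)))), ((.mul (.mul (.v (nat_lit 4)) (.v (nat_lit 1))) (.v (nat_lit 4))), (.mul (.v (nat_lit 1)) (.v (nat_lit 0)))), ((.mul (.mul (.v (nat_lit 3)) (.v (nat_lit 2))) (.v (nat_lit 3))), (.mul (.v (nat_lit 2)) (.v (nat_lit 0)))), ((.mul (.v (nat_lit 5)) (.v (nat_lit 1))), (.mul (.v (nat_lit 1)) (.v (nat_lit 5)))), ((.mul (.mul (.v (nat_lit 3)) (.v (nat_lit 5))) (.v (nat_lit 3))), (.mul (.v (nat_lit 5)) (.v (nat_lit 1)))), ((.mul (.v (nat_lit 5)) (.v (nat_lit 2))), (.mul (.v (nat_lit 2)) (.v (nat_lit 5)))), ((.mul (.mul (.v (nat_lit 4)) (.v (nat_lit 5))) (.v (nat_lit 4))), (.mul (.v (nat_lit 5)) (.v (nat_lit 2))))] from t)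
    (AllEq.append (show AllEq [z, u, v, a, b, r, p] [((.pw (.v (nat_lit 6)) (nat_lit 3)), .one), ((.mul (.mul (.v (nat_lit 6)) (.v (nat_lit 0))) (.inv (.v (nat_lit 6)))), (.v (nat_lit 1))), ((.mul (.mul (.v (nat_lit 6)) (.v (nat_lit 1))) (.inv (.v (nat_lit 6)))), (.mul (.v (nat_lit 0)) (.v (nat_lit 1))))] from h)
    (AllEq.append (show AllEq [z, u, v, a, b, r, p] [((.mul (.mul (.v (nat_lit 6)) (.v (nat_lit 3))) (.inv (.v (nat_lit 6)))), (.v (nat_lit 3)))] from ⟨e0, trivial⟩)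
    (AllEq.append (show AllEq [z, u, v, a, b, r, p] [((.mul (.mul (.v (nat_lit 6)) (.v (nat_lit 2))) (.inv (.v (nat_lit 6)))), (.mul (.v (nat_lit 5)) (.mul (.v (nat_lit 0)) (.v (nat_lit 1)))))] from ⟨e1, trivial⟩)
    (show AllEq [z, u, v, a, b, r, p] [((.mul (.mul (.v (nat_lit 6)) (.v (nat_lit 5))) (.inv (.v (nat_lit 6)))), (.mul (.mul (.v (nat_lit 2)) (.v (nat_lit 5))) (.v (nat_lit 1))))] from ⟨e2, trivial⟩)))))
    [(.v (nat_lit 0)), (.v (nat_lit 1)), (.v (nat_lit 2)), (.v (nat_lit 3)), (.v (nat_lit 4)), (.v (nat_lit 5)), (.v (nat_lit 6)), (.inv (.v (nat_lit 6)))] (by decide +kernel)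
noncomputable def pa32_0_S0 : List ℕ := [nat_lit 0xf00000700000c004010, nat_lit 0x2b000014004014, nat_lit 0x2f000018004014, nat_lit 0x2f00000200002c000016, nat_lit 0x3300000500000d00000a004018, nat_lit 0x1b00003400001200002000c012, nat_lit 0x27000015000024008016]
noncomputable def pa32_0_S : List (List ℕ) := [pa32_0_S0]
noncomputable def pa32_0_defs : List ℕ := [(nat_lit 0x4006000030060000200700007007000060040000500400004007000030070000200400001004000000000000000000000)]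
noncomputable def pa32_0_recs : List ℕ := [(nat_lit 0x80000901000070000601000050000c010000a0000b06000050000b06000040000a000000200003)]
noncomputable def pa32_0_T : List (List ℕ × ℕ) := [([0,4,7,4,7,0,6,4,6,4], (nat_lit 0xc00001400001c00002400001900002700001f00001700000f000007))]
noncomputable def pa32_0_D : H26.Dag := ⟨[0,1,2,3,4,5,7,6], [[0,0],
  [1,1],
  [2,2],
  [3,3],
  [4,4],
  [5,5],
  [6,7],
  [7,6],
  [4,0,4,0],
  [1,0,4,1,4],
  [6,6,6],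
  [1,7,0,6],
  [0,1,7,1,6]], [], pa32_0_defs, pa32_0_recs⟩
theorem pa32_0_c : pa32_0_D.check pa32_0_S pa32_0_T = true := by decide +kernel
theorem pa32_0 {G : Type*} [Group G] {g : ℕ → G} (hR : Rels g pa32_r_R) {H : Subgroup G}
    (hH : ∀ k ∈ [], g k ∈ H) : evA g [0,4,7,4,7,0,6,4,6,4] ∈ H :=
  mem_dag (K := 8) (J := [0,1,2,3,4,5,6,7,12,17,23,24,25]) (D := pa32_0_D) (by decide +kernel) pa32_0_c (by decide +kernel) hR hH
noncomputable def pa32_1_S0 : List ℕ := [nat_lit 0x2b00000b000008000010012010, nat_lit 0x1700000100002b00001400c012, nat_lit 0x2f00001b000005000020012010, nat_lit 0x2700000900002f00002400c012]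
noncomputable def pa32_1_S : List (List ℕ) := [pa32_1_S0]
noncomputable def pa32_1_defs : List ℕ := [(nat_lit 0x60000000200700007007000060040000500400004007000030070000200400001004000000010000000000000)]
noncomputable def pa32_1_recs : List ℕ := [(nat_lit 0x1000080000901000070000b01000040000501000030000a)]
noncomputable def pa32_1_T : List (List ℕ × ℕ) := [([1,4,7,4,7,1,6,4,6,4], (nat_lit 0xc00001400001c00002400000d00002700001f00001700000f000007))]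
noncomputable def pa32_1_D : H26.Dag := ⟨[0,1,2,3,4,5,7,6], [[0,0],
  [1,1],
  [2,2],
  [3,3],
  [4,4],
  [5,5],
  [6,7],
  [7,6],
  [1,0,4,1,4],
  [0,1,7,1,6]], [], pa32_1_defs, pa32_1_recs⟩
theorem pa32_1_c : pa32_1_D.check pa32_1_S pa32_1_T = true := by decide +kernel
theorem pa32_1 {G : Type*} [Group G] {g : ℕ → G} (hR : Rels g pa32_r_R) {H : Subgroup G}
    (hH : ∀ k ∈ [], g k ∈ H) : evA g [1,4,7,4,7,1,6,4,6,4] ∈ H :=
  mem_dag (K := 8) (J := [0,1,2,3,4,5,6,7,17,25]) (D := pa32_1_D) (by decide +kernel) pa32_1_c (by decide +kernel) hR hH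
noncomputable def pa32_2_S0 : List ℕ := [nat_lit 0x1b00000700000c004012, nat_lit 0x1f000007000010004014, nat_lit 0x23000007000014004016, nat_lit 0x2700000b000010004010, nat_lit 0x2b00000100001b00002400c01c, nat_lit 0x3300000f000018008020, nat_lit 0x37000009000011004012, nat_lit 0x3b000013000010000034010022, nat_lit 0x4300001500001d00401a, nat_lit 0x4300001500003300003000c022, nat_lit 0x4700001b000020004010, nat_lit 0x47000002000028004014, nat_lit 0x5300001200004c008024, nat_lit 0x5300001200000a00004000c026, nat_lit 0x5700002f00000500002901001c, nat_lit 0x5b00001a000050004018, nat_lit 0x5b00003700003c00801e, nat_lit 0x5f00004100003e00004f000054010028, nat_lit 0x6700003100003600006400c01c, nat_lit 0x6b000032000068004016, nat_lit 0x6f00005700002500002200006001002a, nat_lit 0x7700006b000045000051010022, nat_lit 0x7b00007300004900004d000078014028]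
noncomputable def pa32_2_S : List (List ℕ) := [pa32_2_S0]
noncomputable def pa32_2_defs : List ℕ := [(nat_lit 0x20001c0050001a007000180070001500400014004000120040000f0070000e0050000d0010000b0070000a0050000a00700008002000060040000500700004005000040010000400500003004000030040000200200002004000010020000100100001005000000040000000200000001000000000000000000000)]
noncomputable def pa32_2_recs : List ℕ := [(nat_lit 0x60001d0001e040001b0001d05000170001b00000190001a010001800019020001400017010000e00016000001300016040001100015010000f00014000001200014000000900011010000700011050000b00010020000e00010040000c0000e000000a0000d02000050000c01000080000a010000300009000000400008000000300007000000200006)]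
noncomputable def pa32_2_T : List (List ℕ × ℕ) := [([2,1,0,4,7,4,7,2,6,4,6,4], (nat_lit 0x1400004000006400007400007c00005a00005600006f00003a00002e00000e00000f))]
noncomputable def pa32_2_D : H26.Dag := ⟨[0,1,2,3,4,5,7,6], [[0,0],
  [1,1],
  [2,2],
  [3,3],
  [4,4],
  [5,5],
  [6,7],
  [7,6],
  [2,1,2,1],
  [1,0,1,0],
  [2,0,2,0],
  [4,0,4,0],
  [5,0,5,0],
  [4,2,4,2],
  [1,0,4,1,4],
  [1,5,1,5],
  [2,5,2,5],
  [5,2,4,5,4],
  [1,7,0,6],
  [0,1,7,1,6],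
  [5,0,1,7,2,6],
  [2,5,1,7,5,6]], [], pa32_2_defs, pa32_2_recs⟩
theorem pa32_2_c : pa32_2_D.check pa32_2_S pa32_2_T = true := by decide +kernel
theorem pa32_2 {G : Type*} [Group G] {g : ℕ → G} (hR : Rels g pa32_r_R) {H : Subgroup G}
    (hH : ∀ k ∈ [], g k ∈ H) : evA g [2,1,0,4,7,4,7,2,6,4,6,4] ∈ H :=
  mem_dag (K := 8) (J := [0,1,2,3,4,5,6,7,8,9,10,12,13,15,17,19,21,22,24,25,27,28]) (D := pa32_2_D) (by decide +kernel) pa32_2_c (by decide +kernel) hR hH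
theorem pa32 {G : Type*} [Group G] {z u v a b r p : G}
    (t : TA z u v a b r)
    (h : P0 z u p)
    (e0 : p * a * p⁻¹ = a)
    (e1 : p * v * p⁻¹ = r * (z * u))
    (e2 : p * r * p⁻¹ = v * r * u) :
    (b * p) ^ 2 * z = z * (b * p) ^ 2 ∧ (b * p) ^ 2 * u = u * (b * p) ^ 2 ∧ (b * p) ^ 2 * v * ((b * p) ^ 2)⁻¹ = v * u * z :=
  ⟨mul_inv_eq_one.1 ((evA_eq_tm ((InvI.cons t.1 (InvI.cons t.2.1 (InvI.cons t.2.2.1 (InvI.cons t.2.2.2.1 (InvI.cons t.2.2.2.2.1 (InvI.cons t.2.2.2.2.2.1 InvI.nil)))))) : InvI [z, u, v, a, b, r, p] [(nat_lit 0), (nat_lit 1), (nat_lit 2), (nat_lit 3), (nat_lit 4), (nat_lit 5)]) [(.v (nat_lit 0)), (.v (nat_lit 1)), (.v (nat_lit 2)), (.v (nat_lit 3)), (.v (nat_lit 4)), (.v (nat_lit 5)), (.v (nat_lit 6)), (.inv (.v (nat_lit 6)))] [0,4,7,4,7,0,6,4,6,4] (.mul (.mul (.pw (.mul (.v (nat_lit 4)) (.v (nat_lit 6))) (nat_lit 2)) (.v (nat_lit 0))) (.inv (.mul (.v (nat_lit 0))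 (.pw (.mul (.v (nat_lit 4)) (.v (nat_lit 6))) (nat_lit 2))))) (by decide +kernel)).symm.trans (Subgroup.mem_bot.1 (pa32_0 (pa32_r t h e0 e1 e2) (H := ⊥) (List.forall_mem_nil _)))),
   mul_inv_eq_one.1 ((evA_eq_tm ((InvI.cons t.1 (InvI.cons t.2.1 (InvI.cons t.2.2.1 (InvI.cons t.2.2.2.1 (InvI.cons t.2.2.2.2.1 (InvI.cons t.2.2.2.2.2.1 InvI.nil)))))) : InvI [z, u, v, a, b, r, p] [(nat_lit 0), (nat_lit 1), (nat_lit 2), (nat_lit 3), (nat_lit 4), (nat_lit 5)]) [(.v (nat_lit 0)), (.v (nat_lit 1)), (.v (nat_lit 2)), (.v (nat_lit 3)), (.v (nat_lit 4)), (.v (nat_lit 5)), (.v (nat_lit 6)), (.inv (.v (nat_lit 6)))] [1,4,7,4,7,1,6,4,6,4] (.mul (.mul (.pw (.mul (.v (nat_lit 4)) (.v (nat_lit 6))) (nat_lit 2)) (.v (nat_lit 1))) (.inv (.mul (.v (nat_lit 1)) (.pw (.mul (.v (nat_lit 4)) (.v (nat_lit 6))) (nat_lit 2))))) (by decide +kernel)).symm.trans (Subgroup.mem_bot.1 (pa32_1 (pa32_r t h e0 e1 e2)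 (H := ⊥) (List.forall_mem_nil _)))),
   mul_inv_eq_one.1 ((evA_eq_tm ((InvI.cons t.1 (InvI.cons t.2.1 (InvI.cons t.2.2.1 (InvI.cons t.2.2.2.1 (InvI.cons t.2.2.2.2.1 (InvI.cons t.2.2.2.2.2.1 InvI.nil)))))) : InvI [z, u, v, a, b, r, p] [(nat_lit 0), (nat_lit 1), (nat_lit 2), (nat_lit 3), (nat_lit 4), (nat_lit 5)]) [(.v (nat_lit 0)), (.v (nat_lit 1)), (.v (nat_lit 2)), (.v (nat_lit 3)), (.v (nat_lit 4)), (.v (nat_lit 5)), (.v (nat_lit 6)), (.inv (.v (nat_lit 6)))] [2,1,0,4,7,4,7,2,6,4,6,4] (.mul (.mul (.mul (.pw (.mul (.v (nat_lit 4)) (.v (nat_lit 6))) (nat_lit 2)) (.v (nat_lit 2))) (.inv (.pw (.mul (.v (nat_lit 4)) (.v (nat_lit 6))) (nat_lit 2)))) (.inv (.mul (.mul (.v (nat_lit 2)) (.v (nat_lit 1))) (.v (nat_lit 0))))) (by decide +kernel)).symm.trans (Subgroup.mem_bot.1 (pa32_2 (pa32_r t h e0 e1 e2) (H := ⊥) (List.forall_mem_nil _))))⟩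
noncomputable def pa33_r_R : List (List ℕ) := [[0,0],
  [1,1],
  [2,2],
  [3,3],
  [4,4],
  [5,5],
  [6,7],
  [7,6],
  [2,1,2,1],
  [1,0,1,0],
  [2,0,2,0],
  [3,0,3,0],
  [4,0,4,0],
  [5,0,5,0],
  [3,1,3,1],
  [4,2,4,2],
  [4,3,4,3],
  [1,0,4,1,4],
  [2,0,3,2,3],
  [1,5,1,5],
  [5,1,3,5,3],
  [2,5,2,5],
  [5,2,4,5,4],
  [6,6,6],
  [1,7,0,6],
  [0,1,7,1,6],
  [3,7,3,6],
  [5,0,1,7,2,6],
  [2,5,0,1,7,5,6]]
theorem pa33_r {G : Type*} [Group G] {z u v a b r p : G}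
    (t : TA z u v a b r)
    (h : P0 z u p)
    (e0 : p * a * p⁻¹ = a)
    (e1 : p * v * p⁻¹ = r * (z * u))
    (e2 : p * r * p⁻¹ = v * r * (z * u)) :
    Rels (nthG [z, u, v, a, b, r, p, p⁻¹]) pa33_r_R :=
  rels_of_eqs ((InvI.cons t.1 (InvI.cons t.2.1 (InvI.cons t.2.2.1 (InvI.cons t.2.2.2.1 (InvI.cons t.2.2.2.2.1 (InvI.cons t.2.2.2.2.2.1 InvI.nil)))))) : InvI [z, u, v, a, b, r, p] [(nat_lit 0), (nat_lit 1), (nat_lit 2), (nat_lit 3), (nat_lit 4), (nat_lit 5)])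
    (AllEq.append (show AllEq [z, u, v, a, b, r, p] [((.mul (.v (nat_lit 0)) (.v (nat_lit 0))), .one), ((.mul (.v (nat_lit 1)) (.v (nat_lit 1))), .one), ((.mul (.v (nat_lit 2)) (.v (nat_lit 2))), .one), ((.mul (.v (nat_lit 3)) (.v (nat_lit 3))), .one), ((.mul (.v (nat_lit 4)) (.v (nat_lit 4))), .one), ((.mul (.v (nat_lit 5)) (.v (nat_lit 5))), .one), ((.mul (.v (nat_lit 1)) (.v (nat_lit 2))), (.mul (.v (nat_lit 2)) (.v (nat_lit 1)))), ((.mul (.v (nat_lit 0)) (.v (nat_lit 1))), (.mul (.v (nat_lit 1)) (.v (nat_lit 0)))), ((.mul (.v (nat_lit 0)) (.v (nat_lit 2))), (.mul (.v (nat_lit 2)) (.v (nat_lit 0)))), ((.mul (.v (nat_lit 0)) (.v (nat_lit 3))), (.mul (.v (nat_lit 3)) (.v (nat_lit 0)))), ((.mul (.v (nat_lit 0)) (.v (nat_lit 4))), (.mul (.v (nat_lit 4)) (.v (nat_lit 0)))), ((.mul (.v (nat_lit 0)) (.v (nat_lit 5))), (.mul (.v (nat_lit 5)) (.v (nat_lit 0)))), ((.mul (.v (nat_lit 1))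 (.v (nat_lit 3))), (.mul (.v (nat_lit 3)) (.v (nat_lit 1)))), ((.mul (.v (nat_lit 2)) (.v (nat_lit 4))), (.mul (.v (nat_lit 4)) (.v (nat_lit 2)))), ((.mul (.v (nat_lit 3)) (.v (nat_lit 4))), (.mul (.v (nat_lit 4)) (.v (nat_lit 3)))), ((.mul (.mul (.v (nat_lit 4)) (.v (nat_lit 1))) (.v (nat_lit 4))), (.mul (.v (nat_lit 1)) (.v (nat_lit 0)))), ((.mul (.mul (.v (nat_lit 3)) (.v (nat_lit 2))) (.v (nat_lit 3))), (.mul (.v (nat_lit 2)) (.v (nat_lit 0)))), ((.mul (.v (nat_lit 5)) (.v (nat_lit 1))), (.mul (.v (nat_lit 1)) (.v (nat_lit 5)))), ((.mul (.mul (.v (nat_lit 3)) (.v (nat_lit 5))) (.v (nat_lit 3))), (.mul (.v (nat_lit 5)) (.v (nat_lit 1)))), ((.mul (.v (nat_lit 5)) (.v (nat_lit 2))), (.mul (.v (nat_lit 2)) (.v (nat_lit 5)))), ((.mul (.mul (.v (nat_lit 4)) (.v (nat_lit 5))) (.v (nat_lit 4))), (.mul (.v (nat_lit 5)) (.v (nat_lit 2))))] from t)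
    (AllEq.append (show AllEq [z, u, v, a, b, r, p] [((.pw (.v (nat_lit 6)) (nat_lit 3)), .one), ((.mul (.mul (.v (nat_lit 6)) (.v (nat_lit 0))) (.inv (.v (nat_lit 6)))), (.v (nat_lit 1))), ((.mul (.mul (.v (nat_lit 6)) (.v (nat_lit 1))) (.inv (.v (nat_lit 6)))), (.mul (.v (nat_lit 0)) (.v (nat_lit 1))))] from h)
    (AllEq.append (show AllEq [z, u, v, a, b, r, p] [((.mul (.mul (.v (nat_lit 6)) (.v (nat_lit 3))) (.inv (.v (nat_lit 6)))), (.v (nat_lit 3)))] from ⟨e0, trivial⟩)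
    (AllEq.append (show AllEq [z, u, v, a, b, r, p] [((.mul (.mul (.v (nat_lit 6)) (.v (nat_lit 2))) (.inv (.v (nat_lit 6)))), (.mul (.v (nat_lit 5)) (.mul (.v (nat_lit 0)) (.v (nat_lit 1)))))] from ⟨e1, trivial⟩)
    (show AllEq [z, u, v, a, b, r, p] [((.mul (.mul (.v (nat_lit 6)) (.v (nat_lit 5))) (.inv (.v (nat_lit 6)))), (.mul (.mul (.v (nat_lit 2)) (.v (nat_lit 5))) (.mul (.v (nat_lit 0)) (.v (nat_lit 1)))))] from ⟨e2, trivial⟩)))))
    [(.v (nat_lit 0)), (.v (nat_lit 1)), (.v (nat_lit 2)), (.v (nat_lit 3)), (.v (nat_lit 4)), (.v (nat_lit 5)), (.v (nat_lit 6)), (.inv (.v (nat_lit 6)))] (by decide +kernel)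
noncomputable def pa33_0_S0 : List ℕ := [nat_lit 0x1b00001800601a, nat_lit 0x1f00000700000c004012, nat_lit 0x23000007000010004014, nat_lit 0x27000007000014004016, nat_lit 0x2b00000700001800001c, nat_lit 0x3300000b000010004010, nat_lit 0x3700000b00001800001100001e, nat_lit 0x3b00000f000018000011000019000020, nat_lit 0x3f00003c00601a, nat_lit 0x4300001300001800001100001900001d000022, nat_lit 0x4700004400601a, nat_lit 0x4b00001b00000c00000501001e, nat_lit 0x4700001300000800002000002d006020, nat_lit 0x4f00004c000031004010, nat_lit 0x53000006000034004014, nat_lit 0x5700001f000028008018, nat_lit 0x5700000600000b00001c000050002020, nat_lit 0x4100003e00000e000013000010000040014022, nat_lit 0x3600002a000026000021000045012020, nat_lit 0x4500004900004600c016, nat_lit 0x1600004000004d00003f00401c, nat_lit 0xa000051000039000000, nat_lit 0x10000051000033000004, nat_lit 0x24000056000053000004,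 nat_lit 0x1700005a00003800000e, nat_lit 0x2f00005e00002d00000c, nat_lit 0x6200001d00000a, nat_lit 0x66000031000004, nat_lit 0x4d00004500004f00000200006a00002100c022, nat_lit 0x2a00002600002100007100004d000045000020, nat_lit 0x6e00007600004f000004, nat_lit 0x1c00007900002f00000e, nat_lit 0x7e000007000000]
noncomputable def pa33_0_S : List (List ℕ) := [pa33_0_S0]
noncomputable def pa33_0_defs : List ℕ := [(nat_lit 0x500007002000070020000600100006007000040060000400700003006000030060000200200002007000010060000100500001002000010010000100700000006000000050000000200000001000000000000000000000)]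
noncomputable def pa33_0_recs : List ℕ := [(nat_lit 0xff0000100000ff000060000bff0001300011010000f0000f02000110000b050000e00005ff000120000bff0000d00005ff0000700001ff0000200000ff0001400008ff000030000c000000f0000f000001300013050000f00013070001300015010000900015000000c00014010001100013020001200011060000700012070001000011020000e00010070000e0000f050000d0000e000000a0000d01000030000c01000050000a000000400009000000300008000000200007070000500006)]
noncomputable def pa33_0_T : List (List ℕ × ℕ) := [([0], (nat_lit 0x81))]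
noncomputable def pa33_0_D : H26.Dag := ⟨[0,1,2,3,4,5,7,6], [[0,0],
  [1,1],
  [2,2],
  [3,3],
  [4,4],
  [5,5],
  [6,7],
  [7,6],
  [2,1,2,1],
  [1,0,1,0],
  [2,0,2,0],
  [5,0,5,0],
  [1,5,1,5],
  [6,6,6],
  [1,7,0,6],
  [0,1,7,1,6],
  [5,0,1,7,2,6],
  [2,5,0,1,7,5,6]], [], pa33_0_defs, pa33_0_recs⟩
theorem pa33_0_c : pa33_0_D.check pa33_0_S pa33_0_T = true := by decide +kernel
theorem pa33_0 {G : Type*} [Group G] {g : ℕ → G} (hR : Rels g pa33_r_R) {H : Subgroup G}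
    (hH : ∀ k ∈ [], g k ∈ H) : evA g [0] ∈ H :=
  mem_dag (K := 8) (J := [0,1,2,3,4,5,6,7,8,9,10,13,19,23,24,25,27,28]) (D := pa33_0_D) (by decide +kernel) pa33_0_c (by decide +kernel) hR hH
theorem pa33 {G : Type*} [Group G] {z u v a b r p : G}
    (t : TA z u v a b r)
    (h : P0 z u p)
    (e0 : p * a * p⁻¹ = a)
    (e1 : p * v * p⁻¹ = r * (z * u))
    (e2 : p * r * p⁻¹ = v * r * (z * u)) :
    z = 1 :=
  mul_inv_eq_one.1 ((evA_eq_tm ((InvI.cons t.1 (InvI.cons t.2.1 (InvI.cons t.2.2.1 (InvI.cons t.2.2.2.1 (InvI.cons t.2.2.2.2.1 (InvI.cons t.2.2.2.2.2.1 InvI.nil)))))) : InvI [z, u, v, a, b, r, p] [(nat_lit 0), (nat_lit 1), (nat_lit 2), (nat_lit 3), (nat_lit 4), (nat_lit 5)]) [(.v (nat_lit 0)), (.v (nat_lit 1)), (.v (nat_lit 2)), (.v (nat_lit 3)), (.v (nat_lit 4)), (.v (nat_lit 5)), (.v (nat_lit 6)), (.inv (.v (nat_lit 6)))] [0] (.mul (.v (nat_lit 0)) (.inv .one)) (by decide +kernel)).symm.trans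 (Subgroup.mem_bot.1 (pa33_0 (pa33_r t h e0 e1 e2) (H := ⊥) (List.forall_mem_nil _))))
theorem pa_cases {G : Type*} [Group G] {z u v a b r p : G}
    (t : TA z u v a b r)
    (h : P0 z u p)
    (e0 : p * a * p⁻¹ = a) (z1 : z ≠ 1)
    (hv : p * v * p⁻¹ = r ∨ p * v * p⁻¹ = r * z ∨ p * v * p⁻¹ = r * u ∨ p * v * p⁻¹ = r * (z * u))
    (hr : p * r * p⁻¹ = v * r ∨ p * r * p⁻¹ = v * r * z ∨ p * r * p⁻¹ = v * r * u ∨ p * r * p⁻¹ = v * r * (z * u))
    (hb : ∀ s, s * z = z * s → s * u = u * s → s * v * s⁻¹ ≠ v * u * z) :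
    (p * v * p⁻¹ = r ∧ p * r * p⁻¹ = v * r) ∨ (p * v * p⁻¹ = r * z ∧ p * (r * z) * p⁻¹ = v * (r * z)) := by
  rcases hv with e1 | e1 | e1 | e1 <;> rcases hr with e2 | e2 | e2 | e2
  exacts [Or.inl ⟨e1, e2⟩,
    (z1 (pa01 t h e0 e1 e2)).elim,
    (z1 (pa02 t h e0 e1 e2)).elim,
    (z1 (pa03 t h e0 e1 e2)).elim,
    (z1 (pa10 t h e0 e1 e2)).elim,
    (z1 (pa11 t h e0 e1 e2)).elim,
    (z1 (pa12 t h e0 e1 e2)).elim,
    Or.inr ⟨e1, pa13 t h e0 e1 e2⟩,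
    (z1 (pa20 t h e0 e1 e2)).elim,
    (hb _ (pa21 t h e0 e1 e2).1 (pa21 t h e0 e1 e2).2.1 (pa21 t h e0 e1 e2).2.2).elim,
    (z1 (pa22 t h e0 e1 e2)).elim,
    (z1 (pa23 t h e0 e1 e2)).elim,
    (z1 (pa30 t h e0 e1 e2)).elim,
    (z1 (pa31 t h e0 e1 e2)).elim,
    (hb _ (pa32 t h e0 e1 e2).1 (pa32 t h e0 e1 e2).2.1 (pa32 t h e0 e1 e2).2.2).elim,
    (z1 (pa33 t h e0 e1 e2)).elim]
noncomputable def pa_s_r_R : List (List ℕ) := [[0,0],
  [1,1],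
  [2,2],
  [3,3],
  [4,4],
  [5,5],
  [6,7],
  [7,6],
  [2,1,2,1],
  [1,0,1,0],
  [2,0,2,0],
  [3,0,3,0],
  [4,0,4,0],
  [5,0,5,0],
  [3,1,3,1],
  [4,2,4,2],
  [4,3,4,3],
  [1,0,4,1,4],
  [2,0,3,2,3],
  [1,5,1,5],
  [5,1,3,5,3],
  [2,5,2,5],
  [5,2,4,5,4],
  [6,6,6],
  [1,7,0,6],
  [0,1,7,1,6],
  [3,7,3,6],
  [5,7,2,6],
  [2,5,7,5,6]]
theorem pa_s_r {G : Type*} [Group G] {z u v a b r p : G}
    (t : TA z u v a b r)
    (h : P0 z u p)
    (e0 : p * a * p⁻¹ = a)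
    (e1 : p * v * p⁻¹ = r)
    (e2 : p * r * p⁻¹ = v * r) :
    Rels (nthG [z, u, v, a, b, r, p, p⁻¹]) pa_s_r_R :=
  rels_of_eqs ((InvI.cons t.1 (InvI.cons t.2.1 (InvI.cons t.2.2.1 (InvI.cons t.2.2.2.1 (InvI.cons t.2.2.2.2.1 (InvI.cons t.2.2.2.2.2.1 InvI.nil)))))) : InvI [z, u, v, a, b, r, p] [(nat_lit 0), (nat_lit 1), (nat_lit 2), (nat_lit 3), (nat_lit 4), (nat_lit 5)])
    (AllEq.append (show AllEq [z, u, v, a, b, r, p] [((.mul (.v (nat_lit 0)) (.v (nat_lit 0))), .one), ((.mul (.v (nat_lit 1)) (.v (nat_lit 1))), .one), ((.mul (.v (nat_lit 2)) (.v (nat_lit 2))), .one), ((.mul (.v (nat_lit 3)) (.v (nat_lit 3))), .one), ((.mul (.v (nat_lit 4)) (.v (nat_lit 4))), .one), ((.mul (.v (nat_lit 5)) (.v (nat_lit 5))), .one), ((.mul (.v (nat_lit 1)) (.v (nat_lit 2))), (.mul (.v (nat_lit 2)) (.v (nat_lit 1)))), ((.mul (.v (nat_lit 0)) (.v (nat_lit 1))), (.mul (.v (nat_lit 1)) (.v (nat_lit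 0)))), ((.mul (.v (nat_lit 0)) (.v (nat_lit 2))), (.mul (.v (nat_lit 2)) (.v (nat_lit 0)))), ((.mul (.v (nat_lit 0)) (.v (nat_lit 3))), (.mul (.v (nat_lit 3)) (.v (nat_lit 0)))), ((.mul (.v (nat_lit 0)) (.v (nat_lit 4))), (.mul (.v (nat_lit 4)) (.v (nat_lit 0)))), ((.mul (.v (nat_lit 0)) (.v (nat_lit 5))), (.mul (.v (nat_lit 5)) (.v (nat_lit 0)))), ((.mul (.v (nat_lit 1)) (.v (nat_lit 3))), (.mul (.v (nat_lit 3)) (.v (nat_lit 1)))), ((.mul (.v (nat_lit 2)) (.v (nat_lit 4))), (.mul (.v (nat_lit 4)) (.v (nat_lit 2)))), ((.mul (.v (nat_lit 3)) (.v (nat_lit 4))), (.mul (.v (nat_lit 4)) (.v (nat_lit 3)))), ((.mul (.mul (.v (nat_lit 4)) (.v (nat_lit 1))) (.v (nat_lit 4))), (.mul (.v (nat_lit 1)) (.v (nat_lit 0)))), ((.mul (.mul (.v (nat_lit 3)) (.v (nat_lit 2))) (.v (nat_lit 3))), (.mul (.v (nat_lit 2)) (.v (nat_lit 0)))), ((.mul (.v (nat_lit 5)) (.v (nat_lit 1))), (.mul (.v (nat_lit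 1)) (.v (nat_lit 5)))), ((.mul (.mul (.v (nat_lit 3)) (.v (nat_lit 5))) (.v (nat_lit 3))), (.mul (.v (nat_lit 5)) (.v (nat_lit 1)))), ((.mul (.v (nat_lit 5)) (.v (nat_lit 2))), (.mul (.v (nat_lit 2)) (.v (nat_lit 5)))), ((.mul (.mul (.v (nat_lit 4)) (.v (nat_lit 5))) (.v (nat_lit 4))), (.mul (.v (nat_lit 5)) (.v (nat_lit 2))))] from t)
    (AllEq.append (show AllEq [z, u, v, a, b, r, p] [((.pw (.v (nat_lit 6)) (nat_lit 3)), .one), ((.mul (.mul (.v (nat_lit 6)) (.v (nat_lit 0))) (.inv (.v (nat_lit 6)))), (.v (nat_lit 1))), ((.mul (.mul (.v (nat_lit 6)) (.v (nat_lit 1))) (.inv (.v (nat_lit 6)))), (.mul (.v (nat_lit 0)) (.v (nat_lit 1))))] from h)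
    (AllEq.append (show AllEq [z, u, v, a, b, r, p] [((.mul (.mul (.v (nat_lit 6)) (.v (nat_lit 3))) (.inv (.v (nat_lit 6)))), (.v (nat_lit 3)))] from ⟨e0, trivial⟩)
    (AllEq.append (show AllEq [z, u, v, a, b, r, p] [((.mul (.mul (.v (nat_lit 6)) (.v (nat_lit 2))) (.inv (.v (nat_lit 6)))), (.v (nat_lit 5)))] from ⟨e1, trivial⟩)
    (show AllEq [z, u, v, a, b, r, p] [((.mul (.mul (.v (nat_lit 6)) (.v (nat_lit 5))) (.inv (.v (nat_lit 6)))), (.mul (.v (nat_lit 2)) (.v (nat_lit 5))))] from ⟨e2, trivial⟩)))))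
    [(.v (nat_lit 0)), (.v (nat_lit 1)), (.v (nat_lit 2)), (.v (nat_lit 3)), (.v (nat_lit 4)), (.v (nat_lit 5)), (.v (nat_lit 6)), (.inv (.v (nat_lit 6)))] (by decide +kernel)
noncomputable def pa_s_0_S0 : List ℕ := [nat_lit 0xf00000700000c004010, nat_lit 0x2b000014004014, nat_lit 0x2f000018004014, nat_lit 0x2f00000200002c000016, nat_lit 0x3300000500000d00000a004018, nat_lit 0x1b00003400001200002000c012, nat_lit 0x27000015000024008016]
noncomputable def pa_s_0_S : List (List ℕ) := [pa_s_0_S0]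
noncomputable def pa_s_0_defs : List ℕ := [(nat_lit 0x4006000030060000200700007007000060040000500400004007000030070000200400001004000000000000000000000)]
noncomputable def pa_s_0_recs : List ℕ := [(nat_lit 0x80000901000070000601000050000c010000a0000b06000050000b06000040000a000000200003)]
noncomputable def pa_s_0_T : List (List ℕ × ℕ) := [([0,4,7,4,7,0,6,4,6,4], (nat_lit 0xc00001400001c00002400001900002700001f00001700000f000007))]
noncomputable def pa_s_0_D : H26.Dag := ⟨[0,1,2,3,4,5,7,6], [[0,0],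
  [1,1],
  [2,2],
  [3,3],
  [4,4],
  [5,5],
  [6,7],
  [7,6],
  [4,0,4,0],
  [1,0,4,1,4],
  [6,6,6],
  [1,7,0,6],
  [0,1,7,1,6]], [], pa_s_0_defs, pa_s_0_recs⟩
theorem pa_s_0_c : pa_s_0_D.check pa_s_0_S pa_s_0_T = true := by decide +kernel
theorem pa_s_0 {G : Type*} [Group G] {g : ℕ → G} (hR : Rels g pa_s_r_R) {H : Subgroup G}
    (hH : ∀ k ∈ [], g k ∈ H) : evA g [0,4,7,4,7,0,6,4,6,4] ∈ H :=
  mem_dag (K := 8) (J := [0,1,2,3,4,5,6,7,12,17,23,24,25]) (D := pa_s_0_D) (by decide +kernel) pa_s_0_c (by decide +kernel) hR hH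
noncomputable def pa_s_1_S0 : List ℕ := [nat_lit 0x2b00000b000008000010012010, nat_lit 0x1700000100002b00001400c012, nat_lit 0x2f00001b000005000020012010, nat_lit 0x2700000900002f00002400c012]
noncomputable def pa_s_1_S : List (List ℕ) := [pa_s_1_S0]
noncomputable def pa_s_1_defs : List ℕ := [(nat_lit 0x60000000200700007007000060040000500400004007000030070000200400001004000000010000000000000)]
noncomputable def pa_s_1_recs : List ℕ := [(nat_lit 0x1000080000901000070000b01000040000501000030000a)]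
noncomputable def pa_s_1_T : List (List ℕ × ℕ) := [([1,4,7,4,7,1,6,4,6,4], (nat_lit 0xc00001400001c00002400000d00002700001f00001700000f000007))]
noncomputable def pa_s_1_D : H26.Dag := ⟨[0,1,2,3,4,5,7,6], [[0,0],
  [1,1],
  [2,2],
  [3,3],
  [4,4],
  [5,5],
  [6,7],
  [7,6],
  [1,0,4,1,4],
  [0,1,7,1,6]], [], pa_s_1_defs, pa_s_1_recs⟩
theorem pa_s_1_c : pa_s_1_D.check pa_s_1_S pa_s_1_T = true := by decide +kernel
theorem pa_s_1 {G : Type*} [Group G] {g : ℕ → G} (hR : Rels g pa_s_r_R) {H : Subgroup G}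
    (hH : ∀ k ∈ [], g k ∈ H) : evA g [1,4,7,4,7,1,6,4,6,4] ∈ H :=
  mem_dag (K := 8) (J := [0,1,2,3,4,5,6,7,17,25]) (D := pa_s_1_D) (by decide +kernel) pa_s_1_c (by decide +kernel) hR hH
noncomputable def pa_s_2_S0 : List ℕ := [nat_lit 0xf00000700000c004010, nat_lit 0x1f000013000018008016, nat_lit 0x1f00001300000100001c00c018, nat_lit 0x2700000500000a008012, nat_lit 0x2b00000d00002700002400c014, nat_lit 0x33000012000030008016]
noncomputable def pa_s_2_S : List (List ℕ) := [pa_s_2_S0]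
noncomputable def pa_s_2_defs : List ℕ := [(nat_lit 0x70000a007000080040000600500005004000050070000400700003007000020050000200400001004000000020000000000000)]
noncomputable def pa_s_2_recs : List ℕ := [(nat_lit 0x20000b0000c05000080000a020000600009050000600007020000500007020000200003)]
noncomputable def pa_s_2_T : List (List ℕ × ℕ) := [([2,4,7,4,7,2,6,4,6,4], (nat_lit 0xc00001800002400003000001500003300002b00001b00000f000007))]
noncomputable def pa_s_2_D : H26.Dag := ⟨[0,1,2,3,4,5,7,6], [[0,0],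
  [1,1],
  [2,2],
  [3,3],
  [4,4],
  [5,5],
  [6,7],
  [7,6],
  [4,2,4,2],
  [2,5,2,5],
  [5,2,4,5,4],
  [5,7,2,6],
  [2,5,7,5,6]], [], pa_s_2_defs, pa_s_2_recs⟩
theorem pa_s_2_c : pa_s_2_D.check pa_s_2_S pa_s_2_T = true := by decide +kernel
theorem pa_s_2 {G : Type*} [Group G] {g : ℕ → G} (hR : Rels g pa_s_r_R) {H : Subgroup G}
    (hH : ∀ k ∈ [], g k ∈ H) : evA g [2,4,7,4,7,2,6,4,6,4] ∈ H :=
  mem_dag (K := 8) (J := [0,1,2,3,4,5,6,7,15,21,22,27,28]) (D := pa_s_2_D) (by decide +kernel) pa_s_2_c (by decide +kernel) hR hH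
noncomputable def pa_s_3_S0 : List ℕ := [nat_lit 0xf00000700000c004010, nat_lit 0x17000002000014008012, nat_lit 0x1f00000600001c004010, nat_lit 0x2700000a000024008012]
noncomputable def pa_s_3_S : List (List ℕ) := [pa_s_3_S0]
noncomputable def pa_s_3_defs : List ℕ := [(nat_lit 0x700007007000060040000500400004007000030070000200400001004000000030000000000000)]
noncomputable def pa_s_3_recs : List ℕ := [(nat_lit 0x30000800009030000600007030000400005030000200003)]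
noncomputable def pa_s_3_T : List (List ℕ × ℕ) := [([3,4,7,4,7,3,6,4,6,4], (nat_lit 0xc00001400001c00002400000d00002700001f00001700000f000007))]
noncomputable def pa_s_3_D : H26.Dag := ⟨[0,1,2,3,4,5,7,6], [[0,0],
  [1,1],
  [2,2],
  [3,3],
  [4,4],
  [5,5],
  [6,7],
  [7,6],
  [4,3,4,3],
  [3,7,3,6]], [], pa_s_3_defs, pa_s_3_recs⟩
theorem pa_s_3_c : pa_s_3_D.check pa_s_3_S pa_s_3_T = true := by decide +kernel
theorem pa_s_3 {G : Type*} [Group G] {g : ℕ → G} (hR : Rels g pa_s_r_R) {H : Subgroup G}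
    (hH : ∀ k ∈ [], g k ∈ H) : evA g [3,4,7,4,7,3,6,4,6,4] ∈ H :=
  mem_dag (K := 8) (J := [0,1,2,3,4,5,6,7,16,26]) (D := pa_s_3_D) (by decide +kernel) pa_s_3_c (by decide +kernel) hR hH
noncomputable def pa_s_4_S0 : List ℕ := [nat_lit 0x2b00000b000008000010012010, nat_lit 0x1700000100002b00001400c012, nat_lit 0x2f00001b000005000020012010, nat_lit 0x2700000900002f00002400c012]
noncomputable def pa_s_4_S : List (List ℕ) := [pa_s_4_S0]
noncomputable def pa_s_4_defs : List ℕ := [(nat_lit 0x2000060020000200700007007000060040000500400004007000030070000200400001004000000050000000000000)]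
noncomputable def pa_s_4_recs : List ℕ := [(nat_lit 0x5000080000905000070000b05000040000505000030000a)]
noncomputable def pa_s_4_T : List (List ℕ × ℕ) := [([5,4,7,4,7,5,6,4,6,4], (nat_lit 0xc00001400001c00002400000d00002700001f00001700000f000007))]
noncomputable def pa_s_4_D : H26.Dag := ⟨[0,1,2,3,4,5,7,6], [[0,0],
  [1,1],
  [2,2],
  [3,3],
  [4,4],
  [5,5],
  [6,7],
  [7,6],
  [5,2,4,5,4],
  [2,5,7,5,6]], [], pa_s_4_defs, pa_s_4_recs⟩
theorem pa_s_4_c : pa_s_4_D.check pa_s_4_S pa_s_4_T = true := by decide +kernel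
theorem pa_s_4 {G : Type*} [Group G] {g : ℕ → G} (hR : Rels g pa_s_r_R) {H : Subgroup G}
    (hH : ∀ k ∈ [], g k ∈ H) : evA g [5,4,7,4,7,5,6,4,6,4] ∈ H :=
  mem_dag (K := 8) (J := [0,1,2,3,4,5,6,7,22,28]) (D := pa_s_4_D) (by decide +kernel) pa_s_4_c (by decide +kernel) hR hH
theorem pa_s {G : Type*} [Group G] {z u v a b r p : G}
    (t : TA z u v a b r)
    (h : P0 z u p)
    (e0 : p * a * p⁻¹ = a)
    (e1 : p * v * p⁻¹ = r)
    (e2 : p * r * p⁻¹ = v * r) :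
    (b * p) ^ 2 * z = z * (b * p) ^ 2 ∧ (b * p) ^ 2 * u = u * (b * p) ^ 2 ∧ (b * p) ^ 2 * v = v * (b * p) ^ 2 ∧ (b * p) ^ 2 * a = a * (b * p) ^ 2 ∧ (b * p) ^ 2 * r = r * (b * p) ^ 2 :=
  ⟨mul_inv_eq_one.1 ((evA_eq_tm ((InvI.cons t.1 (InvI.cons t.2.1 (InvI.cons t.2.2.1 (InvI.cons t.2.2.2.1 (InvI.cons t.2.2.2.2.1 (InvI.cons t.2.2.2.2.2.1 InvI.nil)))))) : InvI [z, u, v, a, b, r, p] [(nat_lit 0), (nat_lit 1), (nat_lit 2), (nat_lit 3), (nat_lit 4), (nat_lit 5)]) [(.v (nat_lit 0)), (.v (nat_lit 1)), (.v (nat_lit 2)), (.v (nat_lit 3)), (.v (nat_lit 4)), (.v (nat_lit 5)), (.v (nat_lit 6)), (.inv (.v (nat_lit 6)))] [0,4,7,4,7,0,6,4,6,4] (.mul (.mul (.pw (.mul (.v (nat_lit 4)) (.v (nat_lit 6))) (nat_lit 2)) (.v (nat_lit 0))) (.inv (.mul (.v (nat_lit 0)) (.pw (.mul (.v (nat_lit 4)) (.v (nat_lit 6))) (nat_lit 2))))) (by decide +kernel)).symm.trans (Subgroup.mem_bot.1 (pa_s_0 (pa_s_r t h e0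 e1 e2) (H := ⊥) (List.forall_mem_nil _)))),
   mul_inv_eq_one.1 ((evA_eq_tm ((InvI.cons t.1 (InvI.cons t.2.1 (InvI.cons t.2.2.1 (InvI.cons t.2.2.2.1 (InvI.cons t.2.2.2.2.1 (InvI.cons t.2.2.2.2.2.1 InvI.nil)))))) : InvI [z, u, v, a, b, r, p] [(nat_lit 0), (nat_lit 1), (nat_lit 2), (nat_lit 3), (nat_lit 4), (nat_lit 5)]) [(.v (nat_lit 0)), (.v (nat_lit 1)), (.v (nat_lit 2)), (.v (nat_lit 3)), (.v (nat_lit 4)), (.v (nat_lit 5)), (.v (nat_lit 6)), (.inv (.v (nat_lit 6)))] [1,4,7,4,7,1,6,4,6,4] (.mul (.mul (.pw (.mul (.v (nat_lit 4)) (.v (nat_lit 6))) (nat_lit 2)) (.v (nat_lit 1))) (.inv (.mul (.v (nat_lit 1)) (.pw (.mul (.v (nat_lit 4)) (.v (nat_lit 6))) (nat_lit 2))))) (by decide +kernel)).symm.trans (Subgroup.mem_bot.1 (pa_s_1 (pa_s_r t h e0 e1 e2) (H := ⊥) (List.forall_mem_nil _)))),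
   mul_inv_eq_one.1 ((evA_eq_tm ((InvI.cons t.1 (InvI.cons t.2.1 (InvI.cons t.2.2.1 (InvI.cons t.2.2.2.1 (InvI.cons t.2.2.2.2.1 (InvI.cons t.2.2.2.2.2.1 InvI.nil)))))) : InvI [z, u, v, a, b, r, p] [(nat_lit 0), (nat_lit 1), (nat_lit 2), (nat_lit 3), (nat_lit 4), (nat_lit 5)]) [(.v (nat_lit 0)), (.v (nat_lit 1)), (.v (nat_lit 2)), (.v (nat_lit 3)), (.v (nat_lit 4)), (.v (nat_lit 5)), (.v (nat_lit 6)), (.inv (.v (nat_lit 6)))] [2,4,7,4,7,2,6,4,6,4] (.mul (.mul (.pw (.mul (.v (nat_lit 4)) (.v (nat_lit 6))) (nat_lit 2)) (.v (nat_lit 2))) (.inv (.mul (.v (nat_lit 2)) (.pw (.mul (.v (nat_lit 4)) (.v (nat_lit 6))) (nat_lit 2))))) (by decide +kernel)).symm.trans (Subgroup.mem_bot.1 (pa_s_2 (pa_s_r t h e0 e1 e2) (H := ⊥) (List.forall_mem_nil _)))),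
   mul_inv_eq_one.1 ((evA_eq_tm ((InvI.cons t.1 (InvI.cons t.2.1 (InvI.cons t.2.2.1 (InvI.cons t.2.2.2.1 (InvI.cons t.2.2.2.2.1 (InvI.cons t.2.2.2.2.2.1 InvI.nil)))))) : InvI [z, u, v, a, b, r, p] [(nat_lit 0), (nat_lit 1), (nat_lit 2), (nat_lit 3), (nat_lit 4), (nat_lit 5)]) [(.v (nat_lit 0)), (.v (nat_lit 1)), (.v (nat_lit 2)), (.v (nat_lit 3)), (.v (nat_lit 4)), (.v (nat_lit 5)), (.v (nat_lit 6)), (.inv (.v (nat_lit 6)))] [3,4,7,4,7,3,6,4,6,4] (.mul (.mul (.pw (.mul (.v (nat_lit 4)) (.v (nat_lit 6))) (nat_lit 2)) (.v (nat_lit 3))) (.inv (.mul (.v (nat_lit 3)) (.pw (.mul (.v (nat_lit 4)) (.v (nat_lit 6))) (nat_lit 2))))) (by decide +kernel)).symm.trans (Subgroup.mem_bot.1 (pa_s_3 (pa_s_r t h e0 e1 e2) (H := ⊥) (List.forall_mem_nil _)))),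
   mul_inv_eq_one.1 ((evA_eq_tm ((InvI.cons t.1 (InvI.cons t.2.1 (InvI.cons t.2.2.1 (InvI.cons t.2.2.2.1 (InvI.cons t.2.2.2.2.1 (InvI.cons t.2.2.2.2.2.1 InvI.nil)))))) : InvI [z, u, v, a, b, r, p] [(nat_lit 0), (nat_lit 1), (nat_lit 2), (nat_lit 3), (nat_lit 4), (nat_lit 5)]) [(.v (nat_lit 0)), (.v (nat_lit 1)), (.v (nat_lit 2)), (.v (nat_lit 3)), (.v (nat_lit 4)), (.v (nat_lit 5)), (.v (nat_lit 6)), (.inv (.v (nat_lit 6)))] [5,4,7,4,7,5,6,4,6,4] (.mul (.mul (.pw (.mul (.v (nat_lit 4)) (.v (nat_lit 6))) (nat_lit 2)) (.v (nat_lit 5))) (.inv (.mul (.v (nat_lit 5)) (.pw (.mul (.v (nat_lit 4)) (.v (nat_lit 6))) (nat_lit 2))))) (by decide +kernel)).symm.trans (Subgroup.mem_bot.1 (pa_s_4 (pa_s_r t h e0 e1 e2) (H := ⊥) (List.forall_mem_nil _))))⟩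
noncomputable def pa_z_r_R : List (List ℕ) := [[0,0],
  [1,1],
  [2,2],
  [3,3],
  [4,4],
  [5,5],
  [6,7],
  [7,6],
  [2,1,2,1],
  [1,0,1,0],
  [2,0,2,0],
  [3,0,3,0],
  [4,0,4,0],
  [5,0,5,0],
  [3,1,3,1],
  [4,2,4,2],
  [4,3,4,3],
  [1,0,4,1,4],
  [2,0,3,2,3],
  [1,5,1,5],
  [5,1,3,5,3],
  [2,5,2,5],
  [5,2,4,5,4],
  [6,6,6],
  [1,7,0,6],
  [0,1,7,1,6],
  [3,7,3,6],
  [5,7,2,6],
  [2,5,7,5,6],
  [0,6,4,6,4]]
theorem pa_z_r {G : Type*} [Group G] {z u v a b r p : G}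
    (t : TA z u v a b r)
    (h : P0 z u p)
    (e0 : p * a * p⁻¹ = a)
    (e1 : p * v * p⁻¹ = r)
    (e2 : p * r * p⁻¹ = v * r)
    (e3 : (b * p) ^ 2 = z) :
    Rels (nthG [z, u, v, a, b, r, p, p⁻¹]) pa_z_r_R :=
  rels_of_eqs ((InvI.cons t.1 (InvI.cons t.2.1 (InvI.cons t.2.2.1 (InvI.cons t.2.2.2.1 (InvI.cons t.2.2.2.2.1 (InvI.cons t.2.2.2.2.2.1 InvI.nil)))))) : InvI [z, u, v, a, b, r, p] [(nat_lit 0), (nat_lit 1), (nat_lit 2), (nat_lit 3), (nat_lit 4), (nat_lit 5)])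
    (AllEq.append (show AllEq [z, u, v, a, b, r, p] [((.mul (.v (nat_lit 0)) (.v (nat_lit 0))), .one), ((.mul (.v (nat_lit 1)) (.v (nat_lit 1))), .one), ((.mul (.v (nat_lit 2)) (.v (nat_lit 2))), .one), ((.mul (.v (nat_lit 3)) (.v (nat_lit 3))), .one), ((.mul (.v (nat_lit 4)) (.v (nat_lit 4))), .one), ((.mul (.v (nat_lit 5)) (.v (nat_lit 5))), .one), ((.mul (.v (nat_lit 1)) (.v (nat_lit 2))), (.mul (.v (nat_lit 2)) (.v (nat_lit 1)))), ((.mul (.v (nat_lit 0)) (.v (nat_lit 1))), (.mul (.v (nat_lit 1)) (.v (nat_lit 0)))), ((.mul (.v (nat_lit 0)) (.v (nat_lit 2))), (.mul (.v (nat_lit 2)) (.v (nat_lit 0)))), ((.mul (.v (nat_lit 0)) (.v (nat_lit 3))), (.mul (.v (nat_lit 3)) (.v (nat_lit 0)))), ((.mul (.v (nat_lit 0)) (.v (nat_lit 4))), (.mul (.v (nat_lit 4)) (.v (nat_lit 0)))), ((.mul (.v (nat_lit 0)) (.v (nat_lit 5))), (.mul (.v (nat_lit 5)) (.v (nat_lit 0)))), ((.mul (.v (nat_lit 1))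 (.v (nat_lit 3))), (.mul (.v (nat_lit 3)) (.v (nat_lit 1)))), ((.mul (.v (nat_lit 2)) (.v (nat_lit 4))), (.mul (.v (nat_lit 4)) (.v (nat_lit 2)))), ((.mul (.v (nat_lit 3)) (.v (nat_lit 4))), (.mul (.v (nat_lit 4)) (.v (nat_lit 3)))), ((.mul (.mul (.v (nat_lit 4)) (.v (nat_lit 1))) (.v (nat_lit 4))), (.mul (.v (nat_lit 1)) (.v (nat_lit 0)))), ((.mul (.mul (.v (nat_lit 3)) (.v (nat_lit 2))) (.v (nat_lit 3))), (.mul (.v (nat_lit 2)) (.v (nat_lit 0)))), ((.mul (.v (nat_lit 5)) (.v (nat_lit 1))), (.mul (.v (nat_lit 1)) (.v (nat_lit 5)))), ((.mul (.mul (.v (nat_lit 3)) (.v (nat_lit 5))) (.v (nat_lit 3))), (.mul (.v (nat_lit 5)) (.v (nat_lit 1)))), ((.mul (.v (nat_lit 5)) (.v (nat_lit 2))), (.mul (.v (nat_lit 2)) (.v (nat_lit 5)))), ((.mul (.mul (.v (nat_lit 4)) (.v (nat_lit 5))) (.v (nat_lit 4))), (.mul (.v (nat_lit 5)) (.v (nat_lit 2))))] from t)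
    (AllEq.append (show AllEq [z, u, v, a, b, r, p] [((.pw (.v (nat_lit 6)) (nat_lit 3)), .one), ((.mul (.mul (.v (nat_lit 6)) (.v (nat_lit 0))) (.inv (.v (nat_lit 6)))), (.v (nat_lit 1))), ((.mul (.mul (.v (nat_lit 6)) (.v (nat_lit 1))) (.inv (.v (nat_lit 6)))), (.mul (.v (nat_lit 0)) (.v (nat_lit 1))))] from h)
    (AllEq.append (show AllEq [z, u, v, a, b, r, p] [((.mul (.mul (.v (nat_lit 6)) (.v (nat_lit 3))) (.inv (.v (nat_lit 6)))), (.v (nat_lit 3)))] from ⟨e0, trivial⟩)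
    (AllEq.append (show AllEq [z, u, v, a, b, r, p] [((.mul (.mul (.v (nat_lit 6)) (.v (nat_lit 2))) (.inv (.v (nat_lit 6)))), (.v (nat_lit 5)))] from ⟨e1, trivial⟩)
    (AllEq.append (show AllEq [z, u, v, a, b, r, p] [((.mul (.mul (.v (nat_lit 6)) (.v (nat_lit 5))) (.inv (.v (nat_lit 6)))), (.mul (.v (nat_lit 2)) (.v (nat_lit 5))))] from ⟨e2, trivial⟩)
    (show AllEq [z, u, v, a, b, r, p] [((.pw (.mul (.v (nat_lit 4)) (.v (nat_lit 6))) (nat_lit 2)), (.v (nat_lit 0)))] from ⟨e3, trivial⟩))))))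
    [(.v (nat_lit 0)), (.v (nat_lit 1)), (.v (nat_lit 2)), (.v (nat_lit 3)), (.v (nat_lit 4)), (.v (nat_lit 5)), (.v (nat_lit 6)), (.inv (.v (nat_lit 6)))] (by decide +kernel)
noncomputable def pa_z_0_S0 : List ℕ := [nat_lit 0x1700000700000c004010, nat_lit 0x1b000007000010004012, nat_lit 0x2700000b000014008016, nat_lit 0x2b00000f000008000018010014, nat_lit 0x2f00000500001b000024008018, nat_lit 0x1100002f00000f000014000009000018, nat_lit 0x2400001600002700000e, nat_lit 0x800001a000001000000, nat_lit 0xf00001e00000d000008, nat_lit 0x2200002b000002, nat_lit 0x33000025000034008016, nat_lit 0x3300000f00000800002000a018, nat_lit 0x1b00002000002d00002900003300e018, nat_lit 0x1000003100001b000008, nat_lit 0x36000007000000]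
noncomputable def pa_z_0_S : List (List ℕ) := [pa_z_0_S0]
noncomputable def pa_z_0_defs : List ℕ := [(nat_lit 0x700003006000030010000300700002007000010060000100400001001000010070000000400000001000000000000000000000)]
noncomputable def pa_z_0_recs : List ℕ := [(nat_lit 0xff0000100000ff000030000604000070000c000000c0000c010000300003ff0000a00003ff0000500000ff0000200001ff000090000804000080000b04000050000a000000400009000000300006000000200005)]
noncomputable def pa_z_0_T : List (List ℕ × ℕ) := [([0], (nat_lit 0x39))]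
noncomputable def pa_z_0_D : H26.Dag := ⟨[0,1,2,3,4,5,7,6], [[0,0],
  [1,1],
  [2,2],
  [3,3],
  [4,4],
  [5,5],
  [6,7],
  [7,6],
  [1,0,1,0],
  [4,0,4,0],
  [1,0,4,1,4],
  [1,7,0,6],
  [0,6,4,6,4]], [], pa_z_0_defs, pa_z_0_recs⟩
theorem pa_z_0_c : pa_z_0_D.check pa_z_0_S pa_z_0_T = true := by decide +kernel
theorem pa_z_0 {G : Type*} [Group G] {g : ℕ → G} (hR : Rels g pa_z_r_R) {H : Subgroup G}
    (hH : ∀ k ∈ [], g k ∈ H) : evA g [0] ∈ H :=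
  mem_dag (K := 8) (J := [0,1,2,3,4,5,6,7,9,12,17,24,29]) (D := pa_z_0_D) (by decide +kernel) pa_z_0_c (by decide +kernel) hR hH
theorem pa_z {G : Type*} [Group G] {z u v a b r p : G}
    (t : TA z u v a b r)
    (h : P0 z u p)
    (e0 : p * a * p⁻¹ = a)
    (e1 : p * v * p⁻¹ = r)
    (e2 : p * r * p⁻¹ = v * r)
    (e3 : (b * p) ^ 2 = z) :
    z = 1 :=
  mul_inv_eq_one.1 ((evA_eq_tm ((InvI.cons t.1 (InvI.cons t.2.1 (InvI.cons t.2.2.1 (InvI.cons t.2.2.2.1 (InvI.cons t.2.2.2.2.1 (InvI.cons t.2.2.2.2.2.1 InvI.nil)))))) : InvI [z, u, v, a, b, r, p] [(nat_lit 0), (nat_lit 1), (nat_lit 2), (nat_lit 3), (nat_lit 4), (nat_lit 5)]) [(.v (nat_lit 0)), (.v (nat_lit 1)), (.v (nat_lit 2)), (.v (nat_lit 3)), (.v (nat_lit 4)), (.v (nat_lit 5)), (.v (nat_lit 6)), (.inv (.v (nat_lit 6)))] [0] (.mul (.v (nat_lit 0)) (.inv .one)) (by decide +kernel)).symm.trans (Subgroup.mem_bot.1 (pa_z_0 (pa_z_r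 t h e0 e1 e2 e3) (H := ⊥) (List.forall_mem_nil _))))
noncomputable def pa_zu_r_R : List (List ℕ) := [[0,0],
  [1,1],
  [2,2],
  [3,3],
  [4,4],
  [5,5],
  [6,7],
  [7,6],
  [2,1,2,1],
  [1,0,1,0],
  [2,0,2,0],
  [3,0,3,0],
  [4,0,4,0],
  [5,0,5,0],
  [3,1,3,1],
  [4,2,4,2],
  [4,3,4,3],
  [1,0,4,1,4],
  [2,0,3,2,3],
  [1,5,1,5],
  [5,1,3,5,3],
  [2,5,2,5],
  [5,2,4,5,4],
  [6,6,6],
  [1,7,0,6],
  [0,1,7,1,6],
  [3,7,3,6],
  [5,7,2,6],
  [2,5,7,5,6],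
  [0,1,6,4,6,4]]
theorem pa_zu_r {G : Type*} [Group G] {z u v a b r p : G}
    (t : TA z u v a b r)
    (h : P0 z u p)
    (e0 : p * a * p⁻¹ = a)
    (e1 : p * v * p⁻¹ = r)
    (e2 : p * r * p⁻¹ = v * r)
    (e3 : (b * p) ^ 2 = z * u) :
    Rels (nthG [z, u, v, a, b, r, p, p⁻¹]) pa_zu_r_R :=
  rels_of_eqs ((InvI.cons t.1 (InvI.cons t.2.1 (InvI.cons t.2.2.1 (InvI.cons t.2.2.2.1 (InvI.cons t.2.2.2.2.1 (InvI.cons t.2.2.2.2.2.1 InvI.nil)))))) : InvI [z, u, v, a, b, r, p] [(nat_lit 0), (nat_lit 1), (nat_lit 2), (nat_lit 3), (nat_lit 4), (nat_lit 5)])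
    (AllEq.append (show AllEq [z, u, v, a, b, r, p] [((.mul (.v (nat_lit 0)) (.v (nat_lit 0))), .one), ((.mul (.v (nat_lit 1)) (.v (nat_lit 1))), .one), ((.mul (.v (nat_lit 2)) (.v (nat_lit 2))), .one), ((.mul (.v (nat_lit 3)) (.v (nat_lit 3))), .one), ((.mul (.v (nat_lit 4)) (.v (nat_lit 4))), .one), ((.mul (.v (nat_lit 5)) (.v (nat_lit 5))), .one), ((.mul (.v (nat_lit 1)) (.v (nat_lit 2))), (.mul (.v (nat_lit 2)) (.v (nat_lit 1)))), ((.mul (.v (nat_lit 0)) (.v (nat_lit 1))), (.mul (.v (nat_lit 1)) (.v (nat_lit 0)))), ((.mul (.v (nat_lit 0)) (.v (nat_lit 2))), (.mul (.v (nat_lit 2)) (.v (nat_lit 0)))), ((.mul (.v (nat_lit 0)) (.v (nat_lit 3))), (.mul (.v (nat_lit 3)) (.v (nat_lit 0)))), ((.mul (.v (nat_lit 0)) (.v (nat_lit 4))), (.mul (.v (nat_lit 4)) (.v (nat_lit 0)))), ((.mul (.v (nat_lit 0)) (.v (nat_lit 5))), (.mul (.v (nat_lit 5)) (.v (nat_lit 0)))), ((.mul (.v (nat_lit 1))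 (.v (nat_lit 3))), (.mul (.v (nat_lit 3)) (.v (nat_lit 1)))), ((.mul (.v (nat_lit 2)) (.v (nat_lit 4))), (.mul (.v (nat_lit 4)) (.v (nat_lit 2)))), ((.mul (.v (nat_lit 3)) (.v (nat_lit 4))), (.mul (.v (nat_lit 4)) (.v (nat_lit 3)))), ((.mul (.mul (.v (nat_lit 4)) (.v (nat_lit 1))) (.v (nat_lit 4))), (.mul (.v (nat_lit 1)) (.v (nat_lit 0)))), ((.mul (.mul (.v (nat_lit 3)) (.v (nat_lit 2))) (.v (nat_lit 3))), (.mul (.v (nat_lit 2)) (.v (nat_lit 0)))), ((.mul (.v (nat_lit 5)) (.v (nat_lit 1))), (.mul (.v (nat_lit 1)) (.v (nat_lit 5)))), ((.mul (.mul (.v (nat_lit 3)) (.v (nat_lit 5))) (.v (nat_lit 3))), (.mul (.v (nat_lit 5)) (.v (nat_lit 1)))), ((.mul (.v (nat_lit 5)) (.v (nat_lit 2))), (.mul (.v (nat_lit 2)) (.v (nat_lit 5)))), ((.mul (.mul (.v (nat_lit 4)) (.v (nat_lit 5))) (.v (nat_lit 4))), (.mul (.v (nat_lit 5)) (.v (nat_lit 2))))] from t)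
    (AllEq.append (show AllEq [z, u, v, a, b, r, p] [((.pw (.v (nat_lit 6)) (nat_lit 3)), .one), ((.mul (.mul (.v (nat_lit 6)) (.v (nat_lit 0))) (.inv (.v (nat_lit 6)))), (.v (nat_lit 1))), ((.mul (.mul (.v (nat_lit 6)) (.v (nat_lit 1))) (.inv (.v (nat_lit 6)))), (.mul (.v (nat_lit 0)) (.v (nat_lit 1))))] from h)
    (AllEq.append (show AllEq [z, u, v, a, b, r, p] [((.mul (.mul (.v (nat_lit 6)) (.v (nat_lit 3))) (.inv (.v (nat_lit 6)))), (.v (nat_lit 3)))] from ⟨e0, trivial⟩)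
    (AllEq.append (show AllEq [z, u, v, a, b, r, p] [((.mul (.mul (.v (nat_lit 6)) (.v (nat_lit 2))) (.inv (.v (nat_lit 6)))), (.v (nat_lit 5)))] from ⟨e1, trivial⟩)
    (AllEq.append (show AllEq [z, u, v, a, b, r, p] [((.mul (.mul (.v (nat_lit 6)) (.v (nat_lit 5))) (.inv (.v (nat_lit 6)))), (.mul (.v (nat_lit 2)) (.v (nat_lit 5))))] from ⟨e2, trivial⟩)
    (show AllEq [z, u, v, a, b, r, p] [((.pw (.mul (.v (nat_lit 4)) (.v (nat_lit 6))) (nat_lit 2)), (.mul (.v (nat_lit 0)) (.v (nat_lit 1))))] from ⟨e3, trivial⟩))))))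
    [(.v (nat_lit 0)), (.v (nat_lit 1)), (.v (nat_lit 2)), (.v (nat_lit 3)), (.v (nat_lit 4)), (.v (nat_lit 5)), (.v (nat_lit 6)), (.inv (.v (nat_lit 6)))] (by decide +kernel)
noncomputable def pa_zu_0_S0 : List ℕ := [nat_lit 0x1b00000700000c004010, nat_lit 0x1f000007000010004012, nat_lit 0x2700000100001b00002000c014, nat_lit 0x2b00000b000018008016, nat_lit 0x2b00000b00000800002400c018, nat_lit 0x2f000005000009004010, nat_lit 0x2f00000f00000800001c010014, nat_lit 0x3300003000001600002700002c00c01a, nat_lit 0xd00001d00003300000f00001800401a, nat_lit 0x1100000e00002100000d00c010, nat_lit 0x2400002600002b00000e, nat_lit 0x800002a000001000000, nat_lit 0x1f00002a000028000008, nat_lit 0x2e00001b000002, nat_lit 0xf00002e000019000008, nat_lit 0x3200000a000002, nat_lit 0x3a00002f000002, nat_lit 0x37000041000038008016, nat_lit 0x3700000f00000800003500001400a01a, nat_lit 0x3700000f00001400004900004501201a,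 nat_lit 0x3d00000600003800004d000037008018, nat_lit 0x1000005100001f000008, nat_lit 0x56000007000000]
noncomputable def pa_zu_0_S : List (List ℕ) := [pa_zu_0_S0]
noncomputable def pa_zu_0_defs : List ℕ := [(nat_lit 0x70000300600003001000030070000200400002007000010040000100100001007000000060000000400000001000000000000000000000)]
noncomputable def pa_zu_0_recs : List ℕ := [(nat_lit 0xff0000100000ff0000300007010000d0000d04000040000d000000d0000d010000300003010000700007ff0000b00003010000100000ff0000900007ff0000600000ff0000200001ff0000a00008010000500005040000a0000c04000060000b00000090000b01000080000a00000050000a010000700009000000300007000000200006)]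
noncomputable def pa_zu_0_T : List (List ℕ × ℕ) := [([0], (nat_lit 0x59))]
noncomputable def pa_zu_0_D : H26.Dag := ⟨[0,1,2,3,4,5,7,6], [[0,0],
  [1,1],
  [2,2],
  [3,3],
  [4,4],
  [5,5],
  [6,7],
  [7,6],
  [1,0,1,0],
  [4,0,4,0],
  [1,0,4,1,4],
  [1,7,0,6],
  [0,1,7,1,6],
  [0,1,6,4,6,4]], [], pa_zu_0_defs, pa_zu_0_recs⟩
theorem pa_zu_0_c : pa_zu_0_D.check pa_zu_0_S pa_zu_0_T = true := by decide +kernel
theorem pa_zu_0 {G : Type*} [Group G] {g : ℕ → G} (hR : Rels g pa_zu_r_R) {H : Subgroup G}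
    (hH : ∀ k ∈ [], g k ∈ H) : evA g [0] ∈ H :=
  mem_dag (K := 8) (J := [0,1,2,3,4,5,6,7,9,12,17,24,25,29]) (D := pa_zu_0_D) (by decide +kernel) pa_zu_0_c (by decide +kernel) hR hH
theorem pa_zu {G : Type*} [Group G] {z u v a b r p : G}
    (t : TA z u v a b r)
    (h : P0 z u p)
    (e0 : p * a * p⁻¹ = a)
    (e1 : p * v * p⁻¹ = r)
    (e2 : p * r * p⁻¹ = v * r)
    (e3 : (b * p) ^ 2 = z * u) :
    z = 1 :=
  mul_inv_eq_one.1 ((evA_eq_tm ((InvI.cons t.1 (InvI.cons t.2.1 (InvI.cons t.2.2.1 (InvI.cons t.2.2.2.1 (InvI.cons t.2.2.2.2.1 (InvI.cons t.2.2.2.2.2.1 InvI.nil)))))) : InvI [z, u, v, a, b, r, p] [(nat_lit 0), (nat_lit 1), (nat_lit 2), (nat_lit 3), (nat_lit 4), (nat_lit 5)]) [(.v (nat_lit 0)), (.v (nat_lit 1)), (.v (nat_lit 2)), (.v (nat_lit 3)), (.v (nat_lit 4)), (.v (nat_lit 5)), (.v (nat_lit 6)), (.inv (.v (nat_lit 6)))] [0] (.mul (.v (nat_lit 0)) (.inv .one)) (by decide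 +kernel)).symm.trans (Subgroup.mem_bot.1 (pa_zu_0 (pa_zu_r t h e0 e1 e2 e3) (H := ⊥) (List.forall_mem_nil _))))
noncomputable def pa_u_r_R : List (List ℕ) := [[0,0],
  [1,1],
  [2,2],
  [3,3],
  [4,4],
  [5,5],
  [6,7],
  [7,6],
  [2,1,2,1],
  [1,0,1,0],
  [2,0,2,0],
  [3,0,3,0],
  [4,0,4,0],
  [5,0,5,0],
  [3,1,3,1],
  [4,2,4,2],
  [4,3,4,3],
  [1,0,4,1,4],
  [2,0,3,2,3],
  [1,5,1,5],
  [5,1,3,5,3],
  [2,5,2,5],
  [5,2,4,5,4],
  [6,6,6],
  [1,7,0,6],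
  [0,1,7,1,6],
  [3,7,3,6],
  [5,7,2,6],
  [2,5,7,5,6],
  [1,6,4,6,4]]
theorem pa_u_r {G : Type*} [Group G] {z u v a b r p : G}
    (t : TA z u v a b r)
    (h : P0 z u p)
    (e0 : p * a * p⁻¹ = a)
    (e1 : p * v * p⁻¹ = r)
    (e2 : p * r * p⁻¹ = v * r)
    (e3 : (b * p) ^ 2 = u) :
    Rels (nthG [z, u, v, a, b, r, p, p⁻¹]) pa_u_r_R :=
  rels_of_eqs ((InvI.cons t.1 (InvI.cons t.2.1 (InvI.cons t.2.2.1 (InvI.cons t.2.2.2.1 (InvI.cons t.2.2.2.2.1 (InvI.cons t.2.2.2.2.2.1 InvI.nil)))))) : InvI [z, u, v, a, b, r, p] [(nat_lit 0), (nat_lit 1), (nat_lit 2), (nat_lit 3), (nat_lit 4), (nat_lit 5)])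
    (AllEq.append (show AllEq [z, u, v, a, b, r, p] [((.mul (.v (nat_lit 0)) (.v (nat_lit 0))), .one), ((.mul (.v (nat_lit 1)) (.v (nat_lit 1))), .one), ((.mul (.v (nat_lit 2)) (.v (nat_lit 2))), .one), ((.mul (.v (nat_lit 3)) (.v (nat_lit 3))), .one), ((.mul (.v (nat_lit 4)) (.v (nat_lit 4))), .one), ((.mul (.v (nat_lit 5)) (.v (nat_lit 5))), .one), ((.mul (.v (nat_lit 1)) (.v (nat_lit 2))), (.mul (.v (nat_lit 2)) (.v (nat_lit 1)))), ((.mul (.v (nat_lit 0)) (.v (nat_lit 1))), (.mul (.v (nat_lit 1)) (.v (nat_lit 0)))), ((.mul (.v (nat_lit 0)) (.v (nat_lit 2))), (.mul (.v (nat_lit 2)) (.v (nat_lit 0)))), ((.mul (.v (nat_lit 0)) (.v (nat_lit 3))), (.mul (.v (nat_lit 3)) (.v (nat_lit 0)))), ((.mul (.v (nat_lit 0)) (.v (nat_lit 4))), (.mul (.v (nat_lit 4)) (.v (nat_lit 0)))), ((.mul (.v (nat_lit 0)) (.v (nat_lit 5))), (.mul (.v (nat_lit 5)) (.v (nat_lit 0)))), ((.mul (.v (nat_lit 1))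 (.v (nat_lit 3))), (.mul (.v (nat_lit 3)) (.v (nat_lit 1)))), ((.mul (.v (nat_lit 2)) (.v (nat_lit 4))), (.mul (.v (nat_lit 4)) (.v (nat_lit 2)))), ((.mul (.v (nat_lit 3)) (.v (nat_lit 4))), (.mul (.v (nat_lit 4)) (.v (nat_lit 3)))), ((.mul (.mul (.v (nat_lit 4)) (.v (nat_lit 1))) (.v (nat_lit 4))), (.mul (.v (nat_lit 1)) (.v (nat_lit 0)))), ((.mul (.mul (.v (nat_lit 3)) (.v (nat_lit 2))) (.v (nat_lit 3))), (.mul (.v (nat_lit 2)) (.v (nat_lit 0)))), ((.mul (.v (nat_lit 5)) (.v (nat_lit 1))), (.mul (.v (nat_lit 1)) (.v (nat_lit 5)))), ((.mul (.mul (.v (nat_lit 3)) (.v (nat_lit 5))) (.v (nat_lit 3))), (.mul (.v (nat_lit 5)) (.v (nat_lit 1)))), ((.mul (.v (nat_lit 5)) (.v (nat_lit 2))), (.mul (.v (nat_lit 2)) (.v (nat_lit 5)))), ((.mul (.mul (.v (nat_lit 4)) (.v (nat_lit 5))) (.v (nat_lit 4))), (.mul (.v (nat_lit 5)) (.v (nat_lit 2))))] from t)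
    (AllEq.append (show AllEq [z, u, v, a, b, r, p] [((.pw (.v (nat_lit 6)) (nat_lit 3)), .one), ((.mul (.mul (.v (nat_lit 6)) (.v (nat_lit 0))) (.inv (.v (nat_lit 6)))), (.v (nat_lit 1))), ((.mul (.mul (.v (nat_lit 6)) (.v (nat_lit 1))) (.inv (.v (nat_lit 6)))), (.mul (.v (nat_lit 0)) (.v (nat_lit 1))))] from h)
    (AllEq.append (show AllEq [z, u, v, a, b, r, p] [((.mul (.mul (.v (nat_lit 6)) (.v (nat_lit 3))) (.inv (.v (nat_lit 6)))), (.v (nat_lit 3)))] from ⟨e0, trivial⟩)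
    (AllEq.append (show AllEq [z, u, v, a, b, r, p] [((.mul (.mul (.v (nat_lit 6)) (.v (nat_lit 2))) (.inv (.v (nat_lit 6)))), (.v (nat_lit 5)))] from ⟨e1, trivial⟩)
    (AllEq.append (show AllEq [z, u, v, a, b, r, p] [((.mul (.mul (.v (nat_lit 6)) (.v (nat_lit 5))) (.inv (.v (nat_lit 6)))), (.mul (.v (nat_lit 2)) (.v (nat_lit 5))))] from ⟨e2, trivial⟩)
    (show AllEq [z, u, v, a, b, r, p] [((.pw (.mul (.v (nat_lit 4)) (.v (nat_lit 6))) (nat_lit 2)), (.v (nat_lit 1)))] from ⟨e3, trivial⟩))))))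
    [(.v (nat_lit 0)), (.v (nat_lit 1)), (.v (nat_lit 2)), (.v (nat_lit 3)), (.v (nat_lit 4)), (.v (nat_lit 5)), (.v (nat_lit 6)), (.inv (.v (nat_lit 6)))] (by decide +kernel)
noncomputable def pa_u_0_S0 : List ℕ := [nat_lit 0xf00000c006010]
noncomputable def pa_u_0_S : List (List ℕ) := [pa_u_0_S0]
noncomputable def pa_u_0_defs : List ℕ := [(nat_lit 0x700001006000010010000000000000)]
noncomputable def pa_u_0_recs : List ℕ := [(nat_lit 0x70000200003)]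
noncomputable def pa_u_0_T : List (List ℕ × ℕ) := [([1,6,6,6,1], (nat_lit 0x800001000000200000b000007))]
noncomputable def pa_u_0_D : H26.Dag := ⟨[0,1,2,3,4,5,7,6], [[0,0],
  [1,1],
  [2,2],
  [3,3],
  [4,4],
  [5,5],
  [6,7],
  [7,6],
  [6,6,6]], [], pa_u_0_defs, pa_u_0_recs⟩
theorem pa_u_0_c : pa_u_0_D.check pa_u_0_S pa_u_0_T = true := by decide +kernel
theorem pa_u_0 {G : Type*} [Group G] {g : ℕ → G} (hR : Rels g pa_u_r_R) {H : Subgroup G}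
    (hH : ∀ k ∈ [], g k ∈ H) : evA g [1,6,6,6,1] ∈ H :=
  mem_dag (K := 8) (J := [0,1,2,3,4,5,6,7,23]) (D := pa_u_0_D) (by decide +kernel) pa_u_0_c (by decide +kernel) hR hH
noncomputable def pa_u_1_S0 : List ℕ := [nat_lit 0x1300000b000008008012, nat_lit 0x1700000f000001008010]
noncomputable def pa_u_1_S : List (List ℕ) := [pa_u_1_S0]
noncomputable def pa_u_1_defs : List ℕ := [(nat_lit 0x30070000200100001001000000070000000000000)]
noncomputable def pa_u_1_recs : List ℕ := [(nat_lit 0x10000400005000000100004)]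
noncomputable def pa_u_1_T : List (List ℕ × ℕ) := [([7,1,0,1,6,1], (nat_lit 0xc00001400000500001700000f000007))]
noncomputable def pa_u_1_D : H26.Dag := ⟨[0,1,2,3,4,5,7,6], [[0,0],
  [1,1],
  [2,2],
  [3,3],
  [4,4],
  [5,5],
  [6,7],
  [7,6],
  [1,0,1,0],
  [1,7,0,6]], [], pa_u_1_defs, pa_u_1_recs⟩
theorem pa_u_1_c : pa_u_1_D.check pa_u_1_S pa_u_1_T = true := by decide +kernel
theorem pa_u_1 {G : Type*} [Group G] {g : ℕ → G} (hR : Rels g pa_u_r_R) {H : Subgroup G}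
    (hH : ∀ k ∈ [], g k ∈ H) : evA g [7,1,0,1,6,1] ∈ H :=
  mem_dag (K := 8) (J := [0,1,2,3,4,5,6,7,9,24]) (D := pa_u_1_D) (by decide +kernel) pa_u_1_c (by decide +kernel) hR hH
noncomputable def pa_u_2_S0 : List ℕ := [nat_lit 0x1300000b00000800001000c010]
noncomputable def pa_u_2_S : List (List ℕ) := [pa_u_2_S0]
noncomputable def pa_u_2_defs : List ℕ := [(nat_lit 0x70000200700001001000000000000000000000)]
noncomputable def pa_u_2_recs : List ℕ := [(nat_lit 0x10000300004)]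
noncomputable def pa_u_2_T : List (List ℕ × ℕ) := [([0,7,1,6,1], (nat_lit 0xc00001400000200000f000007))]
noncomputable def pa_u_2_D : H26.Dag := ⟨[0,1,2,3,4,5,7,6], [[0,0],
  [1,1],
  [2,2],
  [3,3],
  [4,4],
  [5,5],
  [6,7],
  [7,6],
  [0,1,7,1,6]], [], pa_u_2_defs, pa_u_2_recs⟩
theorem pa_u_2_c : pa_u_2_D.check pa_u_2_S pa_u_2_T = true := by decide +kernel
theorem pa_u_2 {G : Type*} [Group G] {g : ℕ → G} (hR : Rels g pa_u_r_R) {H : Subgroup G}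
    (hH : ∀ k ∈ [], g k ∈ H) : evA g [0,7,1,6,1] ∈ H :=
  mem_dag (K := 8) (J := [0,1,2,3,4,5,6,7,25]) (D := pa_u_2_D) (by decide +kernel) pa_u_2_c (by decide +kernel) hR hH
noncomputable def pa_u_3_S0 : List ℕ := [nat_lit 0xf00000700000c008010, nat_lit 0x17000002000014008012, nat_lit 0x1f00000600001c008010]
noncomputable def pa_u_3_S : List (List ℕ) := [pa_u_3_S0]
noncomputable def pa_u_3_defs : List ℕ := [(nat_lit 0x10000500100004007000030070000200100001001000000030000000000000)]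
noncomputable def pa_u_3_recs : List ℕ := [(nat_lit 0x30000600007030000400005030000200003)]
noncomputable def pa_u_3_T : List (List ℕ × ℕ) := [([3,1,7,1,3,1,6,1], (nat_lit 0xc00001400001c00000900001f00001700000f000007))]
noncomputable def pa_u_3_D : H26.Dag := ⟨[0,1,2,3,4,5,7,6], [[0,0],
  [1,1],
  [2,2],
  [3,3],
  [4,4],
  [5,5],
  [6,7],
  [7,6],
  [3,1,3,1],
  [3,7,3,6]], [], pa_u_3_defs, pa_u_3_recs⟩
theorem pa_u_3_c : pa_u_3_D.check pa_u_3_S pa_u_3_T = true := by decide +kernel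
theorem pa_u_3 {G : Type*} [Group G] {g : ℕ → G} (hR : Rels g pa_u_r_R) {H : Subgroup G}
    (hH : ∀ k ∈ [], g k ∈ H) : evA g [3,1,7,1,3,1,6,1] ∈ H :=
  mem_dag (K := 8) (J := [0,1,2,3,4,5,6,7,14,26]) (D := pa_u_3_D) (by decide +kernel) pa_u_3_c (by decide +kernel) hR hH
noncomputable def pa_u_4_S0 : List ℕ := [nat_lit 0xf00000700000c004012, nat_lit 0x17000002000014008014, nat_lit 0x1f00000600001c008010]
noncomputable def pa_u_4_S : List (List ℕ) := [pa_u_4_S0]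
noncomputable def pa_u_4_defs : List ℕ := [(nat_lit 0x10000500100004007000030070000200100001001000000050000000000000)]
noncomputable def pa_u_4_recs : List ℕ := [(nat_lit 0x20000600007020000400005050000200003)]
noncomputable def pa_u_4_T : List (List ℕ × ℕ) := [([5,1,7,1,2,1,6,1], (nat_lit 0xc00001400001c00000900001f00001700000f000007))]
noncomputable def pa_u_4_D : H26.Dag := ⟨[0,1,2,3,4,5,7,6], [[0,0],
  [1,1],
  [2,2],
  [3,3],
  [4,4],
  [5,5],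
  [6,7],
  [7,6],
  [2,1,2,1],
  [1,5,1,5],
  [5,7,2,6]], [], pa_u_4_defs, pa_u_4_recs⟩
theorem pa_u_4_c : pa_u_4_D.check pa_u_4_S pa_u_4_T = true := by decide +kernel
theorem pa_u_4 {G : Type*} [Group G] {g : ℕ → G} (hR : Rels g pa_u_r_R) {H : Subgroup G}
    (hH : ∀ k ∈ [], g k ∈ H) : evA g [5,1,7,1,2,1,6,1] ∈ H :=
  mem_dag (K := 8) (J := [0,1,2,3,4,5,6,7,8,19,27]) (D := pa_u_4_D) (by decide +kernel) pa_u_4_c (by decide +kernel) hR hH
noncomputable def pa_u_5_S0 : List ℕ := [nat_lit 0x2700000700000c008010, nat_lit 0x27000010000018004012, nat_lit 0x1f00000500000200001400c014, nat_lit 0x2300001b000009000012]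
noncomputable def pa_u_5_S : List (List ℕ) := [pa_u_5_S0]
noncomputable def pa_u_5_defs : List ℕ := [(nat_lit 0x100001005000060070000500100004001000030070000200500001001000000020000000000000)]
noncomputable def pa_u_5_recs : List ℕ := [(nat_lit 0x10000700008050000400007050000500009020000200009)]
noncomputable def pa_u_5_T : List (List ℕ × ℕ) := [([2,5,1,7,1,5,1,6,1], (nat_lit 0xc00001400001c00002400000e00001f00001700000f000007))]
noncomputable def pa_u_5_D : H26.Dag := ⟨[0,1,2,3,4,5,7,6], [[0,0],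
  [1,1],
  [2,2],
  [3,3],
  [4,4],
  [5,5],
  [6,7],
  [7,6],
  [2,1,2,1],
  [1,5,1,5],
  [2,5,7,5,6]], [], pa_u_5_defs, pa_u_5_recs⟩
theorem pa_u_5_c : pa_u_5_D.check pa_u_5_S pa_u_5_T = true := by decide +kernel
theorem pa_u_5 {G : Type*} [Group G] {g : ℕ → G} (hR : Rels g pa_u_r_R) {H : Subgroup G}
    (hH : ∀ k ∈ [], g k ∈ H) : evA g [2,5,1,7,1,5,1,6,1] ∈ H :=
  mem_dag (K := 8) (J := [0,1,2,3,4,5,6,7,8,19,28]) (D := pa_u_5_D) (by decide +kernel) pa_u_5_c (by decide +kernel) hR hH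
noncomputable def pa_u_6_S0 : List ℕ := [nat_lit 0x2300001000001800c012, nat_lit 0x2300000700000c000014008010, nat_lit 0x1b000005000002000020012014]
noncomputable def pa_u_6_S : List (List ℕ) := [pa_u_6_S0]
noncomputable def pa_u_6_defs : List ℕ := [(nat_lit 0x10040000500700004001000030010000200600001004000000010000000000000)]
noncomputable def pa_u_6_recs : List ℕ := [(nat_lit 0x10000700006040000400008060000500008)]
noncomputable def pa_u_6_T : List (List ℕ × ℕ) := [([1,6,1,4,1,6,1,4], (nat_lit 0xc00001400001c00000a00001f00001700000f000007))]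
noncomputable def pa_u_6_D : H26.Dag := ⟨[0,1,2,3,4,5,7,6], [[0,0],
  [1,1],
  [2,2],
  [3,3],
  [4,4],
  [5,5],
  [6,7],
  [7,6],
  [1,0,4,1,4],
  [1,7,0,6],
  [1,6,4,6,4]], [], pa_u_6_defs, pa_u_6_recs⟩
theorem pa_u_6_c : pa_u_6_D.check pa_u_6_S pa_u_6_T = true := by decide +kernel
theorem pa_u_6 {G : Type*} [Group G] {g : ℕ → G} (hR : Rels g pa_u_r_R) {H : Subgroup G}
    (hH : ∀ k ∈ [], g k ∈ H) : evA g [1,6,1,4,1,6,1,4] ∈ H :=
  mem_dag (K := 8) (J := [0,1,2,3,4,5,6,7,17,24,29]) (D := pa_u_6_D) (by decide +kernel) pa_u_6_c (by decide +kernel) hR hH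
theorem pa_u {G : Type*} [Group G] {z u v a b r p : G}
    (t : TA z u v a b r)
    (h : P0 z u p)
    (e0 : p * a * p⁻¹ = a)
    (e1 : p * v * p⁻¹ = r)
    (e2 : p * r * p⁻¹ = v * r)
    (e3 : (b * p) ^ 2 = u) :
    (u * p * u) ^ 3 = 1 ∧ u * p * u * z * (u * p * u)⁻¹ = u ∧ u * p * u * u * (u * p * u)⁻¹ = z * u ∧ u * p * u * a * (u * p * u)⁻¹ = a ∧ u * p * u * v * (u * p * u)⁻¹ = r ∧ u * p * u * r * (u * p * u)⁻¹ = v * r ∧ (b * (u * p * u)) ^ 2 = 1 :=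
  ⟨mul_inv_eq_one.1 ((evA_eq_tm ((InvI.cons t.1 (InvI.cons t.2.1 (InvI.cons t.2.2.1 (InvI.cons t.2.2.2.1 (InvI.cons t.2.2.2.2.1 (InvI.cons t.2.2.2.2.2.1 InvI.nil)))))) : InvI [z, u, v, a, b, r, p] [(nat_lit 0), (nat_lit 1), (nat_lit 2), (nat_lit 3), (nat_lit 4), (nat_lit 5)]) [(.v (nat_lit 0)), (.v (nat_lit 1)), (.v (nat_lit 2)), (.v (nat_lit 3)), (.v (nat_lit 4)), (.v (nat_lit 5)), (.v (nat_lit 6)), (.inv (.v (nat_lit 6)))] [1,6,6,6,1] (.mul (.pw (.mul (.mul (.v (nat_lit 1)) (.v (nat_lit 6))) (.v (nat_lit 1))) (nat_lit 3)) (.inv .one)) (by decide +kernel)).symm.trans (Subgroup.mem_bot.1 (pa_u_0 (pa_u_r t h e0 e1 e2 e3) (H := ⊥) (List.forall_mem_nil _)))),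
   mul_inv_eq_one.1 ((evA_eq_tm ((InvI.cons t.1 (InvI.cons t.2.1 (InvI.cons t.2.2.1 (InvI.cons t.2.2.2.1 (InvI.cons t.2.2.2.2.1 (InvI.cons t.2.2.2.2.2.1 InvI.nil)))))) : InvI [z, u, v, a, b, r, p] [(nat_lit 0), (nat_lit 1), (nat_lit 2), (nat_lit 3), (nat_lit 4), (nat_lit 5)]) [(.v (nat_lit 0)), (.v (nat_lit 1)), (.v (nat_lit 2)), (.v (nat_lit 3)), (.v (nat_lit 4)), (.v (nat_lit 5)), (.v (nat_lit 6)), (.inv (.v (nat_lit 6)))] [7,1,0,1,6,1] (.mul (.mul (.mul (.mul (.mul (.v (nat_lit 1)) (.v (nat_lit 6))) (.v (nat_lit 1))) (.v (nat_lit 0))) (.inv (.mul (.mul (.v (nat_lit 1)) (.v (nat_lit 6))) (.v (nat_lit 1))))) (.inv (.v (nat_lit 1)))) (by decide +kernel)).symm.trans (Subgroup.mem_bot.1 (pa_u_1 (pa_u_r t h e0 e1 e2 e3) (H := ⊥) (List.forall_mem_nil _)))),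
   mul_inv_eq_one.1 ((evA_eq_tm ((InvI.cons t.1 (InvI.cons t.2.1 (InvI.cons t.2.2.1 (InvI.cons t.2.2.2.1 (InvI.cons t.2.2.2.2.1 (InvI.cons t.2.2.2.2.2.1 InvI.nil)))))) : InvI [z, u, v, a, b, r, p] [(nat_lit 0), (nat_lit 1), (nat_lit 2), (nat_lit 3), (nat_lit 4), (nat_lit 5)]) [(.v (nat_lit 0)), (.v (nat_lit 1)), (.v (nat_lit 2)), (.v (nat_lit 3)), (.v (nat_lit 4)), (.v (nat_lit 5)), (.v (nat_lit 6)), (.inv (.v (nat_lit 6)))] [0,7,1,6,1] (.mul (.mul (.mul (.mul (.mul (.v (nat_lit 1)) (.v (nat_lit 6))) (.v (nat_lit 1))) (.v (nat_lit 1))) (.inv (.mul (.mul (.v (nat_lit 1)) (.v (nat_lit 6))) (.v (nat_lit 1))))) (.inv (.mul (.v (nat_lit 0)) (.v (nat_lit 1))))) (by decide +kernel)).symm.trans (Subgroup.mem_bot.1 (pa_u_2 (pa_u_r t h e0 e1 e2 e3) (H := ⊥) (List.forall_mem_nil _)))),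
   mul_inv_eq_one.1 ((evA_eq_tm ((InvI.cons t.1 (InvI.cons t.2.1 (InvI.cons t.2.2.1 (InvI.cons t.2.2.2.1 (InvI.cons t.2.2.2.2.1 (InvI.cons t.2.2.2.2.2.1 InvI.nil)))))) : InvI [z, u, v, a, b, r, p] [(nat_lit 0), (nat_lit 1), (nat_lit 2), (nat_lit 3), (nat_lit 4), (nat_lit 5)]) [(.v (nat_lit 0)), (.v (nat_lit 1)), (.v (nat_lit 2)), (.v (nat_lit 3)), (.v (nat_lit 4)), (.v (nat_lit 5)), (.v (nat_lit 6)), (.inv (.v (nat_lit 6)))] [3,1,7,1,3,1,6,1] (.mul (.mul (.mul (.mul (.mul (.v (nat_lit 1)) (.v (nat_lit 6))) (.v (nat_lit 1))) (.v (nat_lit 3))) (.inv (.mul (.mul (.v (nat_lit 1)) (.v (nat_lit 6))) (.v (nat_lit 1))))) (.inv (.v (nat_lit 3)))) (by decide +kernel)).symm.trans (Subgroup.mem_bot.1 (pa_u_3 (pa_u_r t h e0 e1 e2 e3) (H := ⊥) (List.forall_mem_nil _)))),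
   mul_inv_eq_one.1 ((evA_eq_tm ((InvI.cons t.1 (InvI.cons t.2.1 (InvI.cons t.2.2.1 (InvI.cons t.2.2.2.1 (InvI.cons t.2.2.2.2.1 (InvI.cons t.2.2.2.2.2.1 InvI.nil)))))) : InvI [z, u, v, a, b, r, p] [(nat_lit 0), (nat_lit 1), (nat_lit 2), (nat_lit 3), (nat_lit 4), (nat_lit 5)]) [(.v (nat_lit 0)), (.v (nat_lit 1)), (.v (nat_lit 2)), (.v (nat_lit 3)), (.v (nat_lit 4)), (.v (nat_lit 5)), (.v (nat_lit 6)), (.inv (.v (nat_lit 6)))] [5,1,7,1,2,1,6,1] (.mul (.mul (.mul (.mul (.mul (.v (nat_lit 1)) (.v (nat_lit 6))) (.v (nat_lit 1))) (.v (nat_lit 2))) (.inv (.mul (.mul (.v (nat_lit 1)) (.v (nat_lit 6))) (.v (nat_lit 1))))) (.inv (.v (nat_lit 5)))) (by decide +kernel)).symm.trans (Subgroup.mem_bot.1 (pa_u_4 (pa_u_r t h e0 e1 e2 e3) (H := ⊥) (List.forall_mem_nil _)))),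
   mul_inv_eq_one.1 ((evA_eq_tm ((InvI.cons t.1 (InvI.cons t.2.1 (InvI.cons t.2.2.1 (InvI.cons t.2.2.2.1 (InvI.cons t.2.2.2.2.1 (InvI.cons t.2.2.2.2.2.1 InvI.nil)))))) : InvI [z, u, v, a, b, r, p] [(nat_lit 0), (nat_lit 1), (nat_lit 2), (nat_lit 3), (nat_lit 4), (nat_lit 5)]) [(.v (nat_lit 0)), (.v (nat_lit 1)), (.v (nat_lit 2)), (.v (nat_lit 3)), (.v (nat_lit 4)), (.v (nat_lit 5)), (.v (nat_lit 6)), (.inv (.v (nat_lit 6)))] [2,5,1,7,1,5,1,6,1] (.mul (.mul (.mul (.mul (.mul (.v (nat_lit 1)) (.v (nat_lit 6))) (.v (nat_lit 1))) (.v (nat_lit 5))) (.inv (.mul (.mul (.v (nat_lit 1)) (.v (nat_lit 6))) (.v (nat_lit 1))))) (.inv (.mul (.v (nat_lit 2)) (.v (nat_lit 5))))) (by decide +kernel)).symm.trans (Subgroup.mem_bot.1 (pa_u_5 (pa_u_r t h e0 e1 e2 e3) (H := ⊥) (List.forall_mem_nil _)))),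
   mul_inv_eq_one.1 ((evA_eq_tm ((InvI.cons t.1 (InvI.cons t.2.1 (InvI.cons t.2.2.1 (InvI.cons t.2.2.2.1 (InvI.cons t.2.2.2.2.1 (InvI.cons t.2.2.2.2.2.1 InvI.nil)))))) : InvI [z, u, v, a, b, r, p] [(nat_lit 0), (nat_lit 1), (nat_lit 2), (nat_lit 3), (nat_lit 4), (nat_lit 5)]) [(.v (nat_lit 0)), (.v (nat_lit 1)), (.v (nat_lit 2)), (.v (nat_lit 3)), (.v (nat_lit 4)), (.v (nat_lit 5)), (.v (nat_lit 6)), (.inv (.v (nat_lit 6)))] [1,6,1,4,1,6,1,4] (.mul (.pw (.mul (.v (nat_lit 4)) (.mul (.mul (.v (nat_lit 1)) (.v (nat_lit 6))) (.v (nat_lit 1)))) (nat_lit 2)) (.inv .one)) (by decide +kernel)).symm.trans (Subgroup.mem_bot.1 (pa_u_6 (pa_u_r t h e0 e1 e2 e3) (H := ⊥) (List.forall_mem_nil _))))⟩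

end H10.X
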