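import Cfsg.Agent.H10.X4g

/-! Generated: the involution centralizer of type A8. -/

set_option maxRecDepth 100000
set_option maxHeartbeats 4000000
set_option linter.unusedVariables false

open Subgroup
open scoped commutatorElement
namespace H10.X
open H0 H0.PM H16 H19

noncomputable def HA_r_R : List (List ℕ) := [[0,0],
  [1,1],
  [2,2],
  [3,3],
  [4,4],
  [5,5],
  [6,7],
  [7,6],
  [6,6,6],
  [3,7,1,6],
  [4,7,2,6],
  [6,1,6,1,6,1],
  [6,2,6,2,6,2],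
  [2,1,2,1],
  [0,4,1,4,1],
  [7,0,6,0],
  [1,0,1,0],
  [2,0,2,0],
  [6,5,6,5],
  [1,5,1,5],
  [2,5,2,5],
  [0,5,0,5]]
theorem HA_r {G : Type*} [Group G] {z u v a b r x : G}
    (h : Q3 z u v a b x)
    (k : RA z u v r x) :
    Rels (nthG [z, u, v, a, b, r, x, x⁻¹]) HA_r_R :=
  rels_of_eqs ((InvI.cons h.1 (InvI.cons h.2.1 (InvI.cons h.2.2.1 (InvI.cons h.2.2.2.1 (InvI.cons h.2.2.2.2.1 (InvI.cons k.1 InvI.nil)))))) : InvI [z, u, v, a, b, r, x] [(nat_lit 0), (nat_lit 1), (nat_lit 2), (nat_lit 3), (nat_lit 4), (nat_lit 5)])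
    (AllEq.append (show AllEq [z, u, v, a, b, r, x] [((.mul (.v (nat_lit 0)) (.v (nat_lit 0))), .one), ((.mul (.v (nat_lit 1)) (.v (nat_lit 1))), .one), ((.mul (.v (nat_lit 2)) (.v (nat_lit 2))), .one), ((.mul (.v (nat_lit 3)) (.v (nat_lit 3))), .one), ((.mul (.v (nat_lit 4)) (.v (nat_lit 4))), .one), ((.pw (.v (nat_lit 6)) (nat_lit 3)), .one), ((.mul (.mul (.v (nat_lit 6)) (.v (nat_lit 1))) (.inv (.v (nat_lit 6)))), (.v (nat_lit 3))), ((.mul (.mul (.v (nat_lit 6)) (.v (nat_lit 2))) (.inv (.v (nat_lit 6)))), (.v (nat_lit 4))), ((.pw (.mul (.v (nat_lit 1)) (.v (nat_lit 6))) (nat_lit 3)), .one), ((.pw (.mul (.v (nat_lit 2)) (.v (nat_lit 6))) (nat_lit 3)), .one), ((.mul (.v (nat_lit 1)) (.v (nat_lit 2))), (.mul (.v (nat_lit 2)) (.v (nat_lit 1)))), ((.mul (.mul (.mul (.v (nat_lit 1)) (.v (nat_lit 4))) (.inv (.v (nat_lit 1)))) (.inv (.v (nat_lit 4)))), (.v (nat_lit 0))), ((.mul (.v (nat_lit 0)) (.v (nat_lit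 6))), (.mul (.v (nat_lit 6)) (.v (nat_lit 0)))), ((.mul (.v (nat_lit 0)) (.v (nat_lit 1))), (.mul (.v (nat_lit 1)) (.v (nat_lit 0)))), ((.mul (.v (nat_lit 0)) (.v (nat_lit 2))), (.mul (.v (nat_lit 2)) (.v (nat_lit 0))))] from h)
    (show AllEq [z, u, v, a, b, r, x] [((.mul (.v (nat_lit 5)) (.v (nat_lit 5))), .one), ((.mul (.mul (.v (nat_lit 5)) (.v (nat_lit 6))) (.inv (.v (nat_lit 5)))), (.inv (.v (nat_lit 6)))), ((.mul (.v (nat_lit 5)) (.v (nat_lit 1))), (.mul (.v (nat_lit 1)) (.v (nat_lit 5)))), ((.mul (.mul (.v (nat_lit 5)) (.v (nat_lit 2))) (.inv (.v (nat_lit 5)))), (.v (nat_lit 2))), ((.mul (.v (nat_lit 5)) (.v (nat_lit 0))), (.mul (.v (nat_lit 0)) (.v (nat_lit 5))))] from k))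
    [(.v (nat_lit 0)), (.v (nat_lit 1)), (.v (nat_lit 2)), (.v (nat_lit 3)), (.v (nat_lit 4)), (.v (nat_lit 5)), (.v (nat_lit 6)), (.inv (.v (nat_lit 6)))] (by decide +kernel)
noncomputable abbrev HA_o : Ops := pops (nat_lit 8) (nat_lit 3) (nat_lit 7) (nat_lit 0xfac688)
noncomputable def HA_cs : List ℕ := [(nat_lit 0xde54c1), (nat_lit 0xb3e053), (nat_lit 0xb3e21a), (nat_lit 0x681fa5), (nat_lit 0x688fac), (nat_lit 0x9774c1), (nat_lit 0x6beb08), (nat_lit 0xb1af88)]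
noncomputable def HA_L : List (List ℕ) := [[(nat_lit 0xfac688), (nat_lit 0xde54c1), (nat_lit 0xb3e053), (nat_lit 0xb3e21a), (nat_lit 0x681fa5), (nat_lit 0x688fac), (nat_lit 371511), (nat_lit 371070)],
  [(nat_lit 0xfac688), (nat_lit 0x6beb08), (nat_lit 0xb1af88), (nat_lit 0xdec4c8), (nat_lit 0x4fe948), (nat_lit 0x95adc8)],
  [(nat_lit 0xfac688), (nat_lit 0xb3e688), (nat_lit 0xde5688), (nat_lit 0x977688)]]
noncomputable def HA_WW : List (List (List ℕ)) := [[[],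
  [(nat_lit 0)],
  [(nat_lit 1)],
  [(nat_lit 2)],
  [(nat_lit 3)],
  [(nat_lit 4)],
  [(nat_lit 1), (nat_lit 3)],
  [(nat_lit 2), (nat_lit 3)]],
  [[],
  [(nat_lit 6)],
  [(nat_lit 7)],
  [(nat_lit 0), (nat_lit 3), (nat_lit 4)],
  [(nat_lit 0), (nat_lit 3), (nat_lit 4), (nat_lit 6)],
  [(nat_lit 0), (nat_lit 3), (nat_lit 4), (nat_lit 7)]],
  [[],
  [(nat_lit 0), (nat_lit 5)],
  [(nat_lit 0), (nat_lit 1), (nat_lit 2)],
  [(nat_lit 1), (nat_lit 2), (nat_lit 5)]]]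
noncomputable def HA_b6_S0 : List ℕ := [nat_lit 0xb000007008010, nat_lit 0x1300000f000001008012, nat_lit 0x1b000017000001008014, nat_lit 0x2b00002700002300001f000007014016, nat_lit 0x3b00003700003300002f000007014018, nat_lit 0x3300002f00000c000014, nat_lit 0x3f00001200000d00801a, nat_lit 0x4b00004700004300000d00c01c, nat_lit 0x1700000d00001d00004b01201c, nat_lit 0x4f00000200004400801e, nat_lit 0x5300000e000044008020, nat_lit 0x57000012000044008022, nat_lit 0x5f00005b00000700c024, nat_lit 0x6300000e000031008026, nat_lit 0x67000012000031008028, nat_lit 0x6b00004300003100802a, nat_lit 0x6f00000700000d004012, nat_lit 0x2c00004100a010, nat_lit 0x73000007000011004014, nat_lit 0x3c00004900a010, nat_lit 0x7700001400000600000b000020010016, nat_lit 0x23000051008010, nat_lit 0x5500002800002c000012, nat_lit 0x7b00001c00000a00000b000030010018, nat_lit 0x3300005d008010, nat_lit 0x6100003800003c000014, nat_lit 0x7f00002f00002000801a,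 nat_lit 0x8b00008700008300002000c01c, nat_lit 0x7300002000006d00008b01201c, nat_lit 0x7100004a00005800001e, nat_lit 0x2d00007500008700c014, nat_lit 0x79000025004010, nat_lit 0x8f00001f000084008020, nat_lit 0x9300002f000084008022, nat_lit 0x9700000b00005c008024, nat_lit 0x5f000089008010, nat_lit 0x9b00001f00005c008026, nat_lit 0x9f00002f00005c008028, nat_lit 0xa300008300005c00802a, nat_lit 0x3e00005f00009900001e, nat_lit 0xa700004200000e000001000005010016, nat_lit 0x140000a1008010, nat_lit 0xab00004a000012000001000009010018, nat_lit 0x1c0000a9008010, nat_lit 0xa90000ab00004d000014, nat_lit 0xaf00000a00000500801a, nat_lit 0xb70000b300004f00000500c01c, nat_lit 0x160000050000b90000b701201c, nat_lit 0xbd00003300009400001e, nat_lit 0xbb000006000050008020, nat_lit 0xbf00000a000050008022, nat_lit 0x470000250000c9004014, nat_lit 0xc3000006000098008026, nat_lit 0xc700000a000098008028, nat_lit 0xcb00004f00009800802a,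 nat_lit 0x9a0000890000d900001e, nat_lit 0x3e00008e0000d900801e, nat_lit 0xcf0000140000b5004014, nat_lit 0x1c0000b00000e5000012, nat_lit 0xdf0000db0000d70000d30000a5014018, nat_lit 0xd70000d30000a20000b9000014, nat_lit 0xf10000dc000004, nat_lit 0xe30000ee00007800801a, nat_lit 0x6e0000510000f9004014]
noncomputable def HA_b6_S1 : List ℕ := [nat_lit 0xef0000eb0000e700007800c01c, nat_lit 0xcf0000780001010000ef01201c, nat_lit 0xe70000140000bc00001e, nat_lit 0x250000c5000109000012, nat_lit 0xf30000770000e8008020, nat_lit 0x8200007e0000c5000109000111016016, nat_lit 0xf70000ee0000e8008022, nat_lit 0xff0000fb0000a500c024, nat_lit 0xc300001300011d00e024, nat_lit 0x10000012100a010, nat_lit 0x10300007700011d008026, nat_lit 0x920000890000d1000122000129000016, nat_lit 0x12d000092000060000012, nat_lit 0x1070000ee00011d008028, nat_lit 0x10b0000e700011d00802a, nat_lit 0x11300010f0000ee0000140000b5010018, nat_lit 0xe600013d008010,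 nat_lit 0x10f0000df004010, nat_lit 0x14500011400013e000014, nat_lit 0x1170000bb00000600001500801c, nat_lit 0x11b0000a20000bc00801e, nat_lit 0x10a000151008010, nat_lit 0x11f0000b60000bc008022, nat_lit 0xeb00010a000159004014, nat_lit 0xca0000c500015900c01a, nat_lit 0x15e0001610000cd000012, nat_lit 0x1230000b60000c4008028, nat_lit 0xd60000d100016900c01a, nat_lit 0x1270000bb0000c400802a, nat_lit 0x13a00012100017100801e, nat_lit 0xda0000d1000171000020, nat_lit 0x13700013300012f00012b0000ad014016, nat_lit 0x4b00002100017d00c020, nat_lit 0x5300000e00001800017d00401c, nat_lit 0x13b00007b00017d00801a, nat_lit 0x13f00007b000022008022, nat_lit 0x8600007e0000c90000cd00018d016018, nat_lit 0x1910000c1006010, nat_lit 0x1470001430000ad00c024, nat_lit 0xc700001b00019900e024, nat_lit 0x14800019d00a010, nat_lit 0x890000d50001a1000014, nat_lit 0x14b00017e000199008026, nat_lit 0x14f00007b000199008028, nat_lit 0x960000890000d500019e0001ad000018,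 nat_lit 0x1b1000096000060000014, nat_lit 0x15300002100019900802a, nat_lit 0x15700017e00001c0000b000013d00c016, nat_lit 0x157000137004010, nat_lit 0x15b0000bf0000b000014900801c, nat_lit 0xb80000f60001c500001a, nat_lit 0xb10000b00001490001c501201c, nat_lit 0x8c0000fe0000e30000df0001c5000016, nat_lit 0x1d1000076004010, nat_lit 0x1d50001c60000e0000012, nat_lit 0x1d50001c9000195000014, nat_lit 0x15f0000aa0000c000801e, nat_lit 0xce0001e1008010, nat_lit 0x1e500018d000191000014, nat_lit 0x1630000bf0000c800802a, nat_lit 0x1ba00019d0001ed00801e, nat_lit 0xda0000d50001ed000022, nat_lit 0x16f00016b000167000023000069010018, nat_lit 0x16b000167000056000101000014]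
noncomputable def HA_b6_S2 : List ℕ := [nat_lit 0x1fd000170000004, nat_lit 0x1fd00016b00000e, nat_lit 0x17300008f00001f00007400801c, nat_lit 0x17700006a000090008022, nat_lit 0x8600008100020d00c01a, nat_lit 0x2110001e900015f00012c00c01c, nat_lit 0x17b00002300009c008024, nat_lit 0x17f00006a00009c008028, nat_lit 0x9600009100021d00c01a, nat_lit 0x18300008f00009c00802a, nat_lit 0x9a000091000225000020, nat_lit 0x187000023000069004014, nat_lit 0x1fa00022d00a010, nat_lit 0x18b00016700002800801a, nat_lit 0x1e00002b000235004014, nat_lit 0x20600018c000239000012, nat_lit 0x19700019300018f00002800c01c, nat_lit 0x18700002800024100019701201c, nat_lit 0x24500022e00017800001e, nat_lit 0x20d00024900019300c014, nat_lit 0x24d000116004010, nat_lit 0x19b000027000190008020, nat_lit 0x2a00007a00008100024e000255016016, nat_lit 0x25a000256000252000012, nat_lit 0x19f00002700017c008026, nat_lit 0x3600005f000091000219000261000016,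 nat_lit 0x1a300016700017c008028, nat_lit 0x1a700018f00017c00802a, nat_lit 0x22600021900026d00001e, nat_lit 0x1ab000242000046008014, nat_lit 0x1b30001af00001a00002b000235010018, nat_lit 0x23a000279008010, nat_lit 0x1b700019b00002700018800801c, nat_lit 0x13b00005e00008000022d000281016016, nat_lit 0x286000282000231000012, nat_lit 0x1bb00004500019c00801e, nat_lit 0x25a00028d008010, nat_lit 0x15500011100025100025500028d014016, nat_lit 0x1bf0002360001a0008028, nat_lit 0x26a00026100029900c01a, nat_lit 0x1c300019b0001a000802a, nat_lit 0x26e0002610002a1000020, nat_lit 0x1c70001ac000276000042000019010018, nat_lit 0x1af0002a9008010, nat_lit 0x1cb00001a000054008022, nat_lit 0x2e0000290002b100c01a, nat_lit 0x2b50001de00013f00013c00c01c, nat_lit 0x1cf000042000064008024, nat_lit 0x2650002bd008010, nat_lit 0x1260000d200008d0000350002bd014016, nat_lit 0xff0002c60002be000012, nat_lit 0x1d300001a000064008028, nat_lit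 0x3a0000350002cd00c01a, nat_lit 0x1d700005300006400802a, nat_lit 0x2a20002650002d500001e, nat_lit 0x3e0000350002d5000020, nat_lit 0x1db00005d00013c004012, nat_lit 0x1df00014e0000330000800001f900c016, nat_lit 0xf00002020002e500001a, nat_lit 0x1df00014e000062000012, nat_lit 0x1e30000330000a0008024, nat_lit 0x1b10002f1008010, nat_lit 0x1e70000930000a000802a, nat_lit 0x9a0000950002f9000022]
noncomputable def HA_b6_S3 : List ℕ := [nat_lit 0x1eb0002e200013b00006100014d010016, nat_lit 0x152000118000301008014, nat_lit 0x1ef00003700014d00801a, nat_lit 0x11a000156000306000302000309016018, nat_lit 0x30e00030a0001e0000014, nat_lit 0x2e50003110000f70000e400c01c, nat_lit 0x3b0001f000030d000012, nat_lit 0x1f300014e0001e4008026, nat_lit 0x1f70000370001e4008028, nat_lit 0x3a00005f0000950002f1000321000018, nat_lit 0x32500003a00008e000014, nat_lit 0x1fb0000bd0001e400802a, nat_lit 0x2fa0002f100032d00001e, nat_lit 0x1ff00004e000209004012,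 nat_lit 0x2aa00003f000049000209000335002016, nat_lit 0x3390001c700019700801a, nat_lit 0x2030001af00003f00003b0001f0010016, nat_lit 0x30e000341008010, nat_lit 0x2070001ef0001f8008026, nat_lit 0x1720000d200032900034900401c, nat_lit 0x20b0001cd0001f800802a, nat_lit 0x17a00034e00034a00035100e01c, nat_lit 0x20f0001dd00005700004000c01c, nat_lit 0x1c80002aa00035900c014, nat_lit 0x13b00006600004000035900001c, nat_lit 0x36100018a000181008022, nat_lit 0x21300004a000068008024, nat_lit 0x1a20000d600008d000039000369014018, nat_lit 0x14700036e00036a000014, nat_lit 0x21700005700006800802a, nat_lit 0x35200032500037500001e, nat_lit 0x3e000039000375000022, nat_lit 0x21b0002a900033a004012, nat_lit 0x33500038100a010, nat_lit 0x3460002030002ae00033a000381002016, nat_lit 0x11500020d00024900033d000381002018, nat_lit 0x38d0000f30000f9004022, nat_lit 0x21f0002aa0001cc00801e, nat_lit 0x2230001af0001d4008024, nat_lit 0x2270001cb0001d400802a,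 nat_lit 0x3760002d200039d000020, nat_lit 0x2d60002cd00039d000022, nat_lit 0x1aa0003720002d200039d00e01c, nat_lit 0x3a20003a90001aa0001b900e01c, nat_lit 0x22b0001e5000154008024, nat_lit 0x1f10003b1008010, nat_lit 0x22f00004b000154008026, nat_lit 0x1aa0001b90003b900c020, nat_lit 0x39d0003a10003ae0003b900401c, nat_lit 0x22f00023a0001c0008024, nat_lit 0x23300018e000154008028, nat_lit 0x1ae0001b90003c900c022, nat_lit 0x2fd0000de0001f60001f10003c9000018, nat_lit 0x3d1000332004010, nat_lit 0x3d10002fd00009d000014, nat_lit 0x3d50003ca0001f2000014, nat_lit 0x23700027d00004b0000ce000162008016, nat_lit 0x15e0003e1008010, nat_lit 0x23b00027d000230008024, nat_lit 0x3c50003e9008010, nat_lit 0x3ed00029a0002c2000014, nat_lit 0x23f000366000230008028, nat_lit 0x3ca0003b90003f500c01a, nat_lit 0x3f90003da00003e00003500c01c]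
noncomputable def HA_b6_S4 : List ℕ := [nat_lit 0x2430002910001d8008024, nat_lit 0x2da000401008010, nat_lit 0x24700008b0000760002b600039500c016, nat_lit 0x33900022000040900c020, nat_lit 0x40d00038100039200801e, nat_lit 0x41100040a000396000012, nat_lit 0x24b000076000218008024, nat_lit 0x36a00037500041900401e, nat_lit 0x2530003fe0002bd008014, nat_lit 0x2570002d60000360001b500801c, nat_lit 0x1aa0001ad00042500001a, nat_lit 0x3f90003cd00042500c020, nat_lit 0x13b00015000042500c026, nat_lit 0x25f00025b000369008012, nat_lit 0x20a00021400043500c026, nat_lit 0x26000043900038600c024, nat_lit 0x26300034a0003250002d200039900c016, nat_lit 0x26700009e00022a004012, nat_lit 0x27100044500a010, nat_lit 0x12d00022500044500c01e, nat_lit 0x115000184000445002024, nat_lit 0x1760001790000dd00022a000445002016, nat_lit 0x45100038e00043d008028, nat_lit 0x26b0001790000e10002de00040100c016, nat_lit 0x29600024400045d00c026, nat_lit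 0x4560004490002a600040600045d016016, nat_lit 0x46600045e000402000012, nat_lit 0x26f0000f30000770000d000801c, nat_lit 0xef00010500046d00c020, nat_lit 0x1340001c10001be00014100046d000016, nat_lit 0x12b0000aa0000b00000e500046d016016, nat_lit 0x475000134000138000012, nat_lit 0x2730000fa000104008028, nat_lit 0x13600012900048100c01a, nat_lit 0x45900044d00048100c022, nat_lit 0x2770001fa00017800801e, nat_lit 0x24a00048d008010, nat_lit 0x47900021500048d008014, nat_lit 0x49100019800035e000012, nat_lit 0x49100033d000381000014, nat_lit 0x27b00017700018000802a, nat_lit 0x2fa0002220004a1000020, nat_lit 0x27f00008b00024c008026, nat_lit 0x43600041e0004a900c020, nat_lit 0x4ad00025f00048a00801e, nat_lit 0x4b10004aa00041a000012, nat_lit 0x2830000b70000c200021200048d00c016, nat_lit 0x46d0004960004b900001a, nat_lit 0x2e60002780004b900c020, nat_lit 0xf800038a00049d0004b900401c, nat_lit 0x2830000b7000195000012, nat_lit 0x2870003550000da0000d100c01c,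 nat_lit 0x1360001210004cd00c014, nat_lit 0x34a00032a0000d10004cd00001c, nat_lit 0x28b0002260000920001a600801c, nat_lit 0x43600036d0004d900001a, nat_lit 0x28f0002f100031d004012, nat_lit 0x3020001f40004e1002024, nat_lit 0x4e5000305000462008028, nat_lit 0x2930000d30000fc008028, nat_lit 0x4220002c50004ed00c01a, nat_lit 0x2970000e6000124008024, nat_lit 0x29b00011f00012400802a, nat_lit 0x1ee00016e0004f9000020]
noncomputable def HA_b6_S5 : List ℕ := [nat_lit 0x1720001690004f9000022, nat_lit 0x29f0000b70001fc008026, nat_lit 0x4f90004fd0003dd00050500401c, nat_lit 0x4f10002530003f90003d6000505016016, nat_lit 0x2a30002830002a0008024, nat_lit 0x50e000511008010, nat_lit 0x4f600050a000511008014, nat_lit 0x5150004f1000253000012, nat_lit 0x5150004ee000100000014, nat_lit 0x2a70004da0001a200016e0004f500c016, nat_lit 0x46e00029800052500c026, nat_lit 0x2a70004da000148000012, nat_lit 0x2a70004dd00025f000014, nat_lit 0x48600048900053100052600601c,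 nat_lit 0x2ab000141000298008024, nat_lit 0x4f5000539008010, nat_lit 0x53d00016a000125000014, nat_lit 0x2af00010500029800802a, nat_lit 0x4fa0004f500054500001e, nat_lit 0x2b300010f000108008024, nat_lit 0x4d100054d008010, nat_lit 0x5510004d500026400c01e, nat_lit 0x2b70000f700010800802a, nat_lit 0x55500054e00055900801e, nat_lit 0x48a000485000559000020, nat_lit 0x13a000135000559000022, nat_lit 0x56100053100052600054500e01c, nat_lit 0x55d00044200039a000012, nat_lit 0x2bb0003e50002b0008024, nat_lit 0x53a00054500057100401e, nat_lit 0x5750005420002c60003f100201c, nat_lit 0x3e9000579000572000012, nat_lit 0x2bf0000ef0002b0008026, nat_lit 0x52600054500058100c020, nat_lit 0x48900056200056a00058100401c, nat_lit 0x24f0003b50004fe00054a000581000016, nat_lit 0x29e0003ee000579000572000581016016, nat_lit 0x58d00024f0003b2000012, nat_lit 0x2c30002e90002b0008028, nat_lit 0x51900054500059900c022, nat_lit 0x4ea00026b00050200054a000599000018,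 nat_lit 0x5a10004ea000465000014, nat_lit 0x2c70002010002c0008028, nat_lit 0x59a0005810005a900c01a, nat_lit 0x21e0002190002690005920005a9000018, nat_lit 0x5b10002210001b2000012, nat_lit 0x5b100021e00012e000014, nat_lit 0x2cb00044d00012a00052100801c, nat_lit 0x52600051a0005bd00001a, nat_lit 0x5ad00059d0005bd00c020, nat_lit 0x4b90002a40005bd00c026, nat_lit 0x4a50003320005050005110005bd000016, nat_lit 0x5cd0004a50003d2000012, nat_lit 0x2d30002cf00054d008012, nat_lit 0x3a10003790002880005520005d50002d3016016, nat_lit 0x5da0002cf000006, nat_lit 0x2d70001be0002ac008026, nat_lit 0x1aa00019d00016e00053e0005e1016016, nat_lit 0x5e60005e200053a000012, nat_lit 0x2db0002e2000432008024, nat_lit 0x4e200031e0002f50004250005ed014016, nat_lit 0x5a10005f20005ee000012]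
noncomputable def HA_b6_S : List (List ℕ) := [HA_b6_S0, HA_b6_S1, HA_b6_S2, HA_b6_S3, HA_b6_S4, HA_b6_S5]
noncomputable def HA_b6_defs : List ℕ := [(nat_lit 0x60003e00500029000000370000001d0010003a004000390000000300100037006000360020003500600034002000290040000300500013005000060050000400000006000000040010002c00400013001000060020001c0010001b005000200050000b00500007005000020000000b000000070010002100400020000000010010000b00200005001000030040000100300001005000100050000e0050000a00600016005000010000000e0000000a000000020010001100400010000000000010000e0060000d0020000c0060000b002000010060000900100008006000070010000100700005004000000070000300300000006000010060000000000000),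
  (nat_lit 0x30000d0050002c0050000d005000450010000d00100076005000240050000c006000450030000b005000140050000f0050001b0000000f0020006500500066005000620000001b004000660020006b0060000f00700065005000630050005900500009000000090010006400400063000000080010005900400008005000230050001f005000080000001f004000230020005a00600059002000080050002f0000002a0040002f0060004d005000110050001e0050004d006000500050002a0000001e0010001e0060004c0010004b0060004a0010002a0050002e0050002b0000002b000000290040002e002000430060003700500039005000370050001d),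
  (nat_lit 0x50007600500055007000b300300041004000990050005b005000770050003b0050008d0050003d005000430050003a00500044006000a2005000a00050002d0050004700500033005000340030002700400060001000820060002d005000220050005d0000005b005000380040003c006000490030001a006000810070009600300019004000750070008f0010008a00500021006000220050006e005000830050006c0010006c0050004f0050001200500057005000720050006b000000710030000f005000150050001c0010004f005000560050007b0010006b)]
noncomputable def HA_b6_recs : List ℕ := [(nat_lit 0x70003800022020001d0003802000360002dff0002d00035020000300037030003300005070002b0003306000320001a070003200028000002500032020002500031010002500030070002f0001102000130002f01000130002e07000240002c000002c0000c04000040002d02000040002b040000d00006060002a0000506000060002a06000290000306000040002907000280001a00000160002802000160002701000160002606000250001706000160002502000200002401000200002306000130002006000200001007000150002100000210001c04000070002202000070001f040000e0001e060001e0000c060000b0001e030000a0001d060001d0000806000070001d070001c0000d070000e0001c070001b00009070000a0001b00000170001a020001700019010001700018050000000017020001000015010001000014060001000013000001100005040000a00012020000a0000f04000020000c02000000000e01000000000a020000200006010000200004060000000002),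
  (nat_lit 0xff0003b0005a060001f0005b020005800032060005800054000003100058040002400057060005700011060002f00057040004f0001503000370001506000150005606000560002100000560000d02000560002c010003600056060004c00055010004400055000005100054040001700053060005300027020005100053010005100052040005000016070003100050070005100031050000500051070002c0004f070004f0002402000110004f020004d0004e040004d00014000004d0001201000050004d01000490003206000490004200000300004901000480003102000300004803000110003a01000470002f07000470003a020002e00047060004600039060002e00046010000c00045040002b00036060003600043060004400033060002b00044000003f00042020003f00041030001700040060004000026010003f0004007000300003e070003f0003005000030003f02000390003d070003c0002301000390003c030003900010070002e00039000003a00033040001d0003b),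
  (nat_lit 0x20007900028000002700079060007800053060002700078030001e0007702000770003a010005b00077070004e0007601000750001a07000750007000000180007501000740001902000180007403000180003f01000730003e060007300067060001800073040004e0007201000720001502000140007206000710006b060000f00071010007000069000006700070010006f0006802000670006f010006e00046060006e0001406000660006e030005b0004e070006d0004e01000610006d060006c0001206000620006c020001b0006a070006900060000005e00069020005e00068060006700018010005e00067030003c00014070006600014010006300066060003c00063060006300023070005d0006400000640006104000090006503000120003b07000620001202000090006207000610005b070001f00061010006000028000002600060010005f0002702000260005f06000260005e040004a0005d010005d0002402000230005d010001c0005c07000590003b020005b0003b),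
  (nat_lit 0x4000180008f010008f0008c020008b0008f04000730008e060008e0006f060008b0008e060008d0003a06000470008d04000580007e040001a0008c060007e0008c060008c00079000008c0005302000540008c060006f0008b040008b00074000008b0005201000540008b060008a0005806000540008a04000540008504000890005202000890007501000890008500000740008906000740008806000720008700000380008602000860003c01000860003d07000860005c070007f0008602000850001a07000850008200000190008504000190005102000840005006000190008402000120008300000830004e060008300065040000f00083040008200032000007d00082040008100049010007d0008106000800003d060007b0008002000640007f010007f00071070005c0007f070007e0007900000780007e04000250007d060007d0001902000780007d01000780007c030003d0000e04000380005b04000770003d070007b0003d02000450007b020007a0004606000450007a),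
  (nat_lit 0x1000a6000580000048000a60600048000a501000a400094020003e000a4020009a000a305000a30007a070007c000a302000a2000970100050000a200000a10008106000a1000410400030000a1030004f000a004000a00003700000a00007702000a000033010009d000a003000850009c060009c0009f000009f0009701000920009f010009e00079000005f0009e04000860009d03000830009d020009d0009b060009d00064060005d0009d000009c00096010009c0004102000400009c030004d0009b070009b0004a060009b0004b000009b0003b01000330009b030007500042070009a00042050009a0004601000900009a02000960009901000990004205000990003c00000990004007000990006907000600009901000880009805000860009605000970005c01000840009705000950004e00000950008f02000950005201000530009502000730009400000920008406000850009203000720003806000380009100000910007f010008700091060009000070060007500090),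
  (nat_lit 0x300095000b001000b6000a30600095000b603000a50005207000b50005201000aa000b5030004100089ff000b30008901000ac000b4030008c000b206000b20009e05000b20009d00000b2000b102000b2000a901000a8000b20400040000b10300053000b106000b10005f01000b1000b002000af000b10400042000b006000b0000a300000b0000a802000ab000b00300054000af07000af0006806000af0009304000af0009c00000af000a901000ab000af03000ab0008b010008e000ae00000ae000aa06000ab000ae0300074000ad04000ab000ad02000ad0004201000ad0009606000ad000980000041000ad0000098000ac06000ac000a10600041000ac07000ab000a600000a5000ab040003e000aa06000aa0004806000a5000aa04000a5000410400096000a90300051000a905000a90009b01000a5000a9040003f000a8030008f000a802000a8000a506000a8000a406000a7000a807000a7000a404000a700048010007e000a702000a600049)]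
noncomputable def HA_b6_L0 : List ℕ := [nat_lit 0x4300000100000e00000200001200000300000f000004000017000005000032000006, nat_lit 0x4400000000002a00000700002e00000800010d00000900004700000a00006b00000b, nat_lit 0x5300000700000d00000000001a00000c00005a00000d00001e00000e00006300000f, nat_lit 0x5700000800003f00000c000011000000000319000010000066000011000067000012, nat_lit 0xe700000900007700000d0000ee0000130000100000000000cf00001400011e000015, nat_lit 0x2100000a00017e00001600007b0000110000e900001400001800000000019a000017, nat_lit 0x3e00000b00003600000f00003a0000120001320000180001b6000019000031000000, nat_lit 0x540000020000290000010002b200001a00025d00001b0001850000160001d700001c, nat_lit 0x580000030002b500001a00002d0000010001d90000130001dd00001d00021700001e, nat_lit 0xe800000400011200001b00011a00001000010e0000010000eb00001f00010b000020, nat_lit 0x2200000500004b00000e00018e00001d00016600001f000048000001000153000021,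 nat_lit 0x3d0000060002dd00001c00037d00001e0002670000220003da00002300006c000001, nat_lit 0x1cb00001a00004000000300001900000200021b00002400035a0000250001d3000026, nat_lit 0xf300001b0000780000040000fa000027000059000002000102000028000103000018, nat_lit 0x18100001600004c00000a00036600002500023e00002800001d00000200022f000029, nat_lit 0x2d600001c0000350000060002ce0000260002ca0000150003fe00002a000064000002, nat_lit 0xf800001300038900002400011900000900031a00000300031100002b0002b700002c, nat_lit 0x13f00001d00013b00002d00007c0000050002ee00002b00006500000300014f000019, nat_lit 0x37600001e0002d100002600003900000600025b00002e000372000017000068000003, nat_lit 0xf70000100000e30000270000ed0000040001da0000080004c500002f000107000030, nat_lit 0x10500001f00046e0000310004bd00002f0000ea0000050000d0000004000297000032, nat_lit 0x13a00002000012a0000180001360000300002c900000f00052200003300011d000004, nat_lit 0x18200000e00017d00000500018a00002d00047e00003100018600000700014b000034,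 nat_lit 0x1ba0000210001aa0000340001ae00001900052e000035000371000012000199000005, nat_lit 0x44d0000220001290000150004820000360001310000060005ba00003700010400000d, nat_lit 0x3cd0000230004260000380001ad0000170005b60000370001b5000006000150000011, nat_lit 0x1cc00000c0002b60000080002b10000070004160000270002b900002d000227000039, nat_lit 0xf400000d00011100000900038d00002400025e00000700026f000031000451000022, nat_lit 0x2d500000f0002de00000b0003a500003900046a0000200002570000380001d8000007, nat_lit 0x14000001100020f00002500018d00000a0004ca00002f0001de000008000233000023, nat_lit 0x3750000120003a100003900037e00000b0004b60000360003ad000021000218000008, nat_lit 0x1060000140000ef0000280002e900002b00016500000a0000ec0000090002af00003a, nat_lit 0x13900001500045500002200056500002c00046900001c0005a600003b00010c000009, nat_lit 0x1b90000170003ba0000290003ca00002300059600003c0003ae00001e00015400000a, nat_lit 0x44e00001800045600002000045900002e00026800000b0002cb00003d00045200001b,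 nat_lit 0x3ce0000190003f900002a0003c90000210005d200003d0003d900000b00023400001d, nat_lit 0x39100002700038a00001000038e00001b00021c00000c00049e00003e00043e00002e, nat_lit 0x36200002d00021000001d00036500000e00049a00003e00035900000c00023f00002a, nat_lit 0x39e0000390002d20000120002cd00000f00056e00002c0003c10000290001d400000c, nat_lit 0x3920000240000e40000130000f900000d00041500001a00031600003f000273000036, nat_lit 0x4710000310000f000001f00020100003f00023d00000e00010100000d0002bf00003c, nat_lit 0x3be0000340003b90000210003f600002a00057d00003a0003c200002600023000000e, nat_lit 0x42d0000380003fa0000230003f500002900051e0000330003fd00000f000240000025, nat_lit 0x4c100002f0002e500003f0002ea00001f0002ed0000110003120000100002c300003b, nat_lit 0x55900003000056200002e00056600002000056d00002600056900003a0002b8000010, nat_lit 0x36100002500013c00001100018900001600028900003f0002ba00001a000431000038, nat_lit 0x48900003600056100002c00045a00002200025c00001200053200003500043d000024,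 nat_lit 0x4c200002b0004b900003e0004be0000140004c900001d0004c60000130002a3000033, nat_lit 0x55a00002c0004850000360001350000150005de000039000535000032000108000013, nat_lit 0x47200002800046d00001400049500003e00047d00001600027000001b000529000035, nat_lit 0x54600003a0005260000350005190000330005ea000034000536000030000298000014, nat_lit 0x59d00003b0005be00003d00051a00003200051d00002a0005210000150002a400002f, nat_lit 0x3bd0000290001a90000170004290000380005e90000320003a900003900014c000016, nat_lit 0x58500003c0005250000320005c100003d00052d00001700053100002e00052a000031, nat_lit 0x48a00002e0004860000300004810000180004b500001e00058900003c000274000027, nat_lit 0x5c500003d0005ae00003b0005a900003c0005b50000190005b90000180002c800003f, nat_lit 0x42e00002a00042500001900042a0000340005f600003b00025800001c00043200002d, nat_lit 0x39d0000260003a200001e0003a600001c0005dd0000300003aa00003400022800001a, nat_lit 0x54500003200058200003c00059a00003b00057e00002900056a00002c0002b000001f,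 nat_lit 0x59e0000330005ad00003700059900003a0005f50000380005a50000200002c400002b, nat_lit 0x58600003500058100003a0005aa00003700059500002100058a0000360002c0000028, nat_lit 0x5c60000370005bd0000330005c20000350005d10000230002cc0000220005ca00003e, nat_lit 0x27800003f0004ba00002f00049600003100049900002500049d0000240005c900003d, nat_lit 0x27700003e0002e600002b00020200002800028a00002d0003150000270002c7000037]
noncomputable def HA_b6_L : List (List ℕ) := [HA_b6_L0]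
noncomputable def HA_b6_V : List ℕ := [(nat_lit 0x5b0000009d000000b2000000af000000b0000000ab0000008900000095000000b10000009c000000a900000052000000a8000000a50000009b00000041000000a0000000960000004e000000ad000000770000008f0000008b0000003b000000380000007400000083000000860000008c0000009900000054000000420000003a000000850000004f000000750000003c000000720000005300000040000000510000004d0000003f0000003300000037000000190000001e0000003d00000018000000120000001d0000000f0000001a000000110000003900000015000000140000001700000005000000030000000e0000000a0000001000000000)]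
noncomputable def HA_b6_D : H26.Dag := ⟨[0,1,2,3,4,5,7,6], [[0,0],
  [1,1],
  [2,2],
  [3,3],
  [4,4],
  [5,5],
  [6,7],
  [7,6],
  [6,6,6],
  [3,7,1,6],
  [4,7,2,6],
  [6,1,6,1,6,1],
  [6,2,6,2,6,2],
  [2,1,2,1],
  [0,4,1,4,1],
  [7,0,6,0],
  [1,0,1,0],
  [2,0,2,0],
  [6,5,6,5],
  [1,5,1,5],
  [2,5,2,5],
  [0,5,0,5]], [], HA_b6_defs, HA_b6_recs⟩
theorem HA_b6_c : HA_b6_D.checkTab HA_b6_S 64 6 HA_b6_V HA_b6_L = true := by decide +kernel
theorem HA_b6 : Bound HA_r_R 6 64 :=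
  bound_dag (Bound.zero HA_r_R) (K := 8) (J := [0,1,2,3,4,5,6,7,8,9,10,11,12,13,14,15,16,17,18,19,20,21]) (by decide +kernel) HA_b6_c (by decide +kernel)
noncomputable def HA_b8_S0 : List ℕ := [nat_lit 0x1, nat_lit 0x1, nat_lit 0x1, nat_lit 0x1, nat_lit 0x1, nat_lit 0x1, nat_lit 0x7000005000008000012, nat_lit 0x7000009000008000014, nat_lit 0x700000100000800c01a, nat_lit 0xb000008006010, nat_lit 0xb00000d00000c008012, nat_lit 0xb00001100000c008014, nat_lit 0xb00000100000c00401a, nat_lit 0xb00001500000800a01c, nat_lit 0x2500002900000b000005000008012016, nat_lit 0x2500002d00000b000009000008012018, nat_lit 0x2600003d000025000014, nat_lit 0x26000039000025000012]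
noncomputable def HA_b8_S : List (List ℕ) := [HA_b8_S0]
noncomputable def HA_b8_defs : List ℕ := [(nat_lit 0x7000000060000000000000)]
noncomputable def HA_b8_recs : List ℕ := [(nat_lit 0x30000200002040000200002020000100001010000100001050000100002000000200002020000200002010000200002070000100002000000100001040000100001030000100001050000000000040000000000030000000000020000000000010000000000000000000000)]
noncomputable def HA_b8_L0 : List ℕ := [nat_lit 0x100000000000500000000000900000000000d00000000001100000000001500000000000700000100000b000002, nat_lit 0x2100000100003900000100003d00000100001900000100001d000001000036000002000026000002000008000000, nat_lit 0x3100000200002900000200002d00000200004500000200004100000200003500000100000c000000000025000001]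
noncomputable def HA_b8_L : List (List ℕ) := [HA_b8_L0]
noncomputable def HA_b8_V : List ℕ := [(nat_lit 0x20000000100000000)]
noncomputable def HA_b8_D : H26.Dag := ⟨[0,1,2,3,4,5,7,6], [[0,0],
  [1,1],
  [2,2],
  [3,3],
  [4,4],
  [5,5],
  [6,7],
  [7,6],
  [6,6,6],
  [3,7,1,6],
  [4,7,2,6],
  [6,1,6,1,6,1],
  [6,2,6,2,6,2],
  [7,0,6,0],
  [6,5,6,5]], [0,1,2,3,4,5], HA_b8_defs, HA_b8_recs⟩
theorem HA_b8_c : HA_b8_D.checkTab HA_b8_S 3 8 HA_b8_V HA_b8_L = true := by decide +kernel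
theorem HA_b8 : Bound HA_r_R 8 192 :=
  bound_dag HA_b6 (K := 8) (J := [0,1,2,3,4,5,6,7,8,9,10,11,12,15,18]) (by decide +kernel) HA_b8_c (by decide +kernel)
theorem HA_P : PModel (nat_lit 8) (nat_lit 3) (nat_lit 7) (nat_lit 0xfac688) HA_cs HA_r_R HA_L 192 :=
  ⟨PkOK.of (by decide +kernel), by decide +kernel, by decide +kernel, HA_b8, ⟨HA_WW, by decide +kernel⟩,
    ⟨fun c => Nat.mod c (nat_lit 1202), by decide +kernel⟩⟩
noncomputable def HA_soc_t0 : ST := (.node (nat_lit 448) (.node (nat_lit 225) (.node (nat_lit 69) (.node (nat_lit 28) (.leaf (nat_lit 2)) (.node (nat_lit 42) (.leaf (nat_lit 24)) (.leaf (nat_lit 2)))) (.node (nat_lit 183) (.node (nat_lit 133) (.leaf (nat_lit 4)) (.leaf (nat_lit 2))) (.node (nat_lit 192) (.leaf (nat_lit 0)) (.leaf (nat_lit 2))))) (.node (nat_lit 339) (.node (nat_lit 320) (.node (nat_lit 261) (.leaf (nat_lit 24)) (.leaf (nat_lit 2))) (.node (nat_lit 334) (.leaf (nat_lit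 4)) (.leaf (nat_lit 96)))) (.node (nat_lit 362) (.node (nat_lit 353) (.leaf (nat_lit 24)) (.leaf (nat_lit 2))) (.node (nat_lit 398) (.leaf (nat_lit 24)) (.leaf (nat_lit 2)))))) (.node (nat_lit 759) (.node (nat_lit 645) (.node (nat_lit 476) (.leaf (nat_lit 4)) (.node (nat_lit 481) (.leaf (nat_lit 24)) (.leaf (nat_lit 2)))) (.node (nat_lit 673) (.node (nat_lit 654) (.leaf (nat_lit 96)) (.leaf (nat_lit 4))) (.node (nat_lit 709) (.leaf (nat_lit 24)) (.leaf (nat_lit 2))))) (.node (nat_lit 810) (.node (nat_lit 782) (.node (nat_lit 768) (.leaf (nat_lit 4)) (.leaf (nat_lit 2))) (.node (nat_lit 801) (.leaf (nat_lit 4)) (.leaf (nat_lit 2)))) (.node (nat_lit 915) (.node (nat_lit 837) (.leaf (nat_lit 24)) (.leaf (nat_lit 2))) (.node (nat_lit 929) (.leaf (nat_lit 24)) (.leaf (nat_lit 2)))))))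
noncomputable def HA_soc_t1 : ST := (.node (nat_lit 386) (.node (nat_lit 187) (.node (nat_lit 86) (.node (nat_lit 35) (.node (nat_lit 11) (.node (nat_lit 5) (.leaf (nat_lit 96)) (.node (nat_lit 6) (.leaf (nat_lit 48)) (.leaf (nat_lit 96)))) (.node (nat_lit 25) (.leaf (nat_lit 48)) (.node (nat_lit 33) (.leaf (nat_lit 96)) (.leaf (nat_lit 8))))) (.node (nat_lit 57) (.node (nat_lit 38) (.leaf (nat_lit 48)) (.node (nat_lit 54) (.leaf (nat_lit 96)) (.leaf (nat_lit 24)))) (.node (nat_lit 65) (.leaf (nat_lit 48)) (.node (nat_lit 76) (.leaf (nat_lit 96)) (.leaf (nat_lit 48)))))) (.node (nat_lit 135) (.node (nat_lit 106) (.node (nat_lit 100) (.leaf (nat_lit 96)) (.node (nat_lit 105) (.leaf (nat_lit 48)) (.leaf (nat_lit 96)))) (.node (nat_lit 108) (.leaf (nat_lit 48)) (.node (nat_lit 126) (.leaf (nat_lit 96)) (.leaf (nat_lit 24))))) (.node (nat_lit 151) (.node (nat_lit 139) (.leaf (nat_lit 48)) (.node (nat_lit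 150) (.leaf (nat_lit 96)) (.leaf (nat_lit 48)))) (.node (nat_lit 156) (.node (nat_lit 155) (.leaf (nat_lit 96)) (.leaf (nat_lit 48))) (.node (nat_lit 179) (.leaf (nat_lit 96)) (.leaf (nat_lit 48))))))) (.node (nat_lit 290) (.node (nat_lit 223) (.node (nat_lit 207) (.node (nat_lit 192) (.leaf (nat_lit 96)) (.node (nat_lit 204) (.leaf (nat_lit 48)) (.leaf (nat_lit 96)))) (.node (nat_lit 220) (.leaf (nat_lit 48)) (.node (nat_lit 221) (.leaf (nat_lit 96)) (.leaf (nat_lit 24))))) (.node (nat_lit 271) (.node (nat_lit 250) (.leaf (nat_lit 96)) (.node (nat_lit 257) (.leaf (nat_lit 48)) (.leaf (nat_lit 96)))) (.node (nat_lit 276) (.leaf (nat_lit 48)) (.node (nat_lit 281) (.leaf (nat_lit 96)) (.leaf (nat_lit 48)))))) (.node (nat_lit 338) (.node (nat_lit 314) (.node (nat_lit 293) (.leaf (nat_lit 96)) (.node (nat_lit 295) (.leaf (nat_lit 24)) (.leaf (nat_lit 96)))) (.node (nat_lit 320) (.leaf (nat_lit 8)) (.node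 (nat_lit 336) (.leaf (nat_lit 96)) (.leaf (nat_lit 48))))) (.node (nat_lit 366) (.node (nat_lit 342) (.leaf (nat_lit 96)) (.node (nat_lit 346) (.leaf (nat_lit 48)) (.leaf (nat_lit 96)))) (.node (nat_lit 373) (.node (nat_lit 371) (.leaf (nat_lit 48)) (.leaf (nat_lit 24))) (.node (nat_lit 374) (.leaf (nat_lit 48)) (.leaf (nat_lit 96)))))))) (.node (nat_lit 593) (.node (nat_lit 486) (.node (nat_lit 418) (.node (nat_lit 403) (.node (nat_lit 391) (.leaf (nat_lit 8)) (.node (nat_lit 395) (.leaf (nat_lit 96)) (.leaf (nat_lit 48)))) (.node (nat_lit 415) (.leaf (nat_lit 96)) (.node (nat_lit 416) (.leaf (nat_lit 48)) (.leaf (nat_lit 8))))) (.node (nat_lit 444) (.node (nat_lit 440) (.leaf (nat_lit 96)) (.node (nat_lit 443) (.leaf (nat_lit 48)) (.leaf (nat_lit 24)))) (.node (nat_lit 467) (.leaf (nat_lit 96)) (.node (nat_lit 470) (.leaf (nat_lit 48)) (.leaf (nat_lit 96)))))) (.node (nat_lit 541) (.node (nat_lit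 509) (.node (nat_lit 492) (.leaf (nat_lit 48)) (.node (nat_lit 497) (.leaf (nat_lit 96)) (.leaf (nat_lit 48)))) (.node (nat_lit 510) (.leaf (nat_lit 96)) (.node (nat_lit 518) (.leaf (nat_lit 48)) (.leaf (nat_lit 96))))) (.node (nat_lit 549) (.node (nat_lit 545) (.leaf (nat_lit 48)) (.node (nat_lit 547) (.leaf (nat_lit 96)) (.leaf (nat_lit 48)))) (.node (nat_lit 578) (.node (nat_lit 569) (.leaf (nat_lit 96)) (.leaf (nat_lit 48))) (.node (nat_lit 590) (.leaf (nat_lit 96)) (.leaf (nat_lit 48))))))) (.node (nat_lit 691) (.node (nat_lit 633) (.node (nat_lit 612) (.node (nat_lit 602) (.leaf (nat_lit 96)) (.node (nat_lit 606) (.leaf (nat_lit 48)) (.leaf (nat_lit 96)))) (.node (nat_lit 617) (.leaf (nat_lit 48)) (.node (nat_lit 631) (.leaf (nat_lit 96)) (.leaf (nat_lit 8))))) (.node (nat_lit 663) (.node (nat_lit 634) (.leaf (nat_lit 48)) (.node (nat_lit 662) (.leaf (nat_lit 96)) (.leaf (nat_lit 48)))) (.node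 (nat_lit 676) (.leaf (nat_lit 96)) (.node (nat_lit 678) (.leaf (nat_lit 24)) (.leaf (nat_lit 96)))))) (.node (nat_lit 732) (.node (nat_lit 704) (.node (nat_lit 696) (.leaf (nat_lit 48)) (.node (nat_lit 703) (.leaf (nat_lit 96)) (.leaf (nat_lit 8)))) (.node (nat_lit 707) (.leaf (nat_lit 48)) (.node (nat_lit 728) (.leaf (nat_lit 96)) (.leaf (nat_lit 48))))) (.node (nat_lit 746) (.node (nat_lit 733) (.leaf (nat_lit 96)) (.node (nat_lit 735) (.leaf (nat_lit 0)) (.leaf (nat_lit 96)))) (.node (nat_lit 757) (.node (nat_lit 748) (.leaf (nat_lit 48)) (.leaf (nat_lit 24))) (.node (nat_lit 761) (.leaf (nat_lit 48)) (.leaf (nat_lit 96)))))))))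
noncomputable def HA_soc_F : Fm := (.all HA_L (.or (.qf (.eq (.v (nat_lit 0)) .one)) (.exF HA_L (fun cs => HA_soc_t1.find (Nat.mod (nth (nat_lit 0) cs (nat_lit 0)) (nat_lit 772))) (.exF HA_L (fun cs => HA_soc_t0.find (Nat.mod (Nat.add (nth (nat_lit 0) cs (nat_lit 0)) (Nat.mul (nat_lit 7919) (nth (nat_lit 0) cs (nat_lit 1)))) (nat_lit 1024))) (.qf (.or (.eq (.mul (.mul (.v (nat_lit 0)) (.v (nat_lit 2))) (.inv (.v (nat_lit 0)))) (.v (nat_lit 3))) (.or (.eq (.mul (.mul (.v (nat_lit 0)) (.v (nat_lit 2))) (.inv (.v (nat_lit 0)))) (.v (nat_lit 3))) (.or (.eq (.mul (.mul (.v (nat_lit 0)) (.mul (.mul (.mul (.v (nat_lit 2)) (.v (nat_lit 1))) (.inv (.v (nat_lit 2)))) (.inv (.v (nat_lit 1))))) (.inv (.v (nat_lit 0)))) (.v (nat_lit 3))) (.or (.eq (.mul (.mul (.v (nat_lit 0)) (.mul (.mul (.mul (.v (nat_lit 2)) (.v (nat_lit 1))) (.inv (.v (nat_lit 2)))) (.inv (.v (nat_lit 1))))) (.inv (.v (nat_lit 0)))) (.v (nat_lit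 3))) (.or (.eq (.mul (.mul (.mul (.mul (.mul (.mul (.v (nat_lit 2)) (.v (nat_lit 1))) (.inv (.v (nat_lit 2)))) (.inv (.v (nat_lit 1)))) (.v (nat_lit 0))) (.inv (.mul (.mul (.mul (.v (nat_lit 2)) (.v (nat_lit 1))) (.inv (.v (nat_lit 2)))) (.inv (.v (nat_lit 1)))))) (.inv (.v (nat_lit 0)))) (.v (nat_lit 3))) (.eq (.mul (.mul (.mul (.mul (.mul (.mul (.v (nat_lit 2)) (.v (nat_lit 1))) (.inv (.v (nat_lit 2)))) (.inv (.v (nat_lit 1)))) (.v (nat_lit 0))) (.inv (.mul (.mul (.mul (.v (nat_lit 2)) (.v (nat_lit 1))) (.inv (.v (nat_lit 2)))) (.inv (.v (nat_lit 1)))))) (.inv (.v (nat_lit 0)))) (.v (nat_lit 3)))))))))))))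
theorem HA_soc_chk : Fm.chk HA_o HA_soc_F HA_cs = true := by decide +kernel
theorem HA_soc {G : Type*} [Group G] {R : ℕ → G → Prop} {z u v a b r x X_ : G} {H : Subgroup G}
    (M : Mdl HA_o HA_cs HA_L R [z, u, v, a, b, r, x, X_] H) :
    ∀ y_ ∈ H, y_ = 1 ∨ (∃ q_ ∈ H, ∃ k_ ∈ H, k_ * y_ * k_⁻¹ = z ∨ k_ * y_ * k_⁻¹ = z ∨ k_ * ⁅y_, q_⁆ * k_⁻¹ = z ∨ k_ * ⁅y_, q_⁆ * k_⁻¹ = z ∨ ⁅⁅y_, q_⁆, k_⁆ = z ∨ ⁅⁅y_, q_⁆, k_⁆ = z) :=
  have h : ∀ y_, InL HA_o R HA_L y_ → y_ = 1 ∨ (Good HA_o R HA_L → prods HA_o HA_L HA_o.one ≠ [] → ∃ q_, InL HA_o R HA_L q_ ∧ (Good HA_o R HA_L → prods HA_o HA_L HA_o.one ≠ [] → ∃ k_, InL HA_o R HA_L k_ ∧ (k_ * y_ * k_⁻¹ = z ∨ k_ * y_ * k_⁻¹ = z ∨ k_ * ⁅y_, q_⁆ * k_⁻¹ = z ∨ k_ * ⁅y_, q_⁆ * k_⁻¹ = z ∨ ⁅⁅y_, q_⁆, k_⁆ = z ∨ ⁅⁅y_, q_⁆, k_⁆ = z))) :=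
    Fm.sound M.μ HA_soc_F HA_soc_chk M.reps
  (fun y_ h0 => (Or.imp (fun h1 => h1) (fun h1 => (Exists.imp (fun q_ h2 => ⟨M.H.iff.1 h2.1, (Exists.imp (fun k_ h3 => ⟨M.H.iff.1 h3.1, h3.2⟩) (h2.2 M.H.good M.H.ne))⟩) (h1 M.H.good M.H.ne))) (h y_ (M.H.iff.2 h0))))
theorem HA_mdl {G : Type*} [Group G] {z u v a b r x : G}
    (h : Q3 z u v a b x)
    (k : RA z u v r x)
    (n1 : z ≠ 1) :
    ∃ R, Mdl HA_o HA_cs HA_L R [z, u, v, a, b, r, x, x⁻¹] (sp [z, u, v, a, b, r, x, x⁻¹]) ∧ #(sp [z, u, v, a, b, r, x, x⁻¹]) = 192 :=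
  mdl_of HA_P rfl (HA_r h k) (.v (nat_lit 0)) (.v (nat_lit 0)) n1 n1 
    fun _ ms _ M hl => match ms, M, (hl : ms.length = 8) with
      | [_, _, _, _, _, _, _, _], M, _ => HA_soc M
noncomputable def HA_lQ : List ℕ := [(nat_lit 0xfac688), (nat_lit 0xde54c1), (nat_lit 0xb3e053), (nat_lit 0xb3e21a), (nat_lit 0x681fa5), (nat_lit 0x688fac), (nat_lit 0x97721a), (nat_lit 0x977053), (nat_lit 0x4c8dec), (nat_lit 0x4c1de5), (nat_lit 0xfac4c1), (nat_lit 371511), (nat_lit 0x21a977), (nat_lit 371070), (nat_lit 0x21ab3e), (nat_lit 0x213b37), (nat_lit 0xfa5681), (nat_lit 342846), (nat_lit 0xde5688), (nat_lit 0x21397e), (nat_lit 342391), (nat_lit 0xdec4c8), (nat_lit 0x681dec), (nat_lit 0x688de5), (nat_lit 0x4c8fa5), (nat_lit 0x97e213), (nat_lit 0x97e05a), (nat_lit 0x4c1fac), (nat_lit 0xb37213), (nat_lit 0xb3705a), (nat_lit 0xfa54c8), (nat_lit 0xdec681)]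
noncomputable def HA_lQ_W : List (List ℕ) := [[],
  [(nat_lit 0)],
  [(nat_lit 1)],
  [(nat_lit 2)],
  [(nat_lit 3)],
  [(nat_lit 4)],
  [(nat_lit 0), (nat_lit 1)],
  [(nat_lit 0), (nat_lit 2)],
  [(nat_lit 0), (nat_lit 3)],
  [(nat_lit 0), (nat_lit 4)],
  [(nat_lit 1), (nat_lit 2)],
  [(nat_lit 1), (nat_lit 3)],
  [(nat_lit 1), (nat_lit 4)],
  [(nat_lit 2), (nat_lit 3)],
  [(nat_lit 2), (nat_lit 4)],
  [(nat_lit 3), (nat_lit 2)],
  [(nat_lit 3), (nat_lit 4)],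
  [(nat_lit 4), (nat_lit 1)],
  [(nat_lit 0), (nat_lit 1), (nat_lit 2)],
  [(nat_lit 0), (nat_lit 1), (nat_lit 3)],
  [(nat_lit 0), (nat_lit 2), (nat_lit 4)],
  [(nat_lit 0), (nat_lit 3), (nat_lit 4)],
  [(nat_lit 1), (nat_lit 2), (nat_lit 3)],
  [(nat_lit 1), (nat_lit 2), (nat_lit 4)],
  [(nat_lit 1), (nat_lit 3), (nat_lit 2)],
  [(nat_lit 1), (nat_lit 3), (nat_lit 4)],
  [(nat_lit 2), (nat_lit 3), (nat_lit 4)],
  [(nat_lit 2), (nat_lit 4), (nat_lit 1)],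
  [(nat_lit 3), (nat_lit 2), (nat_lit 4)],
  [(nat_lit 3), (nat_lit 4), (nat_lit 1)],
  [(nat_lit 1), (nat_lit 2), (nat_lit 3), (nat_lit 4)],
  [(nat_lit 1), (nat_lit 3), (nat_lit 2), (nat_lit 4)]]
noncomputable def HA_lQ_h (c : ℕ) : ℕ := Nat.mod c (nat_lit 122)
theorem HA_lQ_E {G : Type*} [Group G] {R : ℕ → G → Prop} {z u v a b r x : G} {H : Subgroup G}
    (M : Mdl HA_o HA_cs HA_L R [z, u, v, a, b, r, x, x⁻¹] H) :
    EnumS R HA_lQ (sp [z, u, v, a, b]) :=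
  enumS_sp M.μ.1 (M.reps.tms M.μ.1 [(.v (nat_lit 0)), (.v (nat_lit 1)), (.v (nat_lit 2)), (.v (nat_lit 3)), (.v (nat_lit 4))] (cs' := [(nat_lit 0xde54c1), (nat_lit 0xb3e053), (nat_lit 0xb3e21a), (nat_lit 0x681fa5), (nat_lit 0x688fac)]) (by decide +kernel))
    (Ws := HA_lQ_W) (by decide +kernel) (by decide +kernel)
theorem HA_lQ_c {G : Type*} [Group G] {R : ℕ → G → Prop} {z u v a b r x : G} {H : Subgroup G}
    (M : Mdl HA_o HA_cs HA_L R [z, u, v, a, b, r, x, x⁻¹] H) :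
    #(sp [z, u, v, a, b]) = 32 :=
  (HA_lQ_E M).card M.μ (h := HA_lQ_h) (by decide +kernel)
noncomputable def HA_lT : List ℕ := [(nat_lit 0xfac688), (nat_lit 0xde54c1), (nat_lit 0xb3e053), (nat_lit 0xb3e21a), (nat_lit 0x681fa5), (nat_lit 0x688fac), (nat_lit 0x9774c1), (nat_lit 0x97721a), (nat_lit 0x977053), (nat_lit 0x4c8dec), (nat_lit 0x4c1de5), (nat_lit 0xb3e688), (nat_lit 0xfac4c1), (nat_lit 371511), (nat_lit 0x21a977), (nat_lit 0xde521a), (nat_lit 371070), (nat_lit 0x21ab3e), (nat_lit 0xde5053), (nat_lit 0x213b37), (nat_lit 0xfa5681), (nat_lit 0x4c897e), (nat_lit 342846), (nat_lit 0x4c1977), (nat_lit 0x213dec), (nat_lit 343525), (nat_lit 0xde5688), (nat_lit 0x21397e), (nat_lit 0xfac053), (nat_lit 342391), (nat_lit 0xfac21a), (nat_lit 0xdec4c8), (nat_lit 0x681b37), (nat_lit 0x688b3e), (nat_lit 372645), (nat_lit 0x21afac), (nat_lit 0x681dec), (nat_lit 0x688de5), (nat_lit 0x977688), (nat_lit 0x4c8fa5),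 (nat_lit 0x97e213), (nat_lit 343980), (nat_lit 0x4c1b3e), (nat_lit 0x97e05a), (nat_lit 0x213fa5), (nat_lit 0x4c1fac), (nat_lit 0x4c8b37), (nat_lit 0xb37213), (nat_lit 372204), (nat_lit 0xb3705a), (nat_lit 0x97e4c8), (nat_lit 0xdec05a), (nat_lit 0x21ade5), (nat_lit 0xdec213), (nat_lit 0x68197e), (nat_lit 0xb374c8), (nat_lit 0x688977), (nat_lit 0xb3e4c1), (nat_lit 0xb37681), (nat_lit 0xfa5213), (nat_lit 0xfa505a), (nat_lit 0x97e681), (nat_lit 0xfa54c8), (nat_lit 0xdec681)]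
noncomputable def HA_lT_W : List (List ℕ) := [[],
  [(nat_lit 0)],
  [(nat_lit 1)],
  [(nat_lit 2)],
  [(nat_lit 3)],
  [(nat_lit 4)],
  [(nat_lit 5)],
  [(nat_lit 0), (nat_lit 1)],
  [(nat_lit 0), (nat_lit 2)],
  [(nat_lit 0), (nat_lit 3)],
  [(nat_lit 0), (nat_lit 4)],
  [(nat_lit 0), (nat_lit 5)],
  [(nat_lit 1), (nat_lit 2)],
  [(nat_lit 1), (nat_lit 3)],
  [(nat_lit 1), (nat_lit 4)],
  [(nat_lit 1), (nat_lit 5)],
  [(nat_lit 2), (nat_lit 3)],
  [(nat_lit 2), (nat_lit 4)],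
  [(nat_lit 2), (nat_lit 5)],
  [(nat_lit 3), (nat_lit 2)],
  [(nat_lit 3), (nat_lit 4)],
  [(nat_lit 3), (nat_lit 5)],
  [(nat_lit 4), (nat_lit 1)],
  [(nat_lit 4), (nat_lit 5)],
  [(nat_lit 5), (nat_lit 3)],
  [(nat_lit 5), (nat_lit 4)],
  [(nat_lit 0), (nat_lit 1), (nat_lit 2)],
  [(nat_lit 0), (nat_lit 1), (nat_lit 3)],
  [(nat_lit 0), (nat_lit 1), (nat_lit 5)],
  [(nat_lit 0), (nat_lit 2), (nat_lit 4)],
  [(nat_lit 0), (nat_lit 2), (nat_lit 5)],
  [(nat_lit 0), (nat_lit 3), (nat_lit 4)],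
  [(nat_lit 0), (nat_lit 3), (nat_lit 5)],
  [(nat_lit 0), (nat_lit 4), (nat_lit 5)],
  [(nat_lit 0), (nat_lit 5), (nat_lit 3)],
  [(nat_lit 0), (nat_lit 5), (nat_lit 4)],
  [(nat_lit 1), (nat_lit 2), (nat_lit 3)],
  [(nat_lit 1), (nat_lit 2), (nat_lit 4)],
  [(nat_lit 1), (nat_lit 2), (nat_lit 5)],
  [(nat_lit 1), (nat_lit 3), (nat_lit 2)],
  [(nat_lit 1), (nat_lit 3), (nat_lit 4)],
  [(nat_lit 1), (nat_lit 4), (nat_lit 5)],
  [(nat_lit 1), (nat_lit 5), (nat_lit 4)],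
  [(nat_lit 2), (nat_lit 3), (nat_lit 4)],
  [(nat_lit 2), (nat_lit 3), (nat_lit 5)],
  [(nat_lit 2), (nat_lit 4), (nat_lit 1)],
  [(nat_lit 2), (nat_lit 5), (nat_lit 3)],
  [(nat_lit 3), (nat_lit 2), (nat_lit 4)],
  [(nat_lit 3), (nat_lit 2), (nat_lit 5)],
  [(nat_lit 3), (nat_lit 4), (nat_lit 1)],
  [(nat_lit 3), (nat_lit 4), (nat_lit 5)],
  [(nat_lit 3), (nat_lit 5), (nat_lit 4)],
  [(nat_lit 4), (nat_lit 1), (nat_lit 5)],
  [(nat_lit 4), (nat_lit 5), (nat_lit 3)],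
  [(nat_lit 5), (nat_lit 3), (nat_lit 2)],
  [(nat_lit 5), (nat_lit 3), (nat_lit 4)],
  [(nat_lit 5), (nat_lit 4), (nat_lit 1)],
  [(nat_lit 0), (nat_lit 1), (nat_lit 2), (nat_lit 5)],
  [(nat_lit 0), (nat_lit 3), (nat_lit 4), (nat_lit 5)],
  [(nat_lit 0), (nat_lit 3), (nat_lit 5), (nat_lit 4)],
  [(nat_lit 0), (nat_lit 4), (nat_lit 5), (nat_lit 3)],
  [(nat_lit 0), (nat_lit 5), (nat_lit 3), (nat_lit 4)],
  [(nat_lit 1), (nat_lit 2), (nat_lit 3), (nat_lit 4)],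
  [(nat_lit 1), (nat_lit 3), (nat_lit 2), (nat_lit 4)]]
noncomputable def HA_lT_h (c : ℕ) : ℕ := Nat.mod c (nat_lit 232)
theorem HA_lT_E {G : Type*} [Group G] {R : ℕ → G → Prop} {z u v a b r x : G} {H : Subgroup G}
    (M : Mdl HA_o HA_cs HA_L R [z, u, v, a, b, r, x, x⁻¹] H) :
    EnumS R HA_lT (sp [z, u, v, a, b, r]) :=
  enumS_sp M.μ.1 (M.reps.tms M.μ.1 [(.v (nat_lit 0)), (.v (nat_lit 1)), (.v (nat_lit 2)), (.v (nat_lit 3)), (.v (nat_lit 4)), (.v (nat_lit 5))] (cs' := [(nat_lit 0xde54c1), (nat_lit 0xb3e053), (nat_lit 0xb3e21a), (nat_lit 0x681fa5), (nat_lit 0x688fac), (nat_lit 0x9774c1)]) (by decide +kernel))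
    (Ws := HA_lT_W) (by decide +kernel) (by decide +kernel)
theorem HA_lT_c {G : Type*} [Group G] {R : ℕ → G → Prop} {z u v a b r x : G} {H : Subgroup G}
    (M : Mdl HA_o HA_cs HA_L R [z, u, v, a, b, r, x, x⁻¹] H) :
    #(sp [z, u, v, a, b, r]) = 64 :=
  (HA_lT_E M).card M.μ (h := HA_lT_h) (by decide +kernel)
noncomputable def HA_lR0 : List ℕ := [(nat_lit 0xfac688), (nat_lit 0xde54c1), (nat_lit 0xb3e053), (nat_lit 0xb3e21a), (nat_lit 0x681fa5), (nat_lit 0x9774c1), (nat_lit 0x97721a), (nat_lit 0x977053), (nat_lit 0x4c8dec), (nat_lit 0xb3e688), (nat_lit 0xfac4c1), (nat_lit 371511), (nat_lit 0xde521a), (nat_lit 371070), (nat_lit 0xde5053), (nat_lit 0x213b37), (nat_lit 0x4c897e), (nat_lit 0x213dec), (nat_lit 0xde5688), (nat_lit 0x21397e), (nat_lit 0xfac053), (nat_lit 0xfac21a), (nat_lit 0x681b37), (nat_lit 372645), (nat_lit 0x681dec), (nat_lit 0x977688), (nat_lit 0x4c8fa5), (nat_lit 0x213fa5), (nat_lit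 0x4c8b37), (nat_lit 372204), (nat_lit 0x68197e), (nat_lit 0xb3e4c1)]
noncomputable def HA_lR0_W : List (List ℕ) := [[],
  [(nat_lit 0)],
  [(nat_lit 1)],
  [(nat_lit 2)],
  [(nat_lit 3)],
  [(nat_lit 4)],
  [(nat_lit 0), (nat_lit 1)],
  [(nat_lit 0), (nat_lit 2)],
  [(nat_lit 0), (nat_lit 3)],
  [(nat_lit 0), (nat_lit 4)],
  [(nat_lit 1), (nat_lit 2)],
  [(nat_lit 1), (nat_lit 3)],
  [(nat_lit 1), (nat_lit 4)],
  [(nat_lit 2), (nat_lit 3)],
  [(nat_lit 2), (nat_lit 4)],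
  [(nat_lit 3), (nat_lit 2)],
  [(nat_lit 3), (nat_lit 4)],
  [(nat_lit 4), (nat_lit 3)],
  [(nat_lit 0), (nat_lit 1), (nat_lit 2)],
  [(nat_lit 0), (nat_lit 1), (nat_lit 3)],
  [(nat_lit 0), (nat_lit 1), (nat_lit 4)],
  [(nat_lit 0), (nat_lit 2), (nat_lit 4)],
  [(nat_lit 0), (nat_lit 3), (nat_lit 4)],
  [(nat_lit 0), (nat_lit 4), (nat_lit 3)],
  [(nat_lit 1), (nat_lit 2), (nat_lit 3)],
  [(nat_lit 1), (nat_lit 2), (nat_lit 4)],
  [(nat_lit 1), (nat_lit 3), (nat_lit 2)],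
  [(nat_lit 2), (nat_lit 3), (nat_lit 4)],
  [(nat_lit 2), (nat_lit 4), (nat_lit 3)],
  [(nat_lit 3), (nat_lit 2), (nat_lit 4)],
  [(nat_lit 4), (nat_lit 3), (nat_lit 2)],
  [(nat_lit 0), (nat_lit 1), (nat_lit 2), (nat_lit 4)]]
noncomputable def HA_lR0_h (c : ℕ) : ℕ := Nat.mod c (nat_lit 134)
theorem HA_lR0_E {G : Type*} [Group G] {R : ℕ → G → Prop} {z u v a b r x : G} {H : Subgroup G}
    (M : Mdl HA_o HA_cs HA_L R [z, u, v, a, b, r, x, x⁻¹] H) :
    EnumS R HA_lR0 (sp [z, u, v, a, r]) :=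
  enumS_sp M.μ.1 (M.reps.tms M.μ.1 [(.v (nat_lit 0)), (.v (nat_lit 1)), (.v (nat_lit 2)), (.v (nat_lit 3)), (.v (nat_lit 5))] (cs' := [(nat_lit 0xde54c1), (nat_lit 0xb3e053), (nat_lit 0xb3e21a), (nat_lit 0x681fa5), (nat_lit 0x9774c1)]) (by decide +kernel))
    (Ws := HA_lR0_W) (by decide +kernel) (by decide +kernel)
theorem HA_lR0_c {G : Type*} [Group G] {R : ℕ → G → Prop} {z u v a b r x : G} {H : Subgroup G}
    (M : Mdl HA_o HA_cs HA_L R [z, u, v, a, b, r, x, x⁻¹] H) :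
    #(sp [z, u, v, a, r]) = 32 :=
  (HA_lR0_E M).card M.μ (h := HA_lR0_h) (by decide +kernel)
noncomputable def HA_lE1 : List ℕ := [(nat_lit 0xfac688), (nat_lit 0xde54c1), (nat_lit 0xb3e053), (nat_lit 0x681fa5), (nat_lit 0x97721a), (nat_lit 0x4c8dec), (nat_lit 371511), (nat_lit 0x21397e)]
noncomputable def HA_lE1_W : List (List ℕ) := [[],
  [(nat_lit 0)],
  [(nat_lit 1)],
  [(nat_lit 2)],
  [(nat_lit 0), (nat_lit 1)],
  [(nat_lit 0), (nat_lit 2)],
  [(nat_lit 1), (nat_lit 2)],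
  [(nat_lit 0), (nat_lit 1), (nat_lit 2)]]
noncomputable def HA_lE1_h (c : ℕ) : ℕ := Nat.mod c (nat_lit 8)
theorem HA_lE1_E {G : Type*} [Group G] {R : ℕ → G → Prop} {z u v a b r x : G} {H : Subgroup G}
    (M : Mdl HA_o HA_cs HA_L R [z, u, v, a, b, r, x, x⁻¹] H) :
    EnumS R HA_lE1 (sp [z, u, a]) :=
  enumS_sp M.μ.1 (M.reps.tms M.μ.1 [(.v (nat_lit 0)), (.v (nat_lit 1)), (.v (nat_lit 3))] (cs' := [(nat_lit 0xde54c1), (nat_lit 0xb3e053), (nat_lit 0x681fa5)]) (by decide +kernel))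
    (Ws := HA_lE1_W) (by decide +kernel) (by decide +kernel)
theorem HA_lE1_c {G : Type*} [Group G] {R : ℕ → G → Prop} {z u v a b r x : G} {H : Subgroup G}
    (M : Mdl HA_o HA_cs HA_L R [z, u, v, a, b, r, x, x⁻¹] H) :
    #(sp [z, u, a]) = 8 :=
  (HA_lE1_E M).card M.μ (h := HA_lE1_h) (by decide +kernel)
noncomputable def HA_lF : List ℕ := [(nat_lit 0xfac688), (nat_lit 0xde54c1), (nat_lit 0xb3e053), (nat_lit 0xb3e21a), (nat_lit 0x9774c1), (nat_lit 0x97721a), (nat_lit 0x977053), (nat_lit 0xb3e688), (nat_lit 0xfac4c1), (nat_lit 0xde521a), (nat_lit 0xde5053), (nat_lit 0xde5688), (nat_lit 0xfac053), (nat_lit 0xfac21a), (nat_lit 0x977688), (nat_lit 0xb3e4c1)]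
noncomputable def HA_lF_W : List (List ℕ) := [[],
  [(nat_lit 0)],
  [(nat_lit 1)],
  [(nat_lit 2)],
  [(nat_lit 3)],
  [(nat_lit 0), (nat_lit 1)],
  [(nat_lit 0), (nat_lit 2)],
  [(nat_lit 0), (nat_lit 3)],
  [(nat_lit 1), (nat_lit 2)],
  [(nat_lit 1), (nat_lit 3)],
  [(nat_lit 2), (nat_lit 3)],
  [(nat_lit 0), (nat_lit 1), (nat_lit 2)],
  [(nat_lit 0), (nat_lit 1), (nat_lit 3)],
  [(nat_lit 0), (nat_lit 2), (nat_lit 3)],
  [(nat_lit 1), (nat_lit 2), (nat_lit 3)],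
  [(nat_lit 0), (nat_lit 1), (nat_lit 2), (nat_lit 3)]]
noncomputable def HA_lF_h (c : ℕ) : ℕ := Nat.mod c (nat_lit 23)
theorem HA_lF_E {G : Type*} [Group G] {R : ℕ → G → Prop} {z u v a b r x : G} {H : Subgroup G}
    (M : Mdl HA_o HA_cs HA_L R [z, u, v, a, b, r, x, x⁻¹] H) :
    EnumS R HA_lF (sp [z, u, v, r]) :=
  enumS_sp M.μ.1 (M.reps.tms M.μ.1 [(.v (nat_lit 0)), (.v (nat_lit 1)), (.v (nat_lit 2)), (.v (nat_lit 5))] (cs' := [(nat_lit 0xde54c1), (nat_lit 0xb3e053), (nat_lit 0xb3e21a), (nat_lit 0x9774c1)]) (by decide +kernel))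
    (Ws := HA_lF_W) (by decide +kernel) (by decide +kernel)
theorem HA_lF_c {G : Type*} [Group G] {R : ℕ → G → Prop} {z u v a b r x : G} {H : Subgroup G}
    (M : Mdl HA_o HA_cs HA_L R [z, u, v, a, b, r, x, x⁻¹] H) :
    #(sp [z, u, v, r]) = 16 :=
  (HA_lF_E M).card M.μ (h := HA_lF_h) (by decide +kernel)
noncomputable def HA_lS1 : List ℕ := [(nat_lit 0xfac688), (nat_lit 0xde54c1), (nat_lit 0xb3e053), (nat_lit 0xb3e21a), (nat_lit 0x9774c1), (nat_lit 0xfa5681), (nat_lit 0x97721a), (nat_lit 0x977053), (nat_lit 0xb3e688), (nat_lit 0xdec4c8), (nat_lit 0xfac4c1), (nat_lit 0xde521a), (nat_lit 0x97e213), (nat_lit 0xde5053), (nat_lit 0x97e05a), (nat_lit 0xb374c8), (nat_lit 0xb3705a), (nat_lit 0xb37213), (nat_lit 0x97e4c8), (nat_lit 0xde5688), (nat_lit 0xfac053), (nat_lit 0xfac21a), (nat_lit 0x97e681), (nat_lit 0xb37681), (nat_lit 0x977688), (nat_lit 0xfa54c8), (nat_lit 0xdec05a), (nat_lit 0xdec681), (nat_lit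 0xfa505a), (nat_lit 0xdec213), (nat_lit 0xfa5213), (nat_lit 0xb3e4c1)]
noncomputable def HA_lS1_W : List (List ℕ) := [[],
  [(nat_lit 0)],
  [(nat_lit 1)],
  [(nat_lit 2)],
  [(nat_lit 3)],
  [(nat_lit 4)],
  [(nat_lit 0), (nat_lit 1)],
  [(nat_lit 0), (nat_lit 2)],
  [(nat_lit 0), (nat_lit 3)],
  [(nat_lit 0), (nat_lit 4)],
  [(nat_lit 1), (nat_lit 2)],
  [(nat_lit 1), (nat_lit 3)],
  [(nat_lit 1), (nat_lit 4)],
  [(nat_lit 2), (nat_lit 3)],
  [(nat_lit 2), (nat_lit 4)],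
  [(nat_lit 3), (nat_lit 4)],
  [(nat_lit 4), (nat_lit 1)],
  [(nat_lit 4), (nat_lit 2)],
  [(nat_lit 4), (nat_lit 3)],
  [(nat_lit 0), (nat_lit 1), (nat_lit 2)],
  [(nat_lit 0), (nat_lit 1), (nat_lit 3)],
  [(nat_lit 0), (nat_lit 2), (nat_lit 3)],
  [(nat_lit 0), (nat_lit 3), (nat_lit 4)],
  [(nat_lit 0), (nat_lit 4), (nat_lit 3)],
  [(nat_lit 1), (nat_lit 2), (nat_lit 3)],
  [(nat_lit 1), (nat_lit 2), (nat_lit 4)],
  [(nat_lit 1), (nat_lit 3), (nat_lit 4)],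
  [(nat_lit 1), (nat_lit 4), (nat_lit 2)],
  [(nat_lit 1), (nat_lit 4), (nat_lit 3)],
  [(nat_lit 2), (nat_lit 3), (nat_lit 4)],
  [(nat_lit 2), (nat_lit 4), (nat_lit 3)],
  [(nat_lit 4), (nat_lit 3), (nat_lit 4)]]
noncomputable def HA_lS1_h (c : ℕ) : ℕ := Nat.mod c (nat_lit 124)
theorem HA_lS1_E {G : Type*} [Group G] {R : ℕ → G → Prop} {z u v a b r x : G} {H : Subgroup G}
    (M : Mdl HA_o HA_cs HA_L R [z, u, v, a, b, r, x, x⁻¹] H) :
    EnumS R HA_lS1 (sp [z, u, v, r, a * b]) :=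
  enumS_sp M.μ.1 (M.reps.tms M.μ.1 [(.v (nat_lit 0)), (.v (nat_lit 1)), (.v (nat_lit 2)), (.v (nat_lit 5)), (.mul (.v (nat_lit 3)) (.v (nat_lit 4)))] (cs' := [(nat_lit 0xde54c1), (nat_lit 0xb3e053), (nat_lit 0xb3e21a), (nat_lit 0x9774c1), (nat_lit 0xfa5681)]) (by decide +kernel))
    (Ws := HA_lS1_W) (by decide +kernel) (by decide +kernel)
theorem HA_lS1_c {G : Type*} [Group G] {R : ℕ → G → Prop} {z u v a b r x : G} {H : Subgroup G}
    (M : Mdl HA_o HA_cs HA_L R [z, u, v, a, b, r, x, x⁻¹] H) :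
    #(sp [z, u, v, r, a * b]) = 32 :=
  (HA_lS1_E M).card M.μ (h := HA_lS1_h) (by decide +kernel)
noncomputable def HA_lW : List ℕ := [(nat_lit 0xfac688), (nat_lit 0xfac4c1), (nat_lit 0xfac21a), (nat_lit 0xfac053)]
noncomputable def HA_lW_W : List (List ℕ) := [[],
  [(nat_lit 0)],
  [(nat_lit 1)],
  [(nat_lit 0), (nat_lit 1)]]
noncomputable def HA_lW_h (c : ℕ) : ℕ := Nat.mod c (nat_lit 4)
theorem HA_lW_E {G : Type*} [Group G] {R : ℕ → G → Prop} {z u v a b r x : G} {H : Subgroup G}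
    (M : Mdl HA_o HA_cs HA_L R [z, u, v, a, b, r, x, x⁻¹] H) :
    EnumS R HA_lW (sp [u * v, z * v * r]) :=
  enumS_sp M.μ.1 (M.reps.tms M.μ.1 [(.mul (.v (nat_lit 1)) (.v (nat_lit 2))), (.mul (.mul (.v (nat_lit 0)) (.v (nat_lit 2))) (.v (nat_lit 5)))] (cs' := [(nat_lit 0xfac4c1), (nat_lit 0xfac21a)]) (by decide +kernel))
    (Ws := HA_lW_W) (by decide +kernel) (by decide +kernel)
theorem HA_lW_c {G : Type*} [Group G] {R : ℕ → G → Prop} {z u v a b r x : G} {H : Subgroup G}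
    (M : Mdl HA_o HA_cs HA_L R [z, u, v, a, b, r, x, x⁻¹] H) :
    #(sp [u * v, z * v * r]) = 4 :=
  (HA_lW_E M).card M.μ (h := HA_lW_h) (by decide +kernel)
noncomputable def HA_lE3 : List ℕ := [(nat_lit 0xfac688), (nat_lit 0xde54c1), (nat_lit 0xfac4c1), (nat_lit 0xfa5681), (nat_lit 0xde5688), (nat_lit 0xdec4c8), (nat_lit 0xfa54c8), (nat_lit 0xdec681)]
noncomputable def HA_lE3_W : List (List ℕ) := [[],
  [(nat_lit 0)],
  [(nat_lit 1)],
  [(nat_lit 2)],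
  [(nat_lit 0), (nat_lit 1)],
  [(nat_lit 0), (nat_lit 2)],
  [(nat_lit 1), (nat_lit 2)],
  [(nat_lit 0), (nat_lit 1), (nat_lit 2)]]
noncomputable def HA_lE3_h (c : ℕ) : ℕ := Nat.mod c (nat_lit 11)
theorem HA_lE3_E {G : Type*} [Group G] {R : ℕ → G → Prop} {z u v a b r x : G} {H : Subgroup G}
    (M : Mdl HA_o HA_cs HA_L R [z, u, v, a, b, r, x, x⁻¹] H) :
    EnumS R HA_lE3 (sp [z, u * v, a * b]) :=
  enumS_sp M.μ.1 (M.reps.tms M.μ.1 [(.v (nat_lit 0)), (.mul (.v (nat_lit 1)) (.v (nat_lit 2))), (.mul (.v (nat_lit 3)) (.v (nat_lit 4)))] (cs' := [(nat_lit 0xde54c1), (nat_lit 0xfac4c1), (nat_lit 0xfa5681)]) (by decide +kernel))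
    (Ws := HA_lE3_W) (by decide +kernel) (by decide +kernel)
theorem HA_lE3_c {G : Type*} [Group G] {R : ℕ → G → Prop} {z u v a b r x : G} {H : Subgroup G}
    (M : Mdl HA_o HA_cs HA_L R [z, u, v, a, b, r, x, x⁻¹] H) :
    #(sp [z, u * v, a * b]) = 8 :=
  (HA_lE3_E M).card M.μ (h := HA_lE3_h) (by decide +kernel)
noncomputable def HA_z_F : Fm := (.all HA_L (.qf (.eq (.mul (.v (nat_lit 0)) (.v (nat_lit 1))) (.mul (.v (nat_lit 1)) (.v (nat_lit 0))))))
theorem HA_z_chk : Fm.chk HA_o HA_z_F HA_cs = true := by decide +kernel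
theorem HA_z {G : Type*} [Group G] {R : ℕ → G → Prop} {z u v a b r x : G} {H : Subgroup G}
    (M : Mdl HA_o HA_cs HA_L R [z, u, v, a, b, r, x, x⁻¹] H) :
    ∀ y ∈ H, y * z = z * y :=
  have h : ∀ y, InL HA_o R HA_L y → y * z = z * y :=
    Fm.sound M.μ HA_z_F HA_z_chk M.reps
  (fun y h0 => (h y (M.H.iff.2 h0)))
noncomputable def HA_T_f_F : Fm := (.qf (.and (.eq (.mul (.v (nat_lit 0)) (.v (nat_lit 0))) .one) (.and (.eq (.mul (.v (nat_lit 1)) (.v (nat_lit 1))) .one) (.and (.eq (.mul (.v (nat_lit 2)) (.v (nat_lit 2))) .one) (.and (.eq (.mul (.v (nat_lit 3)) (.v (nat_lit 3))) .one) (.and (.eq (.mul (.v (nat_lit 4)) (.v (nat_lit 4))) .one) (.and (.eq (.mul (.v (nat_lit 5)) (.v (nat_lit 5))) .one) (.and (.eq (.mul (.v (nat_lit 1)) (.v (nat_lit 2))) (.mul (.v (nat_lit 2)) (.v (nat_lit 1)))) (.and (.eq (.mul (.v (nat_lit 0)) (.v (nat_lit 1))) (.mul (.v (nat_lit 1)) (.v (nat_lit 0)))) (.and (.eq (.mul (.v (nat_lit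 0)) (.v (nat_lit 2))) (.mul (.v (nat_lit 2)) (.v (nat_lit 0)))) (.and (.eq (.mul (.v (nat_lit 0)) (.v (nat_lit 3))) (.mul (.v (nat_lit 3)) (.v (nat_lit 0)))) (.and (.eq (.mul (.v (nat_lit 0)) (.v (nat_lit 4))) (.mul (.v (nat_lit 4)) (.v (nat_lit 0)))) (.and (.eq (.mul (.v (nat_lit 0)) (.v (nat_lit 5))) (.mul (.v (nat_lit 5)) (.v (nat_lit 0)))) (.and (.eq (.mul (.v (nat_lit 1)) (.v (nat_lit 3))) (.mul (.v (nat_lit 3)) (.v (nat_lit 1)))) (.and (.eq (.mul (.v (nat_lit 2)) (.v (nat_lit 4))) (.mul (.v (nat_lit 4)) (.v (nat_lit 2)))) (.and (.eq (.mul (.v (nat_lit 3)) (.v (nat_lit 4))) (.mul (.v (nat_lit 4)) (.v (nat_lit 3)))) (.and (.eq (.mul (.mul (.v (nat_lit 4)) (.v (nat_lit 1))) (.v (nat_lit 4))) (.mul (.v (nat_lit 1)) (.v (nat_lit 0)))) (.and (.eq (.mul (.mul (.v (nat_lit 3)) (.v (nat_lit 2))) (.v (nat_lit 3))) (.mul (.v (nat_lit 2)) (.v (nat_lit 0)))) (.and (.eq (.mul (.v (nat_lit 5)) (.v (nat_lit 1)))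 (.mul (.v (nat_lit 1)) (.v (nat_lit 5)))) (.and (.eq (.mul (.mul (.v (nat_lit 3)) (.v (nat_lit 5))) (.v (nat_lit 3))) (.mul (.v (nat_lit 5)) (.v (nat_lit 1)))) (.and (.eq (.mul (.v (nat_lit 5)) (.v (nat_lit 2))) (.mul (.v (nat_lit 2)) (.v (nat_lit 5)))) (.eq (.mul (.mul (.v (nat_lit 4)) (.v (nat_lit 5))) (.v (nat_lit 4))) (.mul (.v (nat_lit 5)) (.v (nat_lit 2)))))))))))))))))))))))))
theorem HA_T_f_chk : Fm.chk HA_o HA_T_f_F HA_cs = true := by decide +kernel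
theorem HA_T_f {G : Type*} [Group G] {R : ℕ → G → Prop} {z u v a b r x : G} {H : Subgroup G}
    (M : Mdl HA_o HA_cs HA_L R [z, u, v, a, b, r, x, x⁻¹] H) :
    z * z = 1 ∧ u * u = 1 ∧ v * v = 1 ∧ a * a = 1 ∧ b * b = 1 ∧ r * r = 1 ∧ u * v = v * u ∧ z * u = u * z ∧ z * v = v * z ∧ z * a = a * z ∧ z * b = b * z ∧ z * r = r * z ∧ u * a = a * u ∧ v * b = b * v ∧ a * b = b * a ∧ b * u * b = u * z ∧ a * v * a = v * z ∧ r * u = u * r ∧ a * r * a = r * u ∧ r * v = v * r ∧ b * r * b = r * v :=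
  Fm.sound M.μ HA_T_f_F HA_T_f_chk M.reps
theorem HA_T {G : Type*} [Group G] {R : ℕ → G → Prop} {z u v a b r x : G} {H : Subgroup G}
    (M : Mdl HA_o HA_cs HA_L R [z, u, v, a, b, r, x, x⁻¹] H) :
    TA z u v a b r :=
  have h := HA_T_f M
  ⟨h.1, h.2.1, h.2.2.1, h.2.2.2.1, h.2.2.2.2.1, h.2.2.2.2.2.1, h.2.2.2.2.2.2.1, h.2.2.2.2.2.2.2.1, h.2.2.2.2.2.2.2.2.1, h.2.2.2.2.2.2.2.2.2.1, h.2.2.2.2.2.2.2.2.2.2.1, h.2.2.2.2.2.2.2.2.2.2.2.1, h.2.2.2.2.2.2.2.2.2.2.2.2.1, h.2.2.2.2.2.2.2.2.2.2.2.2.2.1, h.2.2.2.2.2.2.2.2.2.2.2.2.2.2.1, h.2.2.2.2.2.2.2.2.2.2.2.2.2.2.2.1, h.2.2.2.2.2.2.2.2.2.2.2.2.2.2.2.2.1, h.2.2.2.2.2.2.2.2.2.2.2.2.2.2.2.2.2.1, h.2.2.2.2.2.2.2.2.2.2.2.2.2.2.2.2.2.2.1, h.2.2.2.2.2.2.2.2.2.2.2.2.2.2.2.2.2.2.2.1, h.2.2.2.2.2.2.2.2.2.2.2.2.2.2.2.2.2.2.2.2, trivial⟩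
noncomputable def HA_T2_f_F : Fm := (.qf (.and (.eq (.mul (.v (nat_lit 0)) (.v (nat_lit 0))) .one) (.and (.eq (.mul (.v (nat_lit 2)) (.v (nat_lit 2))) .one) (.and (.eq (.mul (.v (nat_lit 1)) (.v (nat_lit 1))) .one) (.and (.eq (.mul (.v (nat_lit 4)) (.v (nat_lit 4))) .one) (.and (.eq (.mul (.v (nat_lit 3)) (.v (nat_lit 3))) .one) (.and (.eq (.mul (.v (nat_lit 5)) (.v (nat_lit 5))) .one) (.and (.eq (.mul (.v (nat_lit 2)) (.v (nat_lit 1))) (.mul (.v (nat_lit 1)) (.v (nat_lit 2)))) (.and (.eq (.mul (.v (nat_lit 0)) (.v (nat_lit 2))) (.mul (.v (nat_lit 2)) (.v (nat_lit 0)))) (.and (.eq (.mul (.v (nat_lit 0)) (.v (nat_lit 1))) (.mul (.v (nat_lit 1)) (.v (nat_lit 0)))) (.and (.eq (.mul (.v (nat_lit 0)) (.v (nat_lit 4))) (.mul (.v (nat_lit 4)) (.v (nat_lit 0)))) (.and (.eq (.mul (.v (nat_lit 0)) (.v (nat_lit 3))) (.mul (.v (nat_lit 3)) (.v (nat_lit 0)))) (.and (.eq (.mul (.v (nat_lit 0)) (.v (nat_lit 5))) (.mul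 (.v (nat_lit 5)) (.v (nat_lit 0)))) (.and (.eq (.mul (.v (nat_lit 2)) (.v (nat_lit 4))) (.mul (.v (nat_lit 4)) (.v (nat_lit 2)))) (.and (.eq (.mul (.v (nat_lit 1)) (.v (nat_lit 3))) (.mul (.v (nat_lit 3)) (.v (nat_lit 1)))) (.and (.eq (.mul (.v (nat_lit 4)) (.v (nat_lit 3))) (.mul (.v (nat_lit 3)) (.v (nat_lit 4)))) (.and (.eq (.mul (.mul (.v (nat_lit 3)) (.v (nat_lit 2))) (.v (nat_lit 3))) (.mul (.v (nat_lit 2)) (.v (nat_lit 0)))) (.and (.eq (.mul (.mul (.v (nat_lit 4)) (.v (nat_lit 1))) (.v (nat_lit 4))) (.mul (.v (nat_lit 1)) (.v (nat_lit 0)))) (.and (.eq (.mul (.v (nat_lit 5)) (.v (nat_lit 2))) (.mul (.v (nat_lit 2)) (.v (nat_lit 5)))) (.and (.eq (.mul (.mul (.v (nat_lit 4)) (.v (nat_lit 5))) (.v (nat_lit 4))) (.mul (.v (nat_lit 5)) (.v (nat_lit 2)))) (.and (.eq (.mul (.v (nat_lit 5)) (.v (nat_lit 1))) (.mul (.v (nat_lit 1)) (.v (nat_lit 5)))) (.eq (.mul (.mul (.v (nat_lit 3)) (.v (nat_lit 5)))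 (.v (nat_lit 3))) (.mul (.v (nat_lit 5)) (.v (nat_lit 1)))))))))))))))))))))))))
theorem HA_T2_f_chk : Fm.chk HA_o HA_T2_f_F HA_cs = true := by decide +kernel
theorem HA_T2_f {G : Type*} [Group G] {R : ℕ → G → Prop} {z u v a b r x : G} {H : Subgroup G}
    (M : Mdl HA_o HA_cs HA_L R [z, u, v, a, b, r, x, x⁻¹] H) :
    z * z = 1 ∧ v * v = 1 ∧ u * u = 1 ∧ b * b = 1 ∧ a * a = 1 ∧ r * r = 1 ∧ v * u = u * v ∧ z * v = v * z ∧ z * u = u * z ∧ z * b = b * z ∧ z * a = a * z ∧ z * r = r * z ∧ v * b = b * v ∧ u * a = a * u ∧ b * a = a * b ∧ a * v * a = v * z ∧ b * u * b = u * z ∧ r * v = v * r ∧ b * r * b = r * v ∧ r * u = u * r ∧ a * r * a = r * u :=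
  Fm.sound M.μ HA_T2_f_F HA_T2_f_chk M.reps
theorem HA_T2 {G : Type*} [Group G] {R : ℕ → G → Prop} {z u v a b r x : G} {H : Subgroup G}
    (M : Mdl HA_o HA_cs HA_L R [z, u, v, a, b, r, x, x⁻¹] H) :
    TA z v u b a r :=
  have h := HA_T2_f M
  ⟨h.1, h.2.1, h.2.2.1, h.2.2.2.1, h.2.2.2.2.1, h.2.2.2.2.2.1, h.2.2.2.2.2.2.1, h.2.2.2.2.2.2.2.1, h.2.2.2.2.2.2.2.2.1, h.2.2.2.2.2.2.2.2.2.1, h.2.2.2.2.2.2.2.2.2.2.1, h.2.2.2.2.2.2.2.2.2.2.2.1, h.2.2.2.2.2.2.2.2.2.2.2.2.1, h.2.2.2.2.2.2.2.2.2.2.2.2.2.1, h.2.2.2.2.2.2.2.2.2.2.2.2.2.2.1, h.2.2.2.2.2.2.2.2.2.2.2.2.2.2.2.1, h.2.2.2.2.2.2.2.2.2.2.2.2.2.2.2.2.1, h.2.2.2.2.2.2.2.2.2.2.2.2.2.2.2.2.2.1, h.2.2.2.2.2.2.2.2.2.2.2.2.2.2.2.2.2.2.1, h.2.2.2.2.2.2.2.2.2.2.2.2.2.2.2.2.2.2.2.1, h.2.2.2.2.2.2.2.2.2.2.2.2.2.2.2.2.2.2.2.2, trivial⟩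
noncomputable def HA_sq_f_F : Fm := (.qf (.and (.eq (.mul (.v (nat_lit 0)) (.v (nat_lit 0))) .one) (.and (.eq (.mul (.v (nat_lit 2)) (.v (nat_lit 2))) .one) (.and (.eq (.mul (.v (nat_lit 1)) (.v (nat_lit 1))) .one) (.and (.eq (.mul (.v (nat_lit 4)) (.v (nat_lit 4))) .one) (.and (.eq (.mul (.v (nat_lit 3)) (.v (nat_lit 3))) .one) (.and (.eq (.pw (.v (nat_lit 6)) (nat_lit 3)) .one) (.and (.eq (.mul (.mul (.v (nat_lit 6)) (.v (nat_lit 2))) (.v (nat_lit 7))) (.v (nat_lit 4))) (.and (.eq (.mul (.mul (.v (nat_lit 6)) (.v (nat_lit 1))) (.v (nat_lit 7))) (.v (nat_lit 3))) (.and (.eq (.pw (.mul (.v (nat_lit 2)) (.v (nat_lit 6))) (nat_lit 3)) .one) (.and (.eq (.pw (.mul (.v (nat_lit 1)) (.v (nat_lit 6))) (nat_lit 3)) .one) (.and (.eq (.mul (.v (nat_lit 2)) (.v (nat_lit 1))) (.mul (.v (nat_lit 1)) (.v (nat_lit 2)))) (.and (.eq (.mul (.mul (.mul (.v (nat_lit 2)) (.v (nat_lit 3))) (.inv (.v (nat_lit 2)))) (.inv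 (.v (nat_lit 3)))) (.v (nat_lit 0))) (.and (.eq (.mul (.v (nat_lit 0)) (.v (nat_lit 6))) (.mul (.v (nat_lit 6)) (.v (nat_lit 0)))) (.and (.eq (.mul (.v (nat_lit 0)) (.v (nat_lit 2))) (.mul (.v (nat_lit 2)) (.v (nat_lit 0)))) (.eq (.mul (.v (nat_lit 0)) (.v (nat_lit 1))) (.mul (.v (nat_lit 1)) (.v (nat_lit 0)))))))))))))))))))
theorem HA_sq_f_chk : Fm.chk HA_o HA_sq_f_F HA_cs = true := by decide +kernel
theorem HA_sq_f {G : Type*} [Group G] {R : ℕ → G → Prop} {z u v a b r x : G} {H : Subgroup G}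
    (M : Mdl HA_o HA_cs HA_L R [z, u, v, a, b, r, x, x⁻¹] H) :
    z * z = 1 ∧ v * v = 1 ∧ u * u = 1 ∧ b * b = 1 ∧ a * a = 1 ∧ x ^ 3 = 1 ∧ x * v * x⁻¹ = b ∧ x * u * x⁻¹ = a ∧ (v * x) ^ 3 = 1 ∧ (u * x) ^ 3 = 1 ∧ v * u = u * v ∧ ⁅v, a⁆ = z ∧ z * x = x * z ∧ z * v = v * z ∧ z * u = u * z :=
  Fm.sound M.μ HA_sq_f_F HA_sq_f_chk M.reps
theorem HA_sq {G : Type*} [Group G] {R : ℕ → G → Prop} {z u v a b r x : G} {H : Subgroup G}
    (M : Mdl HA_o HA_cs HA_L R [z, u, v, a, b, r, x, x⁻¹] H) :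
    Q3 z v u b a x :=
  have h := HA_sq_f M
  ⟨h.1, h.2.1, h.2.2.1, h.2.2.2.1, h.2.2.2.2.1, h.2.2.2.2.2.1, h.2.2.2.2.2.2.1, h.2.2.2.2.2.2.2.1, h.2.2.2.2.2.2.2.2.1, h.2.2.2.2.2.2.2.2.2.1, h.2.2.2.2.2.2.2.2.2.2.1, h.2.2.2.2.2.2.2.2.2.2.2.1, h.2.2.2.2.2.2.2.2.2.2.2.2.1, h.2.2.2.2.2.2.2.2.2.2.2.2.2.1, h.2.2.2.2.2.2.2.2.2.2.2.2.2.2, trivial⟩
noncomputable def HA_sk_f_F : Fm := (.qf (.and (.eq (.mul (.v (nat_lit 5)) (.v (nat_lit 5))) .one) (.and (.eq (.mul (.mul (.v (nat_lit 5)) (.v (nat_lit 6))) (.inv (.v (nat_lit 5)))) (.v (nat_lit 7))) (.and (.eq (.mul (.v (nat_lit 5)) (.v (nat_lit 2))) (.mul (.v (nat_lit 2)) (.v (nat_lit 5)))) (.and (.eq (.mul (.mul (.v (nat_lit 5)) (.v (nat_lit 1))) (.inv (.v (nat_lit 5)))) (.v (nat_lit 1))) (.eq (.mul (.v (nat_lit 5)) (.v (nat_lit 0))) (.mul (.v (nat_lit 0)) (.v (nat_lit 5)))))))))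
theorem HA_sk_f_chk : Fm.chk HA_o HA_sk_f_F HA_cs = true := by decide +kernel
theorem HA_sk_f {G : Type*} [Group G] {R : ℕ → G → Prop} {z u v a b r x : G} {H : Subgroup G}
    (M : Mdl HA_o HA_cs HA_L R [z, u, v, a, b, r, x, x⁻¹] H) :
    r * r = 1 ∧ r * x * r⁻¹ = x⁻¹ ∧ r * v = v * r ∧ r * u * r⁻¹ = u ∧ r * z = z * r :=
  Fm.sound M.μ HA_sk_f_F HA_sk_f_chk M.reps
theorem HA_sk {G : Type*} [Group G] {R : ℕ → G → Prop} {z u v a b r x : G} {H : Subgroup G}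
    (M : Mdl HA_o HA_cs HA_L R [z, u, v, a, b, r, x, x⁻¹] H) :
    RA z v u r x :=
  have h := HA_sk_f M
  ⟨h.1, h.2.1, h.2.2.1, h.2.2.2.1, h.2.2.2.2, trivial⟩
noncomputable def HA_wq_f_F : Fm := (.qf (.and (.eq (.mul (.v (nat_lit 0)) (.v (nat_lit 0))) .one) (.and (.eq (.mul (.v (nat_lit 1)) (.v (nat_lit 1))) .one) (.and (.eq (.mul (.mul (.mul (.v (nat_lit 1)) (.v (nat_lit 2))) (.v (nat_lit 0))) (.mul (.mul (.v (nat_lit 1)) (.v (nat_lit 2))) (.v (nat_lit 0)))) .one) (.and (.eq (.mul (.v (nat_lit 3)) (.v (nat_lit 3))) .one) (.and (.eq (.mul (.mul (.mul (.v (nat_lit 3)) (.v (nat_lit 4))) (.v (nat_lit 0))) (.mul (.mul (.v (nat_lit 3)) (.v (nat_lit 4))) (.v (nat_lit 0)))) .one) (.and (.eq (.pw (.v (nat_lit 6)) (nat_lit 3)) .one) (.and (.eq (.mul (.mul (.v (nat_lit 6)) (.v (nat_lit 1))) (.v (nat_lit 7))) (.v (nat_lit 3))) (.and (.eq (.mul (.mul (.v (nat_lit 6)) (.mul (.mul (.v (nat_lit 1)) (.v (nat_lit 2)))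 (.v (nat_lit 0)))) (.v (nat_lit 7))) (.mul (.mul (.v (nat_lit 3)) (.v (nat_lit 4))) (.v (nat_lit 0)))) (.and (.eq (.pw (.mul (.v (nat_lit 1)) (.v (nat_lit 6))) (nat_lit 3)) .one) (.and (.eq (.pw (.mul (.mul (.mul (.v (nat_lit 1)) (.v (nat_lit 2))) (.v (nat_lit 0))) (.v (nat_lit 6))) (nat_lit 3)) .one) (.and (.eq (.mul (.v (nat_lit 1)) (.mul (.mul (.v (nat_lit 1)) (.v (nat_lit 2))) (.v (nat_lit 0)))) (.mul (.mul (.mul (.v (nat_lit 1)) (.v (nat_lit 2))) (.v (nat_lit 0))) (.v (nat_lit 1)))) (.and (.eq (.mul (.mul (.mul (.v (nat_lit 1)) (.mul (.mul (.v (nat_lit 3)) (.v (nat_lit 4))) (.v (nat_lit 0)))) (.inv (.v (nat_lit 1)))) (.inv (.mul (.mul (.v (nat_lit 3)) (.v (nat_lit 4))) (.v (nat_lit 0))))) (.v (nat_lit 0))) (.and (.eq (.mul (.v (nat_lit 0)) (.v (nat_lit 6))) (.mul (.v (nat_lit 6)) (.v (nat_lit 0)))) (.and (.eq (.mul (.v (nat_lit 0)) (.v (nat_lit 1))) (.mul (.v (nat_lit 1)) (.v (nat_lit 0)))) (.eq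 (.mul (.v (nat_lit 0)) (.mul (.mul (.v (nat_lit 1)) (.v (nat_lit 2))) (.v (nat_lit 0)))) (.mul (.mul (.mul (.v (nat_lit 1)) (.v (nat_lit 2))) (.v (nat_lit 0))) (.v (nat_lit 0)))))))))))))))))))
theorem HA_wq_f_chk : Fm.chk HA_o HA_wq_f_F HA_cs = true := by decide +kernel
theorem HA_wq_f {G : Type*} [Group G] {R : ℕ → G → Prop} {z u v a b r x : G} {H : Subgroup G}
    (M : Mdl HA_o HA_cs HA_L R [z, u, v, a, b, r, x, x⁻¹] H) :
    z * z = 1 ∧ u * u = 1 ∧ u * v * z * (u * v * z) = 1 ∧ a * a = 1 ∧ a * b * z * (a * b * z) = 1 ∧ x ^ 3 = 1 ∧ x * u * x⁻¹ = a ∧ x * (u * v * z) * x⁻¹ = a * b * z ∧ (u * x) ^ 3 = 1 ∧ (u * v * z * x) ^ 3 = 1 ∧ u * (u * v * z) = u * v * z * u ∧ ⁅u, a * b * z⁆ = z ∧ z * x = x * z ∧ z * u = u * z ∧ z * (u * v * z) = u * v * z * z :=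
  Fm.sound M.μ HA_wq_f_F HA_wq_f_chk M.reps
theorem HA_wq {G : Type*} [Group G] {R : ℕ → G → Prop} {z u v a b r x : G} {H : Subgroup G}
    (M : Mdl HA_o HA_cs HA_L R [z, u, v, a, b, r, x, x⁻¹] H) :
    Q3 z u (u * v * z) a (a * b * z) x :=
  have h := HA_wq_f M
  ⟨h.1, h.2.1, h.2.2.1, h.2.2.2.1, h.2.2.2.2.1, h.2.2.2.2.2.1, h.2.2.2.2.2.2.1, h.2.2.2.2.2.2.2.1, h.2.2.2.2.2.2.2.2.1, h.2.2.2.2.2.2.2.2.2.1, h.2.2.2.2.2.2.2.2.2.2.1, h.2.2.2.2.2.2.2.2.2.2.2.1, h.2.2.2.2.2.2.2.2.2.2.2.2.1, h.2.2.2.2.2.2.2.2.2.2.2.2.2.1, h.2.2.2.2.2.2.2.2.2.2.2.2.2.2, trivial⟩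
noncomputable def HA_wk_f_F : Fm := (.qf (.and (.eq (.mul (.v (nat_lit 5)) (.v (nat_lit 5))) .one) (.and (.eq (.mul (.mul (.v (nat_lit 5)) (.v (nat_lit 6))) (.inv (.v (nat_lit 5)))) (.v (nat_lit 7))) (.and (.eq (.mul (.v (nat_lit 5)) (.v (nat_lit 1))) (.mul (.v (nat_lit 1)) (.v (nat_lit 5)))) (.and (.eq (.mul (.mul (.v (nat_lit 5)) (.mul (.mul (.v (nat_lit 1)) (.v (nat_lit 2))) (.v (nat_lit 0)))) (.inv (.v (nat_lit 5)))) (.mul (.mul (.v (nat_lit 1)) (.v (nat_lit 2))) (.v (nat_lit 0)))) (.eq (.mul (.v (nat_lit 5)) (.v (nat_lit 0))) (.mul (.v (nat_lit 0)) (.v (nat_lit 5)))))))))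
theorem HA_wk_f_chk : Fm.chk HA_o HA_wk_f_F HA_cs = true := by decide +kernel
theorem HA_wk_f {G : Type*} [Group G] {R : ℕ → G → Prop} {z u v a b r x : G} {H : Subgroup G}
    (M : Mdl HA_o HA_cs HA_L R [z, u, v, a, b, r, x, x⁻¹] H) :
    r * r = 1 ∧ r * x * r⁻¹ = x⁻¹ ∧ r * u = u * r ∧ r * (u * v * z) * r⁻¹ = u * v * z ∧ r * z = z * r :=
  Fm.sound M.μ HA_wk_f_F HA_wk_f_chk M.reps
theorem HA_wk {G : Type*} [Group G] {R : ℕ → G → Prop} {z u v a b r x : G} {H : Subgroup G}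
    (M : Mdl HA_o HA_cs HA_L R [z, u, v, a, b, r, x, x⁻¹] H) :
    RA z u (u * v * z) r x :=
  have h := HA_wk_f M
  ⟨h.1, h.2.1, h.2.2.1, h.2.2.2.1, h.2.2.2.2, trivial⟩
noncomputable def HA_rz_f_F : Fm := (.qf (.and (.eq (.mul (.mul (.v (nat_lit 5)) (.v (nat_lit 0))) (.mul (.v (nat_lit 5)) (.v (nat_lit 0)))) .one) (.and (.eq (.mul (.mul (.mul (.v (nat_lit 5)) (.v (nat_lit 0))) (.v (nat_lit 6))) (.inv (.mul (.v (nat_lit 5)) (.v (nat_lit 0))))) (.v (nat_lit 7))) (.and (.eq (.mul (.mul (.v (nat_lit 5)) (.v (nat_lit 0))) (.v (nat_lit 1))) (.mul (.v (nat_lit 1)) (.mul (.v (nat_lit 5)) (.v (nat_lit 0))))) (.and (.eq (.mul (.mul (.mul (.v (nat_lit 5)) (.v (nat_lit 0))) (.v (nat_lit 2))) (.inv (.mul (.v (nat_lit 5)) (.v (nat_lit 0))))) (.v (nat_lit 2))) (.eq (.mul (.mul (.v (nat_lit 5)) (.v (nat_lit 0))) (.v (nat_lit 0))) (.mul (.v (nat_lit 0)) (.mul (.v (nat_lit 5)) (.v (nat_lit 0))))))))))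
theorem HA_rz_f_chk : Fm.chk HA_o HA_rz_f_F HA_cs = true := by decide +kernel
theorem HA_rz_f {G : Type*} [Group G] {R : ℕ → G → Prop} {z u v a b r x : G} {H : Subgroup G}
    (M : Mdl HA_o HA_cs HA_L R [z, u, v, a, b, r, x, x⁻¹] H) :
    r * z * (r * z) = 1 ∧ r * z * x * (r * z)⁻¹ = x⁻¹ ∧ r * z * u = u * (r * z) ∧ r * z * v * (r * z)⁻¹ = v ∧ r * z * z = z * (r * z) :=
  Fm.sound M.μ HA_rz_f_F HA_rz_f_chk M.reps
theorem HA_rz {G : Type*} [Group G] {R : ℕ → G → Prop} {z u v a b r x : G} {H : Subgroup G}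
    (M : Mdl HA_o HA_cs HA_L R [z, u, v, a, b, r, x, x⁻¹] H) :
    RA z u v (r * z) x :=
  have h := HA_rz_f M
  ⟨h.1, h.2.1, h.2.2.1, h.2.2.2.1, h.2.2.2.2, trivial⟩
noncomputable def HA_cQ_F : Fm := (.all HA_L (.imp (.eq (.mul (.v (nat_lit 0)) (.v (nat_lit 2))) (.mul (.v (nat_lit 2)) (.v (nat_lit 0)))) (.imp (.eq (.mul (.v (nat_lit 0)) (.v (nat_lit 3))) (.mul (.v (nat_lit 3)) (.v (nat_lit 0)))) (.imp (.eq (.mul (.v (nat_lit 0)) (.v (nat_lit 4))) (.mul (.v (nat_lit 4)) (.v (nat_lit 0)))) (.imp (.eq (.mul (.v (nat_lit 0)) (.v (nat_lit 5))) (.mul (.v (nat_lit 5)) (.v (nat_lit 0)))) (.qf (.mem (.v (nat_lit 0)) HA_lQ)))))))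
theorem HA_cQ_chk : Fm.chk HA_o HA_cQ_F HA_cs = true := by decide +kernel
theorem HA_cQ {G : Type*} [Group G] {R : ℕ → G → Prop} {z u v a b r x : G} {H : Subgroup G}
    (M : Mdl HA_o HA_cs HA_L R [z, u, v, a, b, r, x, x⁻¹] H) :
    ∀ y ∈ H, y * u = u * y → y * v = v * y → y * a = a * y → y * b = b * y → y ∈ sp [z, u, v, a, b] :=
  have h : ∀ y, InL HA_o R HA_L y → y * u = u * y → y * v = v * y → y * a = a * y → y * b = b * y → InS R HA_lQ (y) :=
    Fm.sound M.μ HA_cQ_F HA_cQ_chk M.reps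
  (fun y h0 => (fun h1 => (fun h2 => (fun h3 => (fun h4 => ((HA_lQ_E M).iff.1 (((((h y (M.H.iff.2 h0)) h1) h2) h3) h4)))))))
noncomputable def HA_nQ_F : Fm := (.all HA_L (.allS HA_lQ (.qf (.mem (.mul (.mul (.v (nat_lit 1)) (.v (nat_lit 0))) (.inv (.v (nat_lit 1)))) HA_lQ))))
theorem HA_nQ_chk : Fm.chk HA_o HA_nQ_F HA_cs = true := by decide +kernel
theorem HA_nQ {G : Type*} [Group G] {R : ℕ → G → Prop} {z u v a b r x : G} {H : Subgroup G}
    (M : Mdl HA_o HA_cs HA_L R [z, u, v, a, b, r, x, x⁻¹] H) :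
    ∀ y ∈ H, ∀ e ∈ sp [z, u, v, a, b], y * e * y⁻¹ ∈ sp [z, u, v, a, b] :=
  have h : ∀ y, InL HA_o R HA_L y → ∀ e, InS R HA_lQ e → InS R HA_lQ (y * e * y⁻¹) :=
    Fm.sound M.μ HA_nQ_F HA_nQ_chk M.reps
  (fun y h0 => (fun e h1 => ((HA_lQ_E M).iff.1 ((h y (M.H.iff.2 h0)) e ((HA_lQ_E M).iff.2 h1)))))
noncomputable def HA_R0_F : Fm := (.all HA_L (.imp (.eq (.mul (.v (nat_lit 0)) (.v (nat_lit 2))) (.mul (.v (nat_lit 2)) (.v (nat_lit 0)))) (.qf (.mem (.v (nat_lit 0)) HA_lR0))))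
theorem HA_R0_chk : Fm.chk HA_o HA_R0_F HA_cs = true := by decide +kernel
theorem HA_R0 {G : Type*} [Group G] {R : ℕ → G → Prop} {z u v a b r x : G} {H : Subgroup G}
    (M : Mdl HA_o HA_cs HA_L R [z, u, v, a, b, r, x, x⁻¹] H) :
    ∀ y ∈ H, y * u = u * y → y ∈ sp [z, u, v, a, r] :=
  have h : ∀ y, InL HA_o R HA_L y → y * u = u * y → InS R HA_lR0 (y) :=
    Fm.sound M.μ HA_R0_F HA_R0_chk M.reps
  (fun y h0 => (fun h1 => ((HA_lR0_E M).iff.1 ((h y (M.H.iff.2 h0)) h1))))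
noncomputable def HA_clsQ_t0 : ST := (.node (nat_lit 51) (.node (nat_lit 21) (.node (nat_lit 16) (.node (nat_lit 14) (.leaf (nat_lit 152)) (.leaf (nat_lit 8))) (.node (nat_lit 17) (.leaf (nat_lit 0)) (.leaf (nat_lit 4)))) (.node (nat_lit 40) (.node (nat_lit 22) (.leaf (nat_lit 152)) (.leaf (nat_lit 104))) (.node (nat_lit 41) (.leaf (nat_lit 8)) (.leaf (nat_lit 60))))) (.node (nat_lit 67) (.node (nat_lit 63) (.node (nat_lit 52) (.leaf (nat_lit 24)) (.leaf (nat_lit 56))) (.node (nat_lit 66) (.leaf (nat_lit 8)) (.leaf (nat_lit 24)))) (.node (nat_lit 80) (.node (nat_lit 71) (.leaf (nat_lit 0)) (.leaf (nat_lit 104))) (.node (nat_lit 81) (.leaf (nat_lit 56)) (.node (nat_lit 82) (.leaf (nat_lit 12)) (.leaf (nat_lit 0)))))))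
noncomputable def HA_clsQ_F : Fm := (.allS HA_lQ (.imp (.eq (.mul (.v (nat_lit 0)) (.v (nat_lit 0))) .one) (.or (.qf (.eq (.v (nat_lit 0)) .one)) (.or (.qf (.eq (.v (nat_lit 0)) (.v (nat_lit 1)))) (.exF HA_L (fun cs => HA_clsQ_t0.find (Nat.mod (nth (nat_lit 0) cs (nat_lit 0)) (nat_lit 88))) (.qf (.or (.eq (.mul (.mul (.v (nat_lit 0)) (.v (nat_lit 1))) (.inv (.v (nat_lit 0)))) (.v (nat_lit 3))) (.or (.eq (.mul (.mul (.v (nat_lit 0)) (.v (nat_lit 1))) (.inv (.v (nat_lit 0)))) (.v (nat_lit 4))) (.eq (.mul (.mul (.v (nat_lit 0)) (.v (nat_lit 1))) (.inv (.v (nat_lit 0)))) (.mul (.mul (.v (nat_lit 3)) (.v (nat_lit 4))) (.v (nat_lit 2))))))))))))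
theorem HA_clsQ_chk : Fm.chk HA_o HA_clsQ_F HA_cs = true := by decide +kernel
theorem HA_clsQ {G : Type*} [Group G] {R : ℕ → G → Prop} {z u v a b r x : G} {H : Subgroup G}
    (M : Mdl HA_o HA_cs HA_L R [z, u, v, a, b, r, x, x⁻¹] H) :
    ∀ y ∈ sp [z, u, v, a, b], y * y = 1 → y = 1 ∨ y = z ∨ (∃ h ∈ H, h * y * h⁻¹ = u ∨ h * y * h⁻¹ = v ∨ h * y * h⁻¹ = u * v * z) :=
  have h : ∀ y, InS R HA_lQ y → y * y = 1 → y = 1 ∨ y = z ∨ (Good HA_o R HA_L → prods HA_o HA_L HA_o.one ≠ [] → ∃ h, InL HA_o R HA_L h ∧ (h * y * h⁻¹ = u ∨ h * y * h⁻¹ = v ∨ h * y * h⁻¹ = u * v * z)) :=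
    Fm.sound M.μ HA_clsQ_F HA_clsQ_chk M.reps
  (fun y h0 => (fun h1 => (Or.imp (fun h2 => h2) (fun h2 => (Or.imp (fun h3 => h3) (fun h3 => (Exists.imp (fun h h4 => ⟨M.H.iff.1 h4.1, h4.2⟩) (h3 M.H.good M.H.ne))) h2)) ((h y ((HA_lQ_E M).iff.2 h0)) h1))))
noncomputable def HA_cls_t0 : ST := (.node (nat_lit 127) (.node (nat_lit 72) (.node (nat_lit 41) (.node (nat_lit 21) (.node (nat_lit 14) (.leaf (nat_lit 56)) (.leaf (nat_lit 0))) (.node (nat_lit 30) (.leaf (nat_lit 104)) (.node (nat_lit 36) (.leaf (nat_lit 28)) (.leaf (nat_lit 108))))) (.node (nat_lit 51) (.node (nat_lit 42) (.leaf (nat_lit 24)) (.leaf (nat_lit 60))) (.node (nat_lit 52) (.leaf (nat_lit 156)) (.node (nat_lit 57) (.leaf (nat_lit 104)) (.leaf (nat_lit 0)))))) (.node (nat_lit 91) (.node (nat_lit 76) (.node (nat_lit 75) (.leaf (nat_lit 56)) (.leaf (nat_lit 12))) (.node (nat_lit 80) (.leaf (nat_lit 24)) (.node (nat_lit 81) (.leaf (nat_lit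 12)) (.leaf (nat_lit 152))))) (.node (nat_lit 103) (.node (nat_lit 92) (.leaf (nat_lit 104)) (.leaf (nat_lit 4))) (.node (nat_lit 110) (.leaf (nat_lit 0)) (.node (nat_lit 118) (.leaf (nat_lit 60)) (.leaf (nat_lit 156))))))) (.node (nat_lit 241) (.node (nat_lit 202) (.node (nat_lit 170) (.node (nat_lit 158) (.leaf (nat_lit 60)) (.leaf (nat_lit 8))) (.node (nat_lit 195) (.leaf (nat_lit 0)) (.node (nat_lit 197) (.leaf (nat_lit 56)) (.leaf (nat_lit 8))))) (.node (nat_lit 225) (.node (nat_lit 211) (.leaf (nat_lit 104)) (.leaf (nat_lit 0))) (.node (nat_lit 227) (.leaf (nat_lit 8)) (.node (nat_lit 232) (.leaf (nat_lit 4)) (.leaf (nat_lit 24)))))) (.node (nat_lit 273) (.node (nat_lit 254) (.node (nat_lit 248) (.leaf (nat_lit 8)) (.leaf (nat_lit 4))) (.node (nat_lit 256) (.leaf (nat_lit 152)) (.node (nat_lit 263) (.leaf (nat_lit 12)) (.leaf (nat_lit 152))))) (.node (nat_lit 295) (.node (nat_lit 289) (.leaf (nat_lit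 24)) (.leaf (nat_lit 28))) (.node (nat_lit 308) (.leaf (nat_lit 108)) (.node (nat_lit 322) (.leaf (nat_lit 8)) (.leaf (nat_lit 152))))))))
noncomputable def HA_cls_F : Fm := (.all HA_L (.imp (.eq (.mul (.v (nat_lit 0)) (.v (nat_lit 0))) .one) (.or (.qf (.eq (.v (nat_lit 0)) .one)) (.or (.qf (.eq (.v (nat_lit 0)) (.v (nat_lit 1)))) (.exF HA_L (fun cs => HA_cls_t0.find (Nat.mod (nth (nat_lit 0) cs (nat_lit 0)) (nat_lit 326))) (.qf (.or (.eq (.mul (.mul (.v (nat_lit 0)) (.v (nat_lit 1))) (.inv (.v (nat_lit 0)))) (.v (nat_lit 3))) (.or (.eq (.mul (.mul (.v (nat_lit 0)) (.v (nat_lit 1))) (.inv (.v (nat_lit 0)))) (.v (nat_lit 4))) (.or (.eq (.mul (.mul (.v (nat_lit 0)) (.v (nat_lit 1))) (.inv (.v (nat_lit 0)))) (.mul (.v (nat_lit 3)) (.v (nat_lit 4)))) (.or (.eq (.mul (.mul (.v (nat_lit 0)) (.v (nat_lit 1))) (.inv (.v (nat_lit 0)))) (.v (nat_lit 7))) (.eq (.mul (.mul (.v (nat_lit 0)) (.v (nat_lit 1))) (.inv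 (.v (nat_lit 0)))) (.mul (.v (nat_lit 7)) (.v (nat_lit 2))))))))))))))
theorem HA_cls_chk : Fm.chk HA_o HA_cls_F HA_cs = true := by decide +kernel
theorem HA_cls {G : Type*} [Group G] {R : ℕ → G → Prop} {z u v a b r x : G} {H : Subgroup G}
    (M : Mdl HA_o HA_cs HA_L R [z, u, v, a, b, r, x, x⁻¹] H) :
    ∀ y ∈ H, y * y = 1 → y = 1 ∨ y = z ∨ (∃ h ∈ H, h * y * h⁻¹ = u ∨ h * y * h⁻¹ = v ∨ h * y * h⁻¹ = u * v ∨ h * y * h⁻¹ = r ∨ h * y * h⁻¹ = r * z) :=
  have h : ∀ y, InL HA_o R HA_L y → y * y = 1 → y = 1 ∨ y = z ∨ (Good HA_o R HA_L → prods HA_o HA_L HA_o.one ≠ [] → ∃ h, InL HA_o R HA_L h ∧ (h * y * h⁻¹ = u ∨ h * y * h⁻¹ = v ∨ h * y * h⁻¹ = u * v ∨ h * y * h⁻¹ = r ∨ h * y * h⁻¹ = r * z)) :=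
    Fm.sound M.μ HA_cls_F HA_cls_chk M.reps
  (fun y h0 => (fun h1 => (Or.imp (fun h2 => h2) (fun h2 => (Or.imp (fun h3 => h3) (fun h3 => (Exists.imp (fun h h4 => ⟨M.H.iff.1 h4.1, h4.2⟩) (h3 M.H.good M.H.ne))) h2)) ((h y (M.H.iff.2 h0)) h1))))
noncomputable def HA_clsE_t0 : ST := (.node (nat_lit 31) (.node (nat_lit 15) (.node (nat_lit 10) (.node (nat_lit 4) (.node (nat_lit 2) (.leaf (nat_lit 108)) (.leaf (nat_lit 12))) (.node (nat_lit 8) (.leaf (nat_lit 156)) (.leaf (nat_lit 8)))) (.node (nat_lit 13) (.node (nat_lit 12) (.leaf (nat_lit 4)) (.leaf (nat_lit 152))) (.node (nat_lit 14) (.leaf (nat_lit 104)) (.leaf (nat_lit 8))))) (.node (nat_lit 23) (.node (nat_lit 20) (.node (nat_lit 18) (.leaf (nat_lit 60)) (.leaf (nat_lit 24))) (.node (nat_lit 22) (.leaf (nat_lit 56)) (.leaf (nat_lit 0)))) (.node (nat_lit 28) (.node (nat_lit 27) (.leaf (nat_lit 156)) (.leaf (nat_lit 104))) (.node (nat_lit 29) (.leaf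 (nat_lit 0)) (.leaf (nat_lit 4)))))) (.node (nat_lit 43) (.node (nat_lit 36) (.node (nat_lit 33) (.node (nat_lit 32) (.leaf (nat_lit 60)) (.leaf (nat_lit 28))) (.node (nat_lit 34) (.leaf (nat_lit 8)) (.leaf (nat_lit 104)))) (.node (nat_lit 41) (.node (nat_lit 40) (.leaf (nat_lit 56)) (.leaf (nat_lit 0))) (.node (nat_lit 42) (.leaf (nat_lit 24)) (.leaf (nat_lit 56))))) (.node (nat_lit 51) (.node (nat_lit 47) (.node (nat_lit 44) (.leaf (nat_lit 12)) (.leaf (nat_lit 108))) (.node (nat_lit 49) (.leaf (nat_lit 152)) (.leaf (nat_lit 12)))) (.node (nat_lit 58) (.node (nat_lit 55) (.leaf (nat_lit 28)) (.leaf (nat_lit 152))) (.node (nat_lit 59) (.leaf (nat_lit 60)) (.leaf (nat_lit 0)))))))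
noncomputable def HA_clsE_F : Fm := (.all HA_L (.imp (.eq (.mul (.v (nat_lit 0)) (.v (nat_lit 0))) .one) (.or (.qf (.mem (.v (nat_lit 0)) HA_lE1)) (.exF HA_L (fun cs => HA_clsE_t0.find (Nat.mod (nth (nat_lit 0) cs (nat_lit 0)) (nat_lit 62))) (.qf (.or (.eq (.mul (.mul (.v (nat_lit 0)) (.v (nat_lit 1))) (.inv (.v (nat_lit 0)))) (.v (nat_lit 4))) (.or (.eq (.mul (.mul (.v (nat_lit 0)) (.v (nat_lit 1))) (.inv (.v (nat_lit 0)))) (.mul (.mul (.v (nat_lit 3)) (.v (nat_lit 4))) (.v (nat_lit 2)))) (.or (.eq (.mul (.mul (.v (nat_lit 0)) (.v (nat_lit 1))) (.inv (.v (nat_lit 0)))) (.v (nat_lit 7))) (.eq (.mul (.mul (.v (nat_lit 0)) (.v (nat_lit 1))) (.inv (.v (nat_lit 0)))) (.mul (.v (nat_lit 7)) (.v (nat_lit 2))))))))))))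
theorem HA_clsE_chk : Fm.chk HA_o HA_clsE_F HA_cs = true := by decide +kernel
theorem HA_clsE {G : Type*} [Group G] {R : ℕ → G → Prop} {z u v a b r x : G} {H : Subgroup G}
    (M : Mdl HA_o HA_cs HA_L R [z, u, v, a, b, r, x, x⁻¹] H) :
    ∀ y ∈ H, y * y = 1 → y ∈ sp [z, u, a] ∨ (∃ h ∈ H, h * y * h⁻¹ = v ∨ h * y * h⁻¹ = u * v * z ∨ h * y * h⁻¹ = r ∨ h * y * h⁻¹ = r * z) :=
  have h : ∀ y, InL HA_o R HA_L y → y * y = 1 → InS R HA_lE1 (y) ∨ (Good HA_o R HA_L → prods HA_o HA_L HA_o.one ≠ [] → ∃ h, InL HA_o R HA_L h ∧ (h * y * h⁻¹ = v ∨ h * y * h⁻¹ = u * v * z ∨ h * y * h⁻¹ = r ∨ h * y * h⁻¹ = r * z)) :=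
    Fm.sound M.μ HA_clsE_F HA_clsE_chk M.reps
  (fun y h0 => (fun h1 => (Or.imp (fun h2 => ((HA_lE1_E M).iff.1 h2)) (fun h2 => (Exists.imp (fun h h3 => ⟨M.H.iff.1 h3.1, h3.2⟩) (h2 M.H.good M.H.ne))) ((h y (M.H.iff.2 h0)) h1))))
noncomputable def HA_E2_F : Fm := (.allS HA_lE1 (.qf (.eq (.mul (.v (nat_lit 0)) (.v (nat_lit 0))) .one)))
theorem HA_E2_chk : Fm.chk HA_o HA_E2_F HA_cs = true := by decide +kernel
theorem HA_E2 {G : Type*} [Group G] {R : ℕ → G → Prop} {z u v a b r x : G} {H : Subgroup G}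
    (M : Mdl HA_o HA_cs HA_L R [z, u, v, a, b, r, x, x⁻¹] H) :
    ∀ y ∈ sp [z, u, a], y * y = 1 :=
  have h : ∀ y, InS R HA_lE1 y → y * y = 1 :=
    Fm.sound M.μ HA_E2_F HA_E2_chk M.reps
  (fun y h0 => (h y ((HA_lE1_E M).iff.2 h0)))
noncomputable def HA_nE_F : Fm := (.all HA_L (.allS HA_lE1 (.qf (.mem (.mul (.mul (.v (nat_lit 1)) (.v (nat_lit 0))) (.inv (.v (nat_lit 1)))) HA_lE1))))
theorem HA_nE_chk : Fm.chk HA_o HA_nE_F HA_cs = true := by decide +kernel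
theorem HA_nE {G : Type*} [Group G] {R : ℕ → G → Prop} {z u v a b r x : G} {H : Subgroup G}
    (M : Mdl HA_o HA_cs HA_L R [z, u, v, a, b, r, x, x⁻¹] H) :
    ∀ y ∈ H, ∀ e ∈ sp [z, u, a], y * e * y⁻¹ ∈ sp [z, u, a] :=
  have h : ∀ y, InL HA_o R HA_L y → ∀ e, InS R HA_lE1 e → InS R HA_lE1 (y * e * y⁻¹) :=
    Fm.sound M.μ HA_nE_F HA_nE_chk M.reps
  (fun y h0 => (fun e h1 => ((HA_lE1_E M).iff.1 ((h y (M.H.iff.2 h0)) e ((HA_lE1_E M).iff.2 h1)))))
noncomputable def HA_cE_F : Fm := (.all HA_L (.imp (.eq (.mul (.v (nat_lit 0)) (.v (nat_lit 2))) (.mul (.v (nat_lit 2)) (.v (nat_lit 0)))) (.imp (.eq (.mul (.v (nat_lit 0)) (.v (nat_lit 4))) (.mul (.v (nat_lit 4)) (.v (nat_lit 0)))) (.qf (.mem (.v (nat_lit 0)) HA_lE1)))))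
theorem HA_cE_chk : Fm.chk HA_o HA_cE_F HA_cs = true := by decide +kernel
theorem HA_cE {G : Type*} [Group G] {R : ℕ → G → Prop} {z u v a b r x : G} {H : Subgroup G}
    (M : Mdl HA_o HA_cs HA_L R [z, u, v, a, b, r, x, x⁻¹] H) :
    ∀ y ∈ H, y * u = u * y → y * a = a * y → y ∈ sp [z, u, a] :=
  have h : ∀ y, InL HA_o R HA_L y → y * u = u * y → y * a = a * y → InS R HA_lE1 (y) :=
    Fm.sound M.μ HA_cE_F HA_cE_chk M.reps
  (fun y h0 => (fun h1 => (fun h2 => ((HA_lE1_E M).iff.1 (((h y (M.H.iff.2 h0)) h1) h2)))))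
noncomputable def HA_E1_t0 : ST := (.node (nat_lit 15) (.node (nat_lit 6) (.leaf (nat_lit 0)) (.node (nat_lit 12) (.leaf (nat_lit 40)) (.leaf (nat_lit 32)))) (.node (nat_lit 18) (.leaf (nat_lit 16)) (.node (nat_lit 21) (.leaf (nat_lit 24)) (.leaf (nat_lit 8)))))
noncomputable def HA_E1_F : Fm := (.allS HA_lE1 (.or (.qf (.eq (.v (nat_lit 0)) .one)) (.or (.qf (.eq (.v (nat_lit 0)) (.v (nat_lit 1)))) (.exF HA_L (fun cs => HA_E1_t0.find (Nat.mod (nth (nat_lit 0) cs (nat_lit 0)) (nat_lit 24))) (.qf (.eq (.mul (.mul (.v (nat_lit 0)) (.v (nat_lit 3))) (.inv (.v (nat_lit 0)))) (.v (nat_lit 1))))))))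
theorem HA_E1_chk : Fm.chk HA_o HA_E1_F HA_cs = true := by decide +kernel
theorem HA_E1 {G : Type*} [Group G] {R : ℕ → G → Prop} {z u v a b r x : G} {H : Subgroup G}
    (M : Mdl HA_o HA_cs HA_L R [z, u, v, a, b, r, x, x⁻¹] H) :
    ∀ e ∈ sp [z, u, a], e = 1 ∨ e = z ∨ (∃ h ∈ H, h * u * h⁻¹ = e) :=
  have h : ∀ e, InS R HA_lE1 e → e = 1 ∨ e = z ∨ (Good HA_o R HA_L → prods HA_o HA_L HA_o.one ≠ [] → ∃ h, InL HA_o R HA_L h ∧ h * u * h⁻¹ = e) :=
    Fm.sound M.μ HA_E1_F HA_E1_chk M.reps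
  (fun e h0 => (Or.imp (fun h1 => h1) (fun h1 => (Or.imp (fun h2 => h2) (fun h2 => (Exists.imp (fun h h3 => ⟨M.H.iff.1 h3.1, h3.2⟩) (h2 M.H.good M.H.ne))) h1)) (h e ((HA_lE1_E M).iff.2 h0))))
noncomputable def HA_F_F : Fm := (.all HA_L (.imp (.eq (.mul (.v (nat_lit 0)) (.v (nat_lit 2))) (.mul (.v (nat_lit 2)) (.v (nat_lit 0)))) (.imp (.eq (.mul (.v (nat_lit 0)) (.v (nat_lit 3))) (.mul (.v (nat_lit 3)) (.v (nat_lit 0)))) (.imp (.eq (.mul (.v (nat_lit 0)) (.v (nat_lit 6))) (.mul (.v (nat_lit 6)) (.v (nat_lit 0)))) (.qf (.or (.eq (.v (nat_lit 0)) .one) (.or (.eq (.v (nat_lit 0)) (.v (nat_lit 1))) (.or (.eq (.v (nat_lit 0)) (.v (nat_lit 2))) (.or (.eq (.v (nat_lit 0)) (.v (nat_lit 3))) (.or (.eq (.v (nat_lit 0)) (.v (nat_lit 6))) (.or (.eq (.v (nat_lit 0)) (.mul (.v (nat_lit 1)) (.v (nat_lit 2)))) (.or (.eq (.v (nat_lit 0)) (.mul (.v (nat_lit 1)) (.v (nat_lit 3)))) (.or (.eq (.v (nat_lit 0)) (.mul (.v (nat_lit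 1)) (.v (nat_lit 6)))) (.or (.eq (.v (nat_lit 0)) (.mul (.v (nat_lit 2)) (.v (nat_lit 3)))) (.or (.eq (.v (nat_lit 0)) (.mul (.v (nat_lit 2)) (.v (nat_lit 6)))) (.or (.eq (.v (nat_lit 0)) (.mul (.v (nat_lit 3)) (.v (nat_lit 6)))) (.or (.eq (.v (nat_lit 0)) (.mul (.mul (.v (nat_lit 1)) (.v (nat_lit 2))) (.v (nat_lit 3)))) (.or (.eq (.v (nat_lit 0)) (.mul (.mul (.v (nat_lit 1)) (.v (nat_lit 2))) (.v (nat_lit 6)))) (.or (.eq (.v (nat_lit 0)) (.mul (.mul (.v (nat_lit 1)) (.v (nat_lit 3))) (.v (nat_lit 6)))) (.or (.eq (.v (nat_lit 0)) (.mul (.mul (.v (nat_lit 2)) (.v (nat_lit 3))) (.v (nat_lit 6)))) (.eq (.v (nat_lit 0)) (.mul (.mul (.mul (.v (nat_lit 1)) (.v (nat_lit 2))) (.v (nat_lit 3))) (.v (nat_lit 6))))))))))))))))))))))))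
theorem HA_F_chk : Fm.chk HA_o HA_F_F HA_cs = true := by decide +kernel
theorem HA_F {G : Type*} [Group G] {R : ℕ → G → Prop} {z u v a b r x : G} {H : Subgroup G}
    (M : Mdl HA_o HA_cs HA_L R [z, u, v, a, b, r, x, x⁻¹] H) :
    ∀ y ∈ H, y * u = u * y → y * v = v * y → y * r = r * y → y = 1 ∨ y = z ∨ y = u ∨ y = v ∨ y = r ∨ y = z * u ∨ y = z * v ∨ y = z * r ∨ y = u * v ∨ y = u * r ∨ y = v * r ∨ y = z * u * v ∨ y = z * u * r ∨ y = z * v * r ∨ y = u * v * r ∨ y = z * u * v * r :=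
  have h : ∀ y, InL HA_o R HA_L y → y * u = u * y → y * v = v * y → y * r = r * y → y = 1 ∨ y = z ∨ y = u ∨ y = v ∨ y = r ∨ y = z * u ∨ y = z * v ∨ y = z * r ∨ y = u * v ∨ y = u * r ∨ y = v * r ∨ y = z * u * v ∨ y = z * u * r ∨ y = z * v * r ∨ y = u * v * r ∨ y = z * u * v * r :=
    Fm.sound M.μ HA_F_F HA_F_chk M.reps
  (fun y h0 => (h y (M.H.iff.2 h0)))
noncomputable def HA_E_F : Fm := (.all HA_L (.imp (.eq (.mul (.v (nat_lit 0)) (.v (nat_lit 2))) (.mul (.v (nat_lit 2)) (.v (nat_lit 0)))) (.imp (.eq (.mul (.v (nat_lit 0)) (.v (nat_lit 4))) (.mul (.v (nat_lit 4)) (.v (nat_lit 0)))) (.qf (.or (.eq (.v (nat_lit 0)) .one) (.or (.eq (.v (nat_lit 0)) (.v (nat_lit 1))) (.or (.eq (.v (nat_lit 0)) (.v (nat_lit 2))) (.or (.eq (.v (nat_lit 0)) (.v (nat_lit 4))) (.or (.eq (.v (nat_lit 0)) (.mul (.v (nat_lit 1)) (.v (nat_lit 2)))) (.or (.eq (.v (nat_lit 0)) (.mul (.v (nat_lit 1)) (.v (nat_lit 4)))) (.or (.eq (.v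 (nat_lit 0)) (.mul (.v (nat_lit 2)) (.v (nat_lit 4)))) (.eq (.v (nat_lit 0)) (.mul (.mul (.v (nat_lit 1)) (.v (nat_lit 2))) (.v (nat_lit 4)))))))))))))))
theorem HA_E_chk : Fm.chk HA_o HA_E_F HA_cs = true := by decide +kernel
theorem HA_E {G : Type*} [Group G] {R : ℕ → G → Prop} {z u v a b r x : G} {H : Subgroup G}
    (M : Mdl HA_o HA_cs HA_L R [z, u, v, a, b, r, x, x⁻¹] H) :
    ∀ y ∈ H, y * u = u * y → y * a = a * y → y = 1 ∨ y = z ∨ y = u ∨ y = a ∨ y = z * u ∨ y = z * a ∨ y = u * a ∨ y = z * u * a :=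
  have h : ∀ y, InL HA_o R HA_L y → y * u = u * y → y * a = a * y → y = 1 ∨ y = z ∨ y = u ∨ y = a ∨ y = z * u ∨ y = z * a ∨ y = u * a ∨ y = z * u * a :=
    Fm.sound M.μ HA_E_F HA_E_chk M.reps
  (fun y h0 => (h y (M.H.iff.2 h0)))
noncomputable def HA_3_F : Fm := (.all HA_L (.imp (.eq (.pw (.v (nat_lit 0)) (nat_lit 3)) .one) (.imp (.not (.eq (.v (nat_lit 0)) .one)) (.all HA_L (.imp (.eq (.mul (.v (nat_lit 0)) (.v (nat_lit 0))) .one) (.imp (.eq (.mul (.v (nat_lit 1)) (.v (nat_lit 0))) (.mul (.v (nat_lit 0)) (.v (nat_lit 1)))) (.qf (.or (.eq (.v (nat_lit 0)) .one) (.eq (.v (nat_lit 0)) (.v (nat_lit 2)))))))))))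
theorem HA_3_chk : Fm.chk HA_o HA_3_F HA_cs = true := by decide +kernel
theorem HA_3 {G : Type*} [Group G] {R : ℕ → G → Prop} {z u v a b r x : G} {H : Subgroup G}
    (M : Mdl HA_o HA_cs HA_L R [z, u, v, a, b, r, x, x⁻¹] H) :
    ∀ y ∈ H, y ^ 3 = 1 → y ≠ 1 → (∀ s ∈ H, s * s = 1 → y * s = s * y → s = 1 ∨ s = z) :=
  have h : ∀ y, InL HA_o R HA_L y → y ^ 3 = 1 → y ≠ 1 → (∀ s, InL HA_o R HA_L s → s * s = 1 → y * s = s * y → s = 1 ∨ s = z) :=
    Fm.sound M.μ HA_3_F HA_3_chk M.reps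
  (fun y h0 => (fun h1 => (fun h2 => (fun s h3 => ((((h y (M.H.iff.2 h0)) h1) h2) s (M.H.iff.2 h3))))))
noncomputable def HA_iso_F : Fm := (.all HA_L (.imp (.eq (.mul (.v (nat_lit 0)) (.v (nat_lit 0))) .one) (.imp (.not (.eq (.v (nat_lit 0)) .one)) (.imp (.not (.eq (.v (nat_lit 0)) (.v (nat_lit 1)))) (.all HA_L (.imp (.eq (.mul (.v (nat_lit 0)) (.v (nat_lit 1))) (.mul (.v (nat_lit 1)) (.v (nat_lit 0)))) (.qf (.eq (.pw (.v (nat_lit 0)) (nat_lit 4)) .one))))))))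
theorem HA_iso_chk : Fm.chk HA_o HA_iso_F HA_cs = true := by decide +kernel
theorem HA_iso {G : Type*} [Group G] {R : ℕ → G → Prop} {z u v a b r x : G} {H : Subgroup G}
    (M : Mdl HA_o HA_cs HA_L R [z, u, v, a, b, r, x, x⁻¹] H) :
    ∀ s ∈ H, s * s = 1 → s ≠ 1 → s ≠ z → (∀ y ∈ H, y * s = s * y → y ^ 4 = 1) :=
  have h : ∀ s, InL HA_o R HA_L s → s * s = 1 → s ≠ 1 → s ≠ z → (∀ y, InL HA_o R HA_L y → y * s = s * y → y ^ 4 = 1) :=
    Fm.sound M.μ HA_iso_F HA_iso_chk M.reps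
  (fun s h0 => (fun h1 => (fun h2 => (fun h3 => (fun y h4 => (((((h s (M.H.iff.2 h0)) h1) h2) h3) y (M.H.iff.2 h4)))))))
noncomputable def HA_ZS_F : Fm := (.all HA_L (.imp (.eq (.mul (.v (nat_lit 0)) (.mul (.v (nat_lit 2)) (.v (nat_lit 3)))) (.mul (.mul (.v (nat_lit 2)) (.v (nat_lit 3))) (.v (nat_lit 0)))) (.imp (.eq (.mul (.v (nat_lit 0)) (.v (nat_lit 2))) (.mul (.v (nat_lit 2)) (.v (nat_lit 0)))) (.imp (.eq (.mul (.v (nat_lit 0)) (.v (nat_lit 6))) (.mul (.v (nat_lit 6)) (.v (nat_lit 0)))) (.imp (.eq (.mul (.v (nat_lit 0)) (.mul (.v (nat_lit 4)) (.v (nat_lit 5)))) (.mul (.mul (.v (nat_lit 4)) (.v (nat_lit 5))) (.v (nat_lit 0)))) (.qf (.or (.eq (.v (nat_lit 0)) .one) (.or (.eq (.v (nat_lit 0)) (.v (nat_lit 1))) (.or (.eq (.v (nat_lit 0)) (.mul (.v (nat_lit 2)) (.v (nat_lit 3)))) (.eq (.v (nat_lit 0)) (.mul (.mul (.v (nat_lit 2)) (.v (nat_lit 3))) (.v (nat_lit 1)))))))))))))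
theorem HA_ZS_chk : Fm.chk HA_o HA_ZS_F HA_cs = true := by decide +kernel
theorem HA_ZS {G : Type*} [Group G] {R : ℕ → G → Prop} {z u v a b r x : G} {H : Subgroup G}
    (M : Mdl HA_o HA_cs HA_L R [z, u, v, a, b, r, x, x⁻¹] H) :
    ∀ y ∈ H, y * (u * v) = u * v * y → y * u = u * y → y * r = r * y → y * (a * b) = a * b * y → y = 1 ∨ y = z ∨ y = u * v ∨ y = u * v * z :=
  have h : ∀ y, InL HA_o R HA_L y → y * (u * v) = u * v * y → y * u = u * y → y * r = r * y → y * (a * b) = a * b * y → y = 1 ∨ y = z ∨ y = u * v ∨ y = u * v * z :=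
    Fm.sound M.μ HA_ZS_F HA_ZS_chk M.reps
  (fun y h0 => (h y (M.H.iff.2 h0)))
noncomputable def HA_is_t0 : ST := (.node (nat_lit 11) (.node (nat_lit 4) (.node (nat_lit 1) (.leaf (nat_lit 24)) (.leaf (nat_lit 0))) (.node (nat_lit 6) (.leaf (nat_lit 4)) (.leaf (nat_lit 24)))) (.node (nat_lit 13) (.node (nat_lit 12) (.leaf (nat_lit 4)) (.leaf (nat_lit 0))) (.node (nat_lit 14) (.leaf (nat_lit 24)) (.leaf (nat_lit 0)))))
noncomputable def HA_is_F : Fm := (.all HA_L (.imp (.eq (.mul (.v (nat_lit 0)) (.mul (.v (nat_lit 2)) (.v (nat_lit 3)))) (.mul (.mul (.v (nat_lit 2)) (.v (nat_lit 3))) (.v (nat_lit 0)))) (.imp (.eq (.mul (.v (nat_lit 0)) (.v (nat_lit 0))) .one) (.or (.qf (.or (.eq (.v (nat_lit 0)) (.mul (.mul (.v (nat_lit 1)) (.v (nat_lit 3))) (.v (nat_lit 6)))) (.eq (.v (nat_lit 0)) (.mul (.mul (.mul (.v (nat_lit 1)) (.v (nat_lit 3))) (.v (nat_lit 6))) (.mul (.v (nat_lit 2)) (.v (nat_lit 3))))))) (.or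 (.qf (.eq (.v (nat_lit 0)) .one)) (.or (.qf (.eq (.v (nat_lit 0)) (.mul (.v (nat_lit 2)) (.v (nat_lit 3))))) (.or (.qf (.eq (.v (nat_lit 0)) (.v (nat_lit 1)))) (.or (.qf (.eq (.mul (.v (nat_lit 0)) (.mul (.v (nat_lit 2)) (.v (nat_lit 3)))) (.v (nat_lit 1)))) (.or (.exF HA_L (fun cs => HA_is_t0.find (Nat.mod (nth (nat_lit 0) cs (nat_lit 0)) (nat_lit 22))) (.qf (.or (.or (.eq (.mul (.mul (.v (nat_lit 0)) (.v (nat_lit 1))) (.inv (.v (nat_lit 0)))) (.v (nat_lit 3))) (.or (.eq (.mul (.mul (.v (nat_lit 0)) (.v (nat_lit 1))) (.inv (.v (nat_lit 0)))) (.v (nat_lit 4))) (.eq (.mul (.mul (.v (nat_lit 0)) (.v (nat_lit 1))) (.inv (.v (nat_lit 0)))) (.v (nat_lit 7))))) (.or (.eq (.mul (.mul (.v (nat_lit 0)) (.mul (.v (nat_lit 1)) (.mul (.v (nat_lit 3)) (.v (nat_lit 4))))) (.inv (.v (nat_lit 0)))) (.v (nat_lit 3))) (.or (.eq (.mul (.mul (.v (nat_lit 0)) (.mul (.v (nat_lit 1)) (.mul (.v (nat_lit 3)) (.v (nat_lit 4)))))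 (.inv (.v (nat_lit 0)))) (.v (nat_lit 4))) (.eq (.mul (.mul (.v (nat_lit 0)) (.mul (.v (nat_lit 1)) (.mul (.v (nat_lit 3)) (.v (nat_lit 4))))) (.inv (.v (nat_lit 0)))) (.v (nat_lit 7)))))))) (.all HA_L (.imp (.eq (.mul (.v (nat_lit 0)) (.mul (.v (nat_lit 3)) (.v (nat_lit 4)))) (.mul (.mul (.v (nat_lit 3)) (.v (nat_lit 4))) (.v (nat_lit 0)))) (.imp (.eq (.mul (.v (nat_lit 0)) (.v (nat_lit 1))) (.mul (.v (nat_lit 1)) (.v (nat_lit 0)))) (.qf (.mem (.v (nat_lit 0)) HA_lE3))))))))))))))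
theorem HA_is_chk : Fm.chk HA_o HA_is_F HA_cs = true := by decide +kernel
theorem HA_is {G : Type*} [Group G] {R : ℕ → G → Prop} {z u v a b r x : G} {H : Subgroup G}
    (M : Mdl HA_o HA_cs HA_L R [z, u, v, a, b, r, x, x⁻¹] H) :
    ∀ y ∈ H, y * (u * v) = u * v * y → y * y = 1 → (y = z * v * r ∨ y = z * v * r * (u * v)) ∨ y = 1 ∨ y = u * v ∨ y = z ∨ y * (u * v) = z ∨ (∃ h ∈ H, (h * y * h⁻¹ = u ∨ h * y * h⁻¹ = v ∨ h * y * h⁻¹ = r) ∨ h * (y * (u * v)) * h⁻¹ = u ∨ h * (y * (u * v)) * h⁻¹ = v ∨ h * (y * (u * v)) * h⁻¹ = r) ∨ (∀ s ∈ H, s * (u * v) = u * v * s → s * y = y * s → s ∈ sp [z, u * v, a * b]) :=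
  have h : ∀ y, InL HA_o R HA_L y → y * (u * v) = u * v * y → y * y = 1 → (y = z * v * r ∨ y = z * v * r * (u * v)) ∨ y = 1 ∨ y = u * v ∨ y = z ∨ y * (u * v) = z ∨ (Good HA_o R HA_L → prods HA_o HA_L HA_o.one ≠ [] → ∃ h, InL HA_o R HA_L h ∧ ((h * y * h⁻¹ = u ∨ h * y * h⁻¹ = v ∨ h * y * h⁻¹ = r) ∨ h * (y * (u * v)) * h⁻¹ = u ∨ h * (y * (u * v)) * h⁻¹ = v ∨ h * (y * (u * v)) * h⁻¹ = r)) ∨ (∀ s, InL HA_o R HA_L s → s * (u * v) = u * v * s → s * y = y * s → InS R HA_lE3 (s)) :=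
    Fm.sound M.μ HA_is_F HA_is_chk M.reps
  (fun y h0 => (fun h1 => (fun h2 => (Or.imp (fun h3 => h3) (fun h3 => (Or.imp (fun h4 => h4) (fun h4 => (Or.imp (fun h5 => h5) (fun h5 => (Or.imp (fun h6 => h6) (fun h6 => (Or.imp (fun h7 => h7) (fun h7 => (Or.imp (fun h8 => (Exists.imp (fun h h9 => ⟨M.H.iff.1 h9.1, h9.2⟩) (h8 M.H.good M.H.ne))) (fun h8 => (fun s h9 => (fun h10 => (fun h11 => ((HA_lE3_E M).iff.1 (((h8 s (M.H.iff.2 h9)) h10) h11)))))) h7)) h6)) h5)) h4)) h3)) (((h y (M.H.iff.2 h0)) h1) h2)))))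
noncomputable def HA_E3_t0 : ST := (.node (nat_lit 11) (.node (nat_lit 3) (.leaf (nat_lit 4)) (.node (nat_lit 7) (.leaf (nat_lit 60)) (.leaf (nat_lit 8)))) (.node (nat_lit 15) (.leaf (nat_lit 12)) (.node (nat_lit 18) (.leaf (nat_lit 56)) (.leaf (nat_lit 0)))))
noncomputable def HA_E3_F : Fm := (.allS HA_lE3 (.and (.qf (.eq (.pw (.v (nat_lit 0)) (nat_lit 4)) .one)) (.or (.qf (.eq (.v (nat_lit 0)) .one)) (.or (.qf (.eq (.v (nat_lit 0)) (.v (nat_lit 1)))) (.exF HA_L (fun cs => HA_E3_t0.find (Nat.mod (nth (nat_lit 0) cs (nat_lit 0)) (nat_lit 23))) (.qf (.eq (.mul (.mul (.v (nat_lit 0)) (.v (nat_lit 1))) (.inv (.v (nat_lit 0)))) (.mul (.v (nat_lit 3)) (.v (nat_lit 4))))))))))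
theorem HA_E3_chk : Fm.chk HA_o HA_E3_F HA_cs = true := by decide +kernel
theorem HA_E3 {G : Type*} [Group G] {R : ℕ → G → Prop} {z u v a b r x : G} {H : Subgroup G}
    (M : Mdl HA_o HA_cs HA_L R [z, u, v, a, b, r, x, x⁻¹] H) :
    ∀ y ∈ sp [z, u * v, a * b], y ^ 4 = 1 ∧ (y = 1 ∨ y = z ∨ (∃ h ∈ H, h * y * h⁻¹ = u * v)) :=
  have h : ∀ y, InS R HA_lE3 y → y ^ 4 = 1 ∧ (y = 1 ∨ y = z ∨ (Good HA_o R HA_L → prods HA_o HA_L HA_o.one ≠ [] → ∃ h, InL HA_o R HA_L h ∧ h * y * h⁻¹ = u * v)) :=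
    Fm.sound M.μ HA_E3_F HA_E3_chk M.reps
  (fun y h0 => (And.imp (fun h1 => h1) (fun h1 => (Or.imp (fun h2 => h2) (fun h2 => (Or.imp (fun h3 => h3) (fun h3 => (Exists.imp (fun h h4 => ⟨M.H.iff.1 h4.1, h4.2⟩) (h3 M.H.good M.H.ne))) h2)) h1)) (h y ((HA_lE3_E M).iff.2 h0))))
noncomputable def HA_F4_F : Fm := (.allS HA_lF (.qf (.and (.eq (.pw (.v (nat_lit 0)) (nat_lit 4)) .one) (.and (.eq (.mul (.v (nat_lit 0)) (.mul (.v (nat_lit 2)) (.v (nat_lit 3)))) (.mul (.mul (.v (nat_lit 2)) (.v (nat_lit 3))) (.v (nat_lit 0)))) (.eq (.mul (.v (nat_lit 0)) (.mul (.mul (.v (nat_lit 1)) (.v (nat_lit 3))) (.v (nat_lit 6)))) (.mul (.mul (.mul (.v (nat_lit 1)) (.v (nat_lit 3))) (.v (nat_lit 6))) (.v (nat_lit 0))))))))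
theorem HA_F4_chk : Fm.chk HA_o HA_F4_F HA_cs = true := by decide +kernel
theorem HA_F4 {G : Type*} [Group G] {R : ℕ → G → Prop} {z u v a b r x : G} {H : Subgroup G}
    (M : Mdl HA_o HA_cs HA_L R [z, u, v, a, b, r, x, x⁻¹] H) :
    ∀ y ∈ sp [z, u, v, r], y ^ 4 = 1 ∧ y * (u * v) = u * v * y ∧ y * (z * v * r) = z * v * r * y :=
  have h : ∀ y, InS R HA_lF y → y ^ 4 = 1 ∧ y * (u * v) = u * v * y ∧ y * (z * v * r) = z * v * r * y :=
    Fm.sound M.μ HA_F4_F HA_F4_chk M.reps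
  (fun y h0 => (h y ((HA_lF_E M).iff.2 h0)))
noncomputable def HA_S1_F : Fm := (.all HA_L (.imp (.eq (.mul (.v (nat_lit 0)) (.mul (.v (nat_lit 2)) (.v (nat_lit 3)))) (.mul (.mul (.v (nat_lit 2)) (.v (nat_lit 3))) (.v (nat_lit 0)))) (.qf (.mem (.v (nat_lit 0)) HA_lS1))))
theorem HA_S1_chk : Fm.chk HA_o HA_S1_F HA_cs = true := by decide +kernel
theorem HA_S1 {G : Type*} [Group G] {R : ℕ → G → Prop} {z u v a b r x : G} {H : Subgroup G}
    (M : Mdl HA_o HA_cs HA_L R [z, u, v, a, b, r, x, x⁻¹] H) :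
    ∀ y ∈ H, y * (u * v) = u * v * y → y ∈ sp [z, u, v, r, a * b] :=
  have h : ∀ y, InL HA_o R HA_L y → y * (u * v) = u * v * y → InS R HA_lS1 (y) :=
    Fm.sound M.μ HA_S1_F HA_S1_chk M.reps
  (fun y h0 => (fun h1 => ((HA_lS1_E M).iff.1 ((h y (M.H.iff.2 h0)) h1))))
noncomputable def HA_W_F : Fm := (.allS HA_lW (.qf (.or (.eq (.v (nat_lit 0)) .one) (.or (.eq (.v (nat_lit 0)) (.mul (.v (nat_lit 2)) (.v (nat_lit 3)))) (.or (.eq (.v (nat_lit 0)) (.mul (.mul (.v (nat_lit 1)) (.v (nat_lit 3))) (.v (nat_lit 6)))) (.eq (.v (nat_lit 0)) (.mul (.mul (.mul (.v (nat_lit 1)) (.v (nat_lit 3))) (.v (nat_lit 6))) (.mul (.v (nat_lit 2)) (.v (nat_lit 3))))))))))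
theorem HA_W_chk : Fm.chk HA_o HA_W_F HA_cs = true := by decide +kernel
theorem HA_W {G : Type*} [Group G] {R : ℕ → G → Prop} {z u v a b r x : G} {H : Subgroup G}
    (M : Mdl HA_o HA_cs HA_L R [z, u, v, a, b, r, x, x⁻¹] H) :
    ∀ n ∈ sp [u * v, z * v * r], n = 1 ∨ n = u * v ∨ n = z * v * r ∨ n = z * v * r * (u * v) :=
  have h : ∀ n, InS R HA_lW n → n = 1 ∨ n = u * v ∨ n = z * v * r ∨ n = z * v * r * (u * v) :=
    Fm.sound M.μ HA_W_F HA_W_chk M.reps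
  (fun n h0 => (h n ((HA_lW_E M).iff.2 h0)))
noncomputable def HA_W1_t0 : ST := (.node (nat_lit 9) (.leaf (nat_lit 4)) (.leaf (nat_lit 28)))
noncomputable def HA_W1_F : Fm := (.allS HA_lW (.and (.qf (.eq (.mul (.mul (.mul (.mul (.v (nat_lit 4)) (.v (nat_lit 5))) (.mul (.mul (.mul (.v (nat_lit 2)) (.v (nat_lit 4))) (.v (nat_lit 3))) (.v (nat_lit 5)))) (.v (nat_lit 0))) (.mul (.mul (.v (nat_lit 1)) (.v (nat_lit 3))) (.v (nat_lit 6)))) (.mul (.mul (.mul (.v (nat_lit 1)) (.v (nat_lit 3))) (.v (nat_lit 6))) (.mul (.mul (.mul (.v (nat_lit 4)) (.v (nat_lit 5))) (.mul (.mul (.mul (.v (nat_lit 2)) (.v (nat_lit 4))) (.v (nat_lit 3))) (.v (nat_lit 5)))) (.v (nat_lit 0)))))) (.and (.qf (.eq (.mul (.mul (.mul (.mul (.v (nat_lit 4)) (.v (nat_lit 5))) (.mul (.mul (.mul (.v (nat_lit 2)) (.v (nat_lit 4))) (.v (nat_lit 3))) (.v (nat_lit 5)))) (.v (nat_lit 0))) (.mul (.mul (.mul (.v (nat_lit 4)) (.v (nat_lit 5))) (.mul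 (.mul (.mul (.v (nat_lit 2)) (.v (nat_lit 4))) (.v (nat_lit 3))) (.v (nat_lit 5)))) (.v (nat_lit 0)))) .one)) (.and (.imp (.eq (.mul (.mul (.mul (.mul (.mul (.v (nat_lit 2)) (.v (nat_lit 4))) (.v (nat_lit 3))) (.v (nat_lit 5))) (.v (nat_lit 0))) (.inv (.mul (.mul (.mul (.v (nat_lit 2)) (.v (nat_lit 4))) (.v (nat_lit 3))) (.v (nat_lit 5))))) (.inv (.v (nat_lit 0)))) (.qf (.or (.eq (.v (nat_lit 0)) .one) (.eq (.v (nat_lit 0)) (.mul (.v (nat_lit 2)) (.v (nat_lit 3))))))) (.or (.qf (.eq (.v (nat_lit 0)) .one)) (.or (.qf (.eq (.mul (.mul (.mul (.v (nat_lit 4)) (.v (nat_lit 5))) (.mul (.mul (.mul (.v (nat_lit 2)) (.v (nat_lit 4))) (.v (nat_lit 3))) (.v (nat_lit 5)))) (.v (nat_lit 0))) (.v (nat_lit 1)))) (.exF HA_L (fun cs => HA_W1_t0.find (Nat.mod (nth (nat_lit 0) cs (nat_lit 0)) (nat_lit 27))) (.qf (.or (.eq (.mul (.mul (.v (nat_lit 0)) (.mul (.mul (.mul (.v (nat_lit 5)) (.v (nat_lit 6))) (.mul (.mul (.mul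 (.v (nat_lit 3)) (.v (nat_lit 5))) (.v (nat_lit 4))) (.v (nat_lit 6)))) (.v (nat_lit 1)))) (.inv (.v (nat_lit 0)))) (.v (nat_lit 3))) (.or (.eq (.mul (.mul (.v (nat_lit 0)) (.mul (.mul (.mul (.v (nat_lit 5)) (.v (nat_lit 6))) (.mul (.mul (.mul (.v (nat_lit 3)) (.v (nat_lit 5))) (.v (nat_lit 4))) (.v (nat_lit 6)))) (.v (nat_lit 1)))) (.inv (.v (nat_lit 0)))) (.v (nat_lit 4))) (.eq (.mul (.mul (.v (nat_lit 0)) (.mul (.mul (.mul (.v (nat_lit 5)) (.v (nat_lit 6))) (.mul (.mul (.mul (.v (nat_lit 3)) (.v (nat_lit 5))) (.v (nat_lit 4))) (.v (nat_lit 6)))) (.v (nat_lit 1)))) (.inv (.v (nat_lit 0)))) (.v (nat_lit 7)))))))))))))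
theorem HA_W1_chk : Fm.chk HA_o HA_W1_F HA_cs = true := by decide +kernel
theorem HA_W1 {G : Type*} [Group G] {R : ℕ → G → Prop} {z u v a b r x : G} {H : Subgroup G}
    (M : Mdl HA_o HA_cs HA_L R [z, u, v, a, b, r, x, x⁻¹] H) :
    ∀ n ∈ sp [u * v, z * v * r], a * b * (u * a * v * b) * n * (z * v * r) = z * v * r * (a * b * (u * a * v * b) * n) ∧ a * b * (u * a * v * b) * n * (a * b * (u * a * v * b) * n) = 1 ∧ (u * a * v * b * n * (u * a * v * b)⁻¹ = n⁻¹ → n = 1 ∨ n = u * v) ∧ (n = 1 ∨ a * b * (u * a * v * b) * n = z ∨ (∃ h ∈ H, h * (a * b * (u * a * v * b) * n) * h⁻¹ = u ∨ h * (a * b * (u * a * v * b) * n) * h⁻¹ = v ∨ h * (a * b * (u * a * v * b) * n) * h⁻¹ = r)) :=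
  have h : ∀ n, InS R HA_lW n → a * b * (u * a * v * b) * n * (z * v * r) = z * v * r * (a * b * (u * a * v * b) * n) ∧ a * b * (u * a * v * b) * n * (a * b * (u * a * v * b) * n) = 1 ∧ (u * a * v * b * n * (u * a * v * b)⁻¹ = n⁻¹ → n = 1 ∨ n = u * v) ∧ (n = 1 ∨ a * b * (u * a * v * b) * n = z ∨ (Good HA_o R HA_L → prods HA_o HA_L HA_o.one ≠ [] → ∃ h, InL HA_o R HA_L h ∧ (h * (a * b * (u * a * v * b) * n) * h⁻¹ = u ∨ h * (a * b * (u * a * v * b) * n) * h⁻¹ = v ∨ h * (a * b * (u * a * v * b) * n) * h⁻¹ = r))) :=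
    Fm.sound M.μ HA_W1_F HA_W1_chk M.reps
  (fun n h0 => (And.imp (fun h1 => h1) (fun h1 => (And.imp (fun h2 => h2) (fun h2 => (And.imp (fun h3 => h3) (fun h3 => (Or.imp (fun h4 => h4) (fun h4 => (Or.imp (fun h5 => h5) (fun h5 => (Exists.imp (fun h h6 => ⟨M.H.iff.1 h6.1, h6.2⟩) (h5 M.H.good M.H.ne))) h4)) h3)) h2)) h1)) (h n ((HA_lW_E M).iff.2 h0))))
noncomputable def HA_e1_F : Fm := (.qf (.and (.eq (.mul (.mul (.v (nat_lit 1)) (.v (nat_lit 2))) (.mul (.v (nat_lit 1)) (.v (nat_lit 2)))) .one) (.and (.not (.eq (.mul (.v (nat_lit 1)) (.v (nat_lit 2))) .one)) (.and (.eq (.mul (.mul (.mul (.v (nat_lit 0)) (.v (nat_lit 2))) (.v (nat_lit 5))) (.mul (.mul (.v (nat_lit 0)) (.v (nat_lit 2))) (.v (nat_lit 5)))) .one) (.and (.not (.eq (.mul (.mul (.v (nat_lit 0)) (.v (nat_lit 2))) (.v (nat_lit 5))) .one)) (.and (.not (.eq (.mul (.mul (.v (nat_lit 0)) (.v (nat_lit 2))) (.v (nat_lit 5))) (.mul (.v (nat_lit 1)) (.v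 (nat_lit 2))))) (.and (.eq (.mul (.mul (.mul (.v (nat_lit 0)) (.v (nat_lit 2))) (.v (nat_lit 5))) (.mul (.v (nat_lit 1)) (.v (nat_lit 2)))) (.mul (.mul (.v (nat_lit 1)) (.v (nat_lit 2))) (.mul (.mul (.v (nat_lit 0)) (.v (nat_lit 2))) (.v (nat_lit 5))))) (.and (.eq (.mul (.mul (.mul (.v (nat_lit 0)) (.v (nat_lit 2))) (.v (nat_lit 5))) (.v (nat_lit 0))) (.mul (.v (nat_lit 0)) (.mul (.mul (.v (nat_lit 0)) (.v (nat_lit 2))) (.v (nat_lit 5))))) (.and (.eq (.mul (.v (nat_lit 0)) (.mul (.v (nat_lit 1)) (.v (nat_lit 2)))) (.mul (.mul (.v (nat_lit 1)) (.v (nat_lit 2))) (.v (nat_lit 0)))) (.and (.eq (.mul (.v (nat_lit 1)) (.mul (.v (nat_lit 1)) (.v (nat_lit 2)))) (.mul (.mul (.v (nat_lit 1)) (.v (nat_lit 2))) (.v (nat_lit 1)))) (.and (.eq (.mul (.v (nat_lit 5)) (.mul (.v (nat_lit 1)) (.v (nat_lit 2)))) (.mul (.mul (.v (nat_lit 1)) (.v (nat_lit 2))) (.v (nat_lit 5)))) (.and (.eq (.mul (.mul (.v (nat_lit 3)) (.v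 (nat_lit 4))) (.mul (.v (nat_lit 1)) (.v (nat_lit 2)))) (.mul (.mul (.v (nat_lit 1)) (.v (nat_lit 2))) (.mul (.v (nat_lit 3)) (.v (nat_lit 4))))) (.and (.eq (.mul (.mul (.mul (.mul (.v (nat_lit 1)) (.v (nat_lit 3))) (.v (nat_lit 2))) (.v (nat_lit 4))) (.mul (.v (nat_lit 1)) (.v (nat_lit 2)))) (.mul (.mul (.v (nat_lit 1)) (.v (nat_lit 2))) (.mul (.mul (.mul (.v (nat_lit 1)) (.v (nat_lit 3))) (.v (nat_lit 2))) (.v (nat_lit 4))))) (.and (.eq (.mul (.mul (.v (nat_lit 0)) (.v (nat_lit 1))) (.mul (.v (nat_lit 0)) (.v (nat_lit 1)))) .one) (.eq (.mul (.mul (.v (nat_lit 0)) (.v (nat_lit 1))) (.mul (.v (nat_lit 1)) (.v (nat_lit 2)))) (.mul (.mul (.v (nat_lit 1)) (.v (nat_lit 2))) (.mul (.v (nat_lit 0)) (.v (nat_lit 1)))))))))))))))))))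
theorem HA_e1_chk : Fm.chk HA_o HA_e1_F HA_cs = true := by decide +kernel
theorem HA_e1 {G : Type*} [Group G] {R : ℕ → G → Prop} {z u v a b r x : G} {H : Subgroup G}
    (M : Mdl HA_o HA_cs HA_L R [z, u, v, a, b, r, x, x⁻¹] H) :
    u * v * (u * v) = 1 ∧ u * v ≠ 1 ∧ z * v * r * (z * v * r) = 1 ∧ z * v * r ≠ 1 ∧ z * v * r ≠ u * v ∧ z * v * r * (u * v) = u * v * (z * v * r) ∧ z * v * r * z = z * (z * v * r) ∧ z * (u * v) = u * v * z ∧ u * (u * v) = u * v * u ∧ r * (u * v) = u * v * r ∧ a * b * (u * v) = u * v * (a * b) ∧ u * a * v * b * (u * v) = u * v * (u * a * v * b) ∧ z * u * (z * u) = 1 ∧ z * u * (u * v) = u * v * (z * u) :=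
  Fm.sound M.μ HA_e1_F HA_e1_chk M.reps
noncomputable def HA_e2_F : Fm := (.qf (.and (.eq (.mul (.mul (.v (nat_lit 4)) (.v (nat_lit 1))) (.inv (.v (nat_lit 4)))) (.mul (.v (nat_lit 0)) (.v (nat_lit 1)))) (.and (.eq (.mul (.mul (.v (nat_lit 3)) (.mul (.v (nat_lit 1)) (.v (nat_lit 2)))) (.inv (.v (nat_lit 3)))) (.mul (.mul (.v (nat_lit 1)) (.v (nat_lit 2))) (.v (nat_lit 0)))) (.and (.eq (.mul (.mul (.v (nat_lit 4)) (.mul (.mul (.v (nat_lit 0)) (.v (nat_lit 2))) (.v (nat_lit 5)))) (.inv (.v (nat_lit 4)))) (.mul (.v (nat_lit 5)) (.v (nat_lit 0)))) (.and (.eq (.mul (.mul (.v (nat_lit 3)) (.mul (.mul (.mul (.v (nat_lit 0)) (.v (nat_lit 2))) (.v (nat_lit 5))) (.mul (.v (nat_lit 1)) (.v (nat_lit 2))))) (.inv (.v (nat_lit 3)))) (.mul (.v (nat_lit 5)) (.v (nat_lit 0)))) (.and (.eq (.mul (.mul (.v (nat_lit 3)) (.mul (.mul (.v (nat_lit 3)) (.v (nat_lit 4))) (.mul (.mul (.mul (.v (nat_lit 1)) (.v (nat_lit 3))) (.v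 (nat_lit 2))) (.v (nat_lit 4))))) (.inv (.v (nat_lit 3)))) (.mul (.v (nat_lit 1)) (.v (nat_lit 2)))) (.and (.eq (.mul (.mul (.mul (.v (nat_lit 3)) (.v (nat_lit 4))) (.mul (.mul (.mul (.v (nat_lit 1)) (.v (nat_lit 3))) (.v (nat_lit 2))) (.v (nat_lit 4)))) (.mul (.v (nat_lit 1)) (.v (nat_lit 2)))) (.v (nat_lit 0))) (.and (.not (.mem (.mul (.mul (.v (nat_lit 3)) (.v (nat_lit 4))) (.mul (.mul (.mul (.v (nat_lit 1)) (.v (nat_lit 3))) (.v (nat_lit 2))) (.v (nat_lit 4)))) HA_lW)) (.and (.not (.eq (.mul (.mul (.v (nat_lit 3)) (.v (nat_lit 4))) (.mul (.mul (.v (nat_lit 0)) (.v (nat_lit 2))) (.v (nat_lit 5)))) (.mul (.mul (.mul (.v (nat_lit 0)) (.v (nat_lit 2))) (.v (nat_lit 5))) (.mul (.v (nat_lit 3)) (.v (nat_lit 4)))))) (.not (.eq (.mul (.mul (.v (nat_lit 3)) (.v (nat_lit 4))) (.mul (.mul (.mul (.v (nat_lit 0)) (.v (nat_lit 2))) (.v (nat_lit 5))) (.mul (.v (nat_lit 1)) (.v (nat_lit 2))))) (.mul (.mul (.mul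 (.mul (.v (nat_lit 0)) (.v (nat_lit 2))) (.v (nat_lit 5))) (.mul (.v (nat_lit 1)) (.v (nat_lit 2)))) (.mul (.v (nat_lit 3)) (.v (nat_lit 4)))))))))))))))
theorem HA_e2_chk : Fm.chk HA_o HA_e2_F HA_cs = true := by decide +kernel
theorem HA_e2 {G : Type*} [Group G] {R : ℕ → G → Prop} {z u v a b r x : G} {H : Subgroup G}
    (M : Mdl HA_o HA_cs HA_L R [z, u, v, a, b, r, x, x⁻¹] H) :
    b * u * b⁻¹ = z * u ∧ a * (u * v) * a⁻¹ = u * v * z ∧ b * (z * v * r) * b⁻¹ = r * z ∧ a * (z * v * r * (u * v)) * a⁻¹ = r * z ∧ a * (a * b * (u * a * v * b)) * a⁻¹ = u * v ∧ a * b * (u * a * v * b) * (u * v) = z ∧ a * b * (u * a * v * b) ∉ sp [u * v, z * v * r] ∧ a * b * (z * v * r) ≠ z * v * r * (a * b) ∧ a * b * (z * v * r * (u * v)) ≠ z * v * r * (u * v) * (a * b) :=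
  have h : b * u * b⁻¹ = z * u ∧ a * (u * v) * a⁻¹ = u * v * z ∧ b * (z * v * r) * b⁻¹ = r * z ∧ a * (z * v * r * (u * v)) * a⁻¹ = r * z ∧ a * (a * b * (u * a * v * b)) * a⁻¹ = u * v ∧ a * b * (u * a * v * b) * (u * v) = z ∧ ¬ InS R HA_lW (a * b * (u * a * v * b)) ∧ a * b * (z * v * r) ≠ z * v * r * (a * b) ∧ a * b * (z * v * r * (u * v)) ≠ z * v * r * (u * v) * (a * b) :=
    Fm.sound M.μ HA_e2_F HA_e2_chk M.reps
  ((and_congr Iff.rfl (and_congr Iff.rfl (and_congr Iff.rfl (and_congr Iff.rfl (and_congr Iff.rfl (and_congr Iff.rfl (and_congr (not_congr (HA_lW_E M).iff) Iff.rfl))))))).1 h)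
noncomputable def HA_e3_F : Fm := (.qf (.and (.eq (.mul (.mul (.v (nat_lit 3)) (.v (nat_lit 4))) (.mul (.v (nat_lit 3)) (.v (nat_lit 4)))) .one) (.and (.eq (.mul (.mul (.mul (.mul (.v (nat_lit 1)) (.v (nat_lit 3))) (.v (nat_lit 2))) (.v (nat_lit 4))) (.mul (.mul (.mul (.v (nat_lit 1)) (.v (nat_lit 3))) (.v (nat_lit 2))) (.v (nat_lit 4)))) .one) (.and (.eq (.mul (.mul (.v (nat_lit 3)) (.v (nat_lit 4))) (.mul (.mul (.mul (.v (nat_lit 1)) (.v (nat_lit 3))) (.v (nat_lit 2))) (.v (nat_lit 4)))) (.mul (.mul (.mul (.mul (.v (nat_lit 1)) (.v (nat_lit 3))) (.v (nat_lit 2))) (.v (nat_lit 4))) (.mul (.v (nat_lit 3)) (.v (nat_lit 4))))) (.and (.eq (.mul (.mul (.mul (.v (nat_lit 3)) (.v (nat_lit 4))) (.mul (.mul (.v (nat_lit 0)) (.v (nat_lit 2))) (.v (nat_lit 5)))) (.mul (.v (nat_lit 3)) (.v (nat_lit 4)))) (.mul (.mul (.mul (.v (nat_lit 0)) (.v (nat_lit 2))) (.v (nat_lit 5))) (.mul (.v (nat_lit 1)) (.v (nat_lit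 2))))) (.and (.eq (.mul (.mul (.mul (.mul (.mul (.v (nat_lit 1)) (.v (nat_lit 3))) (.v (nat_lit 2))) (.v (nat_lit 4))) (.mul (.mul (.v (nat_lit 0)) (.v (nat_lit 2))) (.v (nat_lit 5)))) (.mul (.mul (.mul (.v (nat_lit 1)) (.v (nat_lit 3))) (.v (nat_lit 2))) (.v (nat_lit 4)))) (.mul (.mul (.mul (.v (nat_lit 0)) (.v (nat_lit 2))) (.v (nat_lit 5))) (.mul (.v (nat_lit 1)) (.v (nat_lit 2))))) (.eq (.mul (.mul (.mul (.mul (.mul (.v (nat_lit 1)) (.v (nat_lit 3))) (.v (nat_lit 2))) (.v (nat_lit 4))) (.mul (.mul (.mul (.v (nat_lit 0)) (.v (nat_lit 2))) (.v (nat_lit 5))) (.mul (.v (nat_lit 1)) (.v (nat_lit 2))))) (.mul (.mul (.mul (.v (nat_lit 1)) (.v (nat_lit 3))) (.v (nat_lit 2))) (.v (nat_lit 4)))) (.mul (.mul (.v (nat_lit 0)) (.v (nat_lit 2))) (.v (nat_lit 5))))))))))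
theorem HA_e3_chk : Fm.chk HA_o HA_e3_F HA_cs = true := by decide +kernel
theorem HA_e3 {G : Type*} [Group G] {R : ℕ → G → Prop} {z u v a b r x : G} {H : Subgroup G}
    (M : Mdl HA_o HA_cs HA_L R [z, u, v, a, b, r, x, x⁻¹] H) :
    a * b * (a * b) = 1 ∧ u * a * v * b * (u * a * v * b) = 1 ∧ a * b * (u * a * v * b) = u * a * v * b * (a * b) ∧ a * b * (z * v * r) * (a * b) = z * v * r * (u * v) ∧ u * a * v * b * (z * v * r) * (u * a * v * b) = z * v * r * (u * v) ∧ u * a * v * b * (z * v * r * (u * v)) * (u * a * v * b) = z * v * r :=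
  Fm.sound M.μ HA_e3_F HA_e3_chk M.reps
noncomputable def HA_uv_F : Fm := (.all HA_L (.qf (.not (.eq (.mul (.mul (.v (nat_lit 0)) (.v (nat_lit 2))) (.inv (.v (nat_lit 0)))) (.v (nat_lit 3))))))
theorem HA_uv_chk : Fm.chk HA_o HA_uv_F HA_cs = true := by decide +kernel
theorem HA_uv {G : Type*} [Group G] {R : ℕ → G → Prop} {z u v a b r x : G} {H : Subgroup G}
    (M : Mdl HA_o HA_cs HA_L R [z, u, v, a, b, r, x, x⁻¹] H) :
    ∀ y ∈ H, y * u * y⁻¹ ≠ v :=
  have h : ∀ y, InL HA_o R HA_L y → y * u * y⁻¹ ≠ v :=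
    Fm.sound M.μ HA_uv_F HA_uv_chk M.reps
  (fun y h0 => (h y (M.H.iff.2 h0)))

end H10.X
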