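import Cfsg.Agent.H10.X4g

/-! Generated: the involution centralizer of type PSp4(3). -/

set_option maxRecDepth 100000
set_option maxHeartbeats 4000000
set_option linter.unusedVariables false

open Subgroup
open scoped commutatorElement
namespace H10.X
open H0 H0.PM H16 H19

def RY {G : Type*} [Group G] (z u v r x y : G) : Prop :=
  y ^ 3 = 1 ∧
  y * x = x * y ∧
  y * r = r * y ∧
  y * z = z * y ∧
  y * u * y⁻¹ = v ∧
  y * v * y⁻¹ = z * u * v ∧ True
def NY {G : Type*} [Group G] (z u v a b r y : G) : Prop :=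
  y ^ 3 = 1 ∧
  y * r = r * y ∧
  y * z = z * y ∧
  y * u * y⁻¹ = v ∧
  y * v * y⁻¹ = z * u * v ∧
  y * a * y⁻¹ = b ∧
  y * b * y⁻¹ = z * a * b ∧ True
def SW {G : Type*} [Group G] (z u v r k : G) : Prop :=
  k * z * k⁻¹ = r ∧
  k * r * k⁻¹ = z ∧
  k * (z * u * v * r) * k⁻¹ = z * u * v * r ∧
  k * (u * r) * k⁻¹ = v * r ∧ True
def RS {G : Type*} [Group G] (z u v a b r y s : G) : Prop :=
  s * s = 1 ∧
  s * y * s = y⁻¹ ∧
  s * z * s = r ∧
  s * (z * u * v * r) * s = z * u * v * r ∧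
  s * (u * r) * s = v * r ∧
  (s * a * b) ^ 3 = 1 ∧ True
noncomputable def HC_r_R : List (List ℕ) := [[0,0],
  [1,1],
  [2,2],
  [3,3],
  [4,4],
  [5,5],
  [6,7],
  [7,6],
  [8,9],
  [9,8],
  [6,6,6],
  [3,7,1,6],
  [4,7,2,6],
  [6,1,6,1,6,1],
  [6,2,6,2,6,2],
  [2,1,2,1],
  [0,4,1,4,1],
  [7,0,6,0],
  [1,0,1,0],
  [2,0,2,0],
  [6,5,6,5],
  [1,5,1,5],
  [2,5,2,5],
  [0,5,0,5],
  [8,8,8],
  [7,9,6,8],
  [5,9,5,8],
  [0,9,0,8],
  [2,9,1,8],
  [0,1,2,9,2,8]]
theorem HC_r {G : Type*} [Group G] {z u v a b r x y : G}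
    (h : Q3 z u v a b x)
    (k : RA z u v r x)
    (l : RY z u v r x y) :
    Rels (nthG [z, u, v, a, b, r, x, x⁻¹, y, y⁻¹]) HC_r_R :=
  rels_of_eqs ((InvI.cons h.1 (InvI.cons h.2.1 (InvI.cons h.2.2.1 (InvI.cons h.2.2.2.1 (InvI.cons h.2.2.2.2.1 (InvI.cons k.1 InvI.nil)))))) : InvI [z, u, v, a, b, r, x, y] [(nat_lit 0), (nat_lit 1), (nat_lit 2), (nat_lit 3), (nat_lit 4), (nat_lit 5)])
    (AllEq.append (show AllEq [z, u, v, a, b, r, x, y] [((.mul (.v (nat_lit 0)) (.v (nat_lit 0))), .one), ((.mul (.v (nat_lit 1)) (.v (nat_lit 1))), .one), ((.mul (.v (nat_lit 2)) (.v (nat_lit 2))), .one), ((.mul (.v (nat_lit 3)) (.v (nat_lit 3))), .one), ((.mul (.v (nat_lit 4)) (.v (nat_lit 4))), .one), ((.pw (.v (nat_lit 6)) (nat_lit 3)), .one), ((.mul (.mul (.v (nat_lit 6)) (.v (nat_lit 1))) (.inv (.v (nat_lit 6)))), (.v (nat_lit 3))), ((.mul (.mul (.v (nat_lit 6)) (.v (nat_lit 2))) (.inv (.v (nat_lit 6)))), (.v (nat_lit 4))), ((.pw (.mul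 (.v (nat_lit 1)) (.v (nat_lit 6))) (nat_lit 3)), .one), ((.pw (.mul (.v (nat_lit 2)) (.v (nat_lit 6))) (nat_lit 3)), .one), ((.mul (.v (nat_lit 1)) (.v (nat_lit 2))), (.mul (.v (nat_lit 2)) (.v (nat_lit 1)))), ((.mul (.mul (.mul (.v (nat_lit 1)) (.v (nat_lit 4))) (.inv (.v (nat_lit 1)))) (.inv (.v (nat_lit 4)))), (.v (nat_lit 0))), ((.mul (.v (nat_lit 0)) (.v (nat_lit 6))), (.mul (.v (nat_lit 6)) (.v (nat_lit 0)))), ((.mul (.v (nat_lit 0)) (.v (nat_lit 1))), (.mul (.v (nat_lit 1)) (.v (nat_lit 0)))), ((.mul (.v (nat_lit 0)) (.v (nat_lit 2))), (.mul (.v (nat_lit 2)) (.v (nat_lit 0))))] from h)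
    (AllEq.append (show AllEq [z, u, v, a, b, r, x, y] [((.mul (.v (nat_lit 5)) (.v (nat_lit 5))), .one), ((.mul (.mul (.v (nat_lit 5)) (.v (nat_lit 6))) (.inv (.v (nat_lit 5)))), (.inv (.v (nat_lit 6)))), ((.mul (.v (nat_lit 5)) (.v (nat_lit 1))), (.mul (.v (nat_lit 1)) (.v (nat_lit 5)))), ((.mul (.mul (.v (nat_lit 5)) (.v (nat_lit 2))) (.inv (.v (nat_lit 5)))), (.v (nat_lit 2))), ((.mul (.v (nat_lit 5)) (.v (nat_lit 0))), (.mul (.v (nat_lit 0)) (.v (nat_lit 5))))] from k)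
    (show AllEq [z, u, v, a, b, r, x, y] [((.pw (.v (nat_lit 7)) (nat_lit 3)), .one), ((.mul (.v (nat_lit 7)) (.v (nat_lit 6))), (.mul (.v (nat_lit 6)) (.v (nat_lit 7)))), ((.mul (.v (nat_lit 7)) (.v (nat_lit 5))), (.mul (.v (nat_lit 5)) (.v (nat_lit 7)))), ((.mul (.v (nat_lit 7)) (.v (nat_lit 0))), (.mul (.v (nat_lit 0)) (.v (nat_lit 7)))), ((.mul (.mul (.v (nat_lit 7)) (.v (nat_lit 1))) (.inv (.v (nat_lit 7)))), (.v (nat_lit 2))), ((.mul (.mul (.v (nat_lit 7)) (.v (nat_lit 2))) (.inv (.v (nat_lit 7)))), (.mul (.mul (.v (nat_lit 0)) (.v (nat_lit 1))) (.v (nat_lit 2))))] from l)))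
    [(.v (nat_lit 0)), (.v (nat_lit 1)), (.v (nat_lit 2)), (.v (nat_lit 3)), (.v (nat_lit 4)), (.v (nat_lit 5)), (.v (nat_lit 6)), (.inv (.v (nat_lit 6))), (.v (nat_lit 7)), (.inv (.v (nat_lit 7)))] (by decide +kernel)
noncomputable abbrev HC_o : Ops := pops (nat_lit 27) (nat_lit 5) (nat_lit 31) (nat_lit 0x6b38bdab49ca307b9ac5a928398a418820)
noncomputable def HC_cs : List ℕ := [(nat_lit 0x69f19d6c7ba70bcb5cc80642a0c8532140), (nat_lit 0x6a2facee9b1f2ec416c68682918a41a140), (nat_lit 0x6ab38bf2ec2ee9b50ec906086988518940), (nat_lit 0x6a2fb5e67aa730c39ac58a41a14c322900), (nat_lit 0x6ad38e5e7c4af0ab5cc59523a094141880), (nat_lit 0x69b0950f64dd7873f208aa62a8c853202c), (nat_lit 0x30a31055644cd1265e0c1ef2ac1cd5a69a), (nat_lit 0x1cb4d0e1922066949a1d4535472fc5ecc), (nat_lit 0x6b17cdab47b6728ae0c4a9c43a06611420), (nat_lit 0x6af9c5ab48c1ed9a64c729663904828c20)]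
noncomputable def HC_L : List (List ℕ) := [[(nat_lit 0x6b38bdab49ca307b9ac5a928398a418820), (nat_lit 0x69f19d6c7ba70bcb5cc80642a0c8532140), (nat_lit 0x6a2fb5e67aa730c39ac58a41a14c322900), (nat_lit 0x6ad38e5e7c4af0ab5cc59523a094141880), (nat_lit 0x30a31055644cd1265e0c1ef2ac1cd5a69a), (nat_lit 0x1cb4d0e1922066949a1d4535472fc5ecc), (nat_lit 0x6b19acef4b49eb8b5cc8212a3906628440), (nat_lit 0x6ab7c3f348a66bb39ac812463a02a10ca0), (nat_lit 0x30864283515c782bf208d269b2dae848fa), (nat_lit 0x1b091e8a48963710ba359170e1f98ceac), (nat_lit 0x6af5cc7147a6d09b5cc59a443a84809460), (nat_lit 0x30c40891555cb11e5e0c2674b3a0b69e5a), (nat_lit 0x20da264a389c65949a1dd160e6387d66c), (nat_lit 0x69f3b6227aaeedca64c70e01a0885428c0), (nat_lit 0x3028314951cc5153f20c3aebb24f4941ba), (nat_lit 0x292839aa5a126390ba1e4580deb69c5ec), (nat_lit 0x30a342833158d9247007caa7bba0b6d13a), (nat_lit 0x30831282f460d72d6c09b62bca687941da), (nat_lit 0x1cb91e88486056987a24d55166387daec),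 (nat_lit 0x1ab49e8490e027283a43cd82ded59c72c), (nat_lit 0x304a2987625c3143f20c426da9d32a397a), (nat_lit 0x1277416168a86910ba1c50f556f3b670c), (nat_lit 0x308808cd55604f2de60cae34b25ae91e1a), (nat_lit 0x1b2a2e0a38d247091a2e0d60ddf99d62c)],
  [(nat_lit 0x6b38bdab49ca307b9ac5a928398a418820), (nat_lit 0x69b0950f64dd7873f208aa62a8c853202c), (nat_lit 0x6b19b5e72ad1ed8ae0c728e848c8530820), (nat_lit 0x6ad7c65ed8c272a9e8c4a96270ca432020), (nat_lit 0x6af6ce2307b6b49a64c3a9c2598851a020), (nat_lit 0x6a0da49373d9d95c7007aaa2998a41a02c), (nat_lit 0x6a92835d95e1373d6c09aa28798851882c), (nat_lit 0x6a546c178764f64cee0aa9e888ca43082c)],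
  [(nat_lit 0x6b38bdab49ca307b9ac5a928398a418820), (nat_lit 0x6b17cdab47b6728ae0c4a9c43a06611420), (nat_lit 0x6af9c5ab48c1ed9a64c729663904828c20)]]
noncomputable def HC_WW : List (List (List ℕ)) := [[[],
  [(nat_lit 0)],
  [(nat_lit 3)],
  [(nat_lit 4)],
  [(nat_lit 6)],
  [(nat_lit 7)],
  [(nat_lit 0), (nat_lit 3)],
  [(nat_lit 0), (nat_lit 4)],
  [(nat_lit 0), (nat_lit 6)],
  [(nat_lit 0), (nat_lit 7)],
  [(nat_lit 3), (nat_lit 4)],
  [(nat_lit 3), (nat_lit 6)],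
  [(nat_lit 3), (nat_lit 7)],
  [(nat_lit 3), (nat_lit 9)],
  [(nat_lit 4), (nat_lit 6)],
  [(nat_lit 4), (nat_lit 7)],
  [(nat_lit 6), (nat_lit 1)],
  [(nat_lit 6), (nat_lit 2)],
  [(nat_lit 7), (nat_lit 3)],
  [(nat_lit 7), (nat_lit 4)],
  [(nat_lit 3), (nat_lit 4), (nat_lit 6)],
  [(nat_lit 3), (nat_lit 4), (nat_lit 7)],
  [(nat_lit 3), (nat_lit 6), (nat_lit 9)],
  [(nat_lit 3), (nat_lit 7), (nat_lit 9)]],
  [[],
  [(nat_lit 5)],
  [(nat_lit 0), (nat_lit 1)],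
  [(nat_lit 0), (nat_lit 2)],
  [(nat_lit 1), (nat_lit 2)],
  [(nat_lit 0), (nat_lit 1), (nat_lit 5)],
  [(nat_lit 0), (nat_lit 2), (nat_lit 5)],
  [(nat_lit 1), (nat_lit 2), (nat_lit 5)]],
  [[],
  [(nat_lit 8)],
  [(nat_lit 9)]]]
noncomputable def HC_b6_S0 : List ℕ := [nat_lit 0xb000007008014, nat_lit 0x1300000f000001008016, nat_lit 0x1b000017000001008018, nat_lit 0x2b00002700002300001f00000701401a, nat_lit 0x3b00003700003300002f00000701401c, nat_lit 0x3300002f00000c000018, nat_lit 0x3f00001200000d00801e, nat_lit 0x4b00004700004300000d00c020, nat_lit 0x1700000d00001d00004b012020, nat_lit 0x4f000002000044008022, nat_lit 0x5300000e000044008024, nat_lit 0x57000012000044008026, nat_lit 0x5f00005b00000700c028, nat_lit 0x6300000e00003100802a, nat_lit 0x6700001200003100802c, nat_lit 0x6b00004300003100802e, nat_lit 0x7300006f008030, nat_lit 0x7f00007b00002a00004300004101003a, nat_lit 0x3f00001200004100004500007f01603a, nat_lit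 0x4900003f000058008024, nat_lit 0x8300000700000d004016, nat_lit 0x2c00005100a014, nat_lit 0x87000007000011004018, nat_lit 0x3c00005900a014, nat_lit 0x8b00001400000600000b00002001001a, nat_lit 0x23000061008014, nat_lit 0x6500002800002c000016, nat_lit 0x8f00001c00000a00000b00003001001c, nat_lit 0x3300006d008014, nat_lit 0x7100003800003c000018, nat_lit 0x9300002f00002000801e, nat_lit 0x9f00009b00009700002000c020, nat_lit 0x8700002000007d00009f012020, nat_lit 0x8100005a000058000022, nat_lit 0x2d00008500009b00c018, nat_lit 0x89000025004014, nat_lit 0xa300001f000098008024, nat_lit 0xa700002f000098008026, nat_lit 0xab00000b00005c008028, nat_lit 0x5f000099008014, nat_lit 0xaf00001f00005c00802a, nat_lit 0xb300002f00005c00802c, nat_lit 0xb700009700005c00802e, nat_lit 0x3e00005f0000a9000022, nat_lit 0xbf0000bb008030, nat_lit 0xcb0000c70000920000970000b101003a, nat_lit 0x9300002f0000b10000b50000cb01603a, nat_lit 0xb90000930000a8008024,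 nat_lit 0xcf00005200000e00000100000501001a, nat_lit 0x140000c1008014, nat_lit 0xd300005a00001200000100000901001c, nat_lit 0x1c0000c9008014, nat_lit 0xc90000d300005d000018, nat_lit 0xcd00009000006e000018, nat_lit 0xd700000a00000500801e, nat_lit 0xdf0000db00004f00000500c020, nat_lit 0x160000050000dd0000df012020, nat_lit 0xe10000330000a8000022, nat_lit 0xe3000006000050008024, nat_lit 0xe700000a000050008026, nat_lit 0x470000250000ed004018, nat_lit 0xeb0000060000ac00802a, nat_lit 0xef00000a0000ac00802c, nat_lit 0xf300004f0000ac00802e]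
noncomputable def HC_b6_S1 : List ℕ := [nat_lit 0xaa0000990000fd000022, nat_lit 0x3e00009e0000fd008022, nat_lit 0xf70000ab000078008034, nat_lit 0xff0000fb0000ea00004f00007801003a, nat_lit 0xd700000a00007800010d0000ff01603a, nat_lit 0x1110000d70000e8008024, nat_lit 0x1030000140000d9004018, nat_lit 0x1c0000d8000119000016, nat_lit 0x11300010f00010b0001070000c501401c, nat_lit 0x11700012200008c00801e, nat_lit 0x7e000061000125004018, nat_lit 0x12300011f00011b00008c00c020, nat_lit 0x10300008c00012d000123012020, nat_lit 0x13100011a000112000022, nat_lit 0xf2000115000135000016, nat_lit 0xfc00013500011f00c018, nat_lit 0x13d0000ea000026000016, nat_lit 0x12700008b00011c008024, nat_lit 0x9200008e0000e900013e00014501601a, nat_lit 0x12b00012200011c008026, nat_lit 0x13300012f0000c500c028, nat_lit 0xeb00001300015100e028, nat_lit 0x13400015500a014, nat_lit 0x13700008b00015100802a, nat_lit 0xa20000990000f500015600015d00001a, nat_lit 0x1610000a2000060000016,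 nat_lit 0x13b00012200015100802c, nat_lit 0x13f00011b00015100802e, nat_lit 0x147000143008030, nat_lit 0x14f00014b00014600011b00017101003a, nat_lit 0x11700012200017100017500014f01603a, nat_lit 0x17900011700012c008024, nat_lit 0x1570001530001220000140000d901001c, nat_lit 0x11a000181008014, nat_lit 0x153000113004014, nat_lit 0x189000158000182000018, nat_lit 0x15b0000e3000006000015008020, nat_lit 0x15f0000c20000e4008022, nat_lit 0x13d000195008014, nat_lit 0x1630000da0000ec00802c, nat_lit 0xfa0000f500019d00c01e, nat_lit 0x1670000e30000ec00802e, nat_lit 0x16e0001550001a5008022, nat_lit 0xfe0000f50001a5000024, nat_lit 0x17700017300016f00016b0000cd01401a, nat_lit 0x4b0000210001b100c024, nat_lit 0x5300000e0000180001b1004020, nat_lit 0x16b0000d60000a80000bd00c020, nat_lit 0x17b00008f0001b100801e, nat_lit 0x17b00007600005800004d00c020, nat_lit 0x17f00008f000022008026, nat_lit 0x9600008e0000ed0000f10001c901601c, nat_lit 0x1cd0000e5006014,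 nat_lit 0x17f00017c0001c600004e004020, nat_lit 0x1870001830000cd00c028, nat_lit 0xef00001b0001d900e028, nat_lit 0x1880001dd00a014, nat_lit 0x990000f90001e1000018, nat_lit 0x18b0001b20001d900802a, nat_lit 0x18f00008f0001d900802c, nat_lit 0xa60000990000f90001de0001ed00001c, nat_lit 0x1f10000a6000060000018, nat_lit 0x1930000210001d900802e, nat_lit 0x19b000197008030]
noncomputable def HC_b6_S2 : List ℕ := [nat_lit 0x1a300019f00004b0000210001fd01003a, nat_lit 0x17b00008f0001fd0002010001a301603a, nat_lit 0x20500017b000180008024, nat_lit 0x20500017b000076000040004020, nat_lit 0x1a70001b200001c0000d800018100c01a, nat_lit 0x1a7000177004014, nat_lit 0x1ab0000e70000d800018d008020, nat_lit 0xd10000d800018d000219012020, nat_lit 0xa000012a00011700011300021900001a, nat_lit 0x221000086004014, nat_lit 0x22500021a000114000016, nat_lit 0x1af0000ca0000e8008022, nat_lit 0xf200022d008014, nat_lit 0x1b30000e70000f000802e, nat_lit 0x1fa0001dd000235008022,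 nat_lit 0xfe0000f9000235000026, nat_lit 0x1bf0001bb0001b700002300007901001c, nat_lit 0x1bb0001b700006600012d000018, nat_lit 0x2450001c0000004, nat_lit 0x2450001bb00000e, nat_lit 0x1c30000a300001f000088008020, nat_lit 0x9f00008100025100c024, nat_lit 0x25500012a00017a000022, nat_lit 0x1c70000230000b0008028, nat_lit 0x1cb00007a0000b000802c, nat_lit 0xa60000a100026100c01e, nat_lit 0x1cf0000a30000b000802e, nat_lit 0xaa0000a1000269000024, nat_lit 0x1d3000023000079004018, nat_lit 0x24200027100a014, nat_lit 0x1d70001b700002800801e, nat_lit 0x1e00002b000279004018, nat_lit 0x24e0001d800027d000016, nat_lit 0x1e30001df0001db00002800c020, nat_lit 0x1d30000280002850001e3012020, nat_lit 0x2890002720000ba000022, nat_lit 0xc800028d0001df00c018, nat_lit 0x20a0001cd0000bd00028d0001e401601a, nat_lit 0x29100014a004014, nat_lit 0x1e70000270001dc008024, nat_lit 0x2a00008a00009100029200029d01601a, nat_lit 0x2a200029e00029a000016, nat_lit 0x1eb0000270001c800802a,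 nat_lit 0x3600005f0000a100025d0002a900001a, nat_lit 0x1ef0001b70001c800802c, nat_lit 0x1f30001db0001c800802e, nat_lit 0x26a00025d0002b5000022, nat_lit 0x1f7000286000056008018, nat_lit 0x1ff0001fb00001a00002b00027901001c, nat_lit 0x27e0002c1008014, nat_lit 0x2030001e70000270001d4008020, nat_lit 0x17b00006e0000940002710002c901601a, nat_lit 0x2ce0002ca000275000016, nat_lit 0x2070000550001e8008022, nat_lit 0x2a20002d5008014, nat_lit 0x19900014500029900029d0002d501401a, nat_lit 0x20b00027a0001ec00802c, nat_lit 0x2b20002a90002e100c01e, nat_lit 0x20f0001e70001ec00802e, nat_lit 0x2b60002a90002e9000024, nat_lit 0x2130001f80002be00005200001901001c, nat_lit 0x217000052000064008028, nat_lit 0x2ad0002f5008014, nat_lit 0x15a0000f600009d0000350002f501401a]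
noncomputable def HC_b6_S3 : List ℕ := [nat_lit 0x1330002fe0002f6000016, nat_lit 0x21b00001a00006400802c, nat_lit 0x3a00003500030500c01e, nat_lit 0x21f00005300006400802e, nat_lit 0x2ea0002ad00030d000022, nat_lit 0x3e00003500030d000024, nat_lit 0x22300006d00017c004016, nat_lit 0x22700019200003300009400024100c01a, nat_lit 0x12400024a00031d00001e, nat_lit 0x227000192000072000016, nat_lit 0x22b0000330000b4008028, nat_lit 0x22f0000a70000b400802e, nat_lit 0xaa0000a500032d000026, nat_lit 0x23300031a00017b00007100019101001a, nat_lit 0x19600015c000335008018, nat_lit 0x23700003700019100801e, nat_lit 0x14e00019a00033a00033600033d01601c, nat_lit 0x34200033e000228000018, nat_lit 0x31d00034500012b00011800c020, nat_lit 0x3b000238000341000016, nat_lit 0x23b00019200022c00802a, nat_lit 0x23f00003700022c00802c, nat_lit 0x3a00005f0000a500032900035500001c, nat_lit 0x35900003a00009e000018, nat_lit 0x2430000e100022c00802e, nat_lit 0x32e000329000361000022,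 nat_lit 0x24700005e000251004016, nat_lit 0x25900036900a014, nat_lit 0x2f200003f00005900025100036900201a, nat_lit 0x36e0003710002f2000016, nat_lit 0x3710002130001e300801e, nat_lit 0x24b00023700024000802a, nat_lit 0x1a60000f600035d00037d004020, nat_lit 0x24f00021d00024000802e, nat_lit 0x1ae00038200037e00038500e020, nat_lit 0x25300005a000068008028, nat_lit 0x1e20000fa00009d00003900038d01401c, nat_lit 0x18700039200038e000018, nat_lit 0x25700005700006800802e, nat_lit 0x386000359000399000022, nat_lit 0x3e000039000399000026, nat_lit 0x25b0002f200004a008022, nat_lit 0x25f0001fb00021c008028, nat_lit 0x26300004900021c00802e, nat_lit 0x39a00030a0003ad000024, nat_lit 0x30e0003050003ad000026, nat_lit 0x1ea00039600030a0003ad00e020, nat_lit 0x3b20003b90001ea0001f900e020, nat_lit 0x267000231000194008028, nat_lit 0x2390003c1008014, nat_lit 0x26b00004b00019400802a, nat_lit 0x1ea0001f90003c900c024, nat_lit 0x3ad0003b10003be0003c9004020,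 nat_lit 0x26b00027e00020c008028, nat_lit 0x26f0001ca00019400802c, nat_lit 0x1ee0001f90003d900c026, nat_lit 0x33100010200023e0002390003d900001c, nat_lit 0x3e1000366004014, nat_lit 0x3e10003310000ad000018, nat_lit 0x3e50003da00023a000018, nat_lit 0x2730002c500004b0000f200011500801a, nat_lit 0x1360003f1008014, nat_lit 0x2770002c500026c008028, nat_lit 0x3d50003f9008014]
noncomputable def HC_b6_S4 : List ℕ := [nat_lit 0x3fd0002e20002fa000018, nat_lit 0x27b00019f00026c00802c, nat_lit 0x3da0003c900040500c01e, nat_lit 0x4090003ea00003e00003500c020, nat_lit 0x27f0002d9000220008028, nat_lit 0x312000411008014, nat_lit 0x2f600030d000411004022, nat_lit 0x28300009f00008600004d0003a500c01a, nat_lit 0x37100025c00041d00c024, nat_lit 0x42100036d000179008022, nat_lit 0x42500041e0003a6000016, nat_lit 0x287000086000258008028, nat_lit 0x38e00039900042d004022, nat_lit 0x29300028f00026d0000aa0000c401003a, nat_lit 0x2650000a60000c400043500029301603a,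 nat_lit 0x43900026500032d008024, nat_lit 0x29700040e0002f5008018, nat_lit 0x29b00030e0000360001f5008020, nat_lit 0x1ea0001ed00044500001e, nat_lit 0x4090003dd00044500c024, nat_lit 0x17b00019000044500c02a, nat_lit 0x2a300029f00038d008016, nat_lit 0x25200025400045500c02a, nat_lit 0x2a400045900025a00c028, nat_lit 0x2a700037e00035900030a0003a900c01a, nat_lit 0x2ab0000ae00026e004016, nat_lit 0x2b900046500a014, nat_lit 0x16100026900046500c022, nat_lit 0x1490001d0000465002028, nat_lit 0x1aa0001ad00010100026e00046500201a, nat_lit 0x47100014c00045d00802c, nat_lit 0x2af0001ad00010500031600041100c01a, nat_lit 0x2fe00041a00047d00c024, nat_lit 0x2de00028000047d00c02a, nat_lit 0x4760004690002ee00041600047d01601a, nat_lit 0x48a00047e000412000016, nat_lit 0x2b300010e00010900802c, nat_lit 0x2bb0002b7000264008028, nat_lit 0x2bf00012700008b000104008020, nat_lit 0x12300013100049900c024, nat_lit 0x17400021500021200018500049900001a, nat_lit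 0x16b0000ca0000d800011900049901601a, nat_lit 0x4a1000174000178000016, nat_lit 0x2c300012600013800802c, nat_lit 0x16a00015d0004ad00c01e, nat_lit 0x47900046d0004ad00c026, nat_lit 0x2c70002420000ba008022, nat_lit 0x28e0004b9008014, nat_lit 0x4a50001be0004b9008018, nat_lit 0x4bd0001e4000295000016, nat_lit 0x4bd00037900036d000018, nat_lit 0x2cb00009f00028800802a, nat_lit 0x4560004320004cd00c024, nat_lit 0x4d10002a30004b6008022, nat_lit 0x4d50004ce00042e000016, nat_lit 0x2cf0000df0000e60000bd0004b900c01a, nat_lit 0x4990004c20004dd00001e, nat_lit 0x31e0002c80004dd00c024, nat_lit 0x12c00017d0004c90004dd004020, nat_lit 0x2cf0000df0001d1000016, nat_lit 0x2d30003890000fe0000f500c020, nat_lit 0x16a0001550004f100c018, nat_lit 0x37e00035e0000f50004f1000020, nat_lit 0x2d70001ad0000fe0000f800049100c03a]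
noncomputable def HC_b6_S5 : List ℕ := [nat_lit 0x1000002b40004fd000034, nat_lit 0x1a10000fa0000f80004910004fd01603a, nat_lit 0x5050001a1000235008024, nat_lit 0x2db00026a0000a20001e6008020, nat_lit 0x45600039100050d00001e, nat_lit 0x2df000329000351004016, nat_lit 0x33600023c000515002028, nat_lit 0x51900033900048600802c, nat_lit 0x2e300010700013000802c, nat_lit 0x4420002fd00052100c01e, nat_lit 0x51e00048100052100c026, nat_lit 0x2eb00011a000164008028, nat_lit 0x2ef0000df00024400802a, nat_lit 0x50600050a0003ed000531004020, nat_lit 0x5250002970004090003e600053101601a, nat_lit 0x2f30002cf0002f0008028, nat_lit 0x53a00053d008014, nat_lit 0x52e00053600053d008018, nat_lit 0x541000525000297000016, nat_lit 0x541000522000134000018, nat_lit 0x2f700050e0001e20001a200052d00c01a, nat_lit 0x49a0002ec00055100c02a, nat_lit 0x2f700050e000188000016, nat_lit 0x2f70005110002a3000018, nat_lit 0x4b20004b500055d000552006020, nat_lit 0x2fb000136000502008028,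 nat_lit 0x52e000506000565004022, nat_lit 0x2ff0001850002ec008028, nat_lit 0x52d00056d008014, nat_lit 0x57100019e000159000018, nat_lit 0x30300015300013c008028, nat_lit 0x4f5000579008014, nat_lit 0x57d0004f90002a800c022, nat_lit 0x57d0002d300039e0003b200049500401a, nat_lit 0x49500058500057a000016, nat_lit 0x30700012b00013c00802e, nat_lit 0x58100057a00058d008022, nat_lit 0x4b60004b100058d000024, nat_lit 0x16e00016900058d000026, nat_lit 0x59500055d00055200056a00e020, nat_lit 0x5910004620003aa000016, nat_lit 0x30b0003f50002fc008028, nat_lit 0x56e00056a0005a5004022, nat_lit 0x5a90005760002fe000401002020, nat_lit 0x3f90005ad0005a6000016, nat_lit 0x30f0001230002fc00802a, nat_lit 0x55200056a0005b500c024, nat_lit 0x4b500059600059e0005b5004020, nat_lit 0x28b0003c50005090005650005b500001a, nat_lit 0x2e60003fe0005ad0005a60005b501601a, nat_lit 0x5c100028b0003c2000016, nat_lit 0x3130003210002fc00802c, nat_lit 0x54500056a0005cd00c026,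 nat_lit 0x51e0002af0002d80005650005cd00001c, nat_lit 0x5d500051e000489000018, nat_lit 0x31700024900031000802c, nat_lit 0x5ce0005b50005dd00c01e, nat_lit 0x26200025d0002b10005c60005dd00001c, nat_lit 0x5e50002650001f2000016, nat_lit 0x5e5000262000162000018, nat_lit 0x31f00031b00047d0004810002e801003a, nat_lit 0x5260005220002e80005f100031f01603a, nat_lit 0x5f500029700044e008022, nat_lit 0x5f5000526000529008024]
noncomputable def HC_b6_S6 : List ℕ := [nat_lit 0x5d50005fd0005fa000016, nat_lit 0x32300046d00015e00054d008020, nat_lit 0x55200054600060500001e, nat_lit 0x5e10005d100060500c024, nat_lit 0x4dd0002f400060500c02a, nat_lit 0x43e00036600053100053d00060500001a, nat_lit 0x61500043e0003e2000016, nat_lit 0x32700021200030000802a, nat_lit 0x1ea0001dd0001a200057200061d01601a, nat_lit 0x62200061e00056e000016]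
noncomputable def HC_b6_S : List (List ℕ) := [HC_b6_S0, HC_b6_S1, HC_b6_S2, HC_b6_S3, HC_b6_S4, HC_b6_S5, HC_b6_S6]
noncomputable def HC_b6_defs : List ℕ := [(nat_lit 0x90003e002000380090002a005000130050000600500004000000060000000400100036004000130010000600200021001000200090003100200028009000160080002e00800001005000250050000b00500007005000020000000b000000070010002600400025000000010010000b002000050010000300400001003000010090001e00200014009000020080001b00800000005000100050000e0050000a00600016005000010000000e0000000a000000020010001100400010000000000010000e0060000d0020000c0060000b002000010060000900100008006000070010000100700005004000000070000300300000006000010060000000000000),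
  (nat_lit 0x20007e0060000f00700078005000760050006d00500009000000090010007700400076000000080010006d00400008005000280050002400500008004000280020006e0060006d002000080050003900000034004000390060005d0090006700200012008000650080000500500011005000230050005d006000600050003400000023001000230060005c0010005b0060005a00100034005000380050003500000033004000380020005400600044009000520020004900800050008000030050004600500044005000220060004b005000330000004400000022001000470040004600000003001000440060004300200042006000410020003300400003),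
  (nat_lit 0x50005500500047006000b6005000b300500037005000400090004b005000410030002c00400073002000590010009300600037005000270000006f0050004500400049005000ad0060001e0050003f006000590030001a00600092007000a700300019004000870070009e009000a30020007300100099005000260060002700500081005000670050007f0010007f0050005f005000120050006b0050001e0050007e0000008400500015005000210050006a0050008d0030000d005000360050000d005000560010000d00100088005000290050000c006000560030000b005000140050000f005000200020007800500079005000750000002000400079),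
  (nat_lit 0x500069004000aa009000c60020009f0050006f00500089005000480050009c0050004a00500054)]
noncomputable def HC_b6_recs : List ℕ := [(nat_lit 0x2a0003c020002a0003b010002a0003a07000390001102000130003901000130003807000290003600000360000c040000400037020000400035040000b00034040000d00006060003400005060000600034060003300003060000400033010002900031000003100024020002f0003208000010002f070002d0001a00000160002d02000160002c01000160002b060002a0001706000160002a020002500029010002500028060001300025060002500010070001500026000002600021040000700027020000700024040000e0002306000230000c060000b00023030000a0002206000220000806000070002207000210000d070000e00021070002000009070000a0002001000150001e000001e0000f020001c0001f08000000001c00000170001a020001700019010001700018050000000017020001000015010001000014060001000013000001100005040000a00012020000a0000f04000020000c02000000000e01000000000a020000200006010000200004060000000002),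
  (nat_lit 0x8000050006600000610006404000170006306000630002c020006100063010006100062040006000016070003b0006007000610003b05000050006104000150005f07000360005f070005f0002902000110005f040001e0005e020005d0005e04000310005a040005d00014000005d0001201000050005d01000590003c06000590004f000003a0005901000580003b020003a00058060005700046060003800057010000c00056040003500043060004300054060005500040060003500055010004a00052000005200045020005100053080000300051000004c0004f020004c0004e03000170004d060004d0002b010004c0004d070003a0004b070004c0003a05000030004c02000460004a070004900028010004600049030001000046060004600038030004700011070003e0004700000470004004000220004807000450002702000220004502000030004403000400000507000350004001000390003e000003e00035020001d0003f050001d0003d060003c0001a070003c0002d),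
  (nat_lit 0x1000850004b06000850007a060001800085060000f0008401000830007c000007a0008301000820007b020007a00082010008100057060008100014060007900081030006f0005e07000800005e010007400080060007f0001206000750007f02000200007d070007c0007300000710007c02000710007b060007a0001801000710007a03000490001407000790001401000760007906000490007607000780006706000760002807000310007700000770007404000090007803000120004807000750001202000090007507000740006f07000240007401000730002d000002b0007301000720002c020002b00072060002b00071070005200070000007000027010002100070070006d00048020006f00048ff000480006e06000240006f020006c0003c060006c00064000003b0006c060006b0001106000390006b03000440001506000150006a060006a00026000006a0000d01000430006a060005c00069010005500069040000f00067010005f0006700000670005e020006600068),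
  (nat_lit 0x60009d00082060009a0009d060009c00047060003e0009c040006c00090040001a0009b06000900009b060009b0008b000009b0006302000640009b06000820009a040009a00086000009a0006201000640009a06000990006c060006400099040006400095040009800062020009800087010009800095000008600098060008600097060001e0009602000950001a07000950009300000190009504000190006102000940006006000190009404000930003c000008f00093040009200059010008f00092020007700091030000f0005201000910008407000910005207000700009107000900008b000008a00090040002a0008f060008f00019020008a0008f010008a0008e030004a0000e04000450006f04000890004a070008d0004a02000560008d020008c0005706000560008c020008b0002d000002c0008b060002c0008a030002300089020008900047010006f00089070005e0008801000870001a07000870008300000180008701000860001902000180008603000180004c),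
  (nat_lit 0x9000ac000b500000b40009206000b40004e040003a000b4030005f000b304000b30004400000b30008902000b30004001000b1000b30300095000b006000b0000b200000b2000a801000a1000b20400052000b10300067000b102000b1000af06000b1000770600031000b100000b0000a701000b00004e020004d000b0030005d000af07000af0005a06000af0005b00000af000480100040000af0600098000ae020003d000ac03000870004f07000ab0004f05000ab0005700000ab0004b010009f000ab02000a7000aa01000aa0004f05000aa0004900000aa0004d07000aa0007c0700073000aa0100097000a90500052000a705000a8000700100094000a805000a60005e00000a60009e02000a6000620100063000a60200085000a5010008b000a300000a3000720200030000a400000a1000940600095000a1030001e000450600045000a000000a0000910100096000a0000009f00085060009f0008306000870009f04000180009e010009e0009b020009a0009e04000850009d),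
  (nat_lit 0x1000b7000c606000a6000c600000c6000a502000b9000c7040004d000c50300063000c506000c50007201000c5000c402000c3000c5040004f000c406000c4000b700000c4000bc02000be000c40300064000c307000c30007b06000c3000a204000c3000b000000c3000bd01000be000c303000be0009a010009d000c200000c2000bf06000be000c20300086000c104000be000c102000c10004f01000c1000a706000c1000a9000004e000c1030004e0009801000ae000c000000a9000c006000c0000b4060004e000c0040004b000bf06000bf0005806000ba000bf00000be000ba06000b5000be04000ba0004e04000a7000bd0300061000bd05000bd000af01000ba000bd040004c000bc030009e000bc02000bc000ba06000bc000b806000bb000bc07000bb000b804000bb000580100090000bb0600058000ba00000b8000b701000b8000a5020004b000b802000ab000b705000b70008c070008e000b702000b6000a80100060000b6010006c000b500000b50005805000b50003e),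
  (nat_lit 0x3000ba0006207000c90006201000bf000c9030009b000c806000c8000a305000c8000b100000c8000c502000c8000bd01000bc000c803000a6000c4)]
noncomputable def HC_b6_L0 : List ℕ := [nat_lit 0x4300000100000e00000200001200000300000f000004000017000005000032000006, nat_lit 0x4400000000002a00000700002e00000800014200000900004700000a00006b00000b, nat_lit 0x5300000700000d00000000001a00000c00006a00000d00001e00000e00006300000f, nat_lit 0x5700000800003f00000c00001100000000034d000010000076000011000067000012, nat_lit 0x11b00000900008b00000d000122000013000010000000000103000014000152000015, nat_lit 0x2100000a0001b200001600008f00001100011d0000140000180000000001da000017, nat_lit 0x3e00000b00003600000f00003a0000120001660000180001f6000019000031000000, nat_lit 0x5400000200002900000100007b00001a0002a500001b0001b900001600021f00001c, nat_lit 0x5800000300004e00001a00002d0000010002290000130001d600001d00025700001e, nat_lit 0x11c00000400014600001b00014e00001000014100000100011f00001f00013f000020,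 nat_lit 0x2200000500004b00000e0001ca00001d00013900001f000048000001000193000021, nat_lit 0x3d00000600031500001c0003a100001e0002ab0000220003ea00002300006c000001, nat_lit 0x4900001a00004000000300001900000200037600002400020e00002500021b000026, nat_lit 0x12700001b00008c00000400012600002700006900000200012e000028000137000018, nat_lit 0x1b500001600004c00000a00019f00002500028200002800001d00000200026b000029, nat_lit 0x30e00001c00003500000600030600002600030200001500040e00002a000064000002, nat_lit 0x12c00001300017e00002400014d00000900034e00000300034500002b00030700002c, nat_lit 0x17f00001d00017b00002d00009000000500032600002b00007500000300018f000019, nat_lit 0x39a00001e00030900002600003900000600029f00002e000396000017000068000003, nat_lit 0x12b00001000011700002700012100000400022a0000080004e900002f00013b000030, nat_lit 0x13100001f00049a0000310004e100002f00011e0000050001040000040002eb000032, nat_lit 0x16e00002000015e00001800016a00003000030100000f00054e000033000151000004,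 nat_lit 0x1b600000e0001b10000050001c200002d0004aa0000310001ba00000700018b000034, nat_lit 0x1fa0000210001ea0000340001ee00001900055a0000350003950000120001d9000005, nat_lit 0x46d00002200015d0000150004ae0000360001650000060005ee00003700013800000d, nat_lit 0x3dd0000230004460000380001ed0000170005ea0000370001f5000006000190000011, nat_lit 0x4a00000c00004d00000800007c00000700042a0000270001c600002d000263000039, nat_lit 0x12800000d00014500000900014b0000240002a60000070002bf000031000471000022, nat_lit 0x30d00000f00031600000b0003b500003900048e00002000029b000038000220000007, nat_lit 0x18000001100020a0000250001c900000a0004ee00002f0001d500000800026f000023, nat_lit 0x3990000120003b10000390003a200000b0004da0000360003bd000021000258000008, nat_lit 0x13200001400012300002800032100002b00013a00000a0001200000090002fb00003a, nat_lit 0x16d00001500047500002200059900002c00048d00001c0005da00003b000140000009, nat_lit 0x1f90000170003ca0000290003da0000230005ca00003c0003be00001e00019400000a,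 nat_lit 0x46e00001800047600002000047900002e0002ac00000b00032300003d00047200001b, nat_lit 0x3de00001900040900002a0003d900002100061a00003d0003e900000b00027000001d, nat_lit 0x17a00002700017d00001000014c00001b00037500000c0004ca00003e00045e00002e, nat_lit 0x20600002d00020900001d0001a000000e0004c600003e00020d00000c00027b00002a, nat_lit 0x3ae00003900030a00001200030500000f0005a200002c0003d100002900021c00000c, nat_lit 0x17900002400011800001300012500000d00042900001a00034a00003f0002c3000036, nat_lit 0x49d00003100012400001f00024900003f00028100000e00012d00000d00030f00003c, nat_lit 0x3ce0000340003c900002100040600002a0005b100003a0003d200002600026c00000e, nat_lit 0x44d00003800040a00002300040500002900054a00003300040d00000f00027c000025, nat_lit 0x4e500002f00031d00003f00032200001f00032500001100034600001000031300003b, nat_lit 0x58d00003000059600002e00059a0000200005a100002600059d00003a000308000010, nat_lit 0x20500002500017c0000110001c10000160002d100003f0001c500001a000451000038,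 nat_lit 0x4b500003600059500002c00047a0000220002a000001200055e00003500045d000024, nat_lit 0x4e600002b0004dd00003e0004e20000140004ed00001d0004ea0000130002f3000033, nat_lit 0x58e00002c0004b100003600016900001500058a00003900056100003200013c000013, nat_lit 0x49e0000280004990000140004c100003e0004a90000160002c000001b000555000035, nat_lit 0x56900003a0005520000350005450000330006260000340005620000300002ec000014, nat_lit 0x5d100003b00060600003d00054600003200054900002a00054d0000150002f400002f, nat_lit 0x3cd0000290001e90000170004490000380006250000320003b900003900018c000016, nat_lit 0x5b900003c00055100003200060900003d00055900001700055d00002e000556000031, nat_lit 0x4b600002e0004b20000300004ad0000180004d900001e0005bd00003c0002c4000027, nat_lit 0x60d00003d0005e200003b0005dd00003c0005e90000190005ed00001800031800003f, nat_lit 0x44e00002a00044500001900044a00003400060200003b00029c00001c00045200002d, nat_lit 0x3ad0000260003b200001e0003b600001c0005890000300003ba00003400026400001a,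 nat_lit 0x56a0000320005b600003c0005ce00003b0005b200002900059e00002c0002fc00001f, nat_lit 0x5d20000330005e10000370005cd00003a0006010000380005d900002000031400002b, nat_lit 0x5ba0000350005b500003a0005de0000370005c90000210005be000036000310000028, nat_lit 0x60e00003700060500003300060a00003500061900002300032400002200061200003e, nat_lit 0x2c800003f0004de00002f0004c20000310004c50000250004c900002400061100003d, nat_lit 0x2c700003e00031e00002b00024a0000280002d200002d000349000027000317000037]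
noncomputable def HC_b6_L : List (List ℕ) := [HC_b6_L0]
noncomputable def HC_b6_V : List ℕ := [(nat_lit 0x6f000000b1000000c8000000c3000000c4000000be00000098000000a6000000c5000000b0000000bd00000062000000bc000000ba000000af0000004e000000b3000000a70000005e000000c1000000890000009e0000009a00000048000000450000008600000067000000520000009b000000aa000000640000004f00000047000000950000005f00000087000000490000001e000000630000004d000000610000005d0000004c000000400000004400000019000000230000004a0000001800000012000000220000000f0000001a000000110000004600000015000000140000001700000005000000030000000e0000000a0000001000000000)]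
noncomputable def HC_b6_D : H26.Dag := ⟨[0,1,2,3,4,5,7,6,9,8], [[0,0],
  [1,1],
  [2,2],
  [3,3],
  [4,4],
  [5,5],
  [6,7],
  [7,6],
  [8,9],
  [9,8],
  [6,6,6],
  [3,7,1,6],
  [4,7,2,6],
  [6,1,6,1,6,1],
  [6,2,6,2,6,2],
  [2,1,2,1],
  [0,4,1,4,1],
  [7,0,6,0],
  [1,0,1,0],
  [2,0,2,0],
  [6,5,6,5],
  [1,5,1,5],
  [2,5,2,5],
  [0,5,0,5],
  [8,8,8],
  [7,9,6,8],
  [5,9,5,8],
  [0,9,0,8],
  [2,9,1,8],
  [0,1,2,9,2,8]], [], HC_b6_defs, HC_b6_recs⟩
theorem HC_b6_c : HC_b6_D.checkTab HC_b6_S 64 6 HC_b6_V HC_b6_L = true := by decide +kernel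
theorem HC_b6 : Bound HC_r_R 6 64 :=
  bound_dag (Bound.zero HC_r_R) (K := 10) (J := [0,1,2,3,4,5,6,7,8,9,10,11,12,13,14,15,16,17,18,19,20,21,22,23,24,25,26,27,28,29]) (by decide +kernel) HC_b6_c (by decide +kernel)
noncomputable def HC_b8_S0 : List ℕ := [nat_lit 0x1, nat_lit 0x1, nat_lit 0x1, nat_lit 0x1, nat_lit 0x1, nat_lit 0x1, nat_lit 0x7000005000008000016, nat_lit 0x7000009000008000018, nat_lit 0x700000100000800c022, nat_lit 0xb000008006014, nat_lit 0xb00000d00000c008016, nat_lit 0xb00001100000c008018, nat_lit 0xb00000100000c004022, nat_lit 0xb00001500000800a028, nat_lit 0x2500002900000b00000500000801201a, nat_lit 0x2500002d00000b00000900000801201c, nat_lit 0x2600003d000025000018, nat_lit 0x26000039000025000016]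
noncomputable def HC_b8_S : List (List ℕ) := [HC_b8_S0]
noncomputable def HC_b8_defs : List ℕ := [(nat_lit 0x7000000060000000000000)]
noncomputable def HC_b8_recs : List ℕ := [(nat_lit 0x30000200002040000200002020000100001010000100001050000100002000000200002020000200002010000200002070000100002000000100001040000100001030000100001050000000000040000000000030000000000020000000000010000000000000000000000)]
noncomputable def HC_b8_L0 : List ℕ := [nat_lit 0x100000000000500000000000900000000000d00000000001100000000001500000000000700000100000b000002, nat_lit 0x2100000100003900000100003d00000100001900000100001d000001000036000002000026000002000008000000, nat_lit 0x3100000200002900000200002d00000200004500000200004100000200003500000100000c000000000025000001]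
noncomputable def HC_b8_L : List (List ℕ) := [HC_b8_L0]
noncomputable def HC_b8_V : List ℕ := [(nat_lit 0x20000000100000000)]
noncomputable def HC_b8_D : H26.Dag := ⟨[0,1,2,3,4,5,7,6,9,8], [[0,0],
  [1,1],
  [2,2],
  [3,3],
  [4,4],
  [5,5],
  [6,7],
  [7,6],
  [8,9],
  [9,8],
  [6,6,6],
  [3,7,1,6],
  [4,7,2,6],
  [6,1,6,1,6,1],
  [6,2,6,2,6,2],
  [2,1,2,1],
  [0,4,1,4,1],
  [7,0,6,0],
  [1,0,1,0],
  [2,0,2,0],
  [6,5,6,5],
  [1,5,1,5],
  [2,5,2,5],
  [0,5,0,5],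
  [8,8,8],
  [7,9,6,8],
  [5,9,5,8],
  [0,9,0,8],
  [2,9,1,8],
  [0,1,2,9,2,8]], [0,1,2,3,4,5], HC_b8_defs, HC_b8_recs⟩
theorem HC_b8_c : HC_b8_D.checkTab HC_b8_S 3 8 HC_b8_V HC_b8_L = true := by decide +kernel
theorem HC_b8 : Bound HC_r_R 8 192 :=
  bound_dag HC_b6 (K := 10) (J := [0,1,2,3,4,5,6,7,8,9,10,11,12,13,14,15,16,17,18,19,20,21,22,23,24,25,26,27,28,29]) (by decide +kernel) HC_b8_c (by decide +kernel)
noncomputable def HC_b10_S0 : List ℕ := [nat_lit 0x1, nat_lit 0x1, nat_lit 0x1, nat_lit 0x1, nat_lit 0x1, nat_lit 0x1, nat_lit 0x1, nat_lit 0x700001900000800001a, nat_lit 0x700001500000800001c, nat_lit 0x700000100000800001e, nat_lit 0x7000005000008000020, nat_lit 0x25000007000009000008000029004022, nat_lit 0x1e00002d00001d000014, nat_lit 0x1e00002900001d000016, nat_lit 0xb000008006018, nat_lit 0xb00001a00000c00801a, nat_lit 0xb00001500000c00801c, nat_lit 0xb00000100000c00801e, nat_lit 0xb00000900000c008020, nat_lit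 0xb00000900000500000100000c010022, nat_lit 0x3d00004d00003e000016, nat_lit 0x3d00004900003e000014]
noncomputable def HC_b10_S : List (List ℕ) := [HC_b10_S0]
noncomputable def HC_b10_defs : List ℕ := [(nat_lit 0x9000000080000000000000)]
noncomputable def HC_b10_recs : List ℕ := [(nat_lit 0x30000200002040000200002020000200002010000200002000000200002050000200002060000200002090000100002040000100001030000100001010000100001020000100001000000100001050000100001070000100001060000000000050000000000040000000000030000000000020000000000010000000000000000000000)]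
noncomputable def HC_b10_L0 : List ℕ := [nat_lit 0x100000000000500000000000900000000000d00000000001100000000001500000000001900000000001a00000000000700000100000b000002, nat_lit 0x2500000100002d00000100002900000100003100000100003500000100002100000100001e00000100001d00000100003a000002000008000000, nat_lit 0x4500000200004900000200004d00000200005500000200005100000200004100000200003d00000200003e00000200000c000000000039000001]
noncomputable def HC_b10_L : List (List ℕ) := [HC_b10_L0]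
noncomputable def HC_b10_V : List ℕ := [(nat_lit 0x20000000100000000)]
noncomputable def HC_b10_D : H26.Dag := ⟨[0,1,2,3,4,5,7,6,9,8], [[0,0],
  [1,1],
  [2,2],
  [3,3],
  [4,4],
  [5,5],
  [6,7],
  [7,6],
  [8,9],
  [9,8],
  [3,7,1,6],
  [4,7,2,6],
  [8,8,8],
  [7,9,6,8],
  [5,9,5,8],
  [0,9,0,8],
  [2,9,1,8],
  [0,1,2,9,2,8]], [0,1,2,3,4,5,6,7], HC_b10_defs, HC_b10_recs⟩
theorem HC_b10_c : HC_b10_D.checkTab HC_b10_S 3 10 HC_b10_V HC_b10_L = true := by decide +kernel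
theorem HC_b10 : Bound HC_r_R 10 576 :=
  bound_dag HC_b8 (K := 10) (J := [0,1,2,3,4,5,6,7,8,9,11,12,24,25,26,27,28,29]) (by decide +kernel) HC_b10_c (by decide +kernel)
theorem HC_P : PModel (nat_lit 27) (nat_lit 5) (nat_lit 31) (nat_lit 0x6b38bdab49ca307b9ac5a928398a418820) HC_cs HC_r_R HC_L 576 :=
  ⟨PkOK.of (by decide +kernel), by decide +kernel, by decide +kernel, HC_b10, ⟨HC_WW, by decide +kernel⟩,
    ⟨fun c => Nat.mod c (nat_lit 50477), by decide +kernel⟩⟩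
noncomputable def HC_soc_t0 : ST := (.node (nat_lit 28595) (.node (nat_lit 14761) (.node (nat_lit 8227) (.node (nat_lit 4925) (.node (nat_lit 3389) (.node (nat_lit 1726) (.node (nat_lit 881) (.node (nat_lit 321) (.leaf (nat_lit 72)) (.leaf (nat_lit 2))) (.node (nat_lit 991) (.leaf (nat_lit 72)) (.node (nat_lit 1574) (.leaf (nat_lit 48)) (.leaf (nat_lit 72))))) (.node (nat_lit 3049) (.node (nat_lit 2584) (.leaf (nat_lit 48)) (.node (nat_lit 2959) (.leaf (nat_lit 72)) (.leaf (nat_lit 2)))) (.node (nat_lit 3133) (.leaf (nat_lit 3)) (.node (nat_lit 3363) (.leaf (nat_lit 72)) (.leaf (nat_lit 3)))))) (.node (nat_lit 4264) (.node (nat_lit 3575) (.node (nat_lit 3495) (.leaf (nat_lit 72)) (.leaf (nat_lit 2))) (.node (nat_lit 3615) (.leaf (nat_lit 48)) (.node (nat_lit 3930) (.leaf (nat_lit 72)) (.leaf (nat_lit 48))))) (.node (nat_lit 4717) (.node (nat_lit 4289) (.leaf (nat_lit 72)) (.node (nat_lit 4311) (.leaf (nat_lit 48)) (.leaf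 (nat_lit 3)))) (.node (nat_lit 4856) (.leaf (nat_lit 72)) (.node (nat_lit 4923) (.leaf (nat_lit 48)) (.leaf (nat_lit 2))))))) (.node (nat_lit 6033) (.node (nat_lit 5532) (.node (nat_lit 5112) (.node (nat_lit 5017) (.leaf (nat_lit 48)) (.leaf (nat_lit 72))) (.node (nat_lit 5382) (.leaf (nat_lit 48)) (.node (nat_lit 5405) (.leaf (nat_lit 72)) (.leaf (nat_lit 48))))) (.node (nat_lit 5943) (.node (nat_lit 5692) (.leaf (nat_lit 2)) (.node (nat_lit 5890) (.leaf (nat_lit 48)) (.leaf (nat_lit 2)))) (.node (nat_lit 5952) (.leaf (nat_lit 48)) (.node (nat_lit 5993) (.leaf (nat_lit 72)) (.leaf (nat_lit 48)))))) (.node (nat_lit 7046) (.node (nat_lit 6493) (.node (nat_lit 6209) (.leaf (nat_lit 2)) (.node (nat_lit 6439) (.leaf (nat_lit 48)) (.leaf (nat_lit 72)))) (.node (nat_lit 7025) (.leaf (nat_lit 48)) (.node (nat_lit 7030) (.leaf (nat_lit 2)) (.leaf (nat_lit 72))))) (.node (nat_lit 7274) (.node (nat_lit 7149) (.leaf (nat_lit 48))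 (.node (nat_lit 7166) (.leaf (nat_lit 72)) (.leaf (nat_lit 48)))) (.node (nat_lit 7453) (.leaf (nat_lit 72)) (.node (nat_lit 7499) (.leaf (nat_lit 2)) (.leaf (nat_lit 48)))))))) (.node (nat_lit 10902) (.node (nat_lit 8947) (.node (nat_lit 8454) (.node (nat_lit 8367) (.node (nat_lit 8358) (.leaf (nat_lit 72)) (.leaf (nat_lit 48))) (.node (nat_lit 8384) (.leaf (nat_lit 72)) (.node (nat_lit 8393) (.leaf (nat_lit 2)) (.leaf (nat_lit 48))))) (.node (nat_lit 8728) (.node (nat_lit 8472) (.leaf (nat_lit 72)) (.node (nat_lit 8519) (.leaf (nat_lit 48)) (.leaf (nat_lit 2)))) (.node (nat_lit 8772) (.leaf (nat_lit 48)) (.node (nat_lit 8897) (.leaf (nat_lit 72)) (.leaf (nat_lit 48)))))) (.node (nat_lit 9951) (.node (nat_lit 9630) (.node (nat_lit 9233) (.leaf (nat_lit 72)) (.node (nat_lit 9528) (.leaf (nat_lit 48)) (.leaf (nat_lit 2)))) (.node (nat_lit 9722) (.leaf (nat_lit 48)) (.node (nat_lit 9820) (.leaf (nat_lit 2)) (.leaf (nat_lit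 72))))) (.node (nat_lit 10283) (.node (nat_lit 10107) (.leaf (nat_lit 48)) (.node (nat_lit 10212) (.leaf (nat_lit 72)) (.leaf (nat_lit 48)))) (.node (nat_lit 10636) (.leaf (nat_lit 72)) (.node (nat_lit 10761) (.leaf (nat_lit 48)) (.leaf (nat_lit 72))))))) (.node (nat_lit 12301) (.node (nat_lit 11667) (.node (nat_lit 11308) (.node (nat_lit 10905) (.leaf (nat_lit 3)) (.leaf (nat_lit 48))) (.node (nat_lit 11310) (.leaf (nat_lit 72)) (.node (nat_lit 11354) (.leaf (nat_lit 3)) (.leaf (nat_lit 48))))) (.node (nat_lit 12073) (.node (nat_lit 11708) (.leaf (nat_lit 2)) (.node (nat_lit 11740) (.leaf (nat_lit 48)) (.leaf (nat_lit 2)))) (.node (nat_lit 12193) (.leaf (nat_lit 72)) (.node (nat_lit 12286) (.leaf (nat_lit 48)) (.leaf (nat_lit 3)))))) (.node (nat_lit 13104) (.node (nat_lit 12658) (.node (nat_lit 12364) (.leaf (nat_lit 48)) (.node (nat_lit 12429) (.leaf (nat_lit 2)) (.leaf (nat_lit 48)))) (.node (nat_lit 12854) (.leaf (nat_lit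 72)) (.node (nat_lit 12885) (.leaf (nat_lit 48)) (.leaf (nat_lit 72))))) (.node (nat_lit 14035) (.node (nat_lit 13381) (.leaf (nat_lit 2)) (.node (nat_lit 13761) (.leaf (nat_lit 0)) (.leaf (nat_lit 3)))) (.node (nat_lit 14105) (.leaf (nat_lit 72)) (.node (nat_lit 14240) (.leaf (nat_lit 2)) (.leaf (nat_lit 48))))))))) (.node (nat_lit 22328) (.node (nat_lit 18226) (.node (nat_lit 16155) (.node (nat_lit 15293) (.node (nat_lit 15103) (.node (nat_lit 14859) (.leaf (nat_lit 72)) (.leaf (nat_lit 48))) (.node (nat_lit 15158) (.leaf (nat_lit 72)) (.node (nat_lit 15261) (.leaf (nat_lit 48)) (.leaf (nat_lit 72))))) (.node (nat_lit 15588) (.node (nat_lit 15383) (.leaf (nat_lit 2)) (.node (nat_lit 15520) (.leaf (nat_lit 48)) (.leaf (nat_lit 72)))) (.node (nat_lit 15722) (.leaf (nat_lit 2)) (.node (nat_lit 16069) (.leaf (nat_lit 48)) (.leaf (nat_lit 72)))))) (.node (nat_lit 17327) (.node (nat_lit 16789) (.node (nat_lit 16392) (.leaf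 (nat_lit 48)) (.leaf (nat_lit 72))) (.node (nat_lit 16847) (.leaf (nat_lit 2)) (.node (nat_lit 17015) (.leaf (nat_lit 48)) (.leaf (nat_lit 72))))) (.node (nat_lit 17945) (.node (nat_lit 17825) (.leaf (nat_lit 48)) (.node (nat_lit 17898) (.leaf (nat_lit 72)) (.leaf (nat_lit 48)))) (.node (nat_lit 18058) (.leaf (nat_lit 72)) (.node (nat_lit 18108) (.leaf (nat_lit 48)) (.leaf (nat_lit 72))))))) (.node (nat_lit 20128) (.node (nat_lit 19296) (.node (nat_lit 18471) (.node (nat_lit 18433) (.leaf (nat_lit 48)) (.leaf (nat_lit 72))) (.node (nat_lit 18700) (.leaf (nat_lit 48)) (.node (nat_lit 18706) (.leaf (nat_lit 2)) (.leaf (nat_lit 48))))) (.node (nat_lit 19642) (.node (nat_lit 19400) (.leaf (nat_lit 72)) (.node (nat_lit 19634) (.leaf (nat_lit 48)) (.leaf (nat_lit 2)))) (.node (nat_lit 20092) (.leaf (nat_lit 48)) (.node (nat_lit 20116) (.leaf (nat_lit 72)) (.leaf (nat_lit 48)))))) (.node (nat_lit 21052) (.node (nat_lit 20604)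 (.node (nat_lit 20234) (.leaf (nat_lit 72)) (.node (nat_lit 20471) (.leaf (nat_lit 2)) (.leaf (nat_lit 48)))) (.node (nat_lit 20722) (.leaf (nat_lit 3)) (.node (nat_lit 20737) (.leaf (nat_lit 48)) (.leaf (nat_lit 72))))) (.node (nat_lit 21486) (.node (nat_lit 21255) (.leaf (nat_lit 48)) (.node (nat_lit 21347) (.leaf (nat_lit 2)) (.leaf (nat_lit 72)))) (.node (nat_lit 21625) (.leaf (nat_lit 2)) (.node (nat_lit 22281) (.leaf (nat_lit 48)) (.leaf (nat_lit 2)))))))) (.node (nat_lit 25225) (.node (nat_lit 23704) (.node (nat_lit 23298) (.node (nat_lit 22593) (.node (nat_lit 22489) (.leaf (nat_lit 48)) (.leaf (nat_lit 72))) (.node (nat_lit 22782) (.leaf (nat_lit 48)) (.node (nat_lit 23285) (.leaf (nat_lit 72)) (.leaf (nat_lit 48))))) (.node (nat_lit 23571) (.node (nat_lit 23442) (.leaf (nat_lit 72)) (.node (nat_lit 23449) (.leaf (nat_lit 3)) (.leaf (nat_lit 72)))) (.node (nat_lit 23619) (.leaf (nat_lit 48)) (.node (nat_lit 23655)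 (.leaf (nat_lit 2)) (.leaf (nat_lit 48)))))) (.node (nat_lit 24562) (.node (nat_lit 24059) (.node (nat_lit 23988) (.leaf (nat_lit 72)) (.node (nat_lit 24012) (.leaf (nat_lit 2)) (.leaf (nat_lit 48)))) (.node (nat_lit 24281) (.leaf (nat_lit 2)) (.node (nat_lit 24294) (.leaf (nat_lit 72)) (.leaf (nat_lit 48))))) (.node (nat_lit 24863) (.node (nat_lit 24597) (.leaf (nat_lit 2)) (.node (nat_lit 24816) (.leaf (nat_lit 48)) (.leaf (nat_lit 72)))) (.node (nat_lit 24895) (.leaf (nat_lit 2)) (.node (nat_lit 25137) (.leaf (nat_lit 48)) (.leaf (nat_lit 2))))))) (.node (nat_lit 27005) (.node (nat_lit 26135) (.node (nat_lit 25521) (.node (nat_lit 25329) (.leaf (nat_lit 3)) (.leaf (nat_lit 48))) (.node (nat_lit 25527) (.leaf (nat_lit 72)) (.node (nat_lit 25559) (.leaf (nat_lit 48)) (.leaf (nat_lit 72))))) (.node (nat_lit 26768) (.node (nat_lit 26471) (.leaf (nat_lit 48)) (.node (nat_lit 26494) (.leaf (nat_lit 2)) (.leaf (nat_lit 3))))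 (.node (nat_lit 26773) (.leaf (nat_lit 72)) (.node (nat_lit 26810) (.leaf (nat_lit 48)) (.leaf (nat_lit 72)))))) (.node (nat_lit 27889) (.node (nat_lit 27559) (.node (nat_lit 27187) (.leaf (nat_lit 48)) (.node (nat_lit 27205) (.leaf (nat_lit 2)) (.leaf (nat_lit 48)))) (.node (nat_lit 27588) (.leaf (nat_lit 72)) (.node (nat_lit 27823) (.leaf (nat_lit 3)) (.leaf (nat_lit 48))))) (.node (nat_lit 28187) (.node (nat_lit 28005) (.leaf (nat_lit 72)) (.node (nat_lit 28176) (.leaf (nat_lit 48)) (.leaf (nat_lit 72)))) (.node (nat_lit 28273) (.leaf (nat_lit 48)) (.node (nat_lit 28468) (.leaf (nat_lit 72)) (.leaf (nat_lit 48)))))))))) (.node (nat_lit 42341) (.node (nat_lit 36021) (.node (nat_lit 32200) (.node (nat_lit 30711) (.node (nat_lit 29641) (.node (nat_lit 29315) (.node (nat_lit 28634) (.leaf (nat_lit 2)) (.leaf (nat_lit 48))) (.node (nat_lit 29362) (.leaf (nat_lit 3)) (.node (nat_lit 29565) (.leaf (nat_lit 48)) (.leaf (nat_lit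 72))))) (.node (nat_lit 30492) (.node (nat_lit 30225) (.leaf (nat_lit 48)) (.node (nat_lit 30248) (.leaf (nat_lit 3)) (.leaf (nat_lit 48)))) (.node (nat_lit 30516) (.leaf (nat_lit 72)) (.node (nat_lit 30578) (.leaf (nat_lit 48)) (.leaf (nat_lit 3)))))) (.node (nat_lit 31155) (.node (nat_lit 30730) (.node (nat_lit 30714) (.leaf (nat_lit 72)) (.leaf (nat_lit 48))) (.node (nat_lit 30825) (.leaf (nat_lit 3)) (.node (nat_lit 31123) (.leaf (nat_lit 48)) (.leaf (nat_lit 2))))) (.node (nat_lit 31832) (.node (nat_lit 31470) (.leaf (nat_lit 48)) (.node (nat_lit 31768) (.leaf (nat_lit 2)) (.leaf (nat_lit 3)))) (.node (nat_lit 31878) (.leaf (nat_lit 48)) (.node (nat_lit 31925) (.leaf (nat_lit 3)) (.leaf (nat_lit 48))))))) (.node (nat_lit 34252) (.node (nat_lit 33237) (.node (nat_lit 32674) (.node (nat_lit 32231) (.leaf (nat_lit 72)) (.leaf (nat_lit 48))) (.node (nat_lit 32684) (.leaf (nat_lit 72)) (.node (nat_lit 33166) (.leaf (nat_lit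 2)) (.leaf (nat_lit 3))))) (.node (nat_lit 34020) (.node (nat_lit 33479) (.leaf (nat_lit 48)) (.node (nat_lit 33505) (.leaf (nat_lit 2)) (.leaf (nat_lit 48)))) (.node (nat_lit 34106) (.leaf (nat_lit 72)) (.node (nat_lit 34232) (.leaf (nat_lit 48)) (.leaf (nat_lit 2)))))) (.node (nat_lit 34907) (.node (nat_lit 34760) (.node (nat_lit 34320) (.leaf (nat_lit 3)) (.node (nat_lit 34465) (.leaf (nat_lit 48)) (.leaf (nat_lit 72)))) (.node (nat_lit 34793) (.leaf (nat_lit 48)) (.node (nat_lit 34820) (.leaf (nat_lit 72)) (.leaf (nat_lit 48))))) (.node (nat_lit 35610) (.node (nat_lit 35310) (.leaf (nat_lit 72)) (.node (nat_lit 35583) (.leaf (nat_lit 2)) (.leaf (nat_lit 72)))) (.node (nat_lit 35851) (.leaf (nat_lit 48)) (.node (nat_lit 35919) (.leaf (nat_lit 2)) (.leaf (nat_lit 48)))))))) (.node (nat_lit 38929) (.node (nat_lit 37267) (.node (nat_lit 36365) (.node (nat_lit 36143) (.node (nat_lit 36060) (.leaf (nat_lit 72)) (.leaf (nat_lit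 3))) (.node (nat_lit 36306) (.leaf (nat_lit 48)) (.node (nat_lit 36352) (.leaf (nat_lit 2)) (.leaf (nat_lit 48))))) (.node (nat_lit 36601) (.node (nat_lit 36436) (.leaf (nat_lit 2)) (.node (nat_lit 36501) (.leaf (nat_lit 72)) (.leaf (nat_lit 2)))) (.node (nat_lit 36970) (.leaf (nat_lit 48)) (.node (nat_lit 37178) (.leaf (nat_lit 72)) (.leaf (nat_lit 2)))))) (.node (nat_lit 38628) (.node (nat_lit 37765) (.node (nat_lit 37593) (.leaf (nat_lit 48)) (.node (nat_lit 37730) (.leaf (nat_lit 72)) (.leaf (nat_lit 2)))) (.node (nat_lit 37998) (.leaf (nat_lit 48)) (.node (nat_lit 38606) (.leaf (nat_lit 72)) (.leaf (nat_lit 48))))) (.node (nat_lit 38791) (.node (nat_lit 38722) (.leaf (nat_lit 3)) (.node (nat_lit 38784) (.leaf (nat_lit 72)) (.leaf (nat_lit 48)))) (.node (nat_lit 38794) (.leaf (nat_lit 72)) (.node (nat_lit 38842) (.leaf (nat_lit 3)) (.leaf (nat_lit 48))))))) (.node (nat_lit 40891) (.node (nat_lit 39836) (.node (nat_lit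 39217) (.node (nat_lit 39100) (.leaf (nat_lit 2)) (.leaf (nat_lit 48))) (.node (nat_lit 39438) (.leaf (nat_lit 2)) (.node (nat_lit 39542) (.leaf (nat_lit 3)) (.leaf (nat_lit 48))))) (.node (nat_lit 40474) (.node (nat_lit 39936) (.leaf (nat_lit 2)) (.node (nat_lit 40322) (.leaf (nat_lit 48)) (.leaf (nat_lit 72)))) (.node (nat_lit 40506) (.leaf (nat_lit 3)) (.node (nat_lit 40871) (.leaf (nat_lit 48)) (.leaf (nat_lit 72)))))) (.node (nat_lit 41613) (.node (nat_lit 41063) (.node (nat_lit 40901) (.leaf (nat_lit 3)) (.node (nat_lit 40945) (.leaf (nat_lit 48)) (.leaf (nat_lit 72)))) (.node (nat_lit 41288) (.leaf (nat_lit 2)) (.node (nat_lit 41391) (.leaf (nat_lit 48)) (.leaf (nat_lit 72))))) (.node (nat_lit 42174) (.node (nat_lit 41996) (.leaf (nat_lit 48)) (.node (nat_lit 42068) (.leaf (nat_lit 2)) (.leaf (nat_lit 72)))) (.node (nat_lit 42198) (.leaf (nat_lit 2)) (.node (nat_lit 42287) (.leaf (nat_lit 48)) (.leaf (nat_lit 72)))))))))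 (.node (nat_lit 49267) (.node (nat_lit 46289) (.node (nat_lit 44447) (.node (nat_lit 44132) (.node (nat_lit 42450) (.node (nat_lit 42408) (.leaf (nat_lit 48)) (.leaf (nat_lit 2))) (.node (nat_lit 42885) (.leaf (nat_lit 48)) (.node (nat_lit 43000) (.leaf (nat_lit 72)) (.leaf (nat_lit 48))))) (.node (nat_lit 44244) (.node (nat_lit 44144) (.leaf (nat_lit 3)) (.node (nat_lit 44148) (.leaf (nat_lit 72)) (.leaf (nat_lit 2)))) (.node (nat_lit 44283) (.leaf (nat_lit 72)) (.node (nat_lit 44392) (.leaf (nat_lit 48)) (.leaf (nat_lit 72)))))) (.node (nat_lit 45292) (.node (nat_lit 44684) (.node (nat_lit 44548) (.leaf (nat_lit 48)) (.node (nat_lit 44607) (.leaf (nat_lit 3)) (.leaf (nat_lit 72)))) (.node (nat_lit 45222) (.leaf (nat_lit 48)) (.node (nat_lit 45242) (.leaf (nat_lit 72)) (.leaf (nat_lit 48))))) (.node (nat_lit 45539) (.node (nat_lit 45440) (.leaf (nat_lit 72)) (.node (nat_lit 45469) (.leaf (nat_lit 48)) (.leaf (nat_lit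 3)))) (.node (nat_lit 45808) (.leaf (nat_lit 48)) (.node (nat_lit 45928) (.leaf (nat_lit 2)) (.leaf (nat_lit 48))))))) (.node (nat_lit 47718) (.node (nat_lit 46581) (.node (nat_lit 46439) (.node (nat_lit 46321) (.leaf (nat_lit 2)) (.leaf (nat_lit 48))) (.node (nat_lit 46462) (.leaf (nat_lit 72)) (.node (nat_lit 46485) (.leaf (nat_lit 2)) (.leaf (nat_lit 48))))) (.node (nat_lit 47312) (.node (nat_lit 46742) (.leaf (nat_lit 3)) (.node (nat_lit 47009) (.leaf (nat_lit 72)) (.leaf (nat_lit 48)))) (.node (nat_lit 47538) (.leaf (nat_lit 3)) (.node (nat_lit 47585) (.leaf (nat_lit 72)) (.leaf (nat_lit 48)))))) (.node (nat_lit 48490) (.node (nat_lit 48035) (.node (nat_lit 47721) (.leaf (nat_lit 72)) (.node (nat_lit 48010) (.leaf (nat_lit 48)) (.leaf (nat_lit 2)))) (.node (nat_lit 48165) (.leaf (nat_lit 48)) (.node (nat_lit 48188) (.leaf (nat_lit 2)) (.leaf (nat_lit 48))))) (.node (nat_lit 49059) (.node (nat_lit 48572) (.leaf (nat_lit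 2)) (.node (nat_lit 48607) (.leaf (nat_lit 3)) (.leaf (nat_lit 48)))) (.node (nat_lit 49088) (.leaf (nat_lit 72)) (.node (nat_lit 49101) (.leaf (nat_lit 48)) (.leaf (nat_lit 72)))))))) (.node (nat_lit 51775) (.node (nat_lit 50556) (.node (nat_lit 49677) (.node (nat_lit 49339) (.node (nat_lit 49287) (.leaf (nat_lit 48)) (.leaf (nat_lit 2))) (.node (nat_lit 49419) (.leaf (nat_lit 48)) (.node (nat_lit 49514) (.leaf (nat_lit 72)) (.leaf (nat_lit 48))))) (.node (nat_lit 50202) (.node (nat_lit 49703) (.leaf (nat_lit 2)) (.node (nat_lit 49954) (.leaf (nat_lit 48)) (.leaf (nat_lit 72)))) (.node (nat_lit 50256) (.leaf (nat_lit 48)) (.node (nat_lit 50271) (.leaf (nat_lit 2)) (.leaf (nat_lit 48)))))) (.node (nat_lit 50871) (.node (nat_lit 50686) (.node (nat_lit 50590) (.leaf (nat_lit 72)) (.node (nat_lit 50615) (.leaf (nat_lit 48)) (.leaf (nat_lit 72)))) (.node (nat_lit 50723) (.leaf (nat_lit 48)) (.node (nat_lit 50725) (.leaf (nat_lit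 72)) (.leaf (nat_lit 48))))) (.node (nat_lit 51188) (.node (nat_lit 51061) (.leaf (nat_lit 72)) (.node (nat_lit 51125) (.leaf (nat_lit 48)) (.leaf (nat_lit 72)))) (.node (nat_lit 51284) (.leaf (nat_lit 48)) (.node (nat_lit 51450) (.leaf (nat_lit 2)) (.leaf (nat_lit 48))))))) (.node (nat_lit 53396) (.node (nat_lit 52706) (.node (nat_lit 51969) (.node (nat_lit 51912) (.leaf (nat_lit 72)) (.leaf (nat_lit 48))) (.node (nat_lit 52266) (.leaf (nat_lit 72)) (.node (nat_lit 52696) (.leaf (nat_lit 48)) (.leaf (nat_lit 3))))) (.node (nat_lit 53296) (.node (nat_lit 52894) (.leaf (nat_lit 2)) (.node (nat_lit 53217) (.leaf (nat_lit 48)) (.leaf (nat_lit 2)))) (.node (nat_lit 53342) (.leaf (nat_lit 72)) (.node (nat_lit 53361) (.leaf (nat_lit 48)) (.leaf (nat_lit 72)))))) (.node (nat_lit 54578) (.node (nat_lit 54153) (.node (nat_lit 53991) (.leaf (nat_lit 48)) (.node (nat_lit 54032) (.leaf (nat_lit 72)) (.leaf (nat_lit 2)))) (.node (nat_lit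 54428) (.leaf (nat_lit 72)) (.node (nat_lit 54576) (.leaf (nat_lit 48)) (.leaf (nat_lit 72))))) (.node (nat_lit 54900) (.node (nat_lit 54608) (.leaf (nat_lit 48)) (.node (nat_lit 54849) (.leaf (nat_lit 72)) (.leaf (nat_lit 48)))) (.node (nat_lit 55170) (.leaf (nat_lit 72)) (.node (nat_lit 55800) (.leaf (nat_lit 48)) (.leaf (nat_lit 72)))))))))))
noncomputable def HC_soc_t1 : ST := (.node (nat_lit 3472) (.node (nat_lit 1978) (.node (nat_lit 1023) (.node (nat_lit 279) (.node (nat_lit 107) (.node (nat_lit 96) (.leaf (nat_lit 192)) (.leaf (nat_lit 48))) (.node (nat_lit 263) (.leaf (nat_lit 192)) (.leaf (nat_lit 48)))) (.node (nat_lit 761) (.node (nat_lit 746) (.leaf (nat_lit 192)) (.leaf (nat_lit 48))) (.node (nat_lit 955) (.leaf (nat_lit 192)) (.leaf (nat_lit 48))))) (.node (nat_lit 1151) (.node (nat_lit 1043) (.node (nat_lit 1039) (.leaf (nat_lit 192)) (.leaf (nat_lit 48))) (.node (nat_lit 1131) (.leaf (nat_lit 192)) (.leaf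 (nat_lit 48)))) (.node (nat_lit 1313) (.node (nat_lit 1308) (.leaf (nat_lit 192)) (.leaf (nat_lit 48))) (.node (nat_lit 1951) (.leaf (nat_lit 192)) (.leaf (nat_lit 2)))))) (.node (nat_lit 2369) (.node (nat_lit 2213) (.node (nat_lit 2070) (.node (nat_lit 2046) (.leaf (nat_lit 192)) (.leaf (nat_lit 2))) (.node (nat_lit 2191) (.leaf (nat_lit 192)) (.leaf (nat_lit 48)))) (.node (nat_lit 2284) (.node (nat_lit 2279) (.leaf (nat_lit 192)) (.leaf (nat_lit 48))) (.node (nat_lit 2350) (.leaf (nat_lit 192)) (.leaf (nat_lit 48))))) (.node (nat_lit 2646) (.node (nat_lit 2474) (.node (nat_lit 2469) (.leaf (nat_lit 192)) (.leaf (nat_lit 0))) (.node (nat_lit 2637) (.leaf (nat_lit 192)) (.leaf (nat_lit 48)))) (.node (nat_lit 2778) (.node (nat_lit 2768) (.leaf (nat_lit 192)) (.leaf (nat_lit 48))) (.node (nat_lit 2970) (.leaf (nat_lit 192)) (.node (nat_lit 2972) (.leaf (nat_lit 48)) (.leaf (nat_lit 192)))))))) (.node (nat_lit 4713) (.node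 (nat_lit 4333) (.node (nat_lit 4070) (.node (nat_lit 3633) (.node (nat_lit 3484) (.leaf (nat_lit 48)) (.leaf (nat_lit 192))) (.node (nat_lit 3635) (.leaf (nat_lit 48)) (.leaf (nat_lit 192)))) (.node (nat_lit 4283) (.node (nat_lit 4079) (.leaf (nat_lit 48)) (.leaf (nat_lit 192))) (.node (nat_lit 4284) (.leaf (nat_lit 48)) (.leaf (nat_lit 192))))) (.node (nat_lit 4483) (.node (nat_lit 4463) (.node (nat_lit 4362) (.leaf (nat_lit 48)) (.leaf (nat_lit 192))) (.node (nat_lit 4472) (.leaf (nat_lit 48)) (.leaf (nat_lit 192)))) (.node (nat_lit 4585) (.node (nat_lit 4486) (.leaf (nat_lit 48)) (.leaf (nat_lit 192))) (.node (nat_lit 4642) (.leaf (nat_lit 48)) (.node (nat_lit 4706) (.leaf (nat_lit 192)) (.leaf (nat_lit 48))))))) (.node (nat_lit 5856) (.node (nat_lit 5415) (.node (nat_lit 5229) (.node (nat_lit 5225) (.leaf (nat_lit 192)) (.leaf (nat_lit 48))) (.node (nat_lit 5409) (.leaf (nat_lit 192)) (.leaf (nat_lit 48)))) (.node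 (nat_lit 5466) (.node (nat_lit 5462) (.leaf (nat_lit 192)) (.leaf (nat_lit 48))) (.node (nat_lit 5852) (.leaf (nat_lit 192)) (.leaf (nat_lit 48))))) (.node (nat_lit 6596) (.node (nat_lit 6280) (.node (nat_lit 6275) (.leaf (nat_lit 192)) (.leaf (nat_lit 48))) (.node (nat_lit 6593) (.leaf (nat_lit 192)) (.leaf (nat_lit 48)))) (.node (nat_lit 6614) (.node (nat_lit 6605) (.leaf (nat_lit 192)) (.leaf (nat_lit 48))) (.node (nat_lit 6842) (.leaf (nat_lit 192)) (.node (nat_lit 6847) (.leaf (nat_lit 48)) (.leaf (nat_lit 192)))))))))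
noncomputable def HC_soc_F : Fm := (.all HC_L (.or (.qf (.eq (.v (nat_lit 0)) .one)) (.exF HC_L (fun cs => HC_soc_t1.find (Nat.mod (nth (nat_lit 0) cs (nat_lit 0)) (nat_lit 6877))) (.exF HC_L (fun cs => HC_soc_t0.find (Nat.mod (Nat.add (nth (nat_lit 0) cs (nat_lit 0)) (Nat.mul (nat_lit 7919) (nth (nat_lit 0) cs (nat_lit 1)))) (nat_lit 55899))) (.qf (.or (.eq (.mul (.mul (.v (nat_lit 0)) (.v (nat_lit 2))) (.inv (.v (nat_lit 0)))) (.v (nat_lit 3))) (.or (.eq (.mul (.mul (.v (nat_lit 0)) (.v (nat_lit 2))) (.inv (.v (nat_lit 0)))) (.v (nat_lit 3))) (.or (.eq (.mul (.mul (.v (nat_lit 0)) (.mul (.mul (.mul (.v (nat_lit 2)) (.v (nat_lit 1))) (.inv (.v (nat_lit 2)))) (.inv (.v (nat_lit 1))))) (.inv (.v (nat_lit 0)))) (.v (nat_lit 3))) (.or (.eq (.mul (.mul (.v (nat_lit 0)) (.mul (.mul (.mul (.v (nat_lit 2)) (.v (nat_lit 1))) (.inv (.v (nat_lit 2)))) (.inv (.v (nat_lit 1))))) (.inv (.v (nat_lit 0)))) (.v (nat_lit 3))) (.or (.eq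 (.mul (.mul (.mul (.mul (.mul (.mul (.v (nat_lit 2)) (.v (nat_lit 1))) (.inv (.v (nat_lit 2)))) (.inv (.v (nat_lit 1)))) (.v (nat_lit 0))) (.inv (.mul (.mul (.mul (.v (nat_lit 2)) (.v (nat_lit 1))) (.inv (.v (nat_lit 2)))) (.inv (.v (nat_lit 1)))))) (.inv (.v (nat_lit 0)))) (.v (nat_lit 3))) (.eq (.mul (.mul (.mul (.mul (.mul (.mul (.v (nat_lit 2)) (.v (nat_lit 1))) (.inv (.v (nat_lit 2)))) (.inv (.v (nat_lit 1)))) (.v (nat_lit 0))) (.inv (.mul (.mul (.mul (.v (nat_lit 2)) (.v (nat_lit 1))) (.inv (.v (nat_lit 2)))) (.inv (.v (nat_lit 1)))))) (.inv (.v (nat_lit 0)))) (.v (nat_lit 3)))))))))))))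
theorem HC_soc_chk : Fm.chk HC_o HC_soc_F HC_cs = true := by decide +kernel
theorem HC_soc {G : Type*} [Group G] {R : ℕ → G → Prop} {z u v a b r x X_ y Y_ : G} {H : Subgroup G}
    (M : Mdl HC_o HC_cs HC_L R [z, u, v, a, b, r, x, X_, y, Y_] H) :
    ∀ y_ ∈ H, y_ = 1 ∨ (∃ q_ ∈ H, ∃ k_ ∈ H, k_ * y_ * k_⁻¹ = z ∨ k_ * y_ * k_⁻¹ = z ∨ k_ * ⁅y_, q_⁆ * k_⁻¹ = z ∨ k_ * ⁅y_, q_⁆ * k_⁻¹ = z ∨ ⁅⁅y_, q_⁆, k_⁆ = z ∨ ⁅⁅y_, q_⁆, k_⁆ = z) :=
  have h : ∀ y_, InL HC_o R HC_L y_ → y_ = 1 ∨ (Good HC_o R HC_L → prods HC_o HC_L HC_o.one ≠ [] → ∃ q_, InL HC_o R HC_L q_ ∧ (Good HC_o R HC_L → prods HC_o HC_L HC_o.one ≠ [] → ∃ k_, InL HC_o R HC_L k_ ∧ (k_ * y_ * k_⁻¹ = z ∨ k_ * y_ * k_⁻¹ = z ∨ k_ * ⁅y_, q_⁆ * k_⁻¹ = z ∨ k_ * ⁅y_, q_⁆ * k_⁻¹ = z ∨ ⁅⁅y_, q_⁆, k_⁆ = z ∨ ⁅⁅y_, q_⁆, k_⁆ = z))) :=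
    Fm.sound M.μ HC_soc_F HC_soc_chk M.reps
  (fun y_ h0 => (Or.imp (fun h1 => h1) (fun h1 => (Exists.imp (fun q_ h2 => ⟨M.H.iff.1 h2.1, (Exists.imp (fun k_ h3 => ⟨M.H.iff.1 h3.1, h3.2⟩) (h2.2 M.H.good M.H.ne))⟩) (h1 M.H.good M.H.ne))) (h y_ (M.H.iff.2 h0))))
theorem HC_mdl {G : Type*} [Group G] {z u v a b r x y : G}
    (h : Q3 z u v a b x)
    (k : RA z u v r x)
    (l : RY z u v r x y)
    (n1 : z ≠ 1) :
    ∃ R, Mdl HC_o HC_cs HC_L R [z, u, v, a, b, r, x, x⁻¹, y, y⁻¹] (sp [z, u, v, a, b, r, x, x⁻¹, y, y⁻¹]) ∧ #(sp [z, u, v, a, b, r, x, x⁻¹, y, y⁻¹]) = 576 :=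
  mdl_of HC_P rfl (HC_r h k l) (.v (nat_lit 0)) (.v (nat_lit 0)) n1 n1 
    fun _ ms _ M hl => match ms, M, (hl : ms.length = 10) with
      | [_, _, _, _, _, _, _, _, _, _], M, _ => HC_soc M
noncomputable def HC_lQ : List ℕ := [(nat_lit 0x6b38bdab49ca307b9ac5a928398a418820), (nat_lit 0x69f19d6c7ba70bcb5cc80642a0c8532140), (nat_lit 0x6a2facee9b1f2ec416c68682918a41a140), (nat_lit 0x6ab38bf2ec2ee9b50ec906086988518940), (nat_lit 0x6a2fb5e67aa730c39ac58a41a14c322900), (nat_lit 0x6ad38e5e7c4af0ab5cc59523a094141880), (nat_lit 0x6b19b5e72ad1ed8ae0c728e848c8530820), (nat_lit 0x6ad7c65ed8c272a9e8c4a96270ca432020), (nat_lit 0x6b19acef4b49eb8b5cc8212a3906628440), (nat_lit 0x6ab7c3f348a66bb39ac812463a02a10ca0), (nat_lit 0x6af6ce2307b6b49a64c3a9c2598851a020), (nat_lit 0x6b389d6d2bd22e7c16c6a0ea494c320440), (nat_lit 0x6af57e229cd2cd9c16c710e69094140ca0), (nat_lit 0x6a75ce22e7aed2b9e8c4a2016946622840), (nat_lit 0x69f8bd6cd9ae29c9e8c912037082a418a0),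 (nat_lit 0x6af67c70dcc2a99d0ec9096a710c328500), (nat_lit 0x6af5cc7147a6d09b5cc59a443a84809460), (nat_lit 0x6a76cc71279eaebae0c696834a02a11880), (nat_lit 0x6a757c70bcbac7bc92ca05a880ca430940), (nat_lit 0x69f1bdaa999f0dcae0c70a81910662a900), (nat_lit 0x6b319daaebc3127d0ec495666a14110c80), (nat_lit 0x6a767e227ccaabbb9ac80d25a0502510c0), (nat_lit 0x6ad78bf30c3667ac92ca09ca5946620500), (nat_lit 0x6a39b4ef0ab9e7c264ca15a65882a40c80), (nat_lit 0x6ab3c65eb8baf4b264c3a1a1810c32a840), (nat_lit 0x6ad3c3f3289eedac16c70e854a848090c0), (nat_lit 0x6b0fb4eedaaf328d0ec48e0472902094c0), (nat_lit 0x6b0fade6bb37348c92c391c382141118a0), (nat_lit 0x6a39ade6eb41e9c1e8c919656844851060), (nat_lit 0x6ab78e5e9c526eb2e0c698e49050251460), (nat_lit 0x6b31bd6d09bb147c92c399a55a90209060), (nat_lit 0x69f89daabbb627ca64ca0dc480448514c0)]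
noncomputable def HC_lQ_W : List (List ℕ) := [[],
  [(nat_lit 0)],
  [(nat_lit 1)],
  [(nat_lit 2)],
  [(nat_lit 3)],
  [(nat_lit 4)],
  [(nat_lit 0), (nat_lit 1)],
  [(nat_lit 0), (nat_lit 2)],
  [(nat_lit 0), (nat_lit 3)],
  [(nat_lit 0), (nat_lit 4)],
  [(nat_lit 1), (nat_lit 2)],
  [(nat_lit 1), (nat_lit 3)],
  [(nat_lit 1), (nat_lit 4)],
  [(nat_lit 2), (nat_lit 3)],
  [(nat_lit 2), (nat_lit 4)],
  [(nat_lit 3), (nat_lit 2)],
  [(nat_lit 3), (nat_lit 4)],
  [(nat_lit 4), (nat_lit 1)],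
  [(nat_lit 0), (nat_lit 1), (nat_lit 2)],
  [(nat_lit 0), (nat_lit 1), (nat_lit 3)],
  [(nat_lit 0), (nat_lit 2), (nat_lit 4)],
  [(nat_lit 0), (nat_lit 3), (nat_lit 4)],
  [(nat_lit 1), (nat_lit 2), (nat_lit 3)],
  [(nat_lit 1), (nat_lit 2), (nat_lit 4)],
  [(nat_lit 1), (nat_lit 3), (nat_lit 2)],
  [(nat_lit 1), (nat_lit 3), (nat_lit 4)],
  [(nat_lit 2), (nat_lit 3), (nat_lit 4)],
  [(nat_lit 2), (nat_lit 4), (nat_lit 1)],
  [(nat_lit 3), (nat_lit 2), (nat_lit 4)],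
  [(nat_lit 3), (nat_lit 4), (nat_lit 1)],
  [(nat_lit 1), (nat_lit 2), (nat_lit 3), (nat_lit 4)],
  [(nat_lit 1), (nat_lit 3), (nat_lit 2), (nat_lit 4)]]
noncomputable def HC_lQ_h (c : ℕ) : ℕ := Nat.mod c (nat_lit 251)
theorem HC_lQ_E {G : Type*} [Group G] {R : ℕ → G → Prop} {z u v a b r x y : G} {H : Subgroup G}
    (M : Mdl HC_o HC_cs HC_L R [z, u, v, a, b, r, x, x⁻¹, y, y⁻¹] H) :
    EnumS R HC_lQ (sp [z, u, v, a, b]) :=
  enumS_sp M.μ.1 (M.reps.tms M.μ.1 [(.v (nat_lit 0)), (.v (nat_lit 1)), (.v (nat_lit 2)), (.v (nat_lit 3)), (.v (nat_lit 4))] (cs' := [(nat_lit 0x69f19d6c7ba70bcb5cc80642a0c8532140), (nat_lit 0x6a2facee9b1f2ec416c68682918a41a140), (nat_lit 0x6ab38bf2ec2ee9b50ec906086988518940), (nat_lit 0x6a2fb5e67aa730c39ac58a41a14c322900), (nat_lit 0x6ad38e5e7c4af0ab5cc59523a094141880)]) (by decide +kernel))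
    (Ws := HC_lQ_W) (by decide +kernel) (by decide +kernel)
theorem HC_lQ_c {G : Type*} [Group G] {R : ℕ → G → Prop} {z u v a b r x y : G} {H : Subgroup G}
    (M : Mdl HC_o HC_cs HC_L R [z, u, v, a, b, r, x, x⁻¹, y, y⁻¹] H) :
    #(sp [z, u, v, a, b]) = 32 :=
  (HC_lQ_E M).card M.μ (h := HC_lQ_h) (by decide +kernel)
noncomputable def HC_lT : List ℕ := [(nat_lit 0x6b38bdab49ca307b9ac5a928398a418820), (nat_lit 0x69f19d6c7ba70bcb5cc80642a0c8532140), (nat_lit 0x6a2facee9b1f2ec416c68682918a41a140), (nat_lit 0x6ab38bf2ec2ee9b50ec906086988518940), (nat_lit 0x6a2fb5e67aa730c39ac58a41a14c322900), (nat_lit 0x6ad38e5e7c4af0ab5cc59523a094141880), (nat_lit 0x69b0950f64dd7873f208aa62a8c853202c), (nat_lit 0x6b19b5e72ad1ed8ae0c728e848c8530820), (nat_lit 0x6ad7c65ed8c272a9e8c4a96270ca432020), (nat_lit 0x6b19acef4b49eb8b5cc8212a3906628440), (nat_lit 0x6ab7c3f348a66bb39ac812463a02a10ca0), (nat_lit 0x69cb49e9594e116e5e0c06e8b18a41894c),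 (nat_lit 0x6af6ce2307b6b49a64c3a9c2598851a020), (nat_lit 0x6b389d6d2bd22e7c16c6a0ea494c320440), (nat_lit 0x6af57e229cd2cd9c16c710e69094140ca0), (nat_lit 0x696e3a653a55af86220c86c8b8c853094c), (nat_lit 0x6a75ce22e7aed2b9e8c4a2016946622840), (nat_lit 0x69f8bd6cd9ae29c9e8c912037082a418a0), (nat_lit 0x68e95b9af84653a5aa0b8702c8ca43214c), (nat_lit 0x6af67c70dcc2a99d0ec9096a710c328500), (nat_lit 0x6af5cc7147a6d09b5cc59a443a84809460), (nat_lit 0x696ea49353cdb883f208a2e1b10662a84c), (nat_lit 0x6a76cc71279eaebae0c696834a02a11880), (nat_lit 0x6a895b5d585e583e5e089266b214110cac), (nat_lit 0x69b049e979596f76220c8aaa990662850c), (nat_lit 0x69d091e994c5736d6c0b97067a02a10c8c), (nat_lit 0x6a757c70bcbac7bc92ca05a880ca430940), (nat_lit 0x69f1bdaa999f0dcae0c70a81910662a900), (nat_lit 0x6a0da49373d9d95c7007aaa2998a41a02c), (nat_lit 0x6b319daaebc3127d0ec495666a14110c80), (nat_lit 0x6a92835d95e1373d6c09aa28798851882c), (nat_lit 0x6a767e227ccaabbb9ac80d25a0502510c0),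 (nat_lit 0x6a0d3a656a5dd15e5e0c0a6aa94c32050c), (nat_lit 0x68f2839b65cd31a3f20c16e3a882a4188c), (nat_lit 0x69cb950f34d6196c7007a2c1b94c32284c), (nat_lit 0x69ab4d0ef9621775aa099223c8941418ac), (nat_lit 0x6ad78bf30c3667ac92ca09ca5946620500), (nat_lit 0x6a39b4ef0ab9e7c264ca15a65882a40c80), (nat_lit 0x6a546c178764f64cee0aa9e888ca43082c), (nat_lit 0x6ab3c65eb8baf4b264c3a1a1810c32a840), (nat_lit 0x6ad3c3f3289eedac16c70e854a848090c0), (nat_lit 0x6a47741736da994e220796a3ba1411188c), (nat_lit 0x696da26583bdd584ee0b13238a02a118ac), (nat_lit 0x6b0fb4eedaaf328d0ec48e0472902094c0), (nat_lit 0x69276c16f74697956c098b01c90c32a90c), (nat_lit 0x6b0fade6bb37348c92c391c382141118a0), (nat_lit 0x6a925b9b8865353de60b21ea890c32844c), (nat_lit 0x6a39ade6eb41e9c1e8c919656844851060), (nat_lit 0x6a5472e196e0f34daa0ba22a794662044c), (nat_lit 0x6ab78e5e9c526eb2e0c698e49050251460), (nat_lit 0x6a476ae1674e984e5e088ee5aa902090cc), (nat_lit 0x696d3c92fa61d3856c0b8e24c8502514cc),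 (nat_lit 0x69346ae17754ef94700c92c69882a40cac), (nat_lit 0x68f25b5d38592fa4700c8ea5b8448510cc), (nat_lit 0x68e9835d15be56a4ee0a8b21c14662290c), (nat_lit 0x69d04d0f1965756cee0b19e5c05025106c), (nat_lit 0x6a0e3c931a65b65de60a95e6c094140c8c), (nat_lit 0x692772e116be9595e60b0722c18851a14c), (nat_lit 0x6934741756dcf193f20c1a64b04485146c), (nat_lit 0x6a0ea26593c5b75daa099b057a8480906c), (nat_lit 0x6a89839b75d6593e22079ac49a9020946c), (nat_lit 0x69ab91e984be1675e60a8f248a848094cc), (nat_lit 0x6b31bd6d09bb147c92c399a55a90209060), (nat_lit 0x69f89daabbb627ca64ca0dc480448514c0)]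
noncomputable def HC_lT_W : List (List ℕ) := [[],
  [(nat_lit 0)],
  [(nat_lit 1)],
  [(nat_lit 2)],
  [(nat_lit 3)],
  [(nat_lit 4)],
  [(nat_lit 5)],
  [(nat_lit 0), (nat_lit 1)],
  [(nat_lit 0), (nat_lit 2)],
  [(nat_lit 0), (nat_lit 3)],
  [(nat_lit 0), (nat_lit 4)],
  [(nat_lit 0), (nat_lit 5)],
  [(nat_lit 1), (nat_lit 2)],
  [(nat_lit 1), (nat_lit 3)],
  [(nat_lit 1), (nat_lit 4)],
  [(nat_lit 1), (nat_lit 5)],
  [(nat_lit 2), (nat_lit 3)],
  [(nat_lit 2), (nat_lit 4)],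
  [(nat_lit 2), (nat_lit 5)],
  [(nat_lit 3), (nat_lit 2)],
  [(nat_lit 3), (nat_lit 4)],
  [(nat_lit 3), (nat_lit 5)],
  [(nat_lit 4), (nat_lit 1)],
  [(nat_lit 4), (nat_lit 5)],
  [(nat_lit 5), (nat_lit 3)],
  [(nat_lit 5), (nat_lit 4)],
  [(nat_lit 0), (nat_lit 1), (nat_lit 2)],
  [(nat_lit 0), (nat_lit 1), (nat_lit 3)],
  [(nat_lit 0), (nat_lit 1), (nat_lit 5)],
  [(nat_lit 0), (nat_lit 2), (nat_lit 4)],
  [(nat_lit 0), (nat_lit 2), (nat_lit 5)],
  [(nat_lit 0), (nat_lit 3), (nat_lit 4)],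
  [(nat_lit 0), (nat_lit 3), (nat_lit 5)],
  [(nat_lit 0), (nat_lit 4), (nat_lit 5)],
  [(nat_lit 0), (nat_lit 5), (nat_lit 3)],
  [(nat_lit 0), (nat_lit 5), (nat_lit 4)],
  [(nat_lit 1), (nat_lit 2), (nat_lit 3)],
  [(nat_lit 1), (nat_lit 2), (nat_lit 4)],
  [(nat_lit 1), (nat_lit 2), (nat_lit 5)],
  [(nat_lit 1), (nat_lit 3), (nat_lit 2)],
  [(nat_lit 1), (nat_lit 3), (nat_lit 4)],
  [(nat_lit 1), (nat_lit 4), (nat_lit 5)],
  [(nat_lit 1), (nat_lit 5), (nat_lit 4)],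
  [(nat_lit 2), (nat_lit 3), (nat_lit 4)],
  [(nat_lit 2), (nat_lit 3), (nat_lit 5)],
  [(nat_lit 2), (nat_lit 4), (nat_lit 1)],
  [(nat_lit 2), (nat_lit 5), (nat_lit 3)],
  [(nat_lit 3), (nat_lit 2), (nat_lit 4)],
  [(nat_lit 3), (nat_lit 2), (nat_lit 5)],
  [(nat_lit 3), (nat_lit 4), (nat_lit 1)],
  [(nat_lit 3), (nat_lit 4), (nat_lit 5)],
  [(nat_lit 3), (nat_lit 5), (nat_lit 4)],
  [(nat_lit 4), (nat_lit 1), (nat_lit 5)],
  [(nat_lit 4), (nat_lit 5), (nat_lit 3)],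
  [(nat_lit 5), (nat_lit 3), (nat_lit 2)],
  [(nat_lit 5), (nat_lit 3), (nat_lit 4)],
  [(nat_lit 5), (nat_lit 4), (nat_lit 1)],
  [(nat_lit 0), (nat_lit 1), (nat_lit 2), (nat_lit 5)],
  [(nat_lit 0), (nat_lit 3), (nat_lit 4), (nat_lit 5)],
  [(nat_lit 0), (nat_lit 3), (nat_lit 5), (nat_lit 4)],
  [(nat_lit 0), (nat_lit 4), (nat_lit 5), (nat_lit 3)],
  [(nat_lit 0), (nat_lit 5), (nat_lit 3), (nat_lit 4)],
  [(nat_lit 1), (nat_lit 2), (nat_lit 3), (nat_lit 4)],
  [(nat_lit 1), (nat_lit 3), (nat_lit 2), (nat_lit 4)]]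
noncomputable def HC_lT_h (c : ℕ) : ℕ := Nat.mod c (nat_lit 1790)
theorem HC_lT_E {G : Type*} [Group G] {R : ℕ → G → Prop} {z u v a b r x y : G} {H : Subgroup G}
    (M : Mdl HC_o HC_cs HC_L R [z, u, v, a, b, r, x, x⁻¹, y, y⁻¹] H) :
    EnumS R HC_lT (sp [z, u, v, a, b, r]) :=
  enumS_sp M.μ.1 (M.reps.tms M.μ.1 [(.v (nat_lit 0)), (.v (nat_lit 1)), (.v (nat_lit 2)), (.v (nat_lit 3)), (.v (nat_lit 4)), (.v (nat_lit 5))] (cs' := [(nat_lit 0x69f19d6c7ba70bcb5cc80642a0c8532140), (nat_lit 0x6a2facee9b1f2ec416c68682918a41a140), (nat_lit 0x6ab38bf2ec2ee9b50ec906086988518940), (nat_lit 0x6a2fb5e67aa730c39ac58a41a14c322900), (nat_lit 0x6ad38e5e7c4af0ab5cc59523a094141880), (nat_lit 0x69b0950f64dd7873f208aa62a8c853202c)]) (by decide +kernel))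
    (Ws := HC_lT_W) (by decide +kernel) (by decide +kernel)
theorem HC_lT_c {G : Type*} [Group G] {R : ℕ → G → Prop} {z u v a b r x y : G} {H : Subgroup G}
    (M : Mdl HC_o HC_cs HC_L R [z, u, v, a, b, r, x, x⁻¹, y, y⁻¹] H) :
    #(sp [z, u, v, a, b, r]) = 64 :=
  (HC_lT_E M).card M.μ (h := HC_lT_h) (by decide +kernel)
noncomputable def HC_lR0 : List ℕ := [(nat_lit 0x6b38bdab49ca307b9ac5a928398a418820), (nat_lit 0x69f19d6c7ba70bcb5cc80642a0c8532140), (nat_lit 0x6a2facee9b1f2ec416c68682918a41a140), (nat_lit 0x6ab38bf2ec2ee9b50ec906086988518940), (nat_lit 0x6a2fb5e67aa730c39ac58a41a14c322900), (nat_lit 0x69b0950f64dd7873f208aa62a8c853202c), (nat_lit 0x6b19b5e72ad1ed8ae0c728e848c8530820), (nat_lit 0x6ad7c65ed8c272a9e8c4a96270ca432020), (nat_lit 0x6b19acef4b49eb8b5cc8212a3906628440), (nat_lit 0x69cb49e9594e116e5e0c06e8b18a41894c), (nat_lit 0x6af6ce2307b6b49a64c3a9c2598851a020), (nat_lit 0x6b389d6d2bd22e7c16c6a0ea494c320440),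 (nat_lit 0x696e3a653a55af86220c86c8b8c853094c), (nat_lit 0x6a75ce22e7aed2b9e8c4a2016946622840), (nat_lit 0x68e95b9af84653a5aa0b8702c8ca43214c), (nat_lit 0x6af67c70dcc2a99d0ec9096a710c328500), (nat_lit 0x696ea49353cdb883f208a2e1b10662a84c), (nat_lit 0x69b049e979596f76220c8aaa990662850c), (nat_lit 0x6a757c70bcbac7bc92ca05a880ca430940), (nat_lit 0x69f1bdaa999f0dcae0c70a81910662a900), (nat_lit 0x6a0da49373d9d95c7007aaa2998a41a02c), (nat_lit 0x6a92835d95e1373d6c09aa28798851882c), (nat_lit 0x6a0d3a656a5dd15e5e0c0a6aa94c32050c), (nat_lit 0x69cb950f34d6196c7007a2c1b94c32284c), (nat_lit 0x6ad78bf30c3667ac92ca09ca5946620500), (nat_lit 0x6a546c178764f64cee0aa9e888ca43082c), (nat_lit 0x6ab3c65eb8baf4b264c3a1a1810c32a840), (nat_lit 0x69276c16f74697956c098b01c90c32a90c), (nat_lit 0x6a925b9b8865353de60b21ea890c32844c), (nat_lit 0x6a5472e196e0f34daa0ba22a794662044c), (nat_lit 0x68e9835d15be56a4ee0a8b21c14662290c), (nat_lit 0x692772e116be9595e60b0722c18851a14c)]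
noncomputable def HC_lR0_W : List (List ℕ) := [[],
  [(nat_lit 0)],
  [(nat_lit 1)],
  [(nat_lit 2)],
  [(nat_lit 3)],
  [(nat_lit 4)],
  [(nat_lit 0), (nat_lit 1)],
  [(nat_lit 0), (nat_lit 2)],
  [(nat_lit 0), (nat_lit 3)],
  [(nat_lit 0), (nat_lit 4)],
  [(nat_lit 1), (nat_lit 2)],
  [(nat_lit 1), (nat_lit 3)],
  [(nat_lit 1), (nat_lit 4)],
  [(nat_lit 2), (nat_lit 3)],
  [(nat_lit 2), (nat_lit 4)],
  [(nat_lit 3), (nat_lit 2)],
  [(nat_lit 3), (nat_lit 4)],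
  [(nat_lit 4), (nat_lit 3)],
  [(nat_lit 0), (nat_lit 1), (nat_lit 2)],
  [(nat_lit 0), (nat_lit 1), (nat_lit 3)],
  [(nat_lit 0), (nat_lit 1), (nat_lit 4)],
  [(nat_lit 0), (nat_lit 2), (nat_lit 4)],
  [(nat_lit 0), (nat_lit 3), (nat_lit 4)],
  [(nat_lit 0), (nat_lit 4), (nat_lit 3)],
  [(nat_lit 1), (nat_lit 2), (nat_lit 3)],
  [(nat_lit 1), (nat_lit 2), (nat_lit 4)],
  [(nat_lit 1), (nat_lit 3), (nat_lit 2)],
  [(nat_lit 2), (nat_lit 3), (nat_lit 4)],
  [(nat_lit 2), (nat_lit 4), (nat_lit 3)],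
  [(nat_lit 3), (nat_lit 2), (nat_lit 4)],
  [(nat_lit 4), (nat_lit 3), (nat_lit 2)],
  [(nat_lit 0), (nat_lit 1), (nat_lit 2), (nat_lit 4)]]
noncomputable def HC_lR0_h (c : ℕ) : ℕ := Nat.mod c (nat_lit 243)
theorem HC_lR0_E {G : Type*} [Group G] {R : ℕ → G → Prop} {z u v a b r x y : G} {H : Subgroup G}
    (M : Mdl HC_o HC_cs HC_L R [z, u, v, a, b, r, x, x⁻¹, y, y⁻¹] H) :
    EnumS R HC_lR0 (sp [z, u, v, a, r]) :=
  enumS_sp M.μ.1 (M.reps.tms M.μ.1 [(.v (nat_lit 0)), (.v (nat_lit 1)), (.v (nat_lit 2)), (.v (nat_lit 3)), (.v (nat_lit 5))] (cs' := [(nat_lit 0x69f19d6c7ba70bcb5cc80642a0c8532140), (nat_lit 0x6a2facee9b1f2ec416c68682918a41a140), (nat_lit 0x6ab38bf2ec2ee9b50ec906086988518940), (nat_lit 0x6a2fb5e67aa730c39ac58a41a14c322900), (nat_lit 0x69b0950f64dd7873f208aa62a8c853202c)]) (by decide +kernel))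
    (Ws := HC_lR0_W) (by decide +kernel) (by decide +kernel)
theorem HC_lR0_c {G : Type*} [Group G] {R : ℕ → G → Prop} {z u v a b r x y : G} {H : Subgroup G}
    (M : Mdl HC_o HC_cs HC_L R [z, u, v, a, b, r, x, x⁻¹, y, y⁻¹] H) :
    #(sp [z, u, v, a, r]) = 32 :=
  (HC_lR0_E M).card M.μ (h := HC_lR0_h) (by decide +kernel)
noncomputable def HC_lF : List ℕ := [(nat_lit 0x6b38bdab49ca307b9ac5a928398a418820), (nat_lit 0x69f19d6c7ba70bcb5cc80642a0c8532140), (nat_lit 0x6a2facee9b1f2ec416c68682918a41a140), (nat_lit 0x6ab38bf2ec2ee9b50ec906086988518940), (nat_lit 0x69b0950f64dd7873f208aa62a8c853202c), (nat_lit 0x6b19b5e72ad1ed8ae0c728e848c8530820), (nat_lit 0x6ad7c65ed8c272a9e8c4a96270ca432020), (nat_lit 0x69cb49e9594e116e5e0c06e8b18a41894c), (nat_lit 0x6af6ce2307b6b49a64c3a9c2598851a020), (nat_lit 0x696e3a653a55af86220c86c8b8c853094c), (nat_lit 0x68e95b9af84653a5aa0b8702c8ca43214c), (nat_lit 0x6a757c70bcbac7bc92ca05a880ca430940),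 (nat_lit 0x6a0da49373d9d95c7007aaa2998a41a02c), (nat_lit 0x6a92835d95e1373d6c09aa28798851882c), (nat_lit 0x6a546c178764f64cee0aa9e888ca43082c), (nat_lit 0x692772e116be9595e60b0722c18851a14c)]
noncomputable def HC_lF_W : List (List ℕ) := [[],
  [(nat_lit 0)],
  [(nat_lit 1)],
  [(nat_lit 2)],
  [(nat_lit 3)],
  [(nat_lit 0), (nat_lit 1)],
  [(nat_lit 0), (nat_lit 2)],
  [(nat_lit 0), (nat_lit 3)],
  [(nat_lit 1), (nat_lit 2)],
  [(nat_lit 1), (nat_lit 3)],
  [(nat_lit 2), (nat_lit 3)],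
  [(nat_lit 0), (nat_lit 1), (nat_lit 2)],
  [(nat_lit 0), (nat_lit 1), (nat_lit 3)],
  [(nat_lit 0), (nat_lit 2), (nat_lit 3)],
  [(nat_lit 1), (nat_lit 2), (nat_lit 3)],
  [(nat_lit 0), (nat_lit 1), (nat_lit 2), (nat_lit 3)]]
noncomputable def HC_lF_h (c : ℕ) : ℕ := Nat.mod c (nat_lit 51)
theorem HC_lF_E {G : Type*} [Group G] {R : ℕ → G → Prop} {z u v a b r x y : G} {H : Subgroup G}
    (M : Mdl HC_o HC_cs HC_L R [z, u, v, a, b, r, x, x⁻¹, y, y⁻¹] H) :
    EnumS R HC_lF (sp [z, u, v, r]) :=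
  enumS_sp M.μ.1 (M.reps.tms M.μ.1 [(.v (nat_lit 0)), (.v (nat_lit 1)), (.v (nat_lit 2)), (.v (nat_lit 5))] (cs' := [(nat_lit 0x69f19d6c7ba70bcb5cc80642a0c8532140), (nat_lit 0x6a2facee9b1f2ec416c68682918a41a140), (nat_lit 0x6ab38bf2ec2ee9b50ec906086988518940), (nat_lit 0x69b0950f64dd7873f208aa62a8c853202c)]) (by decide +kernel))
    (Ws := HC_lF_W) (by decide +kernel) (by decide +kernel)
theorem HC_lF_c {G : Type*} [Group G] {R : ℕ → G → Prop} {z u v a b r x y : G} {H : Subgroup G}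
    (M : Mdl HC_o HC_cs HC_L R [z, u, v, a, b, r, x, x⁻¹, y, y⁻¹] H) :
    #(sp [z, u, v, r]) = 16 :=
  (HC_lF_E M).card M.μ (h := HC_lF_h) (by decide +kernel)
noncomputable def HC_lK : List ℕ := [(nat_lit 0x6b38bdab49ca307b9ac5a928398a418820), (nat_lit 0x69f19d6c7ba70bcb5cc80642a0c8532140), (nat_lit 0x6a2facee9b1f2ec416c68682918a41a140), (nat_lit 0x6ab38bf2ec2ee9b50ec906086988518940), (nat_lit 0x69b0950f64dd7873f208aa62a8c853202c), (nat_lit 0x6b17cdab47b6728ae0c4a9c43a06611420), (nat_lit 0x6b19b5e72ad1ed8ae0c728e848c8530820), (nat_lit 0x6ad7c65ed8c272a9e8c4a96270ca432020), (nat_lit 0x69cb49e9594e116e5e0c06e8b18a41894c), (nat_lit 0x6a337d6c7cbae9c416c905a5a08c341140), (nat_lit 0x6af6ce2307b6b49a64c3a9c2598851a020), (nat_lit 0x696e3a653a55af86220c86c8b8c853094c), (nat_lit 0x6a71abf2eb1f0bbc92c806856a06611140), (nat_lit 0x68e95b9af84653a5aa0b8702c8ca43214c), (nat_lit 0x6aaf9c70bba72eb50ec68644820c311540), (nat_lit 0x6a126d0f6765375c7009a9e5a88c34102c),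 (nat_lit 0x69f58cee9c2ec7cb5cca06049086641540), (nat_lit 0x6af9c5ab48c1ed9a64c729663904828c20), (nat_lit 0x6a757c70bcbac7bc92ca05a880ca430940), (nat_lit 0x6a0da49373d9d95c7007aaa2998a41a02c), (nat_lit 0x6af8b65edad2309a64c5a8e4708c341420), (nat_lit 0x6a92835d95e1373d6c09aa28798851882c), (nat_lit 0x6ad9be2309c9eda9e8c729255886641020), (nat_lit 0x696971e956be5386220b8724b20661154c), (nat_lit 0x6b36c5e728c2b47b9ac3a9654a0c311020), (nat_lit 0x6a6f8d6c7c2f2ebc92c68603a150221940), (nat_lit 0x6a546c178764f64cee0aa9e888ca43082c), (nat_lit 0x692b3b9afa561195e60c06c4c88c34154c), (nat_lit 0x69f3ac70bb1ee9cb5cc906838104829940), (nat_lit 0x68ee4ae1194dafa5aa0c86e5c08664114c), (nat_lit 0x6ab17cee9cbb0bb50ec805a69110228d40), (nat_lit 0x69c75a653846956e5e0b0705ba0c31114c), (nat_lit 0x6a4d850f65e1d94cee07aa23a95022182c), (nat_lit 0x6a359bf2eba6c7c416ca06466944820d40), (nat_lit 0x692772e116be9595e60b0722c18851a14c), (nat_lit 0x6a50a35d93d9784cee08aaa57a0661102c),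 (nat_lit 0x6b37b6230ad2727b9ac4a8e65950220c20), (nat_lit 0x6a8d941784ddd93d6c07aa648a0c31142c), (nat_lit 0x6ad8cde727b630a9e8c5a9c34944821820), (nat_lit 0x69b4849375e0f673f20aaa24988664142c), (nat_lit 0x692e59e95845af95e60c8706b104828d4c), (nat_lit 0x6b16be5ed9cab48ae0c3a9237110229820), (nat_lit 0x69c93ae11a56536e5e0b86c6c150220d4c), (nat_lit 0x68eb726536be11a5aa0c0723b94482194c), (nat_lit 0x69674b9af94e9586220b06e3c91022994c), (nat_lit 0x69b2a41783d93773f209aaa3890482982c), (nat_lit 0x6a906c937765783d6c08a9e69910228c2c), (nat_lit 0x6a14935d94dcf65c700aaa667944820c2c)]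
noncomputable def HC_lK_W : List (List ℕ) := [[],
  [(nat_lit 0)],
  [(nat_lit 1)],
  [(nat_lit 2)],
  [(nat_lit 3)],
  [(nat_lit 4)],
  [(nat_lit 0), (nat_lit 1)],
  [(nat_lit 0), (nat_lit 2)],
  [(nat_lit 0), (nat_lit 3)],
  [(nat_lit 0), (nat_lit 4)],
  [(nat_lit 1), (nat_lit 2)],
  [(nat_lit 1), (nat_lit 3)],
  [(nat_lit 1), (nat_lit 4)],
  [(nat_lit 2), (nat_lit 3)],
  [(nat_lit 2), (nat_lit 4)],
  [(nat_lit 3), (nat_lit 4)],
  [(nat_lit 4), (nat_lit 1)],
  [(nat_lit 4), (nat_lit 4)],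
  [(nat_lit 0), (nat_lit 1), (nat_lit 2)],
  [(nat_lit 0), (nat_lit 1), (nat_lit 3)],
  [(nat_lit 0), (nat_lit 1), (nat_lit 4)],
  [(nat_lit 0), (nat_lit 2), (nat_lit 3)],
  [(nat_lit 0), (nat_lit 2), (nat_lit 4)],
  [(nat_lit 0), (nat_lit 3), (nat_lit 4)],
  [(nat_lit 0), (nat_lit 4), (nat_lit 1)],
  [(nat_lit 0), (nat_lit 4), (nat_lit 4)],
  [(nat_lit 1), (nat_lit 2), (nat_lit 3)],
  [(nat_lit 1), (nat_lit 3), (nat_lit 4)],
  [(nat_lit 1), (nat_lit 4), (nat_lit 4)],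
  [(nat_lit 2), (nat_lit 3), (nat_lit 4)],
  [(nat_lit 2), (nat_lit 4), (nat_lit 4)],
  [(nat_lit 3), (nat_lit 4), (nat_lit 1)],
  [(nat_lit 3), (nat_lit 4), (nat_lit 4)],
  [(nat_lit 4), (nat_lit 1), (nat_lit 4)],
  [(nat_lit 0), (nat_lit 1), (nat_lit 2), (nat_lit 3)],
  [(nat_lit 0), (nat_lit 1), (nat_lit 3), (nat_lit 4)],
  [(nat_lit 0), (nat_lit 1), (nat_lit 4), (nat_lit 4)],
  [(nat_lit 0), (nat_lit 2), (nat_lit 3), (nat_lit 4)],
  [(nat_lit 0), (nat_lit 2), (nat_lit 4), (nat_lit 4)],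
  [(nat_lit 0), (nat_lit 3), (nat_lit 4), (nat_lit 1)],
  [(nat_lit 0), (nat_lit 3), (nat_lit 4), (nat_lit 4)],
  [(nat_lit 0), (nat_lit 4), (nat_lit 1), (nat_lit 4)],
  [(nat_lit 1), (nat_lit 3), (nat_lit 4), (nat_lit 4)],
  [(nat_lit 2), (nat_lit 3), (nat_lit 4), (nat_lit 4)],
  [(nat_lit 3), (nat_lit 4), (nat_lit 1), (nat_lit 4)],
  [(nat_lit 0), (nat_lit 1), (nat_lit 3), (nat_lit 4), (nat_lit 4)],
  [(nat_lit 0), (nat_lit 2), (nat_lit 3), (nat_lit 4), (nat_lit 4)],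
  [(nat_lit 0), (nat_lit 3), (nat_lit 4), (nat_lit 1), (nat_lit 4)]]
noncomputable def HC_lK_h (c : ℕ) : ℕ := Nat.mod c (nat_lit 289)
theorem HC_lK_E {G : Type*} [Group G] {R : ℕ → G → Prop} {z u v a b r x y : G} {H : Subgroup G}
    (M : Mdl HC_o HC_cs HC_L R [z, u, v, a, b, r, x, x⁻¹, y, y⁻¹] H) :
    EnumS R HC_lK (sp [z, u, v, r, y]) :=
  enumS_sp M.μ.1 (M.reps.tms M.μ.1 [(.v (nat_lit 0)), (.v (nat_lit 1)), (.v (nat_lit 2)), (.v (nat_lit 5)), (.v (nat_lit 8))] (cs' := [(nat_lit 0x69f19d6c7ba70bcb5cc80642a0c8532140), (nat_lit 0x6a2facee9b1f2ec416c68682918a41a140), (nat_lit 0x6ab38bf2ec2ee9b50ec906086988518940), (nat_lit 0x69b0950f64dd7873f208aa62a8c853202c), (nat_lit 0x6b17cdab47b6728ae0c4a9c43a06611420)]) (by decide +kernel))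
    (Ws := HC_lK_W) (by decide +kernel) (by decide +kernel)
theorem HC_lK_c {G : Type*} [Group G] {R : ℕ → G → Prop} {z u v a b r x y : G} {H : Subgroup G}
    (M : Mdl HC_o HC_cs HC_L R [z, u, v, a, b, r, x, x⁻¹, y, y⁻¹] H) :
    #(sp [z, u, v, r, y]) = 48 :=
  (HC_lK_E M).card M.μ (h := HC_lK_h) (by decide +kernel)
noncomputable def HC_z_F : Fm := (.all HC_L (.qf (.eq (.mul (.v (nat_lit 0)) (.v (nat_lit 1))) (.mul (.v (nat_lit 1)) (.v (nat_lit 0))))))
theorem HC_z_chk : Fm.chk HC_o HC_z_F HC_cs = true := by decide +kernel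
theorem HC_z {G : Type*} [Group G] {R : ℕ → G → Prop} {z u v a b r x y : G} {H : Subgroup G}
    (M : Mdl HC_o HC_cs HC_L R [z, u, v, a, b, r, x, x⁻¹, y, y⁻¹] H) :
    ∀ c ∈ H, c * z = z * c :=
  have h : ∀ c, InL HC_o R HC_L c → c * z = z * c :=
    Fm.sound M.μ HC_z_F HC_z_chk M.reps
  (fun c h0 => (h c (M.H.iff.2 h0)))
noncomputable def HC_T_f_F : Fm := (.qf (.and (.eq (.mul (.v (nat_lit 0)) (.v (nat_lit 0))) .one) (.and (.eq (.mul (.v (nat_lit 1)) (.v (nat_lit 1))) .one) (.and (.eq (.mul (.v (nat_lit 2)) (.v (nat_lit 2))) .one) (.and (.eq (.mul (.v (nat_lit 3)) (.v (nat_lit 3))) .one) (.and (.eq (.mul (.v (nat_lit 4)) (.v (nat_lit 4))) .one) (.and (.eq (.mul (.v (nat_lit 5)) (.v (nat_lit 5))) .one) (.and (.eq (.mul (.v (nat_lit 1)) (.v (nat_lit 2))) (.mul (.v (nat_lit 2)) (.v (nat_lit 1)))) (.and (.eq (.mul (.v (nat_lit 0)) (.v (nat_lit 1))) (.mul (.v (nat_lit 1)) (.v (nat_lit 0)))) (.and (.eq (.mul (.v (nat_lit 0))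 (.v (nat_lit 2))) (.mul (.v (nat_lit 2)) (.v (nat_lit 0)))) (.and (.eq (.mul (.v (nat_lit 0)) (.v (nat_lit 3))) (.mul (.v (nat_lit 3)) (.v (nat_lit 0)))) (.and (.eq (.mul (.v (nat_lit 0)) (.v (nat_lit 4))) (.mul (.v (nat_lit 4)) (.v (nat_lit 0)))) (.and (.eq (.mul (.v (nat_lit 0)) (.v (nat_lit 5))) (.mul (.v (nat_lit 5)) (.v (nat_lit 0)))) (.and (.eq (.mul (.v (nat_lit 1)) (.v (nat_lit 3))) (.mul (.v (nat_lit 3)) (.v (nat_lit 1)))) (.and (.eq (.mul (.v (nat_lit 2)) (.v (nat_lit 4))) (.mul (.v (nat_lit 4)) (.v (nat_lit 2)))) (.and (.eq (.mul (.v (nat_lit 3)) (.v (nat_lit 4))) (.mul (.v (nat_lit 4)) (.v (nat_lit 3)))) (.and (.eq (.mul (.mul (.v (nat_lit 4)) (.v (nat_lit 1))) (.v (nat_lit 4))) (.mul (.v (nat_lit 1)) (.v (nat_lit 0)))) (.and (.eq (.mul (.mul (.v (nat_lit 3)) (.v (nat_lit 2))) (.v (nat_lit 3))) (.mul (.v (nat_lit 2)) (.v (nat_lit 0)))) (.and (.eq (.mul (.v (nat_lit 5)) (.v (nat_lit 1))) (.mul (.v (nat_lit 1))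 (.v (nat_lit 5)))) (.and (.eq (.mul (.mul (.v (nat_lit 3)) (.v (nat_lit 5))) (.v (nat_lit 3))) (.mul (.v (nat_lit 5)) (.v (nat_lit 1)))) (.and (.eq (.mul (.v (nat_lit 5)) (.v (nat_lit 2))) (.mul (.v (nat_lit 2)) (.v (nat_lit 5)))) (.eq (.mul (.mul (.v (nat_lit 4)) (.v (nat_lit 5))) (.v (nat_lit 4))) (.mul (.v (nat_lit 5)) (.v (nat_lit 2)))))))))))))))))))))))))
theorem HC_T_f_chk : Fm.chk HC_o HC_T_f_F HC_cs = true := by decide +kernel
theorem HC_T_f {G : Type*} [Group G] {R : ℕ → G → Prop} {z u v a b r x y : G} {H : Subgroup G}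
    (M : Mdl HC_o HC_cs HC_L R [z, u, v, a, b, r, x, x⁻¹, y, y⁻¹] H) :
    z * z = 1 ∧ u * u = 1 ∧ v * v = 1 ∧ a * a = 1 ∧ b * b = 1 ∧ r * r = 1 ∧ u * v = v * u ∧ z * u = u * z ∧ z * v = v * z ∧ z * a = a * z ∧ z * b = b * z ∧ z * r = r * z ∧ u * a = a * u ∧ v * b = b * v ∧ a * b = b * a ∧ b * u * b = u * z ∧ a * v * a = v * z ∧ r * u = u * r ∧ a * r * a = r * u ∧ r * v = v * r ∧ b * r * b = r * v :=
  Fm.sound M.μ HC_T_f_F HC_T_f_chk M.reps
theorem HC_T {G : Type*} [Group G] {R : ℕ → G → Prop} {z u v a b r x y : G} {H : Subgroup G}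
    (M : Mdl HC_o HC_cs HC_L R [z, u, v, a, b, r, x, x⁻¹, y, y⁻¹] H) :
    TA z u v a b r :=
  have h := HC_T_f M
  ⟨h.1, h.2.1, h.2.2.1, h.2.2.2.1, h.2.2.2.2.1, h.2.2.2.2.2.1, h.2.2.2.2.2.2.1, h.2.2.2.2.2.2.2.1, h.2.2.2.2.2.2.2.2.1, h.2.2.2.2.2.2.2.2.2.1, h.2.2.2.2.2.2.2.2.2.2.1, h.2.2.2.2.2.2.2.2.2.2.2.1, h.2.2.2.2.2.2.2.2.2.2.2.2.1, h.2.2.2.2.2.2.2.2.2.2.2.2.2.1, h.2.2.2.2.2.2.2.2.2.2.2.2.2.2.1, h.2.2.2.2.2.2.2.2.2.2.2.2.2.2.2.1, h.2.2.2.2.2.2.2.2.2.2.2.2.2.2.2.2.1, h.2.2.2.2.2.2.2.2.2.2.2.2.2.2.2.2.2.1, h.2.2.2.2.2.2.2.2.2.2.2.2.2.2.2.2.2.2.1, h.2.2.2.2.2.2.2.2.2.2.2.2.2.2.2.2.2.2.2.1, h.2.2.2.2.2.2.2.2.2.2.2.2.2.2.2.2.2.2.2.2, trivial⟩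
noncomputable def HC_N_f_F : Fm := (.qf (.and (.eq (.pw (.v (nat_lit 8)) (nat_lit 3)) .one) (.and (.eq (.mul (.v (nat_lit 8)) (.v (nat_lit 5))) (.mul (.v (nat_lit 5)) (.v (nat_lit 8)))) (.and (.eq (.mul (.v (nat_lit 8)) (.v (nat_lit 0))) (.mul (.v (nat_lit 0)) (.v (nat_lit 8)))) (.and (.eq (.mul (.mul (.v (nat_lit 8)) (.v (nat_lit 1))) (.v (nat_lit 9))) (.v (nat_lit 2))) (.and (.eq (.mul (.mul (.v (nat_lit 8)) (.v (nat_lit 2))) (.v (nat_lit 9))) (.mul (.mul (.v (nat_lit 0)) (.v (nat_lit 1))) (.v (nat_lit 2)))) (.and (.eq (.mul (.mul (.v (nat_lit 8)) (.v (nat_lit 3))) (.v (nat_lit 9))) (.v (nat_lit 4))) (.eq (.mul (.mul (.v (nat_lit 8)) (.v (nat_lit 4))) (.v (nat_lit 9))) (.mul (.mul (.v (nat_lit 0)) (.v (nat_lit 3))) (.v (nat_lit 4)))))))))))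
theorem HC_N_f_chk : Fm.chk HC_o HC_N_f_F HC_cs = true := by decide +kernel
theorem HC_N_f {G : Type*} [Group G] {R : ℕ → G → Prop} {z u v a b r x y : G} {H : Subgroup G}
    (M : Mdl HC_o HC_cs HC_L R [z, u, v, a, b, r, x, x⁻¹, y, y⁻¹] H) :
    y ^ 3 = 1 ∧ y * r = r * y ∧ y * z = z * y ∧ y * u * y⁻¹ = v ∧ y * v * y⁻¹ = z * u * v ∧ y * a * y⁻¹ = b ∧ y * b * y⁻¹ = z * a * b :=
  Fm.sound M.μ HC_N_f_F HC_N_f_chk M.reps
theorem HC_N {G : Type*} [Group G] {R : ℕ → G → Prop} {z u v a b r x y : G} {H : Subgroup G}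
    (M : Mdl HC_o HC_cs HC_L R [z, u, v, a, b, r, x, x⁻¹, y, y⁻¹] H) :
    NY z u v a b r y :=
  have h := HC_N_f M
  ⟨h.1, h.2.1, h.2.2.1, h.2.2.2.1, h.2.2.2.2.1, h.2.2.2.2.2.1, h.2.2.2.2.2.2, trivial⟩
noncomputable def HC_rz_f_F : Fm := (.qf (.and (.eq (.mul (.mul (.v (nat_lit 5)) (.v (nat_lit 0))) (.mul (.v (nat_lit 5)) (.v (nat_lit 0)))) .one) (.and (.eq (.mul (.mul (.mul (.v (nat_lit 5)) (.v (nat_lit 0))) (.v (nat_lit 6))) (.inv (.mul (.v (nat_lit 5)) (.v (nat_lit 0))))) (.v (nat_lit 7))) (.and (.eq (.mul (.mul (.v (nat_lit 5)) (.v (nat_lit 0))) (.v (nat_lit 1))) (.mul (.v (nat_lit 1)) (.mul (.v (nat_lit 5)) (.v (nat_lit 0))))) (.and (.eq (.mul (.mul (.mul (.v (nat_lit 5)) (.v (nat_lit 0))) (.v (nat_lit 2))) (.inv (.mul (.v (nat_lit 5)) (.v (nat_lit 0))))) (.v (nat_lit 2))) (.eq (.mul (.mul (.v (nat_lit 5)) (.v (nat_lit 0))) (.v (nat_lit 0))) (.mul (.v (nat_lit 0)) (.mul (.v (nat_lit 5)) (.v (nat_lit 0))))))))))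
theorem HC_rz_f_chk : Fm.chk HC_o HC_rz_f_F HC_cs = true := by decide +kernel
theorem HC_rz_f {G : Type*} [Group G] {R : ℕ → G → Prop} {z u v a b r x y : G} {H : Subgroup G}
    (M : Mdl HC_o HC_cs HC_L R [z, u, v, a, b, r, x, x⁻¹, y, y⁻¹] H) :
    r * z * (r * z) = 1 ∧ r * z * x * (r * z)⁻¹ = x⁻¹ ∧ r * z * u = u * (r * z) ∧ r * z * v * (r * z)⁻¹ = v ∧ r * z * z = z * (r * z) :=
  Fm.sound M.μ HC_rz_f_F HC_rz_f_chk M.reps
theorem HC_rz {G : Type*} [Group G] {R : ℕ → G → Prop} {z u v a b r x y : G} {H : Subgroup G}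
    (M : Mdl HC_o HC_cs HC_L R [z, u, v, a, b, r, x, x⁻¹, y, y⁻¹] H) :
    RA z u v (r * z) x :=
  have h := HC_rz_f M
  ⟨h.1, h.2.1, h.2.2.1, h.2.2.2.1, h.2.2.2.2, trivial⟩
noncomputable def HC_ry_f_F : Fm := (.qf (.and (.eq (.pw (.v (nat_lit 8)) (nat_lit 3)) .one) (.and (.eq (.mul (.v (nat_lit 8)) (.v (nat_lit 6))) (.mul (.v (nat_lit 6)) (.v (nat_lit 8)))) (.and (.eq (.mul (.v (nat_lit 8)) (.mul (.v (nat_lit 5)) (.v (nat_lit 0)))) (.mul (.mul (.v (nat_lit 5)) (.v (nat_lit 0))) (.v (nat_lit 8)))) (.and (.eq (.mul (.v (nat_lit 8)) (.v (nat_lit 0))) (.mul (.v (nat_lit 0)) (.v (nat_lit 8)))) (.and (.eq (.mul (.mul (.v (nat_lit 8)) (.v (nat_lit 1))) (.v (nat_lit 9))) (.v (nat_lit 2))) (.eq (.mul (.mul (.v (nat_lit 8)) (.v (nat_lit 2))) (.v (nat_lit 9))) (.mul (.mul (.v (nat_lit 0)) (.v (nat_lit 1))) (.v (nat_lit 2))))))))))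
theorem HC_ry_f_chk : Fm.chk HC_o HC_ry_f_F HC_cs = true := by decide +kernel
theorem HC_ry_f {G : Type*} [Group G] {R : ℕ → G → Prop} {z u v a b r x y : G} {H : Subgroup G}
    (M : Mdl HC_o HC_cs HC_L R [z, u, v, a, b, r, x, x⁻¹, y, y⁻¹] H) :
    y ^ 3 = 1 ∧ y * x = x * y ∧ y * (r * z) = r * z * y ∧ y * z = z * y ∧ y * u * y⁻¹ = v ∧ y * v * y⁻¹ = z * u * v :=
  Fm.sound M.μ HC_ry_f_F HC_ry_f_chk M.reps
theorem HC_ry {G : Type*} [Group G] {R : ℕ → G → Prop} {z u v a b r x y : G} {H : Subgroup G}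
    (M : Mdl HC_o HC_cs HC_L R [z, u, v, a, b, r, x, x⁻¹, y, y⁻¹] H) :
    RY z u v (r * z) x y :=
  have h := HC_ry_f M
  ⟨h.1, h.2.1, h.2.2.1, h.2.2.2.1, h.2.2.2.2.1, h.2.2.2.2.2, trivial⟩
noncomputable def HC_cQ_F : Fm := (.all HC_L (.imp (.eq (.mul (.v (nat_lit 0)) (.v (nat_lit 2))) (.mul (.v (nat_lit 2)) (.v (nat_lit 0)))) (.imp (.eq (.mul (.v (nat_lit 0)) (.v (nat_lit 3))) (.mul (.v (nat_lit 3)) (.v (nat_lit 0)))) (.imp (.eq (.mul (.v (nat_lit 0)) (.v (nat_lit 4))) (.mul (.v (nat_lit 4)) (.v (nat_lit 0)))) (.imp (.eq (.mul (.v (nat_lit 0)) (.v (nat_lit 5))) (.mul (.v (nat_lit 5)) (.v (nat_lit 0)))) (.qf (.mem (.v (nat_lit 0)) HC_lQ)))))))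
theorem HC_cQ_chk : Fm.chk HC_o HC_cQ_F HC_cs = true := by decide +kernel
theorem HC_cQ {G : Type*} [Group G] {R : ℕ → G → Prop} {z u v a b r x y : G} {H : Subgroup G}
    (M : Mdl HC_o HC_cs HC_L R [z, u, v, a, b, r, x, x⁻¹, y, y⁻¹] H) :
    ∀ c ∈ H, c * u = u * c → c * v = v * c → c * a = a * c → c * b = b * c → c ∈ sp [z, u, v, a, b] :=
  have h : ∀ c, InL HC_o R HC_L c → c * u = u * c → c * v = v * c → c * a = a * c → c * b = b * c → InS R HC_lQ (c) :=
    Fm.sound M.μ HC_cQ_F HC_cQ_chk M.reps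
  (fun c h0 => (fun h1 => (fun h2 => (fun h3 => (fun h4 => ((HC_lQ_E M).iff.1 (((((h c (M.H.iff.2 h0)) h1) h2) h3) h4)))))))
noncomputable def HC_nQ_F : Fm := (.all HC_L (.allS HC_lQ (.qf (.mem (.mul (.mul (.v (nat_lit 1)) (.v (nat_lit 0))) (.inv (.v (nat_lit 1)))) HC_lQ))))
theorem HC_nQ_chk : Fm.chk HC_o HC_nQ_F HC_cs = true := by decide +kernel
theorem HC_nQ {G : Type*} [Group G] {R : ℕ → G → Prop} {z u v a b r x y : G} {H : Subgroup G}
    (M : Mdl HC_o HC_cs HC_L R [z, u, v, a, b, r, x, x⁻¹, y, y⁻¹] H) :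
    ∀ c ∈ H, ∀ e ∈ sp [z, u, v, a, b], c * e * c⁻¹ ∈ sp [z, u, v, a, b] :=
  have h : ∀ c, InL HC_o R HC_L c → ∀ e, InS R HC_lQ e → InS R HC_lQ (c * e * c⁻¹) :=
    Fm.sound M.μ HC_nQ_F HC_nQ_chk M.reps
  (fun c h0 => (fun e h1 => ((HC_lQ_E M).iff.1 ((h c (M.H.iff.2 h0)) e ((HC_lQ_E M).iff.2 h1)))))
noncomputable def HC_R0_F : Fm := (.all HC_L (.imp (.eq (.mul (.v (nat_lit 0)) (.v (nat_lit 2))) (.mul (.v (nat_lit 2)) (.v (nat_lit 0)))) (.qf (.and (.mem (.v (nat_lit 0)) HC_lR0) (.eq (.pw (.v (nat_lit 0)) (nat_lit 4)) .one)))))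
theorem HC_R0_chk : Fm.chk HC_o HC_R0_F HC_cs = true := by decide +kernel
theorem HC_R0 {G : Type*} [Group G] {R : ℕ → G → Prop} {z u v a b r x y : G} {H : Subgroup G}
    (M : Mdl HC_o HC_cs HC_L R [z, u, v, a, b, r, x, x⁻¹, y, y⁻¹] H) :
    ∀ c ∈ H, c * u = u * c → c ∈ sp [z, u, v, a, r] ∧ c ^ 4 = 1 :=
  have h : ∀ c, InL HC_o R HC_L c → c * u = u * c → InS R HC_lR0 (c) ∧ c ^ 4 = 1 :=
    Fm.sound M.μ HC_R0_F HC_R0_chk M.reps
  (fun c h0 => (fun h1 => ((and_congr (HC_lR0_E M).iff Iff.rfl).1 ((h c (M.H.iff.2 h0)) h1))))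
noncomputable def HC_cls_t0 : ST := (.node (nat_lit 69) (.node (nat_lit 26) (.node (nat_lit 17) (.node (nat_lit 7) (.leaf (nat_lit 340)) (.leaf (nat_lit 76))) (.node (nat_lit 20) (.leaf (nat_lit 4)) (.leaf (nat_lit 3)))) (.node (nat_lit 39) (.node (nat_lit 38) (.leaf (nat_lit 192)) (.leaf (nat_lit 148))) (.node (nat_lit 64) (.leaf (nat_lit 532)) (.node (nat_lit 65) (.leaf (nat_lit 196)) (.leaf (nat_lit 268)))))) (.node (nat_lit 86) (.node (nat_lit 79) (.node (nat_lit 78) (.leaf (nat_lit 28)) (.leaf (nat_lit 195))) (.node (nat_lit 81) (.leaf (nat_lit 412)) (.leaf (nat_lit 0)))) (.node (nat_lit 99) (.node (nat_lit 88) (.leaf (nat_lit 220)) (.leaf (nat_lit 384))) (.node (nat_lit 101) (.leaf (nat_lit 387)) (.node (nat_lit 102) (.leaf (nat_lit 460)) (.leaf (nat_lit 388)))))))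
noncomputable def HC_cls_t1 : ST := (.node (nat_lit 97) (.node (nat_lit 38) (.node (nat_lit 22) (.node (nat_lit 18) (.leaf (nat_lit 0)) (.leaf (nat_lit 28))) (.node (nat_lit 27) (.leaf (nat_lit 508)) (.node (nat_lit 28) (.leaf (nat_lit 436)) (.leaf (nat_lit 124))))) (.node (nat_lit 69) (.node (nat_lit 45) (.leaf (nat_lit 436)) (.node (nat_lit 67) (.leaf (nat_lit 508)) (.leaf (nat_lit 124)))) (.node (nat_lit 84) (.leaf (nat_lit 2)) (.node (nat_lit 94) (.leaf (nat_lit 316)) (.leaf (nat_lit 194)))))) (.node (nat_lit 130) (.node (nat_lit 117) (.node (nat_lit 100) (.leaf (nat_lit 4)) (.node (nat_lit 108) (.leaf (nat_lit 386)) (.leaf (nat_lit 2)))) (.node (nat_lit 122) (.leaf (nat_lit 244)) (.node (nat_lit 128) (.leaf (nat_lit 28)) (.leaf (nat_lit 244))))) (.node (nat_lit 138) (.node (nat_lit 131) (.leaf (nat_lit 316)) (.node (nat_lit 133) (.leaf (nat_lit 194)) (.leaf (nat_lit 4)))) (.node (nat_lit 147) (.leaf (nat_lit 52))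 (.node (nat_lit 155) (.leaf (nat_lit 0)) (.leaf (nat_lit 386)))))))
noncomputable def HC_cls_F : Fm := (.all HC_L (.imp (.eq (.mul (.v (nat_lit 0)) (.v (nat_lit 0))) .one) (.or (.qf (.eq (.v (nat_lit 0)) .one)) (.or (.qf (.eq (.v (nat_lit 0)) (.v (nat_lit 1)))) (.or (.and (.qf (.mem (.v (nat_lit 0)) HC_lQ)) (.exF HC_L (fun cs => HC_cls_t0.find (Nat.mod (nth (nat_lit 0) cs (nat_lit 0)) (nat_lit 127))) (.qf (.eq (.mul (.mul (.v (nat_lit 0)) (.v (nat_lit 1))) (.inv (.v (nat_lit 0)))) (.v (nat_lit 3)))))) (.and (.qf (.not (.mem (.v (nat_lit 0)) HC_lQ))) (.exF HC_L (fun cs => HC_cls_t1.find (Nat.mod (nth (nat_lit 0) cs (nat_lit 0)) (nat_lit 159))) (.qf (.or (.eq (.mul (.mul (.v (nat_lit 0)) (.v (nat_lit 1))) (.inv (.v (nat_lit 0)))) (.v (nat_lit 7))) (.eq (.mul (.mul (.v (nat_lit 0)) (.v (nat_lit 1))) (.inv (.v (nat_lit 0)))) (.mul (.v (nat_lit 7)) (.v (nat_lit 2)))))))))))))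
theorem HC_cls_chk : Fm.chk HC_o HC_cls_F HC_cs = true := by decide +kernel
theorem HC_cls {G : Type*} [Group G] {R : ℕ → G → Prop} {z u v a b r x y : G} {H : Subgroup G}
    (M : Mdl HC_o HC_cs HC_L R [z, u, v, a, b, r, x, x⁻¹, y, y⁻¹] H) :
    ∀ c ∈ H, c * c = 1 → c = 1 ∨ c = z ∨ c ∈ sp [z, u, v, a, b] ∧ (∃ h ∈ H, h * c * h⁻¹ = u) ∨ c ∉ sp [z, u, v, a, b] ∧ (∃ h ∈ H, h * c * h⁻¹ = r ∨ h * c * h⁻¹ = r * z) :=
  have h : ∀ c, InL HC_o R HC_L c → c * c = 1 → c = 1 ∨ c = z ∨ InS R HC_lQ (c) ∧ (Good HC_o R HC_L → prods HC_o HC_L HC_o.one ≠ [] → ∃ h, InL HC_o R HC_L h ∧ h * c * h⁻¹ = u) ∨ ¬ InS R HC_lQ (c) ∧ (Good HC_o R HC_L → prods HC_o HC_L HC_o.one ≠ [] → ∃ h, InL HC_o R HC_L h ∧ (h * c * h⁻¹ = r ∨ h * c * h⁻¹ = r * z)) :=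
    Fm.sound M.μ HC_cls_F HC_cls_chk M.reps
  (fun c h0 => (fun h1 => (Or.imp (fun h2 => h2) (fun h2 => (Or.imp (fun h3 => h3) (fun h3 => (Or.imp (fun h4 => (And.imp (fun h5 => ((HC_lQ_E M).iff.1 h5)) (fun h5 => (Exists.imp (fun h h6 => ⟨M.H.iff.1 h6.1, h6.2⟩) (h5 M.H.good M.H.ne))) h4)) (fun h4 => (And.imp (fun h5 => ((not_congr (HC_lQ_E M).iff).1 h5)) (fun h5 => (Exists.imp (fun h h6 => ⟨M.H.iff.1 h6.1, h6.2⟩) (h5 M.H.good M.H.ne))) h4)) h3)) h2)) ((h c (M.H.iff.2 h0)) h1))))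
noncomputable def HC_F_F : Fm := (.allS HC_lF (.qf (.and (.eq (.pw (.v (nat_lit 0)) (nat_lit 4)) .one) (.eq (.mul (.v (nat_lit 0)) (.v (nat_lit 6))) (.mul (.v (nat_lit 6)) (.v (nat_lit 0)))))))
theorem HC_F_chk : Fm.chk HC_o HC_F_F HC_cs = true := by decide +kernel
theorem HC_F {G : Type*} [Group G] {R : ℕ → G → Prop} {z u v a b r x y : G} {H : Subgroup G}
    (M : Mdl HC_o HC_cs HC_L R [z, u, v, a, b, r, x, x⁻¹, y, y⁻¹] H) :
    ∀ f ∈ sp [z, u, v, r], f ^ 4 = 1 ∧ f * r = r * f :=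
  have h : ∀ f, InS R HC_lF f → f ^ 4 = 1 ∧ f * r = r * f :=
    Fm.sound M.μ HC_F_F HC_F_chk M.reps
  (fun f h0 => (h f ((HC_lF_E M).iff.2 h0)))
noncomputable def HC_e_F : Fm := (.qf (.and (.not (.mem (.v (nat_lit 5)) HC_lQ)) (.and (.eq (.mul (.v (nat_lit 1)) (.mul (.v (nat_lit 1)) (.v (nat_lit 0)))) (.v (nat_lit 0))) (.and (.eq (.mul (.v (nat_lit 1)) (.v (nat_lit 5))) (.mul (.v (nat_lit 5)) (.v (nat_lit 1)))) (.and (.eq (.mul (.mul (.v (nat_lit 1)) (.v (nat_lit 0))) (.v (nat_lit 5))) (.mul (.v (nat_lit 5)) (.mul (.v (nat_lit 1)) (.v (nat_lit 0))))) (.and (.eq (.mul (.mul (.v (nat_lit 4)) (.mul (.v (nat_lit 1)) (.v (nat_lit 0)))) (.inv (.v (nat_lit 4)))) (.v (nat_lit 1))) (.and (.eq (.mul (.v (nat_lit 5)) (.v (nat_lit 0))) (.mul (.v (nat_lit 0)) (.v (nat_lit 5)))) (.and (.not (.eq (.v (nat_lit 5)) (.v (nat_lit 0)))) (.and (.not (.eq (.v (nat_lit 1)) .one)) (.and (.not (.eq (.v (nat_lit 5)) .one)) (.and (.not (.eq (.v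 (nat_lit 5)) (.v (nat_lit 1)))) (.and (.eq (.mul (.mul (.v (nat_lit 1)) (.v (nat_lit 0))) (.mul (.v (nat_lit 1)) (.v (nat_lit 0)))) .one) (.eq (.mul (.mul (.v (nat_lit 5)) (.v (nat_lit 0))) (.v (nat_lit 0))) (.v (nat_lit 5)))))))))))))))
theorem HC_e_chk : Fm.chk HC_o HC_e_F HC_cs = true := by decide +kernel
theorem HC_e {G : Type*} [Group G] {R : ℕ → G → Prop} {z u v a b r x y : G} {H : Subgroup G}
    (M : Mdl HC_o HC_cs HC_L R [z, u, v, a, b, r, x, x⁻¹, y, y⁻¹] H) :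
    r ∉ sp [z, u, v, a, b] ∧ u * (u * z) = z ∧ u * r = r * u ∧ u * z * r = r * (u * z) ∧ b * (u * z) * b⁻¹ = u ∧ r * z = z * r ∧ r ≠ z ∧ u ≠ 1 ∧ r ≠ 1 ∧ r ≠ u ∧ u * z * (u * z) = 1 ∧ r * z * z = r :=
  have h : ¬ InS R HC_lQ (r) ∧ u * (u * z) = z ∧ u * r = r * u ∧ u * z * r = r * (u * z) ∧ b * (u * z) * b⁻¹ = u ∧ r * z = z * r ∧ r ≠ z ∧ u ≠ 1 ∧ r ≠ 1 ∧ r ≠ u ∧ u * z * (u * z) = 1 ∧ r * z * z = r :=
    Fm.sound M.μ HC_e_F HC_e_chk M.reps
  ((and_congr (not_congr (HC_lQ_E M).iff) Iff.rfl).1 h)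
noncomputable def HC_ru_F : Fm := (.all HC_L (.and (.qf (.not (.eq (.mul (.mul (.v (nat_lit 0)) (.v (nat_lit 6))) (.inv (.v (nat_lit 0)))) (.v (nat_lit 2))))) (.imp (.eq (.mul (.mul (.v (nat_lit 0)) (.v (nat_lit 6))) (.inv (.v (nat_lit 0)))) (.mul (.v (nat_lit 2)) (.v (nat_lit 6)))) (.imp (.eq (.mul (.mul (.v (nat_lit 0)) (.mul (.v (nat_lit 2)) (.v (nat_lit 6)))) (.inv (.v (nat_lit 0)))) (.v (nat_lit 6))) (.qf (.not (.eq (.mul (.mul (.v (nat_lit 0)) (.mul (.v (nat_lit 3)) (.v (nat_lit 6)))) (.inv (.v (nat_lit 0)))) (.mul (.v (nat_lit 3)) (.v (nat_lit 6))))))))))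
theorem HC_ru_chk : Fm.chk HC_o HC_ru_F HC_cs = true := by decide +kernel
theorem HC_ru {G : Type*} [Group G] {R : ℕ → G → Prop} {z u v a b r x y : G} {H : Subgroup G}
    (M : Mdl HC_o HC_cs HC_L R [z, u, v, a, b, r, x, x⁻¹, y, y⁻¹] H) :
    ∀ h ∈ H, h * r * h⁻¹ ≠ u ∧ (h * r * h⁻¹ = u * r → h * (u * r) * h⁻¹ = r → h * (v * r) * h⁻¹ ≠ v * r) :=
  have h : ∀ h, InL HC_o R HC_L h → h * r * h⁻¹ ≠ u ∧ (h * r * h⁻¹ = u * r → h * (u * r) * h⁻¹ = r → h * (v * r) * h⁻¹ ≠ v * r) :=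
    Fm.sound M.μ HC_ru_F HC_ru_chk M.reps
  (fun c h0 => (h c (M.H.iff.2 h0)))
noncomputable def HC_D_t0 : ST := (.node (nat_lit 13) (.node (nat_lit 7) (.node (nat_lit 6) (.leaf (nat_lit 195)) (.leaf (nat_lit 2))) (.node (nat_lit 11) (.leaf (nat_lit 387)) (.node (nat_lit 12) (.leaf (nat_lit 384)) (.leaf (nat_lit 0))))) (.node (nat_lit 19) (.node (nat_lit 14) (.leaf (nat_lit 194)) (.leaf (nat_lit 0))) (.node (nat_lit 21) (.leaf (nat_lit 3)) (.node (nat_lit 23) (.leaf (nat_lit 192)) (.leaf (nat_lit 386))))))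
noncomputable def HC_D_F : Fm := (.all HC_L (.imp (.eq (.mul (.v (nat_lit 0)) (.v (nat_lit 6))) (.mul (.v (nat_lit 6)) (.v (nat_lit 0)))) (.imp (.eq (.mul (.v (nat_lit 0)) (.v (nat_lit 0))) .one) (.or (.qf (.eq (.v (nat_lit 0)) (.v (nat_lit 1)))) (.or (.qf (.eq (.v (nat_lit 0)) (.v (nat_lit 6)))) (.or (.qf (.or (.eq (.v (nat_lit 0)) (.mul (.v (nat_lit 2)) (.v (nat_lit 6)))) (.or (.eq (.v (nat_lit 0)) (.mul (.v (nat_lit 3)) (.v (nat_lit 6)))) (.eq (.v (nat_lit 0)) (.mul (.mul (.mul (.v (nat_lit 1)) (.v (nat_lit 2))) (.v (nat_lit 3))) (.v (nat_lit 6))))))) (.or (.qf (.eq (.v (nat_lit 0)) .one)) (.exF HC_L (fun cs => HC_D_t0.find (Nat.mod (nth (nat_lit 0) cs (nat_lit 0)) (nat_lit 27))) (.qf (.or (.eq (.mul (.mul (.v (nat_lit 0)) (.v (nat_lit 1))) (.inv (.v (nat_lit 0)))) (.v (nat_lit 3))) (.eq (.mul (.mul (.v (nat_lit 0)) (.v (nat_lit 1))) (.inv (.v (nat_lit 0)))) (.mul (.v (nat_lit 7)) (.v (nat_lit 2))))))))))))))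
theorem HC_D_chk : Fm.chk HC_o HC_D_F HC_cs = true := by decide +kernel
theorem HC_D {G : Type*} [Group G] {R : ℕ → G → Prop} {z u v a b r x y : G} {H : Subgroup G}
    (M : Mdl HC_o HC_cs HC_L R [z, u, v, a, b, r, x, x⁻¹, y, y⁻¹] H) :
    ∀ c ∈ H, c * r = r * c → c * c = 1 → c = z ∨ c = r ∨ (c = u * r ∨ c = v * r ∨ c = z * u * v * r) ∨ c = 1 ∨ (∃ h ∈ H, h * c * h⁻¹ = u ∨ h * c * h⁻¹ = r * z) :=
  have h : ∀ c, InL HC_o R HC_L c → c * r = r * c → c * c = 1 → c = z ∨ c = r ∨ (c = u * r ∨ c = v * r ∨ c = z * u * v * r) ∨ c = 1 ∨ (Good HC_o R HC_L → prods HC_o HC_L HC_o.one ≠ [] → ∃ h, InL HC_o R HC_L h ∧ (h * c * h⁻¹ = u ∨ h * c * h⁻¹ = r * z)) :=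
    Fm.sound M.μ HC_D_F HC_D_chk M.reps
  (fun c h0 => (fun h1 => (fun h2 => (Or.imp (fun h3 => h3) (fun h3 => (Or.imp (fun h4 => h4) (fun h4 => (Or.imp (fun h5 => h5) (fun h5 => (Or.imp (fun h6 => h6) (fun h6 => (Exists.imp (fun h h7 => ⟨M.H.iff.1 h7.1, h7.2⟩) (h6 M.H.good M.H.ne))) h5)) h4)) h3)) (((h c (M.H.iff.2 h0)) h1) h2)))))
noncomputable def HC_K_F : Fm := (.all HC_L (.imp (.eq (.mul (.v (nat_lit 0)) (.v (nat_lit 6))) (.mul (.v (nat_lit 6)) (.v (nat_lit 0)))) (.qf (.mem (.v (nat_lit 0)) HC_lK))))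
theorem HC_K_chk : Fm.chk HC_o HC_K_F HC_cs = true := by decide +kernel
theorem HC_K {G : Type*} [Group G] {R : ℕ → G → Prop} {z u v a b r x y : G} {H : Subgroup G}
    (M : Mdl HC_o HC_cs HC_L R [z, u, v, a, b, r, x, x⁻¹, y, y⁻¹] H) :
    ∀ c ∈ H, c * r = r * c → c ∈ sp [z, u, v, r, y] :=
  have h : ∀ c, InL HC_o R HC_L c → c * r = r * c → InS R HC_lK (c) :=
    Fm.sound M.μ HC_K_F HC_K_chk M.reps
  (fun c h0 => (fun h1 => ((HC_lK_E M).iff.1 ((h c (M.H.iff.2 h0)) h1))))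
noncomputable def HC_y_t0 : ST := (.node (nat_lit 17) (.node (nat_lit 11) (.leaf (nat_lit 48)) (.leaf (nat_lit 0))) (.node (nat_lit 20) (.leaf (nat_lit 96)) (.leaf (nat_lit 72))))
noncomputable def HC_y_F : Fm := (.all HC_L (.imp (.eq (.pw (.v (nat_lit 0)) (nat_lit 3)) .one) (.imp (.eq (.mul (.v (nat_lit 0)) (.v (nat_lit 6))) (.mul (.v (nat_lit 6)) (.v (nat_lit 0)))) (.imp (.eq (.mul (.mul (.v (nat_lit 0)) (.mul (.v (nat_lit 2)) (.v (nat_lit 6)))) (.inv (.v (nat_lit 0)))) (.mul (.v (nat_lit 3)) (.v (nat_lit 6)))) (.exF HC_L (fun cs => HC_y_t0.find (Nat.mod (nth (nat_lit 0) cs (nat_lit 0)) (nat_lit 21))) (.qf (.and (.eq (.mul (.v (nat_lit 0)) (.v (nat_lit 3))) (.mul (.v (nat_lit 3)) (.v (nat_lit 0)))) (.and (.eq (.mul (.v (nat_lit 0)) (.v (nat_lit 4))) (.mul (.v (nat_lit 4)) (.v (nat_lit 0)))) (.and (.eq (.mul (.v (nat_lit 0)) (.v (nat_lit 7))) (.mul (.v (nat_lit 7)) (.v (nat_lit 0)))) (.eq (.mul (.mul (.v (nat_lit 0))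 (.v (nat_lit 1))) (.inv (.v (nat_lit 0)))) (.v (nat_lit 10))))))))))))
theorem HC_y_chk : Fm.chk HC_o HC_y_F HC_cs = true := by decide +kernel
theorem HC_y {G : Type*} [Group G] {R : ℕ → G → Prop} {z u v a b r x y : G} {H : Subgroup G}
    (M : Mdl HC_o HC_cs HC_L R [z, u, v, a, b, r, x, x⁻¹, y, y⁻¹] H) :
    ∀ c ∈ H, c ^ 3 = 1 → c * r = r * c → c * (u * r) * c⁻¹ = v * r → (∃ f ∈ H, f * u = u * f ∧ f * v = v * f ∧ f * r = r * f ∧ f * c * f⁻¹ = y) :=
  have h : ∀ c, InL HC_o R HC_L c → c ^ 3 = 1 → c * r = r * c → c * (u * r) * c⁻¹ = v * r → (Good HC_o R HC_L → prods HC_o HC_L HC_o.one ≠ [] → ∃ f, InL HC_o R HC_L f ∧ f * u = u * f ∧ f * v = v * f ∧ f * r = r * f ∧ f * c * f⁻¹ = y) :=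
    Fm.sound M.μ HC_y_F HC_y_chk M.reps
  (fun c h0 => (fun h1 => (fun h2 => (fun h3 => (Exists.imp (fun f h4 => ⟨M.H.iff.1 h4.1, h4.2⟩) (((((h c (M.H.iff.2 h0)) h1) h2) h3) M.H.good M.H.ne))))))
noncomputable def HC_k_F : Fm := (.all HC_L (.imp (.eq (.mul (.v (nat_lit 0)) (.v (nat_lit 2))) (.mul (.v (nat_lit 2)) (.v (nat_lit 0)))) (.imp (.eq (.mul (.v (nat_lit 0)) (.v (nat_lit 6))) (.mul (.v (nat_lit 6)) (.v (nat_lit 0)))) (.imp (.eq (.mul (.v (nat_lit 0)) (.v (nat_lit 9))) (.mul (.v (nat_lit 9)) (.v (nat_lit 0)))) (.qf (.or (.eq (.v (nat_lit 0)) .one) (.or (.eq (.v (nat_lit 0)) (.v (nat_lit 1))) (.or (.eq (.v (nat_lit 0)) (.v (nat_lit 6))) (.eq (.v (nat_lit 0)) (.mul (.v (nat_lit 1)) (.v (nat_lit 6))))))))))))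
theorem HC_k_chk : Fm.chk HC_o HC_k_F HC_cs = true := by decide +kernel
theorem HC_k {G : Type*} [Group G] {R : ℕ → G → Prop} {z u v a b r x y : G} {H : Subgroup G}
    (M : Mdl HC_o HC_cs HC_L R [z, u, v, a, b, r, x, x⁻¹, y, y⁻¹] H) :
    ∀ c ∈ H, c * u = u * c → c * r = r * c → c * y = y * c → c = 1 ∨ c = z ∨ c = r ∨ c = z * r :=
  have h : ∀ c, InL HC_o R HC_L c → c * u = u * c → c * r = r * c → c * y = y * c → c = 1 ∨ c = z ∨ c = r ∨ c = z * r :=
    Fm.sound M.μ HC_k_F HC_k_chk M.reps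
  (fun c h0 => (h c (M.H.iff.2 h0)))
noncomputable def HC_f_F : Fm := (.all HC_L (.imp (.eq (.mul (.v (nat_lit 0)) (.v (nat_lit 2))) (.mul (.v (nat_lit 2)) (.v (nat_lit 0)))) (.imp (.eq (.mul (.v (nat_lit 0)) (.v (nat_lit 3))) (.mul (.v (nat_lit 3)) (.v (nat_lit 0)))) (.imp (.eq (.mul (.v (nat_lit 0)) (.v (nat_lit 6))) (.mul (.v (nat_lit 6)) (.v (nat_lit 0)))) (.qf (.or (.eq (.v (nat_lit 0)) .one) (.or (.eq (.v (nat_lit 0)) (.v (nat_lit 1))) (.or (.eq (.v (nat_lit 0)) (.v (nat_lit 2))) (.or (.eq (.v (nat_lit 0)) (.v (nat_lit 3))) (.or (.eq (.v (nat_lit 0)) (.v (nat_lit 6))) (.or (.eq (.v (nat_lit 0)) (.mul (.v (nat_lit 1)) (.v (nat_lit 2)))) (.or (.eq (.v (nat_lit 0)) (.mul (.v (nat_lit 1)) (.v (nat_lit 3)))) (.or (.eq (.v (nat_lit 0)) (.mul (.v (nat_lit 1)) (.v (nat_lit 6)))) (.or (.eq (.v (nat_lit 0)) (.mul (.v (nat_lit 2)) (.v (nat_lit 3)))) (.or (.eq (.v (nat_lit 0)) (.mul (.v (nat_lit 2)) (.v (nat_lit 6)))) (.or (.eq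 (.v (nat_lit 0)) (.mul (.v (nat_lit 3)) (.v (nat_lit 6)))) (.or (.eq (.v (nat_lit 0)) (.mul (.mul (.v (nat_lit 1)) (.v (nat_lit 2))) (.v (nat_lit 3)))) (.or (.eq (.v (nat_lit 0)) (.mul (.mul (.v (nat_lit 1)) (.v (nat_lit 2))) (.v (nat_lit 6)))) (.or (.eq (.v (nat_lit 0)) (.mul (.mul (.v (nat_lit 1)) (.v (nat_lit 3))) (.v (nat_lit 6)))) (.or (.eq (.v (nat_lit 0)) (.mul (.mul (.v (nat_lit 2)) (.v (nat_lit 3))) (.v (nat_lit 6)))) (.eq (.v (nat_lit 0)) (.mul (.mul (.mul (.v (nat_lit 1)) (.v (nat_lit 2))) (.v (nat_lit 3))) (.v (nat_lit 6))))))))))))))))))))))))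
theorem HC_f_chk : Fm.chk HC_o HC_f_F HC_cs = true := by decide +kernel
theorem HC_f {G : Type*} [Group G] {R : ℕ → G → Prop} {z u v a b r x y : G} {H : Subgroup G}
    (M : Mdl HC_o HC_cs HC_L R [z, u, v, a, b, r, x, x⁻¹, y, y⁻¹] H) :
    ∀ c ∈ H, c * u = u * c → c * v = v * c → c * r = r * c → c = 1 ∨ c = z ∨ c = u ∨ c = v ∨ c = r ∨ c = z * u ∨ c = z * v ∨ c = z * r ∨ c = u * v ∨ c = u * r ∨ c = v * r ∨ c = z * u * v ∨ c = z * u * r ∨ c = z * v * r ∨ c = u * v * r ∨ c = z * u * v * r :=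
  have h : ∀ c, InL HC_o R HC_L c → c * u = u * c → c * v = v * c → c * r = r * c → c = 1 ∨ c = z ∨ c = u ∨ c = v ∨ c = r ∨ c = z * u ∨ c = z * v ∨ c = z * r ∨ c = u * v ∨ c = u * r ∨ c = v * r ∨ c = z * u * v ∨ c = z * u * r ∨ c = z * v * r ∨ c = u * v * r ∨ c = z * u * v * r :=
    Fm.sound M.μ HC_f_F HC_f_chk M.reps
  (fun c h0 => (h c (M.H.iff.2 h0)))
noncomputable def HC_ZS_F : Fm := (.all HC_L (.imp (.eq (.mul (.v (nat_lit 0)) (.v (nat_lit 2))) (.mul (.v (nat_lit 2)) (.v (nat_lit 0)))) (.imp (.eq (.mul (.v (nat_lit 0)) (.v (nat_lit 3))) (.mul (.v (nat_lit 3)) (.v (nat_lit 0)))) (.imp (.eq (.mul (.v (nat_lit 0)) (.v (nat_lit 4))) (.mul (.v (nat_lit 4)) (.v (nat_lit 0)))) (.imp (.eq (.mul (.v (nat_lit 0)) (.v (nat_lit 6))) (.mul (.v (nat_lit 6)) (.v (nat_lit 0)))) (.qf (.or (.eq (.v (nat_lit 0)) .one) (.or (.eq (.v (nat_lit 0)) (.v (nat_lit 1))) (.or (.eq (.v (nat_lit 0)) (.v (nat_lit 2))) (.eq (.v (nat_lit 0)) (.mul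 (.v (nat_lit 2)) (.v (nat_lit 1)))))))))))))
theorem HC_ZS_chk : Fm.chk HC_o HC_ZS_F HC_cs = true := by decide +kernel
theorem HC_ZS {G : Type*} [Group G] {R : ℕ → G → Prop} {z u v a b r x y : G} {H : Subgroup G}
    (M : Mdl HC_o HC_cs HC_L R [z, u, v, a, b, r, x, x⁻¹, y, y⁻¹] H) :
    ∀ c ∈ H, c * u = u * c → c * v = v * c → c * a = a * c → c * r = r * c → c = 1 ∨ c = z ∨ c = u ∨ c = u * z :=
  have h : ∀ c, InL HC_o R HC_L c → c * u = u * c → c * v = v * c → c * a = a * c → c * r = r * c → c = 1 ∨ c = z ∨ c = u ∨ c = u * z :=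
    Fm.sound M.μ HC_ZS_F HC_ZS_chk M.reps
  (fun c h0 => (h c (M.H.iff.2 h0)))
noncomputable def HC_is_t0 : ST := (.node (nat_lit 66) (.node (nat_lit 44) (.node (nat_lit 31) (.node (nat_lit 13) (.leaf (nat_lit 192)) (.leaf (nat_lit 3))) (.node (nat_lit 42) (.leaf (nat_lit 76)) (.leaf (nat_lit 2)))) (.node (nat_lit 50) (.node (nat_lit 47) (.leaf (nat_lit 4)) (.leaf (nat_lit 0))) (.node (nat_lit 52) (.leaf (nat_lit 386)) (.leaf (nat_lit 28))))) (.node (nat_lit 106) (.node (nat_lit 98) (.node (nat_lit 82) (.leaf (nat_lit 0)) (.leaf (nat_lit 387))) (.node (nat_lit 100) (.leaf (nat_lit 0)) (.leaf (nat_lit 148)))) (.node (nat_lit 112) (.node (nat_lit 110) (.leaf (nat_lit 195)) (.leaf (nat_lit 384))) (.node (nat_lit 114) (.leaf (nat_lit 194)) (.leaf (nat_lit 0))))))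
noncomputable def HC_is_t1 : ST := (.node (nat_lit 4) (.leaf (nat_lit 386)) (.node (nat_lit 24) (.leaf (nat_lit 194)) (.leaf (nat_lit 3))))
noncomputable def HC_is_F : Fm := (.all HC_L (.imp (.eq (.mul (.v (nat_lit 0)) (.v (nat_lit 2))) (.mul (.v (nat_lit 2)) (.v (nat_lit 0)))) (.imp (.eq (.mul (.v (nat_lit 0)) (.v (nat_lit 0))) .one) (.or (.qf (.or (.eq (.v (nat_lit 0)) (.v (nat_lit 6))) (.eq (.v (nat_lit 0)) (.mul (.v (nat_lit 6)) (.v (nat_lit 2)))))) (.or (.or (.qf (.eq (.v (nat_lit 0)) .one)) (.exF HC_L (fun cs => HC_is_t0.find (Nat.mod (nth (nat_lit 0) cs (nat_lit 0)) (nat_lit 123))) (.qf (.or (.eq (.mul (.mul (.v (nat_lit 0)) (.v (nat_lit 1))) (.inv (.v (nat_lit 0)))) (.v (nat_lit 3))) (.eq (.mul (.mul (.v (nat_lit 0)) (.v (nat_lit 1))) (.inv (.v (nat_lit 0)))) (.mul (.v (nat_lit 7)) (.v (nat_lit 2)))))))) (.or (.qf (.eq (.mul (.v (nat_lit 0)) (.v (nat_lit 2))) .one)) (.exF HC_L (fun cs => HC_is_t1.find (Nat.mod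 (nth (nat_lit 0) cs (nat_lit 0)) (nat_lit 30))) (.qf (.or (.eq (.mul (.mul (.v (nat_lit 0)) (.mul (.v (nat_lit 1)) (.v (nat_lit 3)))) (.inv (.v (nat_lit 0)))) (.v (nat_lit 3))) (.eq (.mul (.mul (.v (nat_lit 0)) (.mul (.v (nat_lit 1)) (.v (nat_lit 3)))) (.inv (.v (nat_lit 0)))) (.mul (.v (nat_lit 7)) (.v (nat_lit 2)))))))))))))
theorem HC_is_chk : Fm.chk HC_o HC_is_F HC_cs = true := by decide +kernel
theorem HC_is {G : Type*} [Group G] {R : ℕ → G → Prop} {z u v a b r x y : G} {H : Subgroup G}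
    (M : Mdl HC_o HC_cs HC_L R [z, u, v, a, b, r, x, x⁻¹, y, y⁻¹] H) :
    ∀ c ∈ H, c * u = u * c → c * c = 1 → (c = r ∨ c = r * u) ∨ (c = 1 ∨ (∃ h ∈ H, h * c * h⁻¹ = u ∨ h * c * h⁻¹ = r * z)) ∨ c * u = 1 ∨ (∃ h ∈ H, h * (c * u) * h⁻¹ = u ∨ h * (c * u) * h⁻¹ = r * z) :=
  have h : ∀ c, InL HC_o R HC_L c → c * u = u * c → c * c = 1 → (c = r ∨ c = r * u) ∨ (c = 1 ∨ (Good HC_o R HC_L → prods HC_o HC_L HC_o.one ≠ [] → ∃ h, InL HC_o R HC_L h ∧ (h * c * h⁻¹ = u ∨ h * c * h⁻¹ = r * z))) ∨ c * u = 1 ∨ (Good HC_o R HC_L → prods HC_o HC_L HC_o.one ≠ [] → ∃ h, InL HC_o R HC_L h ∧ (h * (c * u) * h⁻¹ = u ∨ h * (c * u) * h⁻¹ = r * z)) :=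
    Fm.sound M.μ HC_is_F HC_is_chk M.reps
  (fun c h0 => (fun h1 => (fun h2 => (Or.imp (fun h3 => h3) (fun h3 => (Or.imp (fun h4 => (Or.imp (fun h5 => h5) (fun h5 => (Exists.imp (fun h h6 => ⟨M.H.iff.1 h6.1, h6.2⟩) (h5 M.H.good M.H.ne))) h4)) (fun h4 => (Or.imp (fun h5 => h5) (fun h5 => (Exists.imp (fun h h6 => ⟨M.H.iff.1 h6.1, h6.2⟩) (h5 M.H.good M.H.ne))) h4)) h3)) (((h c (M.H.iff.2 h0)) h1) h2)))))
noncomputable def HC_ye_F : Fm := (.qf (.and (.eq (.mul (.mul (.v (nat_lit 8)) (.mul (.v (nat_lit 1)) (.v (nat_lit 5)))) (.v (nat_lit 9))) (.mul (.v (nat_lit 2)) (.v (nat_lit 5)))) (.and (.eq (.mul (.mul (.v (nat_lit 8)) (.mul (.v (nat_lit 2)) (.v (nat_lit 5)))) (.v (nat_lit 9))) (.mul (.mul (.mul (.v (nat_lit 0)) (.v (nat_lit 1))) (.v (nat_lit 2))) (.v (nat_lit 5)))) (.and (.eq (.mul (.mul (.v (nat_lit 8)) (.mul (.mul (.mul (.v (nat_lit 0)) (.v (nat_lit 1))) (.v (nat_lit 2))) (.v (nat_lit 5)))) (.v (nat_lit 9))) (.mul (.v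 (nat_lit 1)) (.v (nat_lit 5)))) (.and (.eq (.mul (.mul (.v (nat_lit 9)) (.mul (.v (nat_lit 1)) (.v (nat_lit 5)))) (.inv (.v (nat_lit 9)))) (.mul (.mul (.mul (.v (nat_lit 0)) (.v (nat_lit 1))) (.v (nat_lit 2))) (.v (nat_lit 5)))) (.and (.eq (.mul (.mul (.v (nat_lit 3)) (.v (nat_lit 5))) (.inv (.v (nat_lit 3)))) (.mul (.v (nat_lit 1)) (.v (nat_lit 5)))) (.and (.eq (.mul (.mul (.v (nat_lit 1)) (.v (nat_lit 5))) (.v (nat_lit 5))) (.mul (.v (nat_lit 5)) (.mul (.v (nat_lit 1)) (.v (nat_lit 5))))) (.and (.eq (.mul (.mul (.v (nat_lit 1)) (.v (nat_lit 5))) (.v (nat_lit 0))) (.mul (.v (nat_lit 0)) (.mul (.v (nat_lit 1)) (.v (nat_lit 5))))) (.and (.eq (.mul (.mul (.mul (.mul (.v (nat_lit 0)) (.v (nat_lit 1))) (.v (nat_lit 2))) (.v (nat_lit 5))) (.v (nat_lit 5))) (.mul (.v (nat_lit 5)) (.mul (.mul (.mul (.v (nat_lit 0)) (.v (nat_lit 1))) (.v (nat_lit 2))) (.v (nat_lit 5))))) (.and (.eq (.mul (.mul (.mul (.mul (.v (nat_lit 0)) (.v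 (nat_lit 1))) (.v (nat_lit 2))) (.v (nat_lit 5))) (.v (nat_lit 0))) (.mul (.v (nat_lit 0)) (.mul (.mul (.mul (.v (nat_lit 0)) (.v (nat_lit 1))) (.v (nat_lit 2))) (.v (nat_lit 5))))) (.and (.not (.eq (.mul (.v (nat_lit 1)) (.v (nat_lit 5))) (.v (nat_lit 0)))) (.and (.not (.eq (.mul (.v (nat_lit 1)) (.v (nat_lit 5))) (.v (nat_lit 5)))) (.and (.not (.eq (.mul (.mul (.mul (.v (nat_lit 0)) (.v (nat_lit 1))) (.v (nat_lit 2))) (.v (nat_lit 5))) (.v (nat_lit 0)))) (.and (.not (.eq (.mul (.mul (.mul (.v (nat_lit 0)) (.v (nat_lit 1))) (.v (nat_lit 2))) (.v (nat_lit 5))) (.v (nat_lit 5)))) (.not (.eq (.mul (.v (nat_lit 1)) (.v (nat_lit 5))) (.mul (.mul (.mul (.v (nat_lit 0)) (.v (nat_lit 1))) (.v (nat_lit 2))) (.v (nat_lit 5)))))))))))))))))))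
theorem HC_ye_chk : Fm.chk HC_o HC_ye_F HC_cs = true := by decide +kernel
theorem HC_ye {G : Type*} [Group G] {R : ℕ → G → Prop} {z u v a b r x y : G} {H : Subgroup G}
    (M : Mdl HC_o HC_cs HC_L R [z, u, v, a, b, r, x, x⁻¹, y, y⁻¹] H) :
    y * (u * r) * y⁻¹ = v * r ∧ y * (v * r) * y⁻¹ = z * u * v * r ∧ y * (z * u * v * r) * y⁻¹ = u * r ∧ y⁻¹ * (u * r) * y⁻¹⁻¹ = z * u * v * r ∧ a * r * a⁻¹ = u * r ∧ u * r * r = r * (u * r) ∧ u * r * z = z * (u * r) ∧ z * u * v * r * r = r * (z * u * v * r) ∧ z * u * v * r * z = z * (z * u * v * r) ∧ u * r ≠ z ∧ u * r ≠ r ∧ z * u * v * r ≠ z ∧ z * u * v * r ≠ r ∧ u * r ≠ z * u * v * r :=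
  Fm.sound M.μ HC_ye_F HC_ye_chk M.reps

end H10.X
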