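import Cfsg.Agent.H10.XC1g

/-! Generated: the normalizer of the elementary abelian group of order sixteen. -/

set_option maxRecDepth 100000
set_option maxHeartbeats 4000000
set_option linter.unusedVariables false

open Subgroup
open scoped commutatorElement
namespace H10.X
open H0 H0.PM H16 H19

noncomputable def py_r_R : List (List ℕ) := [[0,0],
  [1,1],
  [2,2],
  [3,3],
  [4,4],
  [5,5],
  [6,7],
  [7,6],
  [8,9],
  [9,8],
  [2,1,2,1],
  [1,0,1,0],
  [2,0,2,0],
  [3,0,3,0],
  [4,0,4,0],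
  [5,0,5,0],
  [3,1,3,1],
  [4,2,4,2],
  [4,3,4,3],
  [1,0,4,1,4],
  [2,0,3,2,3],
  [1,5,1,5],
  [5,1,3,5,3],
  [2,5,2,5],
  [5,2,4,5,4],
  [6,6,6],
  [5,7,5,6],
  [0,7,0,6],
  [2,7,1,6],
  [0,1,2,7,2,6],
  [4,7,3,6],
  [0,3,4,7,4,6],
  [8,8,8],
  [1,9,0,8],
  [0,1,9,1,8],
  [3,9,3,8],
  [5,9,2,8],
  [2,5,9,5,8],
  [8,4,8,4]]
theorem py_r {G : Type*} [Group G] {z u v a b r y p : G}
    (t : TA z u v a b r)
    (n : NY z u v a b r y)
    (hp : PA z u v a b r p) :
    Rels (nthG [z, u, v, a, b, r, y, y⁻¹, p, p⁻¹]) py_r_R :=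
  rels_of_eqs ((InvI.cons t.1 (InvI.cons t.2.1 (InvI.cons t.2.2.1 (InvI.cons t.2.2.2.1 (InvI.cons t.2.2.2.2.1 (InvI.cons t.2.2.2.2.2.1 InvI.nil)))))) : InvI [z, u, v, a, b, r, y, p] [(nat_lit 0), (nat_lit 1), (nat_lit 2), (nat_lit 3), (nat_lit 4), (nat_lit 5)])
    (AllEq.append (show AllEq [z, u, v, a, b, r, y, p] [((.mul (.v (nat_lit 0)) (.v (nat_lit 0))), .one), ((.mul (.v (nat_lit 1)) (.v (nat_lit 1))), .one), ((.mul (.v (nat_lit 2)) (.v (nat_lit 2))), .one), ((.mul (.v (nat_lit 3)) (.v (nat_lit 3))), .one), ((.mul (.v (nat_lit 4)) (.v (nat_lit 4))), .one), ((.mul (.v (nat_lit 5)) (.v (nat_lit 5))), .one), ((.mul (.v (nat_lit 1)) (.v (nat_lit 2))), (.mul (.v (nat_lit 2)) (.v (nat_lit 1)))), ((.mul (.v (nat_lit 0)) (.v (nat_lit 1))), (.mul (.v (nat_lit 1)) (.v (nat_lit 0)))), ((.mul (.v (nat_lit 0)) (.v (nat_lit 2))), (.mul (.v (nat_lit 2)) (.v (nat_lit 0)))), ((.mul (.v (nat_lit 0)) (.v (nat_lit 3))), (.mul (.v (nat_lit 3)) (.v (nat_lit 0)))), ((.mul (.v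 (nat_lit 0)) (.v (nat_lit 4))), (.mul (.v (nat_lit 4)) (.v (nat_lit 0)))), ((.mul (.v (nat_lit 0)) (.v (nat_lit 5))), (.mul (.v (nat_lit 5)) (.v (nat_lit 0)))), ((.mul (.v (nat_lit 1)) (.v (nat_lit 3))), (.mul (.v (nat_lit 3)) (.v (nat_lit 1)))), ((.mul (.v (nat_lit 2)) (.v (nat_lit 4))), (.mul (.v (nat_lit 4)) (.v (nat_lit 2)))), ((.mul (.v (nat_lit 3)) (.v (nat_lit 4))), (.mul (.v (nat_lit 4)) (.v (nat_lit 3)))), ((.mul (.mul (.v (nat_lit 4)) (.v (nat_lit 1))) (.v (nat_lit 4))), (.mul (.v (nat_lit 1)) (.v (nat_lit 0)))), ((.mul (.mul (.v (nat_lit 3)) (.v (nat_lit 2))) (.v (nat_lit 3))), (.mul (.v (nat_lit 2)) (.v (nat_lit 0)))), ((.mul (.v (nat_lit 5)) (.v (nat_lit 1))), (.mul (.v (nat_lit 1)) (.v (nat_lit 5)))), ((.mul (.mul (.v (nat_lit 3)) (.v (nat_lit 5))) (.v (nat_lit 3))), (.mul (.v (nat_lit 5)) (.v (nat_lit 1)))), ((.mul (.v (nat_lit 5)) (.v (nat_lit 2))), (.mul (.v (nat_lit 2)) (.v (nat_lit 5)))), ((.mul (.mul (.v (nat_lit 4)) (.v (nat_lit 5))) (.v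 (nat_lit 4))), (.mul (.v (nat_lit 5)) (.v (nat_lit 2))))] from t)
    (AllEq.append (show AllEq [z, u, v, a, b, r, y, p] [((.pw (.v (nat_lit 6)) (nat_lit 3)), .one), ((.mul (.v (nat_lit 6)) (.v (nat_lit 5))), (.mul (.v (nat_lit 5)) (.v (nat_lit 6)))), ((.mul (.v (nat_lit 6)) (.v (nat_lit 0))), (.mul (.v (nat_lit 0)) (.v (nat_lit 6)))), ((.mul (.mul (.v (nat_lit 6)) (.v (nat_lit 1))) (.inv (.v (nat_lit 6)))), (.v (nat_lit 2))), ((.mul (.mul (.v (nat_lit 6)) (.v (nat_lit 2))) (.inv (.v (nat_lit 6)))), (.mul (.mul (.v (nat_lit 0)) (.v (nat_lit 1))) (.v (nat_lit 2)))), ((.mul (.mul (.v (nat_lit 6)) (.v (nat_lit 3))) (.inv (.v (nat_lit 6)))), (.v (nat_lit 4))), ((.mul (.mul (.v (nat_lit 6)) (.v (nat_lit 4))) (.inv (.v (nat_lit 6)))), (.mul (.mul (.v (nat_lit 0)) (.v (nat_lit 3))) (.v (nat_lit 4))))] from n)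
    (show AllEq [z, u, v, a, b, r, y, p] [((.pw (.v (nat_lit 7)) (nat_lit 3)), .one), ((.mul (.mul (.v (nat_lit 7)) (.v (nat_lit 0))) (.inv (.v (nat_lit 7)))), (.v (nat_lit 1))), ((.mul (.mul (.v (nat_lit 7)) (.v (nat_lit 1))) (.inv (.v (nat_lit 7)))), (.mul (.v (nat_lit 0)) (.v (nat_lit 1)))), ((.mul (.mul (.v (nat_lit 7)) (.v (nat_lit 3))) (.inv (.v (nat_lit 7)))), (.v (nat_lit 3))), ((.mul (.mul (.v (nat_lit 7)) (.v (nat_lit 2))) (.inv (.v (nat_lit 7)))), (.v (nat_lit 5))), ((.mul (.mul (.v (nat_lit 7)) (.v (nat_lit 5))) (.inv (.v (nat_lit 7)))), (.mul (.v (nat_lit 2)) (.v (nat_lit 5)))), ((.pw (.mul (.v (nat_lit 4)) (.v (nat_lit 7))) (nat_lit 2)), .one)] from hp)))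
    [(.v (nat_lit 0)), (.v (nat_lit 1)), (.v (nat_lit 2)), (.v (nat_lit 3)), (.v (nat_lit 4)), (.v (nat_lit 5)), (.v (nat_lit 6)), (.inv (.v (nat_lit 6))), (.v (nat_lit 7)), (.inv (.v (nat_lit 7)))] (by decide +kernel)
noncomputable def py_0_S0 : List ℕ := [nat_lit 0x4300000c004026, nat_lit 0x47000010004026, nat_lit 0x47000007000044000028, nat_lit 0x4b00000100000900000600402a, nat_lit 0x4f00004c00000e004016, nat_lit 0x5700001300005400c022, nat_lit 0x1700001100004f000054000015006024, nat_lit 0x5b000058000019004014, nat_lit 0x6300001b00006000c02c, nat_lit 0x6b00001f00001d00c028, nat_lit 0x2200005f00005c00002500c02e, nat_lit 0x2900006300006800801a, nat_lit 0x7300002300006800401e, nat_lit 0x7700002700006c004020, nat_lit 0x7b00007800003600002e000031008024, nat_lit 0x6f00007400003900c01a, nat_lit 0x8700002b00007000402c, nat_lit 0x3d00004100008700008401002e, nat_lit 0x8b00003400601c, nat_lit 0x8f00002f00007c00004600402a, nat_lit 0x9300009000004e004016, nat_lit 0x7f000084000051000018,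 nat_lit 0x97000094000055004014, nat_lit 0x9b00003800601c, nat_lit 0x9b00009800005a00007f00008c010024, nat_lit 0x4900006100005e008022, nat_lit 0x3f00006500003c008028]
noncomputable def py_0_S : List (List ℕ) := [py_0_S0]
noncomputable def py_0_defs : List ℕ := [(nat_lit 0x70000b0020000b0010000b0000000b0070000a0050000a0020000a0000000a0010000900000009005000080020000800000007005000060020000600500004002000040010000400200002001000020000000200800001008000000090000d0090000c0060000b0060000a008000090080000800600007006000060090000500900004007000030070000200900001009000000000000000000000)]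
noncomputable def py_0_recs : List ℕ := [(nat_lit 0xe0000f010000d0000c020002200026070000d00026010001f0002502000240001f000002000024010002000023070000c0002208000200001e090001b00021050001e0001b020001c0001e070001a0001d07000190001c02000190001a050001a0001808000160001a080001700018010000500016020001500005060001400015000000300013010000300012010001000011080000300011080000200010)]
noncomputable def py_0_T : List (List ℕ × ℕ) := [([0,9,7,9,6,8,6,9,0,8,7,9,7,8,6,8], (nat_lit 0xc00001400001c00002400002c00003400003c00006900003f00003700002f00002700001f00001700000f000007))]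
noncomputable def py_0_D : H26.Dag := ⟨[0,1,2,3,4,5,7,6,9,8], [[0,0],
  [1,1],
  [2,2],
  [3,3],
  [4,4],
  [5,5],
  [6,7],
  [7,6],
  [8,9],
  [9,8],
  [2,1,2,1],
  [1,0,1,0],
  [2,0,2,0],
  [2,5,2,5],
  [6,6,6],
  [5,7,5,6],
  [0,7,0,6],
  [2,7,1,6],
  [0,1,2,7,2,6],
  [8,8,8],
  [1,9,0,8],
  [0,1,9,1,8],
  [5,9,2,8],
  [2,5,9,5,8]], [], py_0_defs, py_0_recs⟩
theorem py_0_c : py_0_D.check py_0_S py_0_T = true := by decide +kernel
theorem py_0 {G : Type*} [Group G] {g : ℕ → G} (hR : Rels g py_r_R) {H : Subgroup G}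
    (hH : ∀ k ∈ [], g k ∈ H) : evA g [0,9,7,9,6,8,6,9,0,8,7,9,7,8,6,8] ∈ H :=
  mem_dag (K := 10) (J := [0,1,2,3,4,5,6,7,8,9,10,11,12,23,25,26,27,28,29,32,33,34,36,37]) (D := py_0_D) (by decide +kernel) py_0_c (by decide +kernel) hR hH
noncomputable def py_1_S0 : List ℕ := [nat_lit 0xf00000700000c00801c, nat_lit 0x17000002000014008016, nat_lit 0x4300001c00401a, nat_lit 0x4700002000401a, nat_lit 0x4700000600004400001c, nat_lit 0x4b00000900001100000e00401e, nat_lit 0x4f00002300004c004016, nat_lit 0x27000015000019000018, nat_lit 0x5300002b00005000401c, nat_lit 0x2f00001e000021000020, nat_lit 0x57000033000054004018, nat_lit 0x37000026000029000014, nat_lit 0x3b00005800002d000040006022]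
noncomputable def py_1_S : List (List ℕ) := [py_1_S0]
noncomputable def py_1_defs : List ℕ := [(nat_lit 0x20000c0010000a000000080000000600800005008000040090000d0090000c0060000b0060000a008000090080000800600007006000060090000500900004007000030070000200900001009000000010000000000000)]
noncomputable def py_1_recs : List ℕ := [(nat_lit 0x50000f0000e05000150000d07000140001505000140000b090001300014020001300009070001200013010000700012010001000011080000700011080000600010000000400005000000200003)]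
noncomputable def py_1_T : List (List ℕ × ℕ) := [([1,9,7,9,6,8,6,9,5,8,7,9,7,8,6,8], (nat_lit 0xc00001400001c00002400002c00003400003c00003200003f00003700002f00002700001f00001700000f000007))]
noncomputable def py_1_D : H26.Dag := ⟨[0,1,2,3,4,5,7,6,9,8], [[0,0],
  [1,1],
  [2,2],
  [3,3],
  [4,4],
  [5,5],
  [6,7],
  [7,6],
  [8,9],
  [9,8],
  [5,7,5,6],
  [0,7,0,6],
  [2,7,1,6],
  [8,8,8],
  [1,9,0,8],
  [0,1,9,1,8],
  [5,9,2,8],
  [2,5,9,5,8]], [], py_1_defs, py_1_recs⟩
theorem py_1_c : py_1_D.check py_1_S py_1_T = true := by decide +kernel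
theorem py_1 {G : Type*} [Group G] {g : ℕ → G} (hR : Rels g py_r_R) {H : Subgroup G}
    (hH : ∀ k ∈ [], g k ∈ H) : evA g [1,9,7,9,6,8,6,9,5,8,7,9,7,8,6,8] ∈ H :=
  mem_dag (K := 10) (J := [0,1,2,3,4,5,6,7,8,9,26,27,28,32,33,34,36,37]) (D := py_1_D) (by decide +kernel) py_1_c (by decide +kernel) hR hH
theorem py {G : Type*} [Group G] {z u v a b r y p : G}
    (t : TA z u v a b r)
    (n : NY z u v a b r y)
    (hp : PA z u v a b r p) :
    p * y * p * y⁻¹ * p⁻¹ * y⁻¹ * p * z = z * (p * y * p * y⁻¹ * p⁻¹ * y⁻¹ * p) ∧ p * y * p * y⁻¹ * p⁻¹ * y⁻¹ * p * r * (p * y * p * y⁻¹ * p⁻¹ * y⁻¹ * p)⁻¹ = u :=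
  ⟨mul_inv_eq_one.1 ((evA_eq_tm ((InvI.cons t.1 (InvI.cons t.2.1 (InvI.cons t.2.2.1 (InvI.cons t.2.2.2.1 (InvI.cons t.2.2.2.2.1 (InvI.cons t.2.2.2.2.2.1 InvI.nil)))))) : InvI [z, u, v, a, b, r, y, p] [(nat_lit 0), (nat_lit 1), (nat_lit 2), (nat_lit 3), (nat_lit 4), (nat_lit 5)]) [(.v (nat_lit 0)), (.v (nat_lit 1)), (.v (nat_lit 2)), (.v (nat_lit 3)), (.v (nat_lit 4)), (.v (nat_lit 5)), (.v (nat_lit 6)), (.inv (.v (nat_lit 6))), (.v (nat_lit 7)), (.inv (.v (nat_lit 7)))] [0,9,7,9,6,8,6,9,0,8,7,9,7,8,6,8] (.mul (.mul (.mul (.mul (.mul (.mul (.mul (.mul (.v (nat_lit 7)) (.v (nat_lit 6))) (.v (nat_lit 7))) (.inv (.v (nat_lit 6)))) (.inv (.v (nat_lit 7)))) (.inv (.v (nat_lit 6)))) (.v (nat_lit 7))) (.v (nat_lit 0))) (.inv (.mul (.v (nat_lit 0)) (.mul (.mul (.mul (.mul (.mul (.mul (.v (nat_lit 7)) (.v (nat_lit 6))) (.v (nat_lit 7))) (.inv (.v (nat_lit 6)))) (.inv (.v (nat_lit 7)))) (.inv (.v (nat_lit 6)))) (.v (nat_lit 7)))))) (by decide +kernel)).symm.trans (Subgroup.mem_bot.1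 (py_0 (py_r t n hp) (H := ⊥) (List.forall_mem_nil _)))),
   mul_inv_eq_one.1 ((evA_eq_tm ((InvI.cons t.1 (InvI.cons t.2.1 (InvI.cons t.2.2.1 (InvI.cons t.2.2.2.1 (InvI.cons t.2.2.2.2.1 (InvI.cons t.2.2.2.2.2.1 InvI.nil)))))) : InvI [z, u, v, a, b, r, y, p] [(nat_lit 0), (nat_lit 1), (nat_lit 2), (nat_lit 3), (nat_lit 4), (nat_lit 5)]) [(.v (nat_lit 0)), (.v (nat_lit 1)), (.v (nat_lit 2)), (.v (nat_lit 3)), (.v (nat_lit 4)), (.v (nat_lit 5)), (.v (nat_lit 6)), (.inv (.v (nat_lit 6))), (.v (nat_lit 7)), (.inv (.v (nat_lit 7)))] [1,9,7,9,6,8,6,9,5,8,7,9,7,8,6,8] (.mul (.mul (.mul (.mul (.mul (.mul (.mul (.mul (.mul (.v (nat_lit 7)) (.v (nat_lit 6))) (.v (nat_lit 7))) (.inv (.v (nat_lit 6)))) (.inv (.v (nat_lit 7)))) (.inv (.v (nat_lit 6)))) (.v (nat_lit 7))) (.v (nat_lit 5))) (.inv (.mul (.mul (.mul (.mul (.mul (.mul (.v (nat_lit 7)) (.v (nat_lit 6))) (.v (nat_lit 7))) (.inv (.v (nat_lit 6)))) (.inv (.v (nat_lit 7)))) (.inv (.v (nat_lit 6)))) (.v (nat_lit 7)))))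 (.inv (.v (nat_lit 1)))) (by decide +kernel)).symm.trans (Subgroup.mem_bot.1 (py_1 (py_r t n hp) (H := ⊥) (List.forall_mem_nil _))))⟩
noncomputable def sw_bad_r_R : List (List ℕ) := [[0,0],
  [1,1],
  [2,2],
  [3,3],
  [4,4],
  [5,5],
  [6,7],
  [7,6],
  [8,9],
  [9,8],
  [2,1,2,1],
  [1,0,1,0],
  [2,0,2,0],
  [3,0,3,0],
  [4,0,4,0],
  [5,0,5,0],
  [3,1,3,1],
  [4,2,4,2],
  [4,3,4,3],
  [1,0,4,1,4],
  [2,0,3,2,3],
  [1,5,1,5],
  [5,1,3,5,3],
  [2,5,2,5],
  [5,2,4,5,4],
  [6,6,6],
  [5,7,5,6],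
  [0,7,0,6],
  [2,7,1,6],
  [0,1,2,7,2,6],
  [4,7,3,6],
  [0,3,4,7,4,6],
  [5,9,0,8],
  [0,9,5,8],
  [0,1,2,5,9,5,2,1,0,8],
  [1,5,9,5,1,8]]
theorem sw_bad_r {G : Type*} [Group G] {z u v a b r y k : G}
    (t : TA z u v a b r)
    (n : NY z u v a b r y)
    (e1 : k * z * k⁻¹ = r)
    (e2 : k * r * k⁻¹ = z)
    (e3 : k * (z * u * v * r) * k⁻¹ = z * u * v * r)
    (e4 : k * (u * r) * k⁻¹ = u * r) :
    Rels (nthG [z, u, v, a, b, r, y, y⁻¹, k, k⁻¹]) sw_bad_r_R :=
  rels_of_eqs ((InvI.cons t.1 (InvI.cons t.2.1 (InvI.cons t.2.2.1 (InvI.cons t.2.2.2.1 (InvI.cons t.2.2.2.2.1 (InvI.cons t.2.2.2.2.2.1 InvI.nil)))))) : InvI [z, u, v, a, b, r, y, k] [(nat_lit 0), (nat_lit 1), (nat_lit 2), (nat_lit 3), (nat_lit 4), (nat_lit 5)])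
    (AllEq.append (show AllEq [z, u, v, a, b, r, y, k] [((.mul (.v (nat_lit 0)) (.v (nat_lit 0))), .one), ((.mul (.v (nat_lit 1)) (.v (nat_lit 1))), .one), ((.mul (.v (nat_lit 2)) (.v (nat_lit 2))), .one), ((.mul (.v (nat_lit 3)) (.v (nat_lit 3))), .one), ((.mul (.v (nat_lit 4)) (.v (nat_lit 4))), .one), ((.mul (.v (nat_lit 5)) (.v (nat_lit 5))), .one), ((.mul (.v (nat_lit 1)) (.v (nat_lit 2))), (.mul (.v (nat_lit 2)) (.v (nat_lit 1)))), ((.mul (.v (nat_lit 0)) (.v (nat_lit 1))), (.mul (.v (nat_lit 1)) (.v (nat_lit 0)))), ((.mul (.v (nat_lit 0)) (.v (nat_lit 2))), (.mul (.v (nat_lit 2)) (.v (nat_lit 0)))), ((.mul (.v (nat_lit 0)) (.v (nat_lit 3))), (.mul (.v (nat_lit 3)) (.v (nat_lit 0)))), ((.mul (.v (nat_lit 0)) (.v (nat_lit 4))), (.mul (.v (nat_lit 4)) (.v (nat_lit 0)))), ((.mul (.v (nat_lit 0)) (.v (nat_lit 5))), (.mul (.v (nat_lit 5)) (.v (nat_lit 0)))), ((.mul (.v (nat_lit 1)) (.v (nat_lit 3))), (.mul (.v (nat_lit 3)) (.v (nat_lit 1)))), ((.mul (.v (nat_lit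 2)) (.v (nat_lit 4))), (.mul (.v (nat_lit 4)) (.v (nat_lit 2)))), ((.mul (.v (nat_lit 3)) (.v (nat_lit 4))), (.mul (.v (nat_lit 4)) (.v (nat_lit 3)))), ((.mul (.mul (.v (nat_lit 4)) (.v (nat_lit 1))) (.v (nat_lit 4))), (.mul (.v (nat_lit 1)) (.v (nat_lit 0)))), ((.mul (.mul (.v (nat_lit 3)) (.v (nat_lit 2))) (.v (nat_lit 3))), (.mul (.v (nat_lit 2)) (.v (nat_lit 0)))), ((.mul (.v (nat_lit 5)) (.v (nat_lit 1))), (.mul (.v (nat_lit 1)) (.v (nat_lit 5)))), ((.mul (.mul (.v (nat_lit 3)) (.v (nat_lit 5))) (.v (nat_lit 3))), (.mul (.v (nat_lit 5)) (.v (nat_lit 1)))), ((.mul (.v (nat_lit 5)) (.v (nat_lit 2))), (.mul (.v (nat_lit 2)) (.v (nat_lit 5)))), ((.mul (.mul (.v (nat_lit 4)) (.v (nat_lit 5))) (.v (nat_lit 4))), (.mul (.v (nat_lit 5)) (.v (nat_lit 2))))] from t)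
    (AllEq.append (show AllEq [z, u, v, a, b, r, y, k] [((.pw (.v (nat_lit 6)) (nat_lit 3)), .one), ((.mul (.v (nat_lit 6)) (.v (nat_lit 5))), (.mul (.v (nat_lit 5)) (.v (nat_lit 6)))), ((.mul (.v (nat_lit 6)) (.v (nat_lit 0))), (.mul (.v (nat_lit 0)) (.v (nat_lit 6)))), ((.mul (.mul (.v (nat_lit 6)) (.v (nat_lit 1))) (.inv (.v (nat_lit 6)))), (.v (nat_lit 2))), ((.mul (.mul (.v (nat_lit 6)) (.v (nat_lit 2))) (.inv (.v (nat_lit 6)))), (.mul (.mul (.v (nat_lit 0)) (.v (nat_lit 1))) (.v (nat_lit 2)))), ((.mul (.mul (.v (nat_lit 6)) (.v (nat_lit 3))) (.inv (.v (nat_lit 6)))), (.v (nat_lit 4))), ((.mul (.mul (.v (nat_lit 6)) (.v (nat_lit 4))) (.inv (.v (nat_lit 6)))), (.mul (.mul (.v (nat_lit 0)) (.v (nat_lit 3))) (.v (nat_lit 4))))] from n)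
    (AllEq.append (show AllEq [z, u, v, a, b, r, y, k] [((.mul (.mul (.v (nat_lit 7)) (.v (nat_lit 0))) (.inv (.v (nat_lit 7)))), (.v (nat_lit 5)))] from ⟨e1, trivial⟩)
    (AllEq.append (show AllEq [z, u, v, a, b, r, y, k] [((.mul (.mul (.v (nat_lit 7)) (.v (nat_lit 5))) (.inv (.v (nat_lit 7)))), (.v (nat_lit 0)))] from ⟨e2, trivial⟩)
    (AllEq.append (show AllEq [z, u, v, a, b, r, y, k] [((.mul (.mul (.v (nat_lit 7)) (.mul (.mul (.mul (.v (nat_lit 0)) (.v (nat_lit 1))) (.v (nat_lit 2))) (.v (nat_lit 5)))) (.inv (.v (nat_lit 7)))), (.mul (.mul (.mul (.v (nat_lit 0)) (.v (nat_lit 1))) (.v (nat_lit 2))) (.v (nat_lit 5))))] from ⟨e3, trivial⟩)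
    (show AllEq [z, u, v, a, b, r, y, k] [((.mul (.mul (.v (nat_lit 7)) (.mul (.v (nat_lit 1)) (.v (nat_lit 5)))) (.inv (.v (nat_lit 7)))), (.mul (.v (nat_lit 1)) (.v (nat_lit 5))))] from ⟨e4, trivial⟩))))))
    [(.v (nat_lit 0)), (.v (nat_lit 1)), (.v (nat_lit 2)), (.v (nat_lit 3)), (.v (nat_lit 4)), (.v (nat_lit 5)), (.v (nat_lit 6)), (.inv (.v (nat_lit 6))), (.v (nat_lit 7)), (.inv (.v (nat_lit 7)))] (by decide +kernel)
noncomputable def sw_bad_0_S0 : List ℕ := [nat_lit 0xf00000700000c008016, nat_lit 0x33000013000001000018012014, nat_lit 0x3700001b00003400000600002000a018, nat_lit 0x2300003800000a00002800c014, nat_lit 0x2f00000d00002c000016]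
noncomputable def sw_bad_0_S : List (List ℕ) := [sw_bad_0_S0]
noncomputable def sw_bad_0_defs : List ℕ := [(nat_lit 0x10000600100004008000090080000800300007003000060090000500900004003000030030000200900001009000000000000000000000)]
noncomputable def sw_bad_0_recs : List ℕ := [(nat_lit 0xa0000b05000090000805000070000d05000050000c050000200003)]
noncomputable def sw_bad_0_T : List (List ℕ × ℕ) := [([0,9,3,9,3,8,0,9,3,8,3,8], (nat_lit 0xc00001400001c00002400002c00001100002f00002700001f00001700000f000007))]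
noncomputable def sw_bad_0_D : H26.Dag := ⟨[0,1,2,3,4,5,7,6,9,8], [[0,0],
  [1,1],
  [2,2],
  [3,3],
  [4,4],
  [5,5],
  [6,7],
  [7,6],
  [8,9],
  [9,8],
  [5,1,3,5,3],
  [0,9,5,8],
  [1,5,9,5,1,8]], [], sw_bad_0_defs, sw_bad_0_recs⟩
theorem sw_bad_0_c : sw_bad_0_D.check sw_bad_0_S sw_bad_0_T = true := by decide +kernel
theorem sw_bad_0 {G : Type*} [Group G] {g : ℕ → G} (hR : Rels g sw_bad_r_R) {H : Subgroup G}
    (hH : ∀ k ∈ [], g k ∈ H) : evA g [0,9,3,9,3,8,0,9,3,8,3,8] ∈ H :=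
  mem_dag (K := 10) (J := [0,1,2,3,4,5,6,7,8,9,22,33,35]) (D := sw_bad_0_D) (by decide +kernel) sw_bad_0_c (by decide +kernel) hR hH
noncomputable def sw_bad_1_S0 : List ℕ := [nat_lit 0x3700000b00000800001000001800a01a, nat_lit 0x1300003800000200002000c016, nat_lit 0x2700000500001c008018, nat_lit 0x2300000900003000c014, nat_lit 0xd00002c00003400c018]
noncomputable def sw_bad_1_S : List (List ℕ) := [sw_bad_1_S0]
noncomputable def sw_bad_1_defs : List ℕ := [(nat_lit 0x1000020050000a003000090080000800900007003000060030000500900004009000030030000200500001009000000010000000000000)]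
noncomputable def sw_bad_1_recs : List ℕ := [(nat_lit 0x80000c0000b000000b0000800000060000905000070000405000050000d)]
noncomputable def sw_bad_1_T : List (List ℕ × ℕ) := [([1,5,9,3,9,3,8,5,9,3,8,3,8], (nat_lit 0xc00001400001c00002400002c00003400001100002f00002700001f00001700000f000007))]
noncomputable def sw_bad_1_D : H26.Dag := ⟨[0,1,2,3,4,5,7,6,9,8], [[0,0],
  [1,1],
  [2,2],
  [3,3],
  [4,4],
  [5,5],
  [6,7],
  [7,6],
  [8,9],
  [9,8],
  [3,0,3,0],
  [5,1,3,5,3],
  [5,9,0,8],
  [1,5,9,5,1,8]], [], sw_bad_1_defs, sw_bad_1_recs⟩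
theorem sw_bad_1_c : sw_bad_1_D.check sw_bad_1_S sw_bad_1_T = true := by decide +kernel
theorem sw_bad_1 {G : Type*} [Group G] {g : ℕ → G} (hR : Rels g sw_bad_r_R) {H : Subgroup G}
    (hH : ∀ k ∈ [], g k ∈ H) : evA g [1,5,9,3,9,3,8,5,9,3,8,3,8] ∈ H :=
  mem_dag (K := 10) (J := [0,1,2,3,4,5,6,7,8,9,13,22,32,35]) (D := sw_bad_1_D) (by decide +kernel) sw_bad_1_c (by decide +kernel) hR hH
noncomputable def sw_bad_2_S0 : List ℕ := [nat_lit 0xf00000700000c008018, nat_lit 0x17000002000014004014, nat_lit 0x1f00000600001c00801a, nat_lit 0x37000023000009000028012016, nat_lit 0x2f00000d00003700002c00003401201c]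
noncomputable def sw_bad_2_S : List (List ℕ) := [sw_bad_2_S0]
noncomputable def sw_bad_2_defs : List ℕ := [(nat_lit 0x1000080010000a008000090080000800300007003000060090000500900004003000030030000200900001009000000050000000000000)]
noncomputable def sw_bad_2_recs : List ℕ := [(nat_lit 0x50000c0000b05000090000d050000600007000000400005000000200003)]
noncomputable def sw_bad_2_T : List (List ℕ × ℕ) := [([5,9,3,9,3,8,5,1,9,3,8,3,8], (nat_lit 0xc00001400001c00002400002c00003400001100002f00002700001f00001700000f000007))]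
noncomputable def sw_bad_2_D : H26.Dag := ⟨[0,1,2,3,4,5,7,6,9,8], [[0,0],
  [1,1],
  [2,2],
  [3,3],
  [4,4],
  [5,5],
  [6,7],
  [7,6],
  [8,9],
  [9,8],
  [3,0,3,0],
  [5,1,3,5,3],
  [5,9,0,8],
  [0,9,5,8],
  [1,5,9,5,1,8]], [], sw_bad_2_defs, sw_bad_2_recs⟩
theorem sw_bad_2_c : sw_bad_2_D.check sw_bad_2_S sw_bad_2_T = true := by decide +kernel
theorem sw_bad_2 {G : Type*} [Group G] {g : ℕ → G} (hR : Rels g sw_bad_r_R) {H : Subgroup G}
    (hH : ∀ k ∈ [], g k ∈ H) : evA g [5,9,3,9,3,8,5,1,9,3,8,3,8] ∈ H :=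
  mem_dag (K := 10) (J := [0,1,2,3,4,5,6,7,8,9,13,22,32,33,35]) (D := sw_bad_2_D) (by decide +kernel) sw_bad_2_c (by decide +kernel) hR hH
noncomputable def sw_bad_3_S0 : List ℕ := [nat_lit 0x47000010000018008028, nat_lit 0x4b00000b00003c00c028, nat_lit 0x5b00000f00004000801c, nat_lit 0x5f00001300004c00801a, nat_lit 0x6300001300005000801e, nat_lit 0x7700001700005c00c02a, nat_lit 0x8300001b00006000c02a, nat_lit 0x8700001f00000100801a, nat_lit 0x8f00002300007c00801a, nat_lit 0x9300002300008000801e, nat_lit 0xa300002700008800c02a, nat_lit 0xa700002b00009c00402a, nat_lit 0xbb00003f000044004016, nat_lit 0xbb00000900001500007700007000202e, nat_lit 0xbf000009000015008028, nat_lit 0xbf00003f00004800802a, nat_lit 0xc3000002000070004016, nat_lit 0xc7000002000074004018, nat_lit 0xc700001d00008700008c010020, nat_lit 0xc70000c400004200003500003200004300000700003c00000501202c, nat_lit 0x3e0000c800004e008026, nat_lit 0x5300004c00005100003a00c018, nat_lit 0x5600007700000a,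 nat_lit 0x7300005900005300005800c026, nat_lit 0x5d000045000000, nat_lit 0xcb00004f000058008022, nat_lit 0xcb00001100006300006c010024, nat_lit 0xcf00006200004a00401a, nat_lit 0xcf00006500006a00401e, nat_lit 0xcf0000620000c700001d00c020, nat_lit 0xcf0000650000cb00001100c024, nat_lit 0xd300000e00004d00004a012024, nat_lit 0xd70000d400007e008022, nat_lit 0x810000d700001900008300008000202e, nat_lit 0xdb000063000068004014, nat_lit 0xdb000079000076004026, nat_lit 0x9f0000a400002a00008d00008a01402e, nat_lit 0xdf00006700006c008026, nat_lit 0xe300007b000080004016, nat_lit 0xe700002100008f000098010020, nat_lit 0xe70000e400009a00008500006d0000720000950000df00009101202c, nat_lit 0xaf00002f0000a00000a100009e010024, nat_lit 0xa50000af00000a, nat_lit 0xeb00007f000084008022, nat_lit 0xeb00002500009300009c010024, nat_lit 0xef0000ad0000b200401e, nat_lit 0xef0000ad0000eb00002500c024, nat_lit 0xf300008f000094004016, nat_lit 0xfb0000a70000ac004016, nat_lit 0xfb00002e0000b50000ba0000f800402e,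 nat_lit 0xbe0000f80000c500c028, nat_lit 0xb30000330000ac0000c10000c90000be0000930000980000aa00003801002c, nat_lit 0xb70000cd0000b300000a, nat_lit 0xd10000b700000a]
noncomputable def sw_bad_3_S : List (List ℕ) := [sw_bad_3_S0]
noncomputable def sw_bad_3_defs : List ℕ := [(nat_lit 0x1000290080002400100023003000200050001f0020001e0010001e00500019002000180050001700100017003000150050001300200011001000110090000f0010000f0050000d0050000c0050000b0010000a0000000a0050000900100009005000080020000800100008000000080020000700000007005000060010000600000006005000050020000500100005005000040020000400100004000000040000000300500002002000020010000200000002009000010010000100000001005000000080000b0020000a003000090080000800900007003000060030000500900004009000030030000200500001009000000020000000000000)]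
noncomputable def sw_bad_3_recs : List ℕ := [(nat_lit 0x50000d0000cff0000c0002dff0000d0002c080003e0003c050003d0003e000002a0003e00000240003c05000240003b01000260003b03000260003a01000200003a050000b00025ff000250002b050002700039030002500039000001f00038020001a00037080001900027050002100036010001900036090001f00022010002200035050002200034050001800033020002100033010001a00033000002200033030001a00032010001500032000003100015ff000150001c050000500014ff0001d0001402000120002f050001200031030002200031000001c00031000001b0003005000110002f000001d0002f090001b0002e00000100002e090002600029080002100028030001f00024030001e0002303000110002108000170002008000160001d030001300018030001200017050000f00016080000e00012000000500011)]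
noncomputable def sw_bad_3_T : List (List ℕ × ℕ) := [([2,5,9,3,9,3,8,5,2,9,3,8,3,8], (nat_lit 0xc00001400001c00002400002c0000340000d600003700002f00002700001f00001700000f000007))]
noncomputable def sw_bad_3_D : H26.Dag := ⟨[0,1,2,3,4,5,7,6,9,8], [[0,0],
  [1,1],
  [2,2],
  [3,3],
  [4,4],
  [5,5],
  [6,7],
  [7,6],
  [8,9],
  [9,8],
  [2,1,2,1],
  [1,0,1,0],
  [2,0,2,0],
  [3,0,3,0],
  [5,0,5,0],
  [3,1,3,1],
  [2,0,3,2,3],
  [1,5,1,5],
  [5,1,3,5,3],
  [2,5,2,5],
  [5,9,0,8],
  [0,9,5,8],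
  [0,1,2,5,9,5,2,1,0,8],
  [1,5,9,5,1,8]], [], sw_bad_3_defs, sw_bad_3_recs⟩
theorem sw_bad_3_c : sw_bad_3_D.check sw_bad_3_S sw_bad_3_T = true := by decide +kernel
theorem sw_bad_3 {G : Type*} [Group G] {g : ℕ → G} (hR : Rels g sw_bad_r_R) {H : Subgroup G}
    (hH : ∀ k ∈ [], g k ∈ H) : evA g [2,5,9,3,9,3,8,5,2,9,3,8,3,8] ∈ H :=
  mem_dag (K := 10) (J := [0,1,2,3,4,5,6,7,8,9,10,11,12,13,15,16,20,21,22,23,32,33,34,35]) (D := sw_bad_3_D) (by decide +kernel) sw_bad_3_c (by decide +kernel) hR hH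
theorem sw_bad {G : Type*} [Group G] {z u v a b r y k : G}
    (t : TA z u v a b r)
    (n : NY z u v a b r y)
    (e1 : k * z * k⁻¹ = r)
    (e2 : k * r * k⁻¹ = z)
    (e3 : k * (z * u * v * r) * k⁻¹ = z * u * v * r)
    (e4 : k * (u * r) * k⁻¹ = u * r) :
    k * a * k⁻¹ * k * (k * a * k⁻¹)⁻¹ * z = z * (k * a * k⁻¹ * k * (k * a * k⁻¹)⁻¹) ∧ k * a * k⁻¹ * k * (k * a * k⁻¹)⁻¹ * r * (k * a * k⁻¹ * k * (k * a * k⁻¹)⁻¹)⁻¹ = u * r ∧ k * a * k⁻¹ * k * (k * a * k⁻¹)⁻¹ * (u * r) * (k * a * k⁻¹ * k * (k * a * k⁻¹)⁻¹)⁻¹ = r ∧ k * a * k⁻¹ * k * (k * a * k⁻¹)⁻¹ * (v * r) * (k * a * k⁻¹ * k * (k * a * k⁻¹)⁻¹)⁻¹ = v * r :=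
  ⟨mul_inv_eq_one.1 ((evA_eq_tm ((InvI.cons t.1 (InvI.cons t.2.1 (InvI.cons t.2.2.1 (InvI.cons t.2.2.2.1 (InvI.cons t.2.2.2.2.1 (InvI.cons t.2.2.2.2.2.1 InvI.nil)))))) : InvI [z, u, v, a, b, r, y, k] [(nat_lit 0), (nat_lit 1), (nat_lit 2), (nat_lit 3), (nat_lit 4), (nat_lit 5)]) [(.v (nat_lit 0)), (.v (nat_lit 1)), (.v (nat_lit 2)), (.v (nat_lit 3)), (.v (nat_lit 4)), (.v (nat_lit 5)), (.v (nat_lit 6)), (.inv (.v (nat_lit 6))), (.v (nat_lit 7)), (.inv (.v (nat_lit 7)))] [0,9,3,9,3,8,0,9,3,8,3,8] (.mul (.mul (.mul (.mul (.mul (.mul (.v (nat_lit 7)) (.v (nat_lit 3))) (.inv (.v (nat_lit 7)))) (.v (nat_lit 7))) (.inv (.mul (.mul (.v (nat_lit 7)) (.v (nat_lit 3))) (.inv (.v (nat_lit 7)))))) (.v (nat_lit 0))) (.inv (.mul (.v (nat_lit 0)) (.mul (.mul (.mul (.mul (.v (nat_lit 7)) (.v (nat_lit 3))) (.inv (.v (nat_lit 7)))) (.v (nat_lit 7))) (.inv (.mul (.mul (.v (nat_lit 7)) (.v (nat_lit 3))) (.inv (.v (nat_lit 7))))))))) (by decide +kernel)).symm.trans (Subgroup.mem_bot.1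 (sw_bad_0 (sw_bad_r t n e1 e2 e3 e4) (H := ⊥) (List.forall_mem_nil _)))),
   mul_inv_eq_one.1 ((evA_eq_tm ((InvI.cons t.1 (InvI.cons t.2.1 (InvI.cons t.2.2.1 (InvI.cons t.2.2.2.1 (InvI.cons t.2.2.2.2.1 (InvI.cons t.2.2.2.2.2.1 InvI.nil)))))) : InvI [z, u, v, a, b, r, y, k] [(nat_lit 0), (nat_lit 1), (nat_lit 2), (nat_lit 3), (nat_lit 4), (nat_lit 5)]) [(.v (nat_lit 0)), (.v (nat_lit 1)), (.v (nat_lit 2)), (.v (nat_lit 3)), (.v (nat_lit 4)), (.v (nat_lit 5)), (.v (nat_lit 6)), (.inv (.v (nat_lit 6))), (.v (nat_lit 7)), (.inv (.v (nat_lit 7)))] [1,5,9,3,9,3,8,5,9,3,8,3,8] (.mul (.mul (.mul (.mul (.mul (.mul (.mul (.v (nat_lit 7)) (.v (nat_lit 3))) (.inv (.v (nat_lit 7)))) (.v (nat_lit 7))) (.inv (.mul (.mul (.v (nat_lit 7)) (.v (nat_lit 3))) (.inv (.v (nat_lit 7)))))) (.v (nat_lit 5))) (.inv (.mul (.mul (.mul (.mul (.v (nat_lit 7)) (.v (nat_lit 3))) (.inv (.v (nat_lit 7)))) (.v (nat_lit 7))) (.inv (.mul (.mul (.v (nat_lit 7)) (.v (nat_lit 3))) (.inv (.v (nat_lit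 7)))))))) (.inv (.mul (.v (nat_lit 1)) (.v (nat_lit 5))))) (by decide +kernel)).symm.trans (Subgroup.mem_bot.1 (sw_bad_1 (sw_bad_r t n e1 e2 e3 e4) (H := ⊥) (List.forall_mem_nil _)))),
   mul_inv_eq_one.1 ((evA_eq_tm ((InvI.cons t.1 (InvI.cons t.2.1 (InvI.cons t.2.2.1 (InvI.cons t.2.2.2.1 (InvI.cons t.2.2.2.2.1 (InvI.cons t.2.2.2.2.2.1 InvI.nil)))))) : InvI [z, u, v, a, b, r, y, k] [(nat_lit 0), (nat_lit 1), (nat_lit 2), (nat_lit 3), (nat_lit 4), (nat_lit 5)]) [(.v (nat_lit 0)), (.v (nat_lit 1)), (.v (nat_lit 2)), (.v (nat_lit 3)), (.v (nat_lit 4)), (.v (nat_lit 5)), (.v (nat_lit 6)), (.inv (.v (nat_lit 6))), (.v (nat_lit 7)), (.inv (.v (nat_lit 7)))] [5,9,3,9,3,8,5,1,9,3,8,3,8] (.mul (.mul (.mul (.mul (.mul (.mul (.mul (.v (nat_lit 7)) (.v (nat_lit 3))) (.inv (.v (nat_lit 7)))) (.v (nat_lit 7))) (.inv (.mul (.mul (.v (nat_lit 7)) (.v (nat_lit 3))) (.inv (.v (nat_lit 7)))))) (.mul (.v (nat_lit 1)) (.v (nat_lit 5)))) (.inv (.mul (.mul (.mul (.mul (.v (nat_lit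 7)) (.v (nat_lit 3))) (.inv (.v (nat_lit 7)))) (.v (nat_lit 7))) (.inv (.mul (.mul (.v (nat_lit 7)) (.v (nat_lit 3))) (.inv (.v (nat_lit 7)))))))) (.inv (.v (nat_lit 5)))) (by decide +kernel)).symm.trans (Subgroup.mem_bot.1 (sw_bad_2 (sw_bad_r t n e1 e2 e3 e4) (H := ⊥) (List.forall_mem_nil _)))),
   mul_inv_eq_one.1 ((evA_eq_tm ((InvI.cons t.1 (InvI.cons t.2.1 (InvI.cons t.2.2.1 (InvI.cons t.2.2.2.1 (InvI.cons t.2.2.2.2.1 (InvI.cons t.2.2.2.2.2.1 InvI.nil)))))) : InvI [z, u, v, a, b, r, y, k] [(nat_lit 0), (nat_lit 1), (nat_lit 2), (nat_lit 3), (nat_lit 4), (nat_lit 5)]) [(.v (nat_lit 0)), (.v (nat_lit 1)), (.v (nat_lit 2)), (.v (nat_lit 3)), (.v (nat_lit 4)), (.v (nat_lit 5)), (.v (nat_lit 6)), (.inv (.v (nat_lit 6))), (.v (nat_lit 7)), (.inv (.v (nat_lit 7)))] [2,5,9,3,9,3,8,5,2,9,3,8,3,8] (.mul (.mul (.mul (.mul (.mul (.mul (.mul (.v (nat_lit 7)) (.v (nat_lit 3))) (.inv (.v (nat_lit 7)))) (.v (nat_lit 7))) (.inv (.mul (.mul (.v (nat_lit 7)) (.v (nat_lit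 3))) (.inv (.v (nat_lit 7)))))) (.mul (.v (nat_lit 2)) (.v (nat_lit 5)))) (.inv (.mul (.mul (.mul (.mul (.v (nat_lit 7)) (.v (nat_lit 3))) (.inv (.v (nat_lit 7)))) (.v (nat_lit 7))) (.inv (.mul (.mul (.v (nat_lit 7)) (.v (nat_lit 3))) (.inv (.v (nat_lit 7)))))))) (.inv (.mul (.v (nat_lit 2)) (.v (nat_lit 5))))) (by decide +kernel)).symm.trans (Subgroup.mem_bot.1 (sw_bad_3 (sw_bad_r t n e1 e2 e3 e4) (H := ⊥) (List.forall_mem_nil _))))⟩
noncomputable def sw_c_r_R : List (List ℕ) := [[0,0],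
  [1,1],
  [2,2],
  [3,3],
  [4,4],
  [5,5],
  [6,7],
  [7,6],
  [8,9],
  [9,8],
  [2,1,2,1],
  [1,0,1,0],
  [2,0,2,0],
  [3,0,3,0],
  [4,0,4,0],
  [5,0,5,0],
  [3,1,3,1],
  [4,2,4,2],
  [4,3,4,3],
  [1,0,4,1,4],
  [2,0,3,2,3],
  [1,5,1,5],
  [5,1,3,5,3],
  [2,5,2,5],
  [5,2,4,5,4],
  [6,6,6],
  [5,7,5,6],
  [0,7,0,6],
  [2,7,1,6],
  [0,1,2,7,2,6],
  [4,7,3,6],
  [0,3,4,7,4,6],
  [5,9,0,8],
  [0,9,5,8],
  [0,1,2,5,9,5,2,1,0,8],
  [2,5,9,5,1,8]]
theorem sw_c_r {G : Type*} [Group G] {z u v a b r y k : G}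
    (t : TA z u v a b r)
    (n : NY z u v a b r y)
    (w : SW z u v r k) :
    Rels (nthG [z, u, v, a, b, r, y, y⁻¹, k, k⁻¹]) sw_c_r_R :=
  rels_of_eqs ((InvI.cons t.1 (InvI.cons t.2.1 (InvI.cons t.2.2.1 (InvI.cons t.2.2.2.1 (InvI.cons t.2.2.2.2.1 (InvI.cons t.2.2.2.2.2.1 InvI.nil)))))) : InvI [z, u, v, a, b, r, y, k] [(nat_lit 0), (nat_lit 1), (nat_lit 2), (nat_lit 3), (nat_lit 4), (nat_lit 5)])
    (AllEq.append (show AllEq [z, u, v, a, b, r, y, k] [((.mul (.v (nat_lit 0)) (.v (nat_lit 0))), .one), ((.mul (.v (nat_lit 1)) (.v (nat_lit 1))), .one), ((.mul (.v (nat_lit 2)) (.v (nat_lit 2))), .one), ((.mul (.v (nat_lit 3)) (.v (nat_lit 3))), .one), ((.mul (.v (nat_lit 4)) (.v (nat_lit 4))), .one), ((.mul (.v (nat_lit 5)) (.v (nat_lit 5))), .one), ((.mul (.v (nat_lit 1)) (.v (nat_lit 2))), (.mul (.v (nat_lit 2)) (.v (nat_lit 1)))), ((.mul (.v (nat_lit 0)) (.v (nat_lit 1))), (.mul (.v (nat_lit 1)) (.v (nat_lit 0)))), ((.mul (.v (nat_lit 0)) (.v (nat_lit 2))),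 (.mul (.v (nat_lit 2)) (.v (nat_lit 0)))), ((.mul (.v (nat_lit 0)) (.v (nat_lit 3))), (.mul (.v (nat_lit 3)) (.v (nat_lit 0)))), ((.mul (.v (nat_lit 0)) (.v (nat_lit 4))), (.mul (.v (nat_lit 4)) (.v (nat_lit 0)))), ((.mul (.v (nat_lit 0)) (.v (nat_lit 5))), (.mul (.v (nat_lit 5)) (.v (nat_lit 0)))), ((.mul (.v (nat_lit 1)) (.v (nat_lit 3))), (.mul (.v (nat_lit 3)) (.v (nat_lit 1)))), ((.mul (.v (nat_lit 2)) (.v (nat_lit 4))), (.mul (.v (nat_lit 4)) (.v (nat_lit 2)))), ((.mul (.v (nat_lit 3)) (.v (nat_lit 4))), (.mul (.v (nat_lit 4)) (.v (nat_lit 3)))), ((.mul (.mul (.v (nat_lit 4)) (.v (nat_lit 1))) (.v (nat_lit 4))), (.mul (.v (nat_lit 1)) (.v (nat_lit 0)))), ((.mul (.mul (.v (nat_lit 3)) (.v (nat_lit 2))) (.v (nat_lit 3))), (.mul (.v (nat_lit 2)) (.v (nat_lit 0)))), ((.mul (.v (nat_lit 5)) (.v (nat_lit 1))), (.mul (.v (nat_lit 1)) (.v (nat_lit 5)))), ((.mul (.mul (.v (nat_lit 3)) (.v (nat_lit 5))) (.v (nat_lit 3))), (.mul (.v (nat_lit 5)) (.v (nat_lit 1)))),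 ((.mul (.v (nat_lit 5)) (.v (nat_lit 2))), (.mul (.v (nat_lit 2)) (.v (nat_lit 5)))), ((.mul (.mul (.v (nat_lit 4)) (.v (nat_lit 5))) (.v (nat_lit 4))), (.mul (.v (nat_lit 5)) (.v (nat_lit 2))))] from t)
    (AllEq.append (show AllEq [z, u, v, a, b, r, y, k] [((.pw (.v (nat_lit 6)) (nat_lit 3)), .one), ((.mul (.v (nat_lit 6)) (.v (nat_lit 5))), (.mul (.v (nat_lit 5)) (.v (nat_lit 6)))), ((.mul (.v (nat_lit 6)) (.v (nat_lit 0))), (.mul (.v (nat_lit 0)) (.v (nat_lit 6)))), ((.mul (.mul (.v (nat_lit 6)) (.v (nat_lit 1))) (.inv (.v (nat_lit 6)))), (.v (nat_lit 2))), ((.mul (.mul (.v (nat_lit 6)) (.v (nat_lit 2))) (.inv (.v (nat_lit 6)))), (.mul (.mul (.v (nat_lit 0)) (.v (nat_lit 1))) (.v (nat_lit 2)))), ((.mul (.mul (.v (nat_lit 6)) (.v (nat_lit 3))) (.inv (.v (nat_lit 6)))), (.v (nat_lit 4))), ((.mul (.mul (.v (nat_lit 6)) (.v (nat_lit 4))) (.inv (.v (nat_lit 6)))), (.mul (.mul (.v (nat_lit 0)) (.v (nat_lit 3))) (.v (nat_lit 4))))] from n)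
    (show AllEq [z, u, v, a, b, r, y, k] [((.mul (.mul (.v (nat_lit 7)) (.v (nat_lit 0))) (.inv (.v (nat_lit 7)))), (.v (nat_lit 5))), ((.mul (.mul (.v (nat_lit 7)) (.v (nat_lit 5))) (.inv (.v (nat_lit 7)))), (.v (nat_lit 0))), ((.mul (.mul (.v (nat_lit 7)) (.mul (.mul (.mul (.v (nat_lit 0)) (.v (nat_lit 1))) (.v (nat_lit 2))) (.v (nat_lit 5)))) (.inv (.v (nat_lit 7)))), (.mul (.mul (.mul (.v (nat_lit 0)) (.v (nat_lit 1))) (.v (nat_lit 2))) (.v (nat_lit 5)))), ((.mul (.mul (.v (nat_lit 7)) (.mul (.v (nat_lit 1)) (.v (nat_lit 5)))) (.inv (.v (nat_lit 7)))), (.mul (.v (nat_lit 2)) (.v (nat_lit 5))))] from w)))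
    [(.v (nat_lit 0)), (.v (nat_lit 1)), (.v (nat_lit 2)), (.v (nat_lit 3)), (.v (nat_lit 4)), (.v (nat_lit 5)), (.v (nat_lit 6)), (.inv (.v (nat_lit 6))), (.v (nat_lit 7)), (.inv (.v (nat_lit 7)))] (by decide +kernel)
noncomputable def sw_c_0_S0 : List ℕ := [nat_lit 0xf00000700000c008016, nat_lit 0x17000002000014000014, nat_lit 0x1f00000600001c000016]
noncomputable def sw_c_0_S : List (List ℕ) := [sw_c_0_S0]
noncomputable def sw_c_0_defs : List ℕ := [(nat_lit 0x80000500800004006000030060000200900001009000000000000000000000)]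
noncomputable def sw_c_0_recs : List ℕ := [(nat_lit 0x600007050000400005050000200003)]
noncomputable def sw_c_0_T : List (List ℕ × ℕ) := [([0,9,6,8,0,9,7,8], (nat_lit 0xc00001400001c00000900001f00001700000f000007))]
noncomputable def sw_c_0_D : H26.Dag := ⟨[0,1,2,3,4,5,7,6,9,8], [[0,0],
  [1,1],
  [2,2],
  [3,3],
  [4,4],
  [5,5],
  [6,7],
  [7,6],
  [8,9],
  [9,8],
  [5,7,5,6],
  [0,9,5,8]], [], sw_c_0_defs, sw_c_0_recs⟩
theorem sw_c_0_c : sw_c_0_D.check sw_c_0_S sw_c_0_T = true := by decide +kernel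
theorem sw_c_0 {G : Type*} [Group G] {g : ℕ → G} (hR : Rels g sw_c_r_R) {H : Subgroup G}
    (hH : ∀ k ∈ [], g k ∈ H) : evA g [0,9,6,8,0,9,7,8] ∈ H :=
  mem_dag (K := 10) (J := [0,1,2,3,4,5,6,7,8,9,26,33]) (D := sw_c_0_D) (by decide +kernel) sw_c_0_c (by decide +kernel) hR hH
noncomputable def sw_c_1_S0 : List ℕ := [nat_lit 0xf00000c004014]
noncomputable def sw_c_1_S : List (List ℕ) := [sw_c_1_S0]
noncomputable def sw_c_1_defs : List ℕ := [(nat_lit 0x600001007000010090000000000000)]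
noncomputable def sw_c_1_recs : List ℕ := [(nat_lit 0x60000200003)]
noncomputable def sw_c_1_T : List (List ℕ × ℕ) := [([9,7,7,7,8], (nat_lit 0x800001000000200000b000007))]
noncomputable def sw_c_1_D : H26.Dag := ⟨[0,1,2,3,4,5,7,6,9,8], [[0,0],
  [1,1],
  [2,2],
  [3,3],
  [4,4],
  [5,5],
  [6,7],
  [7,6],
  [8,9],
  [9,8],
  [6,6,6]], [], sw_c_1_defs, sw_c_1_recs⟩
theorem sw_c_1_c : sw_c_1_D.check sw_c_1_S sw_c_1_T = true := by decide +kernel
theorem sw_c_1 {G : Type*} [Group G] {g : ℕ → G} (hR : Rels g sw_c_r_R) {H : Subgroup G}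
    (hH : ∀ k ∈ [], g k ∈ H) : evA g [9,7,7,7,8] ∈ H :=
  mem_dag (K := 10) (J := [0,1,2,3,4,5,6,7,8,9,25]) (D := sw_c_1_D) (by decide +kernel) sw_c_1_c (by decide +kernel) hR hH
noncomputable def sw_c_2_S0 : List ℕ := [nat_lit 0xf00000700000c008016, nat_lit 0x17000002000014000014, nat_lit 0x1f00000600001c000016]
noncomputable def sw_c_2_S : List (List ℕ) := [sw_c_2_S0]
noncomputable def sw_c_2_defs : List ℕ := [(nat_lit 0x80000500800004006000030060000200900001009000000050000000000000)]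
noncomputable def sw_c_2_recs : List ℕ := [(nat_lit 0x50000600007000000400005000000200003)]
noncomputable def sw_c_2_T : List (List ℕ × ℕ) := [([5,9,6,8,5,9,7,8], (nat_lit 0xc00001400001c00000900001f00001700000f000007))]
noncomputable def sw_c_2_D : H26.Dag := ⟨[0,1,2,3,4,5,7,6,9,8], [[0,0],
  [1,1],
  [2,2],
  [3,3],
  [4,4],
  [5,5],
  [6,7],
  [7,6],
  [8,9],
  [9,8],
  [0,7,0,6],
  [5,9,0,8]], [], sw_c_2_defs, sw_c_2_recs⟩
theorem sw_c_2_c : sw_c_2_D.check sw_c_2_S sw_c_2_T = true := by decide +kernel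
theorem sw_c_2 {G : Type*} [Group G] {g : ℕ → G} (hR : Rels g sw_c_r_R) {H : Subgroup G}
    (hH : ∀ k ∈ [], g k ∈ H) : evA g [5,9,6,8,5,9,7,8] ∈ H :=
  mem_dag (K := 10) (J := [0,1,2,3,4,5,6,7,8,9,27,32]) (D := sw_c_2_D) (by decide +kernel) sw_c_2_c (by decide +kernel) hR hH
noncomputable def sw_c_3_S0 : List ℕ := [nat_lit 0x2b00000b00000800001000001800a026, nat_lit 0x3300001300002c00401e, nat_lit 0x1f00000100000500001c, nat_lit 0x3b00001b000038004022, nat_lit 0x4700002300003c008016, nat_lit 0x4f000027000040004020, nat_lit 0x5300002f000034004014, nat_lit 0x4300000a00001900c018, nat_lit 0x5700002f000038008018, nat_lit 0x5700005400001d00801a, nat_lit 0x5f00000e00002100005700005c004026, nat_lit 0x1600003f00004400002500005700005c00002900005f000011000047000024, nat_lit 0x4b00002d00004f00000a, nat_lit 0x3100004b00000a]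
noncomputable def sw_c_3_S : List (List ℕ) := [sw_c_3_S0]
noncomputable def sw_c_3_defs : List ℕ := [(nat_lit 0x20000e0080000b0050000b0020000b0050000900500008000000080010000700000007000000060050000400200004001000040010000200800007001000060060000500800004009000030060000200500001009000000020000000000000)]
noncomputable def sw_c_3_recs : List ℕ := [(nat_lit 0x50000800009ff0000900012ff0000800013050001600017020001000015010000d00015050001400010010000c00014090000f00013010000e00011090000d0000e050000c00007070000a0000c05000050000a)]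
noncomputable def sw_c_3_T : List (List ℕ × ℕ) := [([2,5,9,6,8,5,1,9,7,8], (nat_lit 0xc00001400001c00002400003500002700001f00001700000f000007))]
noncomputable def sw_c_3_D : H26.Dag := ⟨[0,1,2,3,4,5,7,6,9,8], [[0,0],
  [1,1],
  [2,2],
  [3,3],
  [4,4],
  [5,5],
  [6,7],
  [7,6],
  [8,9],
  [9,8],
  [2,1,2,1],
  [1,0,1,0],
  [1,5,1,5],
  [2,5,2,5],
  [5,7,5,6],
  [2,7,1,6],
  [5,9,0,8],
  [0,9,5,8],
  [0,1,2,5,9,5,2,1,0,8],
  [2,5,9,5,1,8]], [], sw_c_3_defs, sw_c_3_recs⟩
theorem sw_c_3_c : sw_c_3_D.check sw_c_3_S sw_c_3_T = true := by decide +kernel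
theorem sw_c_3 {G : Type*} [Group G] {g : ℕ → G} (hR : Rels g sw_c_r_R) {H : Subgroup G}
    (hH : ∀ k ∈ [], g k ∈ H) : evA g [2,5,9,6,8,5,1,9,7,8] ∈ H :=
  mem_dag (K := 10) (J := [0,1,2,3,4,5,6,7,8,9,10,11,21,23,26,28,32,33,34,35]) (D := sw_c_3_D) (by decide +kernel) sw_c_3_c (by decide +kernel) hR hH
theorem sw_c {G : Type*} [Group G] {z u v a b r y k : G}
    (t : TA z u v a b r)
    (n : NY z u v a b r y)
    (w : SW z u v r k) :
    k * y⁻¹ * k⁻¹ * z = z * (k * y⁻¹ * k⁻¹) ∧ (k * y⁻¹ * k⁻¹) ^ 3 = 1 ∧ k * y⁻¹ * k⁻¹ * r = r * (k * y⁻¹ * k⁻¹) ∧ k * y⁻¹ * k⁻¹ * (u * r) * (k * y⁻¹ * k⁻¹)⁻¹ = v * r :=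
  ⟨mul_inv_eq_one.1 ((evA_eq_tm ((InvI.cons t.1 (InvI.cons t.2.1 (InvI.cons t.2.2.1 (InvI.cons t.2.2.2.1 (InvI.cons t.2.2.2.2.1 (InvI.cons t.2.2.2.2.2.1 InvI.nil)))))) : InvI [z, u, v, a, b, r, y, k] [(nat_lit 0), (nat_lit 1), (nat_lit 2), (nat_lit 3), (nat_lit 4), (nat_lit 5)]) [(.v (nat_lit 0)), (.v (nat_lit 1)), (.v (nat_lit 2)), (.v (nat_lit 3)), (.v (nat_lit 4)), (.v (nat_lit 5)), (.v (nat_lit 6)), (.inv (.v (nat_lit 6))), (.v (nat_lit 7)), (.inv (.v (nat_lit 7)))] [0,9,6,8,0,9,7,8] (.mul (.mul (.mul (.mul (.v (nat_lit 7)) (.inv (.v (nat_lit 6)))) (.inv (.v (nat_lit 7)))) (.v (nat_lit 0))) (.inv (.mul (.v (nat_lit 0)) (.mul (.mul (.v (nat_lit 7)) (.inv (.v (nat_lit 6)))) (.inv (.v (nat_lit 7))))))) (by decide +kernel)).symm.trans (Subgroup.mem_bot.1 (sw_c_0 (sw_c_r t n w) (H := ⊥) (List.forall_mem_nil _)))),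
   mul_inv_eq_one.1 ((evA_eq_tm ((InvI.cons t.1 (InvI.cons t.2.1 (InvI.cons t.2.2.1 (InvI.cons t.2.2.2.1 (InvI.cons t.2.2.2.2.1 (InvI.cons t.2.2.2.2.2.1 InvI.nil)))))) : InvI [z, u, v, a, b, r, y, k] [(nat_lit 0), (nat_lit 1), (nat_lit 2), (nat_lit 3), (nat_lit 4), (nat_lit 5)]) [(.v (nat_lit 0)), (.v (nat_lit 1)), (.v (nat_lit 2)), (.v (nat_lit 3)), (.v (nat_lit 4)), (.v (nat_lit 5)), (.v (nat_lit 6)), (.inv (.v (nat_lit 6))), (.v (nat_lit 7)), (.inv (.v (nat_lit 7)))] [9,7,7,7,8] (.mul (.pw (.mul (.mul (.v (nat_lit 7)) (.inv (.v (nat_lit 6)))) (.inv (.v (nat_lit 7)))) (nat_lit 3)) (.inv .one)) (by decide +kernel)).symm.trans (Subgroup.mem_bot.1 (sw_c_1 (sw_c_r t n w) (H := ⊥) (List.forall_mem_nil _)))),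
   mul_inv_eq_one.1 ((evA_eq_tm ((InvI.cons t.1 (InvI.cons t.2.1 (InvI.cons t.2.2.1 (InvI.cons t.2.2.2.1 (InvI.cons t.2.2.2.2.1 (InvI.cons t.2.2.2.2.2.1 InvI.nil)))))) : InvI [z, u, v, a, b, r, y, k] [(nat_lit 0), (nat_lit 1), (nat_lit 2), (nat_lit 3), (nat_lit 4), (nat_lit 5)]) [(.v (nat_lit 0)), (.v (nat_lit 1)), (.v (nat_lit 2)), (.v (nat_lit 3)), (.v (nat_lit 4)), (.v (nat_lit 5)), (.v (nat_lit 6)), (.inv (.v (nat_lit 6))), (.v (nat_lit 7)), (.inv (.v (nat_lit 7)))] [5,9,6,8,5,9,7,8] (.mul (.mul (.mul (.mul (.v (nat_lit 7)) (.inv (.v (nat_lit 6)))) (.inv (.v (nat_lit 7)))) (.v (nat_lit 5))) (.inv (.mul (.v (nat_lit 5)) (.mul (.mul (.v (nat_lit 7)) (.inv (.v (nat_lit 6)))) (.inv (.v (nat_lit 7))))))) (by decide +kernel)).symm.trans (Subgroup.mem_bot.1 (sw_c_2 (sw_c_r t n w) (H := ⊥) (List.forall_mem_nil _)))),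
   mul_inv_eq_one.1 ((evA_eq_tm ((InvI.cons t.1 (InvI.cons t.2.1 (InvI.cons t.2.2.1 (InvI.cons t.2.2.2.1 (InvI.cons t.2.2.2.2.1 (InvI.cons t.2.2.2.2.2.1 InvI.nil)))))) : InvI [z, u, v, a, b, r, y, k] [(nat_lit 0), (nat_lit 1), (nat_lit 2), (nat_lit 3), (nat_lit 4), (nat_lit 5)]) [(.v (nat_lit 0)), (.v (nat_lit 1)), (.v (nat_lit 2)), (.v (nat_lit 3)), (.v (nat_lit 4)), (.v (nat_lit 5)), (.v (nat_lit 6)), (.inv (.v (nat_lit 6))), (.v (nat_lit 7)), (.inv (.v (nat_lit 7)))] [2,5,9,6,8,5,1,9,7,8] (.mul (.mul (.mul (.mul (.mul (.v (nat_lit 7)) (.inv (.v (nat_lit 6)))) (.inv (.v (nat_lit 7)))) (.mul (.v (nat_lit 1)) (.v (nat_lit 5)))) (.inv (.mul (.mul (.v (nat_lit 7)) (.inv (.v (nat_lit 6)))) (.inv (.v (nat_lit 7)))))) (.inv (.mul (.v (nat_lit 2)) (.v (nat_lit 5))))) (by decide +kernel)).symm.trans (Subgroup.mem_bot.1 (sw_c_3 (sw_c_r t n w) (H := ⊥) (List.forall_mem_nil _))))⟩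
noncomputable def sw_k_r_R : List (List ℕ) := [[0,0],
  [1,1],
  [2,2],
  [3,3],
  [4,4],
  [5,5],
  [6,7],
  [7,6],
  [8,9],
  [9,8],
  [2,1,2,1],
  [1,0,1,0],
  [2,0,2,0],
  [3,0,3,0],
  [4,0,4,0],
  [5,0,5,0],
  [3,1,3,1],
  [4,2,4,2],
  [4,3,4,3],
  [1,0,4,1,4],
  [2,0,3,2,3],
  [1,5,1,5],
  [5,1,3,5,3],
  [2,5,2,5],
  [5,2,4,5,4],
  [6,6,6],
  [5,7,5,6],
  [0,7,0,6],
  [2,7,1,6],
  [0,1,2,7,2,6],
  [4,7,3,6],
  [0,3,4,7,4,6],
  [5,9,0,8],
  [0,9,5,8],
  [0,1,2,5,9,5,2,1,0,8],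
  [2,5,9,5,1,8],
  [7,9,7,8]]
theorem sw_k_r {G : Type*} [Group G] {z u v a b r y k : G}
    (t : TA z u v a b r)
    (n : NY z u v a b r y)
    (w : SW z u v r k)
    (e : k * y⁻¹ * k⁻¹ = y) :
    Rels (nthG [z, u, v, a, b, r, y, y⁻¹, k, k⁻¹]) sw_k_r_R :=
  rels_of_eqs ((InvI.cons t.1 (InvI.cons t.2.1 (InvI.cons t.2.2.1 (InvI.cons t.2.2.2.1 (InvI.cons t.2.2.2.2.1 (InvI.cons t.2.2.2.2.2.1 InvI.nil)))))) : InvI [z, u, v, a, b, r, y, k] [(nat_lit 0), (nat_lit 1), (nat_lit 2), (nat_lit 3), (nat_lit 4), (nat_lit 5)])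
    (AllEq.append (show AllEq [z, u, v, a, b, r, y, k] [((.mul (.v (nat_lit 0)) (.v (nat_lit 0))), .one), ((.mul (.v (nat_lit 1)) (.v (nat_lit 1))), .one), ((.mul (.v (nat_lit 2)) (.v (nat_lit 2))), .one), ((.mul (.v (nat_lit 3)) (.v (nat_lit 3))), .one), ((.mul (.v (nat_lit 4)) (.v (nat_lit 4))), .one), ((.mul (.v (nat_lit 5)) (.v (nat_lit 5))), .one), ((.mul (.v (nat_lit 1)) (.v (nat_lit 2))), (.mul (.v (nat_lit 2)) (.v (nat_lit 1)))), ((.mul (.v (nat_lit 0)) (.v (nat_lit 1))), (.mul (.v (nat_lit 1)) (.v (nat_lit 0)))), ((.mul (.v (nat_lit 0)) (.v (nat_lit 2))), (.mul (.v (nat_lit 2)) (.v (nat_lit 0)))), ((.mul (.v (nat_lit 0)) (.v (nat_lit 3))), (.mul (.v (nat_lit 3)) (.v (nat_lit 0)))), ((.mul (.v (nat_lit 0)) (.v (nat_lit 4))), (.mul (.v (nat_lit 4)) (.v (nat_lit 0)))), ((.mul (.v (nat_lit 0)) (.v (nat_lit 5))), (.mul (.v (nat_lit 5)) (.v (nat_lit 0)))), ((.mul (.v (nat_lit 1)) (.v (nat_lit 3))), (.mul (.v (nat_lit 3)) (.v (nat_lit 1)))), ((.mul (.v (nat_lit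 2)) (.v (nat_lit 4))), (.mul (.v (nat_lit 4)) (.v (nat_lit 2)))), ((.mul (.v (nat_lit 3)) (.v (nat_lit 4))), (.mul (.v (nat_lit 4)) (.v (nat_lit 3)))), ((.mul (.mul (.v (nat_lit 4)) (.v (nat_lit 1))) (.v (nat_lit 4))), (.mul (.v (nat_lit 1)) (.v (nat_lit 0)))), ((.mul (.mul (.v (nat_lit 3)) (.v (nat_lit 2))) (.v (nat_lit 3))), (.mul (.v (nat_lit 2)) (.v (nat_lit 0)))), ((.mul (.v (nat_lit 5)) (.v (nat_lit 1))), (.mul (.v (nat_lit 1)) (.v (nat_lit 5)))), ((.mul (.mul (.v (nat_lit 3)) (.v (nat_lit 5))) (.v (nat_lit 3))), (.mul (.v (nat_lit 5)) (.v (nat_lit 1)))), ((.mul (.v (nat_lit 5)) (.v (nat_lit 2))), (.mul (.v (nat_lit 2)) (.v (nat_lit 5)))), ((.mul (.mul (.v (nat_lit 4)) (.v (nat_lit 5))) (.v (nat_lit 4))), (.mul (.v (nat_lit 5)) (.v (nat_lit 2))))] from t)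
    (AllEq.append (show AllEq [z, u, v, a, b, r, y, k] [((.pw (.v (nat_lit 6)) (nat_lit 3)), .one), ((.mul (.v (nat_lit 6)) (.v (nat_lit 5))), (.mul (.v (nat_lit 5)) (.v (nat_lit 6)))), ((.mul (.v (nat_lit 6)) (.v (nat_lit 0))), (.mul (.v (nat_lit 0)) (.v (nat_lit 6)))), ((.mul (.mul (.v (nat_lit 6)) (.v (nat_lit 1))) (.inv (.v (nat_lit 6)))), (.v (nat_lit 2))), ((.mul (.mul (.v (nat_lit 6)) (.v (nat_lit 2))) (.inv (.v (nat_lit 6)))), (.mul (.mul (.v (nat_lit 0)) (.v (nat_lit 1))) (.v (nat_lit 2)))), ((.mul (.mul (.v (nat_lit 6)) (.v (nat_lit 3))) (.inv (.v (nat_lit 6)))), (.v (nat_lit 4))), ((.mul (.mul (.v (nat_lit 6)) (.v (nat_lit 4))) (.inv (.v (nat_lit 6)))), (.mul (.mul (.v (nat_lit 0)) (.v (nat_lit 3))) (.v (nat_lit 4))))] from n)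
    (AllEq.append (show AllEq [z, u, v, a, b, r, y, k] [((.mul (.mul (.v (nat_lit 7)) (.v (nat_lit 0))) (.inv (.v (nat_lit 7)))), (.v (nat_lit 5))), ((.mul (.mul (.v (nat_lit 7)) (.v (nat_lit 5))) (.inv (.v (nat_lit 7)))), (.v (nat_lit 0))), ((.mul (.mul (.v (nat_lit 7)) (.mul (.mul (.mul (.v (nat_lit 0)) (.v (nat_lit 1))) (.v (nat_lit 2))) (.v (nat_lit 5)))) (.inv (.v (nat_lit 7)))), (.mul (.mul (.mul (.v (nat_lit 0)) (.v (nat_lit 1))) (.v (nat_lit 2))) (.v (nat_lit 5)))), ((.mul (.mul (.v (nat_lit 7)) (.mul (.v (nat_lit 1)) (.v (nat_lit 5)))) (.inv (.v (nat_lit 7)))), (.mul (.v (nat_lit 2)) (.v (nat_lit 5))))] from w)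
    (show AllEq [z, u, v, a, b, r, y, k] [((.mul (.mul (.v (nat_lit 7)) (.inv (.v (nat_lit 6)))) (.inv (.v (nat_lit 7)))), (.v (nat_lit 6)))] from ⟨e, trivial⟩))))
    [(.v (nat_lit 0)), (.v (nat_lit 1)), (.v (nat_lit 2)), (.v (nat_lit 3)), (.v (nat_lit 4)), (.v (nat_lit 5)), (.v (nat_lit 6)), (.inv (.v (nat_lit 6))), (.v (nat_lit 7)), (.inv (.v (nat_lit 7)))] (by decide +kernel)
noncomputable def sw_k_0_S0 : List ℕ := [nat_lit 0xf00000700000c008016, nat_lit 0x17000002000014008014]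
noncomputable def sw_k_0_S : List (List ℕ) := [sw_k_0_S0]
noncomputable def sw_k_0_defs : List ℕ := [(nat_lit 0x9000030090000200900001009000000000000000000000)]
noncomputable def sw_k_0_recs : List ℕ := [(nat_lit 0x400005050000200003)]
noncomputable def sw_k_0_T : List (List ℕ × ℕ) := [([0,9,9,0,8,8], (nat_lit 0xc00001400000500001700000f000007))]
noncomputable def sw_k_0_D : H26.Dag := ⟨[0,1,2,3,4,5,7,6,9,8], [[0,0],
  [1,1],
  [2,2],
  [3,3],
  [4,4],
  [5,5],
  [6,7],
  [7,6],
  [8,9],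
  [9,8],
  [5,9,0,8],
  [0,9,5,8]], [], sw_k_0_defs, sw_k_0_recs⟩
theorem sw_k_0_c : sw_k_0_D.check sw_k_0_S sw_k_0_T = true := by decide +kernel
theorem sw_k_0 {G : Type*} [Group G] {g : ℕ → G} (hR : Rels g sw_k_r_R) {H : Subgroup G}
    (hH : ∀ k ∈ [], g k ∈ H) : evA g [0,9,9,0,8,8] ∈ H :=
  mem_dag (K := 10) (J := [0,1,2,3,4,5,6,7,8,9,32,33]) (D := sw_k_0_D) (by decide +kernel) sw_k_0_c (by decide +kernel) hR hH
noncomputable def sw_k_1_S0 : List ℕ := [nat_lit 0x27000007000020004014, nat_lit 0x2f00000b00002400c01c, nat_lit 0x3b00000f00002c00c01c, nat_lit 0x4700001700003c00c01e, nat_lit 0x4b00001b000020004018, nat_lit 0x4f00001f00002400801a, nat_lit 0x5700002f000034004016, nat_lit 0x5700000600001500004f00005400a022, nat_lit 0x1200005400001d00401e, nat_lit 0x3700003400001900002100001200000100002700002c000009012020, nat_lit 0x4300004800000e000025000037000014014022, nat_lit 0x3f000029000043000002, nat_lit 0x2d00003f000002]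
noncomputable def sw_k_1_S : List (List ℕ) := [sw_k_1_S0]
noncomputable def sw_k_1_defs : List ℕ := [(nat_lit 0x10000b009000070050000700200006005000050010000500100004000000030020000200100002000000020050000100200001005000000020000000000000009000030090000200900001009000000010000000000000)]
noncomputable def sw_k_1_recs : List ℕ := [(nat_lit 0x10000400005ff000050000fff0000400010050000e0000d090001500012050001400015000000c00015020000800013000000700012080000e00011080000a0000e08000080000b010000700009)]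
noncomputable def sw_k_1_T : List (List ℕ × ℕ) := [([1,9,9,1,8,8], (nat_lit 0xc00001400003100001700000f000007))]
noncomputable def sw_k_1_D : H26.Dag := ⟨[0,1,2,3,4,5,7,6,9,8], [[0,0],
  [1,1],
  [2,2],
  [3,3],
  [4,4],
  [5,5],
  [6,7],
  [7,6],
  [8,9],
  [9,8],
  [2,1,2,1],
  [1,0,1,0],
  [2,0,2,0],
  [2,5,2,5],
  [5,9,0,8],
  [0,9,5,8],
  [0,1,2,5,9,5,2,1,0,8],
  [2,5,9,5,1,8]], [], sw_k_1_defs, sw_k_1_recs⟩
theorem sw_k_1_c : sw_k_1_D.check sw_k_1_S sw_k_1_T = true := by decide +kernel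
theorem sw_k_1 {G : Type*} [Group G] {g : ℕ → G} (hR : Rels g sw_k_r_R) {H : Subgroup G}
    (hH : ∀ k ∈ [], g k ∈ H) : evA g [1,9,9,1,8,8] ∈ H :=
  mem_dag (K := 10) (J := [0,1,2,3,4,5,6,7,8,9,10,11,12,23,32,33,34,35]) (D := sw_k_1_D) (by decide +kernel) sw_k_1_c (by decide +kernel) hR hH
noncomputable def sw_k_2_S0 : List ℕ := [nat_lit 0xf00000700000c008014, nat_lit 0x17000002000014008016]
noncomputable def sw_k_2_S : List (List ℕ) := [sw_k_2_S0]
noncomputable def sw_k_2_defs : List ℕ := [(nat_lit 0x9000030090000200900001009000000050000000000000)]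
noncomputable def sw_k_2_recs : List ℕ := [(nat_lit 0x50000400005000000200003)]
noncomputable def sw_k_2_T : List (List ℕ × ℕ) := [([5,9,9,5,8,8], (nat_lit 0xc00001400000500001700000f000007))]
noncomputable def sw_k_2_D : H26.Dag := ⟨[0,1,2,3,4,5,7,6,9,8], [[0,0],
  [1,1],
  [2,2],
  [3,3],
  [4,4],
  [5,5],
  [6,7],
  [7,6],
  [8,9],
  [9,8],
  [5,9,0,8],
  [0,9,5,8]], [], sw_k_2_defs, sw_k_2_recs⟩
theorem sw_k_2_c : sw_k_2_D.check sw_k_2_S sw_k_2_T = true := by decide +kernel
theorem sw_k_2 {G : Type*} [Group G] {g : ℕ → G} (hR : Rels g sw_k_r_R) {H : Subgroup G}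
    (hH : ∀ k ∈ [], g k ∈ H) : evA g [5,9,9,5,8,8] ∈ H :=
  mem_dag (K := 10) (J := [0,1,2,3,4,5,6,7,8,9,32,33]) (D := sw_k_2_D) (by decide +kernel) sw_k_2_c (by decide +kernel) hR hH
noncomputable def sw_k_3_S0 : List ℕ := [nat_lit 0xf00000700000c008014, nat_lit 0x17000002000014006014]
noncomputable def sw_k_3_S : List (List ℕ) := [sw_k_3_S0]
noncomputable def sw_k_3_defs : List ℕ := [(nat_lit 0x9000030090000200900001009000000070000000000000)]
noncomputable def sw_k_3_recs : List ℕ := [(nat_lit 0x60000400005070000200003)]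
noncomputable def sw_k_3_T : List (List ℕ × ℕ) := [([7,9,9,6,8,8], (nat_lit 0xc00001400000500001700000f000007))]
noncomputable def sw_k_3_D : H26.Dag := ⟨[0,1,2,3,4,5,7,6,9,8], [[0,0],
  [1,1],
  [2,2],
  [3,3],
  [4,4],
  [5,5],
  [6,7],
  [7,6],
  [8,9],
  [9,8],
  [7,9,7,8]], [], sw_k_3_defs, sw_k_3_recs⟩
theorem sw_k_3_c : sw_k_3_D.check sw_k_3_S sw_k_3_T = true := by decide +kernel
theorem sw_k_3 {G : Type*} [Group G] {g : ℕ → G} (hR : Rels g sw_k_r_R) {H : Subgroup G}
    (hH : ∀ k ∈ [], g k ∈ H) : evA g [7,9,9,6,8,8] ∈ H :=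
  mem_dag (K := 10) (J := [0,1,2,3,4,5,6,7,8,9,36]) (D := sw_k_3_D) (by decide +kernel) sw_k_3_c (by decide +kernel) hR hH
theorem sw_k {G : Type*} [Group G] {z u v a b r y k : G}
    (t : TA z u v a b r)
    (n : NY z u v a b r y)
    (w : SW z u v r k)
    (e : k * y⁻¹ * k⁻¹ = y) :
    k * k * z = z * (k * k) ∧ k * k * u = u * (k * k) ∧ k * k * r = r * (k * k) ∧ k * k * y = y * (k * k) :=
  ⟨mul_inv_eq_one.1 ((evA_eq_tm ((InvI.cons t.1 (InvI.cons t.2.1 (InvI.cons t.2.2.1 (InvI.cons t.2.2.2.1 (InvI.cons t.2.2.2.2.1 (InvI.cons t.2.2.2.2.2.1 InvI.nil)))))) : InvI [z, u, v, a, b, r, y, k] [(nat_lit 0), (nat_lit 1), (nat_lit 2), (nat_lit 3), (nat_lit 4), (nat_lit 5)]) [(.v (nat_lit 0)), (.v (nat_lit 1)), (.v (nat_lit 2)), (.v (nat_lit 3)), (.v (nat_lit 4)), (.v (nat_lit 5)), (.v (nat_lit 6)), (.inv (.v (nat_lit 6))), (.v (nat_lit 7)), (.inv (.v (nat_lit 7)))] [0,9,9,0,8,8] (.mul (.mul (.mul (.v (nat_lit 7)) (.v (nat_lit 7))) (.v (nat_lit 0))) (.inv (.mul (.v (nat_lit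 0)) (.mul (.v (nat_lit 7)) (.v (nat_lit 7)))))) (by decide +kernel)).symm.trans (Subgroup.mem_bot.1 (sw_k_0 (sw_k_r t n w e) (H := ⊥) (List.forall_mem_nil _)))),
   mul_inv_eq_one.1 ((evA_eq_tm ((InvI.cons t.1 (InvI.cons t.2.1 (InvI.cons t.2.2.1 (InvI.cons t.2.2.2.1 (InvI.cons t.2.2.2.2.1 (InvI.cons t.2.2.2.2.2.1 InvI.nil)))))) : InvI [z, u, v, a, b, r, y, k] [(nat_lit 0), (nat_lit 1), (nat_lit 2), (nat_lit 3), (nat_lit 4), (nat_lit 5)]) [(.v (nat_lit 0)), (.v (nat_lit 1)), (.v (nat_lit 2)), (.v (nat_lit 3)), (.v (nat_lit 4)), (.v (nat_lit 5)), (.v (nat_lit 6)), (.inv (.v (nat_lit 6))), (.v (nat_lit 7)), (.inv (.v (nat_lit 7)))] [1,9,9,1,8,8] (.mul (.mul (.mul (.v (nat_lit 7)) (.v (nat_lit 7))) (.v (nat_lit 1))) (.inv (.mul (.v (nat_lit 1)) (.mul (.v (nat_lit 7)) (.v (nat_lit 7)))))) (by decide +kernel)).symm.trans (Subgroup.mem_bot.1 (sw_k_1 (sw_k_r t n w e) (H := ⊥) (List.forall_mem_nil _)))),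
   mul_inv_eq_one.1 ((evA_eq_tm ((InvI.cons t.1 (InvI.cons t.2.1 (InvI.cons t.2.2.1 (InvI.cons t.2.2.2.1 (InvI.cons t.2.2.2.2.1 (InvI.cons t.2.2.2.2.2.1 InvI.nil)))))) : InvI [z, u, v, a, b, r, y, k] [(nat_lit 0), (nat_lit 1), (nat_lit 2), (nat_lit 3), (nat_lit 4), (nat_lit 5)]) [(.v (nat_lit 0)), (.v (nat_lit 1)), (.v (nat_lit 2)), (.v (nat_lit 3)), (.v (nat_lit 4)), (.v (nat_lit 5)), (.v (nat_lit 6)), (.inv (.v (nat_lit 6))), (.v (nat_lit 7)), (.inv (.v (nat_lit 7)))] [5,9,9,5,8,8] (.mul (.mul (.mul (.v (nat_lit 7)) (.v (nat_lit 7))) (.v (nat_lit 5))) (.inv (.mul (.v (nat_lit 5)) (.mul (.v (nat_lit 7)) (.v (nat_lit 7)))))) (by decide +kernel)).symm.trans (Subgroup.mem_bot.1 (sw_k_2 (sw_k_r t n w e) (H := ⊥) (List.forall_mem_nil _)))),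
   mul_inv_eq_one.1 ((evA_eq_tm ((InvI.cons t.1 (InvI.cons t.2.1 (InvI.cons t.2.2.1 (InvI.cons t.2.2.2.1 (InvI.cons t.2.2.2.2.1 (InvI.cons t.2.2.2.2.2.1 InvI.nil)))))) : InvI [z, u, v, a, b, r, y, k] [(nat_lit 0), (nat_lit 1), (nat_lit 2), (nat_lit 3), (nat_lit 4), (nat_lit 5)]) [(.v (nat_lit 0)), (.v (nat_lit 1)), (.v (nat_lit 2)), (.v (nat_lit 3)), (.v (nat_lit 4)), (.v (nat_lit 5)), (.v (nat_lit 6)), (.inv (.v (nat_lit 6))), (.v (nat_lit 7)), (.inv (.v (nat_lit 7)))] [7,9,9,6,8,8] (.mul (.mul (.mul (.v (nat_lit 7)) (.v (nat_lit 7))) (.v (nat_lit 6))) (.inv (.mul (.v (nat_lit 6)) (.mul (.v (nat_lit 7)) (.v (nat_lit 7)))))) (by decide +kernel)).symm.trans (Subgroup.mem_bot.1 (sw_k_3 (sw_k_r t n w e) (H := ⊥) (List.forall_mem_nil _))))⟩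
noncomputable def sw_z_r_R : List (List ℕ) := [[0,0],
  [1,1],
  [2,2],
  [3,3],
  [4,4],
  [5,5],
  [6,7],
  [7,6],
  [8,9],
  [9,8],
  [2,1,2,1],
  [1,0,1,0],
  [2,0,2,0],
  [3,0,3,0],
  [4,0,4,0],
  [5,0,5,0],
  [3,1,3,1],
  [4,2,4,2],
  [4,3,4,3],
  [1,0,4,1,4],
  [2,0,3,2,3],
  [1,5,1,5],
  [5,1,3,5,3],
  [2,5,2,5],
  [5,2,4,5,4],
  [6,6,6],
  [5,7,5,6],
  [0,7,0,6],
  [2,7,1,6],
  [0,1,2,7,2,6],
  [4,7,3,6],
  [0,3,4,7,4,6],
  [5,9,0,8],
  [0,9,5,8],
  [0,1,2,5,9,5,2,1,0,8],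
  [2,5,9,5,1,8],
  [7,9,7,8],
  [0,8,8]]
theorem sw_z_r {G : Type*} [Group G] {z u v a b r y k : G}
    (t : TA z u v a b r)
    (n : NY z u v a b r y)
    (w : SW z u v r k)
    (e : k * y⁻¹ * k⁻¹ = y)
    (f : k * k = z) :
    Rels (nthG [z, u, v, a, b, r, y, y⁻¹, k, k⁻¹]) sw_z_r_R :=
  rels_of_eqs ((InvI.cons t.1 (InvI.cons t.2.1 (InvI.cons t.2.2.1 (InvI.cons t.2.2.2.1 (InvI.cons t.2.2.2.2.1 (InvI.cons t.2.2.2.2.2.1 InvI.nil)))))) : InvI [z, u, v, a, b, r, y, k] [(nat_lit 0), (nat_lit 1), (nat_lit 2), (nat_lit 3), (nat_lit 4), (nat_lit 5)])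
    (AllEq.append (show AllEq [z, u, v, a, b, r, y, k] [((.mul (.v (nat_lit 0)) (.v (nat_lit 0))), .one), ((.mul (.v (nat_lit 1)) (.v (nat_lit 1))), .one), ((.mul (.v (nat_lit 2)) (.v (nat_lit 2))), .one), ((.mul (.v (nat_lit 3)) (.v (nat_lit 3))), .one), ((.mul (.v (nat_lit 4)) (.v (nat_lit 4))), .one), ((.mul (.v (nat_lit 5)) (.v (nat_lit 5))), .one), ((.mul (.v (nat_lit 1)) (.v (nat_lit 2))), (.mul (.v (nat_lit 2)) (.v (nat_lit 1)))), ((.mul (.v (nat_lit 0)) (.v (nat_lit 1))), (.mul (.v (nat_lit 1)) (.v (nat_lit 0)))), ((.mul (.v (nat_lit 0)) (.v (nat_lit 2))), (.mul (.v (nat_lit 2)) (.v (nat_lit 0)))), ((.mul (.v (nat_lit 0)) (.v (nat_lit 3))), (.mul (.v (nat_lit 3)) (.v (nat_lit 0)))), ((.mul (.v (nat_lit 0)) (.v (nat_lit 4))), (.mul (.v (nat_lit 4)) (.v (nat_lit 0)))), ((.mul (.v (nat_lit 0)) (.v (nat_lit 5))), (.mul (.v (nat_lit 5)) (.v (nat_lit 0)))), ((.mul (.v (nat_lit 1)) (.v (nat_lit 3))), (.mul (.v (nat_lit 3)) (.v (nat_lit 1)))), ((.mul (.v (nat_lit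 2)) (.v (nat_lit 4))), (.mul (.v (nat_lit 4)) (.v (nat_lit 2)))), ((.mul (.v (nat_lit 3)) (.v (nat_lit 4))), (.mul (.v (nat_lit 4)) (.v (nat_lit 3)))), ((.mul (.mul (.v (nat_lit 4)) (.v (nat_lit 1))) (.v (nat_lit 4))), (.mul (.v (nat_lit 1)) (.v (nat_lit 0)))), ((.mul (.mul (.v (nat_lit 3)) (.v (nat_lit 2))) (.v (nat_lit 3))), (.mul (.v (nat_lit 2)) (.v (nat_lit 0)))), ((.mul (.v (nat_lit 5)) (.v (nat_lit 1))), (.mul (.v (nat_lit 1)) (.v (nat_lit 5)))), ((.mul (.mul (.v (nat_lit 3)) (.v (nat_lit 5))) (.v (nat_lit 3))), (.mul (.v (nat_lit 5)) (.v (nat_lit 1)))), ((.mul (.v (nat_lit 5)) (.v (nat_lit 2))), (.mul (.v (nat_lit 2)) (.v (nat_lit 5)))), ((.mul (.mul (.v (nat_lit 4)) (.v (nat_lit 5))) (.v (nat_lit 4))), (.mul (.v (nat_lit 5)) (.v (nat_lit 2))))] from t)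
    (AllEq.append (show AllEq [z, u, v, a, b, r, y, k] [((.pw (.v (nat_lit 6)) (nat_lit 3)), .one), ((.mul (.v (nat_lit 6)) (.v (nat_lit 5))), (.mul (.v (nat_lit 5)) (.v (nat_lit 6)))), ((.mul (.v (nat_lit 6)) (.v (nat_lit 0))), (.mul (.v (nat_lit 0)) (.v (nat_lit 6)))), ((.mul (.mul (.v (nat_lit 6)) (.v (nat_lit 1))) (.inv (.v (nat_lit 6)))), (.v (nat_lit 2))), ((.mul (.mul (.v (nat_lit 6)) (.v (nat_lit 2))) (.inv (.v (nat_lit 6)))), (.mul (.mul (.v (nat_lit 0)) (.v (nat_lit 1))) (.v (nat_lit 2)))), ((.mul (.mul (.v (nat_lit 6)) (.v (nat_lit 3))) (.inv (.v (nat_lit 6)))), (.v (nat_lit 4))), ((.mul (.mul (.v (nat_lit 6)) (.v (nat_lit 4))) (.inv (.v (nat_lit 6)))), (.mul (.mul (.v (nat_lit 0)) (.v (nat_lit 3))) (.v (nat_lit 4))))] from n)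
    (AllEq.append (show AllEq [z, u, v, a, b, r, y, k] [((.mul (.mul (.v (nat_lit 7)) (.v (nat_lit 0))) (.inv (.v (nat_lit 7)))), (.v (nat_lit 5))), ((.mul (.mul (.v (nat_lit 7)) (.v (nat_lit 5))) (.inv (.v (nat_lit 7)))), (.v (nat_lit 0))), ((.mul (.mul (.v (nat_lit 7)) (.mul (.mul (.mul (.v (nat_lit 0)) (.v (nat_lit 1))) (.v (nat_lit 2))) (.v (nat_lit 5)))) (.inv (.v (nat_lit 7)))), (.mul (.mul (.mul (.v (nat_lit 0)) (.v (nat_lit 1))) (.v (nat_lit 2))) (.v (nat_lit 5)))), ((.mul (.mul (.v (nat_lit 7)) (.mul (.v (nat_lit 1)) (.v (nat_lit 5)))) (.inv (.v (nat_lit 7)))), (.mul (.v (nat_lit 2)) (.v (nat_lit 5))))] from w)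
    (AllEq.append (show AllEq [z, u, v, a, b, r, y, k] [((.mul (.mul (.v (nat_lit 7)) (.inv (.v (nat_lit 6)))) (.inv (.v (nat_lit 7)))), (.v (nat_lit 6)))] from ⟨e, trivial⟩)
    (show AllEq [z, u, v, a, b, r, y, k] [((.mul (.v (nat_lit 7)) (.v (nat_lit 7))), (.v (nat_lit 0)))] from ⟨f, trivial⟩)))))
    [(.v (nat_lit 0)), (.v (nat_lit 1)), (.v (nat_lit 2)), (.v (nat_lit 3)), (.v (nat_lit 4)), (.v (nat_lit 5)), (.v (nat_lit 6)), (.inv (.v (nat_lit 6))), (.v (nat_lit 7)), (.inv (.v (nat_lit 7)))] (by decide +kernel)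
noncomputable def sw_z_0_S0 : List ℕ := [nat_lit 0x1f000008008028, nat_lit 0x2300002000a028, nat_lit 0x100000500002300001c000024, nat_lit 0xa00001b00000a, nat_lit 0x2700000e000010004020, nat_lit 0x2b000007000014004014, nat_lit 0x2f000007000018004016, nat_lit 0x3300000b00000d00002c00c01e, nat_lit 0x3700000f00000d00003000c022, nat_lit 0x3b00001300000800002801001c, nat_lit 0x3f00001300001800401a, nat_lit 0x4300001500001d004018, nat_lit 0x47000015008028, nat_lit 0x4b00004800a028, nat_lit 0x1e00003100003500004b004024, nat_lit 0x1600003900002d000000, nat_lit 0x3e00004300000a, nat_lit 0x4f000019000021004018, nat_lit 0x4f000017000010000011010022, nat_lit 0x53000019008028, nat_lit 0x5700005400a028, nat_lit 0x2200004d000051000057004024, nat_lit 0x1a000055000045000000, nat_lit 0x3000005a00004a000008, nat_lit 0x2b00005e000025000006, nat_lit 0x6200003b000004, nat_lit 0x3f00006500004200004000c022, nat_lit 0x5b000016000040004016, nat_lit 0x5b00002b00003000401a, nat_lit 0x5f00006d008028,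 nat_lit 0x5f000069000060000026, nat_lit 0x60000079000076006028, nat_lit 0x2900007e000072000006, nat_lit 0x1800008200002f000008, nat_lit 0x86000007000000]
noncomputable def sw_z_0_S : List (List ℕ) := [sw_z_0_S0]
noncomputable def sw_z_0_defs : List ℕ := [(nat_lit 0x80000f0040000a00900005008000050050000500900004008000040050000400400004002000040040000300300002004000010030000100200001009000000080000000500000004000000030000000200000001000000000000000000000)]
noncomputable def sw_z_0_recs : List ℕ := [(nat_lit 0xff0000100000ff0000b00005ff000160000f000001700017080001600017030000b00016000000f00016050000f0000f02000040000aff0000e0000aff0000900001ff000130000bff000050000d000001400015080000b00014040000900013000000d0001305000040000aff000100000aff000040000c000001100012080000a00011000000c0001003000050000f03000090000e050000b0000d050000a0000c00000050000b00000040000a050000300009050000000001ff0000600001000000700008080000100007)]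
noncomputable def sw_z_0_T : List (List ℕ × ℕ) := [([0], (nat_lit 0x89))]
noncomputable def sw_z_0_D : H26.Dag := ⟨[0,1,2,3,4,5,7,6,9,8], [[0,0],
  [1,1],
  [2,2],
  [3,3],
  [4,4],
  [5,5],
  [6,7],
  [7,6],
  [8,9],
  [9,8],
  [3,0,3,0],
  [4,0,4,0],
  [5,0,5,0],
  [4,3,4,3],
  [2,0,3,2,3],
  [5,1,3,5,3],
  [2,5,2,5],
  [5,2,4,5,4],
  [5,9,0,8],
  [0,9,5,8],
  [0,8,8]], [], sw_z_0_defs, sw_z_0_recs⟩
theorem sw_z_0_c : sw_z_0_D.check sw_z_0_S sw_z_0_T = true := by decide +kernel
theorem sw_z_0 {G : Type*} [Group G] {g : ℕ → G} (hR : Rels g sw_z_r_R) {H : Subgroup G}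
    (hH : ∀ k ∈ [], g k ∈ H) : evA g [0] ∈ H :=
  mem_dag (K := 10) (J := [0,1,2,3,4,5,6,7,8,9,13,14,15,18,20,22,23,24,32,33,37]) (D := sw_z_0_D) (by decide +kernel) sw_z_0_c (by decide +kernel) hR hH
theorem sw_z {G : Type*} [Group G] {z u v a b r y k : G}
    (t : TA z u v a b r)
    (n : NY z u v a b r y)
    (w : SW z u v r k)
    (e : k * y⁻¹ * k⁻¹ = y)
    (f : k * k = z) :
    z = 1 :=
  mul_inv_eq_one.1 ((evA_eq_tm ((InvI.cons t.1 (InvI.cons t.2.1 (InvI.cons t.2.2.1 (InvI.cons t.2.2.2.1 (InvI.cons t.2.2.2.2.1 (InvI.cons t.2.2.2.2.2.1 InvI.nil)))))) : InvI [z, u, v, a, b, r, y, k] [(nat_lit 0), (nat_lit 1), (nat_lit 2), (nat_lit 3), (nat_lit 4), (nat_lit 5)]) [(.v (nat_lit 0)), (.v (nat_lit 1)), (.v (nat_lit 2)), (.v (nat_lit 3)), (.v (nat_lit 4)), (.v (nat_lit 5)), (.v (nat_lit 6)), (.inv (.v (nat_lit 6))), (.v (nat_lit 7)), (.inv (.v (nat_lit 7)))] [0] (.mul (.v (nat_lit 0)) (.inv .one)) (by decide +kernel)).symm.trans (Subgroup.mem_bot.1 (sw_z_0 (sw_z_r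 t n w e f) (H := ⊥) (List.forall_mem_nil _))))
noncomputable def sw_r_r_R : List (List ℕ) := [[0,0],
  [1,1],
  [2,2],
  [3,3],
  [4,4],
  [5,5],
  [6,7],
  [7,6],
  [8,9],
  [9,8],
  [2,1,2,1],
  [1,0,1,0],
  [2,0,2,0],
  [3,0,3,0],
  [4,0,4,0],
  [5,0,5,0],
  [3,1,3,1],
  [4,2,4,2],
  [4,3,4,3],
  [1,0,4,1,4],
  [2,0,3,2,3],
  [1,5,1,5],
  [5,1,3,5,3],
  [2,5,2,5],
  [5,2,4,5,4],
  [6,6,6],
  [5,7,5,6],
  [0,7,0,6],
  [2,7,1,6],
  [0,1,2,7,2,6],
  [4,7,3,6],
  [0,3,4,7,4,6],
  [5,9,0,8],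
  [0,9,5,8],
  [0,1,2,5,9,5,2,1,0,8],
  [2,5,9,5,1,8],
  [7,9,7,8],
  [5,8,8]]
theorem sw_r_r {G : Type*} [Group G] {z u v a b r y k : G}
    (t : TA z u v a b r)
    (n : NY z u v a b r y)
    (w : SW z u v r k)
    (e : k * y⁻¹ * k⁻¹ = y)
    (f : k * k = r) :
    Rels (nthG [z, u, v, a, b, r, y, y⁻¹, k, k⁻¹]) sw_r_r_R :=
  rels_of_eqs ((InvI.cons t.1 (InvI.cons t.2.1 (InvI.cons t.2.2.1 (InvI.cons t.2.2.2.1 (InvI.cons t.2.2.2.2.1 (InvI.cons t.2.2.2.2.2.1 InvI.nil)))))) : InvI [z, u, v, a, b, r, y, k] [(nat_lit 0), (nat_lit 1), (nat_lit 2), (nat_lit 3), (nat_lit 4), (nat_lit 5)])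
    (AllEq.append (show AllEq [z, u, v, a, b, r, y, k] [((.mul (.v (nat_lit 0)) (.v (nat_lit 0))), .one), ((.mul (.v (nat_lit 1)) (.v (nat_lit 1))), .one), ((.mul (.v (nat_lit 2)) (.v (nat_lit 2))), .one), ((.mul (.v (nat_lit 3)) (.v (nat_lit 3))), .one), ((.mul (.v (nat_lit 4)) (.v (nat_lit 4))), .one), ((.mul (.v (nat_lit 5)) (.v (nat_lit 5))), .one), ((.mul (.v (nat_lit 1)) (.v (nat_lit 2))), (.mul (.v (nat_lit 2)) (.v (nat_lit 1)))), ((.mul (.v (nat_lit 0)) (.v (nat_lit 1))), (.mul (.v (nat_lit 1)) (.v (nat_lit 0)))), ((.mul (.v (nat_lit 0)) (.v (nat_lit 2))), (.mul (.v (nat_lit 2)) (.v (nat_lit 0)))), ((.mul (.v (nat_lit 0)) (.v (nat_lit 3))), (.mul (.v (nat_lit 3)) (.v (nat_lit 0)))), ((.mul (.v (nat_lit 0)) (.v (nat_lit 4))), (.mul (.v (nat_lit 4)) (.v (nat_lit 0)))), ((.mul (.v (nat_lit 0)) (.v (nat_lit 5))), (.mul (.v (nat_lit 5)) (.v (nat_lit 0)))), ((.mul (.v (nat_lit 1)) (.v (nat_lit 3))), (.mul (.v (nat_lit 3)) (.v (nat_lit 1)))), ((.mul (.v (nat_lit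 2)) (.v (nat_lit 4))), (.mul (.v (nat_lit 4)) (.v (nat_lit 2)))), ((.mul (.v (nat_lit 3)) (.v (nat_lit 4))), (.mul (.v (nat_lit 4)) (.v (nat_lit 3)))), ((.mul (.mul (.v (nat_lit 4)) (.v (nat_lit 1))) (.v (nat_lit 4))), (.mul (.v (nat_lit 1)) (.v (nat_lit 0)))), ((.mul (.mul (.v (nat_lit 3)) (.v (nat_lit 2))) (.v (nat_lit 3))), (.mul (.v (nat_lit 2)) (.v (nat_lit 0)))), ((.mul (.v (nat_lit 5)) (.v (nat_lit 1))), (.mul (.v (nat_lit 1)) (.v (nat_lit 5)))), ((.mul (.mul (.v (nat_lit 3)) (.v (nat_lit 5))) (.v (nat_lit 3))), (.mul (.v (nat_lit 5)) (.v (nat_lit 1)))), ((.mul (.v (nat_lit 5)) (.v (nat_lit 2))), (.mul (.v (nat_lit 2)) (.v (nat_lit 5)))), ((.mul (.mul (.v (nat_lit 4)) (.v (nat_lit 5))) (.v (nat_lit 4))), (.mul (.v (nat_lit 5)) (.v (nat_lit 2))))] from t)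
    (AllEq.append (show AllEq [z, u, v, a, b, r, y, k] [((.pw (.v (nat_lit 6)) (nat_lit 3)), .one), ((.mul (.v (nat_lit 6)) (.v (nat_lit 5))), (.mul (.v (nat_lit 5)) (.v (nat_lit 6)))), ((.mul (.v (nat_lit 6)) (.v (nat_lit 0))), (.mul (.v (nat_lit 0)) (.v (nat_lit 6)))), ((.mul (.mul (.v (nat_lit 6)) (.v (nat_lit 1))) (.inv (.v (nat_lit 6)))), (.v (nat_lit 2))), ((.mul (.mul (.v (nat_lit 6)) (.v (nat_lit 2))) (.inv (.v (nat_lit 6)))), (.mul (.mul (.v (nat_lit 0)) (.v (nat_lit 1))) (.v (nat_lit 2)))), ((.mul (.mul (.v (nat_lit 6)) (.v (nat_lit 3))) (.inv (.v (nat_lit 6)))), (.v (nat_lit 4))), ((.mul (.mul (.v (nat_lit 6)) (.v (nat_lit 4))) (.inv (.v (nat_lit 6)))), (.mul (.mul (.v (nat_lit 0)) (.v (nat_lit 3))) (.v (nat_lit 4))))] from n)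
    (AllEq.append (show AllEq [z, u, v, a, b, r, y, k] [((.mul (.mul (.v (nat_lit 7)) (.v (nat_lit 0))) (.inv (.v (nat_lit 7)))), (.v (nat_lit 5))), ((.mul (.mul (.v (nat_lit 7)) (.v (nat_lit 5))) (.inv (.v (nat_lit 7)))), (.v (nat_lit 0))), ((.mul (.mul (.v (nat_lit 7)) (.mul (.mul (.mul (.v (nat_lit 0)) (.v (nat_lit 1))) (.v (nat_lit 2))) (.v (nat_lit 5)))) (.inv (.v (nat_lit 7)))), (.mul (.mul (.mul (.v (nat_lit 0)) (.v (nat_lit 1))) (.v (nat_lit 2))) (.v (nat_lit 5)))), ((.mul (.mul (.v (nat_lit 7)) (.mul (.v (nat_lit 1)) (.v (nat_lit 5)))) (.inv (.v (nat_lit 7)))), (.mul (.v (nat_lit 2)) (.v (nat_lit 5))))] from w)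
    (AllEq.append (show AllEq [z, u, v, a, b, r, y, k] [((.mul (.mul (.v (nat_lit 7)) (.inv (.v (nat_lit 6)))) (.inv (.v (nat_lit 7)))), (.v (nat_lit 6)))] from ⟨e, trivial⟩)
    (show AllEq [z, u, v, a, b, r, y, k] [((.mul (.v (nat_lit 7)) (.v (nat_lit 7))), (.v (nat_lit 5)))] from ⟨f, trivial⟩)))))
    [(.v (nat_lit 0)), (.v (nat_lit 1)), (.v (nat_lit 2)), (.v (nat_lit 3)), (.v (nat_lit 4)), (.v (nat_lit 5)), (.v (nat_lit 6)), (.inv (.v (nat_lit 6))), (.v (nat_lit 7)), (.inv (.v (nat_lit 7)))] (by decide +kernel)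
noncomputable def sw_r_0_S0 : List ℕ := [nat_lit 0x1f00001c008028, nat_lit 0x2300002000a028, nat_lit 0x1000005000023000008000026, nat_lit 0x900001b00000a, nat_lit 0x2700000e000010004020, nat_lit 0x2b000007000014004014, nat_lit 0x2f000007000018004016, nat_lit 0x3300000b00000d00002c00c01e, nat_lit 0x3700000f00000d00003000c022, nat_lit 0x3b00001300000800002801001c, nat_lit 0x3f00001300001800401a, nat_lit 0x4300001500001d004018, nat_lit 0x47000044008028, nat_lit 0x4b00004800a028, nat_lit 0x2d00003100003500004b004026, nat_lit 0x1600003900002d000000, nat_lit 0x3e00004300000a, nat_lit 0x4f000019000021004018, nat_lit 0x4f000017000010000011010022, nat_lit 0x53000050008028, nat_lit 0x5700005400a028, nat_lit 0x4500004d000051000057004026, nat_lit 0x1a000055000045000000, nat_lit 0x3000005a00004a000008, nat_lit 0x2b00005e000025000006, nat_lit 0x6200003b000004, nat_lit 0x3f00006500004200004000c022, nat_lit 0x5b000016000040004016, nat_lit 0x5b00002b00003000401a, nat_lit 0x5f000069008028,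 nat_lit 0x5f000075000028, nat_lit 0x6e00006000007900005f00c024, nat_lit 0x2900007d000072000006, nat_lit 0x1800008200002f000008, nat_lit 0x86000007000000]
noncomputable def sw_r_0_S : List (List ℕ) := [sw_r_0_S0]
noncomputable def sw_r_0_defs : List ℕ := [(nat_lit 0x80000f0040000a00900005008000050050000500900004008000040050000400400004002000040040000300300002004000010030000100200001009000000080000000500000004000000030000000200000001000000000000000000000)]
noncomputable def sw_r_0_recs : List ℕ := [(nat_lit 0xff0000100000ff0000b00005ff0000f00016050001700017080000f00017030000b00016000000f00016050000f0000f02000040000aff0000e0000aff0000900001ff000130000bff000050000d050001400015080001300014040000900013000000d0001305000040000aff000100000aff000040000c050001100012080001000011000000c0001003000050000f03000090000e050000b0000d050000a0000c00000050000b00000040000a050000300009050000000001ff0000100006050000700008080000600007)]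
noncomputable def sw_r_0_T : List (List ℕ × ℕ) := [([0], (nat_lit 0x89))]
noncomputable def sw_r_0_D : H26.Dag := ⟨[0,1,2,3,4,5,7,6,9,8], [[0,0],
  [1,1],
  [2,2],
  [3,3],
  [4,4],
  [5,5],
  [6,7],
  [7,6],
  [8,9],
  [9,8],
  [3,0,3,0],
  [4,0,4,0],
  [5,0,5,0],
  [4,3,4,3],
  [2,0,3,2,3],
  [5,1,3,5,3],
  [2,5,2,5],
  [5,2,4,5,4],
  [5,9,0,8],
  [0,9,5,8],
  [5,8,8]], [], sw_r_0_defs, sw_r_0_recs⟩
theorem sw_r_0_c : sw_r_0_D.check sw_r_0_S sw_r_0_T = true := by decide +kernel
theorem sw_r_0 {G : Type*} [Group G] {g : ℕ → G} (hR : Rels g sw_r_r_R) {H : Subgroup G}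
    (hH : ∀ k ∈ [], g k ∈ H) : evA g [0] ∈ H :=
  mem_dag (K := 10) (J := [0,1,2,3,4,5,6,7,8,9,13,14,15,18,20,22,23,24,32,33,37]) (D := sw_r_0_D) (by decide +kernel) sw_r_0_c (by decide +kernel) hR hH
theorem sw_r {G : Type*} [Group G] {z u v a b r y k : G}
    (t : TA z u v a b r)
    (n : NY z u v a b r y)
    (w : SW z u v r k)
    (e : k * y⁻¹ * k⁻¹ = y)
    (f : k * k = r) :
    z = 1 :=
  mul_inv_eq_one.1 ((evA_eq_tm ((InvI.cons t.1 (InvI.cons t.2.1 (InvI.cons t.2.2.1 (InvI.cons t.2.2.2.1 (InvI.cons t.2.2.2.2.1 (InvI.cons t.2.2.2.2.2.1 InvI.nil)))))) : InvI [z, u, v, a, b, r, y, k] [(nat_lit 0), (nat_lit 1), (nat_lit 2), (nat_lit 3), (nat_lit 4), (nat_lit 5)]) [(.v (nat_lit 0)), (.v (nat_lit 1)), (.v (nat_lit 2)), (.v (nat_lit 3)), (.v (nat_lit 4)), (.v (nat_lit 5)), (.v (nat_lit 6)), (.inv (.v (nat_lit 6))), (.v (nat_lit 7)), (.inv (.v (nat_lit 7)))] [0] (.mul (.v (nat_lit 0)) (.inv .one)) (by decide +kernel)).symm.trans (Subgroup.mem_bot.1 (sw_r_0 (sw_r_r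 t n w e f) (H := ⊥) (List.forall_mem_nil _))))
def RS0 {G : Type*} [Group G] (z u v r y s : G) : Prop :=
  s * s = 1 ∧
  s * y * s = y⁻¹ ∧
  s * z * s = r ∧
  s * (z * u * v * r) * s = z * u * v * r ∧
  s * (u * r) * s = v * r ∧ True
noncomputable def sw_1_r_R : List (List ℕ) := [[0,0],
  [1,1],
  [2,2],
  [3,3],
  [4,4],
  [5,5],
  [6,7],
  [7,6],
  [8,9],
  [9,8],
  [2,1,2,1],
  [1,0,1,0],
  [2,0,2,0],
  [3,0,3,0],
  [4,0,4,0],
  [5,0,5,0],
  [3,1,3,1],
  [4,2,4,2],
  [4,3,4,3],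
  [1,0,4,1,4],
  [2,0,3,2,3],
  [1,5,1,5],
  [5,1,3,5,3],
  [2,5,2,5],
  [5,2,4,5,4],
  [6,6,6],
  [5,7,5,6],
  [0,7,0,6],
  [2,7,1,6],
  [0,1,2,7,2,6],
  [4,7,3,6],
  [0,3,4,7,4,6],
  [5,9,0,8],
  [0,9,5,8],
  [0,1,2,5,9,5,2,1,0,8],
  [2,5,9,5,1,8],
  [7,9,7,8],
  [8,8]]
theorem sw_1_r {G : Type*} [Group G] {z u v a b r y k : G}
    (t : TA z u v a b r)
    (n : NY z u v a b r y)
    (w : SW z u v r k)
    (e : k * y⁻¹ * k⁻¹ = y)
    (f : k * k = 1) :
    Rels (nthG [z, u, v, a, b, r, y, y⁻¹, k, k⁻¹]) sw_1_r_R :=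
  rels_of_eqs ((InvI.cons t.1 (InvI.cons t.2.1 (InvI.cons t.2.2.1 (InvI.cons t.2.2.2.1 (InvI.cons t.2.2.2.2.1 (InvI.cons t.2.2.2.2.2.1 InvI.nil)))))) : InvI [z, u, v, a, b, r, y, k] [(nat_lit 0), (nat_lit 1), (nat_lit 2), (nat_lit 3), (nat_lit 4), (nat_lit 5)])
    (AllEq.append (show AllEq [z, u, v, a, b, r, y, k] [((.mul (.v (nat_lit 0)) (.v (nat_lit 0))), .one), ((.mul (.v (nat_lit 1)) (.v (nat_lit 1))), .one), ((.mul (.v (nat_lit 2)) (.v (nat_lit 2))), .one), ((.mul (.v (nat_lit 3)) (.v (nat_lit 3))), .one), ((.mul (.v (nat_lit 4)) (.v (nat_lit 4))), .one), ((.mul (.v (nat_lit 5)) (.v (nat_lit 5))), .one), ((.mul (.v (nat_lit 1)) (.v (nat_lit 2))), (.mul (.v (nat_lit 2)) (.v (nat_lit 1)))), ((.mul (.v (nat_lit 0)) (.v (nat_lit 1))), (.mul (.v (nat_lit 1)) (.v (nat_lit 0)))), ((.mul (.v (nat_lit 0)) (.v (nat_lit 2))), (.mul (.v (nat_lit 2)) (.v (nat_lit 0)))), ((.mul (.v (nat_lit 0)) (.v (nat_lit 3))), (.mul (.v (nat_lit 3)) (.v (nat_lit 0)))), ((.mul (.v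 (nat_lit 0)) (.v (nat_lit 4))), (.mul (.v (nat_lit 4)) (.v (nat_lit 0)))), ((.mul (.v (nat_lit 0)) (.v (nat_lit 5))), (.mul (.v (nat_lit 5)) (.v (nat_lit 0)))), ((.mul (.v (nat_lit 1)) (.v (nat_lit 3))), (.mul (.v (nat_lit 3)) (.v (nat_lit 1)))), ((.mul (.v (nat_lit 2)) (.v (nat_lit 4))), (.mul (.v (nat_lit 4)) (.v (nat_lit 2)))), ((.mul (.v (nat_lit 3)) (.v (nat_lit 4))), (.mul (.v (nat_lit 4)) (.v (nat_lit 3)))), ((.mul (.mul (.v (nat_lit 4)) (.v (nat_lit 1))) (.v (nat_lit 4))), (.mul (.v (nat_lit 1)) (.v (nat_lit 0)))), ((.mul (.mul (.v (nat_lit 3)) (.v (nat_lit 2))) (.v (nat_lit 3))), (.mul (.v (nat_lit 2)) (.v (nat_lit 0)))), ((.mul (.v (nat_lit 5)) (.v (nat_lit 1))), (.mul (.v (nat_lit 1)) (.v (nat_lit 5)))), ((.mul (.mul (.v (nat_lit 3)) (.v (nat_lit 5))) (.v (nat_lit 3))), (.mul (.v (nat_lit 5)) (.v (nat_lit 1)))), ((.mul (.v (nat_lit 5)) (.v (nat_lit 2))), (.mul (.v (nat_lit 2)) (.v (nat_lit 5)))), ((.mul (.mul (.v (nat_lit 4)) (.v (nat_lit 5))) (.v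 (nat_lit 4))), (.mul (.v (nat_lit 5)) (.v (nat_lit 2))))] from t)
    (AllEq.append (show AllEq [z, u, v, a, b, r, y, k] [((.pw (.v (nat_lit 6)) (nat_lit 3)), .one), ((.mul (.v (nat_lit 6)) (.v (nat_lit 5))), (.mul (.v (nat_lit 5)) (.v (nat_lit 6)))), ((.mul (.v (nat_lit 6)) (.v (nat_lit 0))), (.mul (.v (nat_lit 0)) (.v (nat_lit 6)))), ((.mul (.mul (.v (nat_lit 6)) (.v (nat_lit 1))) (.inv (.v (nat_lit 6)))), (.v (nat_lit 2))), ((.mul (.mul (.v (nat_lit 6)) (.v (nat_lit 2))) (.inv (.v (nat_lit 6)))), (.mul (.mul (.v (nat_lit 0)) (.v (nat_lit 1))) (.v (nat_lit 2)))), ((.mul (.mul (.v (nat_lit 6)) (.v (nat_lit 3))) (.inv (.v (nat_lit 6)))), (.v (nat_lit 4))), ((.mul (.mul (.v (nat_lit 6)) (.v (nat_lit 4))) (.inv (.v (nat_lit 6)))), (.mul (.mul (.v (nat_lit 0)) (.v (nat_lit 3))) (.v (nat_lit 4))))] from n)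
    (AllEq.append (show AllEq [z, u, v, a, b, r, y, k] [((.mul (.mul (.v (nat_lit 7)) (.v (nat_lit 0))) (.inv (.v (nat_lit 7)))), (.v (nat_lit 5))), ((.mul (.mul (.v (nat_lit 7)) (.v (nat_lit 5))) (.inv (.v (nat_lit 7)))), (.v (nat_lit 0))), ((.mul (.mul (.v (nat_lit 7)) (.mul (.mul (.mul (.v (nat_lit 0)) (.v (nat_lit 1))) (.v (nat_lit 2))) (.v (nat_lit 5)))) (.inv (.v (nat_lit 7)))), (.mul (.mul (.mul (.v (nat_lit 0)) (.v (nat_lit 1))) (.v (nat_lit 2))) (.v (nat_lit 5)))), ((.mul (.mul (.v (nat_lit 7)) (.mul (.v (nat_lit 1)) (.v (nat_lit 5)))) (.inv (.v (nat_lit 7)))), (.mul (.v (nat_lit 2)) (.v (nat_lit 5))))] from w)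
    (AllEq.append (show AllEq [z, u, v, a, b, r, y, k] [((.mul (.mul (.v (nat_lit 7)) (.inv (.v (nat_lit 6)))) (.inv (.v (nat_lit 7)))), (.v (nat_lit 6)))] from ⟨e, trivial⟩)
    (show AllEq [z, u, v, a, b, r, y, k] [((.mul (.v (nat_lit 7)) (.v (nat_lit 7))), .one)] from ⟨f, trivial⟩)))))
    [(.v (nat_lit 0)), (.v (nat_lit 1)), (.v (nat_lit 2)), (.v (nat_lit 3)), (.v (nat_lit 4)), (.v (nat_lit 5)), (.v (nat_lit 6)), (.inv (.v (nat_lit 6))), (.v (nat_lit 7)), (.inv (.v (nat_lit 7)))] (by decide +kernel)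
noncomputable def sw_1_0_S0 : List ℕ := [nat_lit 0x7004014]
noncomputable def sw_1_0_S : List (List ℕ) := [sw_1_0_S0]
noncomputable def sw_1_0_defs : List ℕ := [(nat_lit 0x80000000000000)]
noncomputable def sw_1_0_recs : List ℕ := [(nat_lit 0x80000000001)]
noncomputable def sw_1_0_T : List (List ℕ × ℕ) := [([8,8], (nat_lit 0x1000007))]
noncomputable def sw_1_0_D : H26.Dag := ⟨[0,1,2,3,4,5,7,6,9,8], [[0,0],
  [1,1],
  [2,2],
  [3,3],
  [4,4],
  [5,5],
  [6,7],
  [7,6],
  [8,9],
  [9,8],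
  [8,8]], [], sw_1_0_defs, sw_1_0_recs⟩
theorem sw_1_0_c : sw_1_0_D.check sw_1_0_S sw_1_0_T = true := by decide +kernel
theorem sw_1_0 {G : Type*} [Group G] {g : ℕ → G} (hR : Rels g sw_1_r_R) {H : Subgroup G}
    (hH : ∀ k ∈ [], g k ∈ H) : evA g [8,8] ∈ H :=
  mem_dag (K := 10) (J := [0,1,2,3,4,5,6,7,8,9,37]) (D := sw_1_0_D) (by decide +kernel) sw_1_0_c (by decide +kernel) hR hH
noncomputable def sw_1_1_S0 : List ℕ := [nat_lit 0xb006016, nat_lit 0xf00000700000100e014]
noncomputable def sw_1_1_S : List (List ℕ) := [sw_1_1_S0]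
noncomputable def sw_1_1_defs : List ℕ := [(nat_lit 0x800001009000000060000000000000)]
noncomputable def sw_1_1_recs : List ℕ := [(nat_lit 0x60000200003090000000002)]
noncomputable def sw_1_1_T : List (List ℕ × ℕ) := [([6,8,6,8], (nat_lit 0xc00000500000f000007))]
noncomputable def sw_1_1_D : H26.Dag := ⟨[0,1,2,3,4,5,7,6,9,8], [[0,0],
  [1,1],
  [2,2],
  [3,3],
  [4,4],
  [5,5],
  [6,7],
  [7,6],
  [8,9],
  [9,8],
  [7,9,7,8],
  [8,8]], [], sw_1_1_defs, sw_1_1_recs⟩
theorem sw_1_1_c : sw_1_1_D.check sw_1_1_S sw_1_1_T = true := by decide +kernel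
theorem sw_1_1 {G : Type*} [Group G] {g : ℕ → G} (hR : Rels g sw_1_r_R) {H : Subgroup G}
    (hH : ∀ k ∈ [], g k ∈ H) : evA g [6,8,6,8] ∈ H :=
  mem_dag (K := 10) (J := [0,1,2,3,4,5,6,7,8,9,36,37]) (D := sw_1_1_D) (by decide +kernel) sw_1_1_c (by decide +kernel) hR hH
noncomputable def sw_1_2_S0 : List ℕ := [nat_lit 0xb006016, nat_lit 0xf000007000001000014]
noncomputable def sw_1_2_S : List (List ℕ) := [sw_1_2_S0]
noncomputable def sw_1_2_defs : List ℕ := [(nat_lit 0x800001009000000050000000000000)]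
noncomputable def sw_1_2_recs : List ℕ := [(nat_lit 0x200003090000000002)]
noncomputable def sw_1_2_T : List (List ℕ × ℕ) := [([5,8,0,8], (nat_lit 0xc00000500000f000007))]
noncomputable def sw_1_2_D : H26.Dag := ⟨[0,1,2,3,4,5,7,6,9,8], [[0,0],
  [1,1],
  [2,2],
  [3,3],
  [4,4],
  [5,5],
  [6,7],
  [7,6],
  [8,9],
  [9,8],
  [0,9,5,8],
  [8,8]], [], sw_1_2_defs, sw_1_2_recs⟩
theorem sw_1_2_c : sw_1_2_D.check sw_1_2_S sw_1_2_T = true := by decide +kernel
theorem sw_1_2 {G : Type*} [Group G] {g : ℕ → G} (hR : Rels g sw_1_r_R) {H : Subgroup G}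
    (hH : ∀ k ∈ [], g k ∈ H) : evA g [5,8,0,8] ∈ H :=
  mem_dag (K := 10) (J := [0,1,2,3,4,5,6,7,8,9,33,37]) (D := sw_1_2_D) (by decide +kernel) sw_1_2_c (by decide +kernel) hR hH
noncomputable def sw_1_3_S0 : List ℕ := [nat_lit 0xb006016, nat_lit 0x2700001f00001700000f00000700000100001400001c00002401a014]
noncomputable def sw_1_3_S : List (List ℕ) := [sw_1_3_S0]
noncomputable def sw_1_3_defs : List ℕ := [(nat_lit 0x800007002000060050000500100004002000030000000200100001009000000000000000000000)]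
noncomputable def sw_1_3_recs : List ℕ := [(nat_lit 0x50000800009090000000002)]
noncomputable def sw_1_3_T : List (List ℕ × ℕ) := [([0,1,2,5,8,5,2,1,0,8], (nat_lit 0xc00001400001c00002400000500002700001f00001700000f000007))]
noncomputable def sw_1_3_D : H26.Dag := ⟨[0,1,2,3,4,5,7,6,9,8], [[0,0],
  [1,1],
  [2,2],
  [3,3],
  [4,4],
  [5,5],
  [6,7],
  [7,6],
  [8,9],
  [9,8],
  [0,1,2,5,9,5,2,1,0,8],
  [8,8]], [], sw_1_3_defs, sw_1_3_recs⟩
theorem sw_1_3_c : sw_1_3_D.check sw_1_3_S sw_1_3_T = true := by decide +kernel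
theorem sw_1_3 {G : Type*} [Group G] {g : ℕ → G} (hR : Rels g sw_1_r_R) {H : Subgroup G}
    (hH : ∀ k ∈ [], g k ∈ H) : evA g [0,1,2,5,8,5,2,1,0,8] ∈ H :=
  mem_dag (K := 10) (J := [0,1,2,3,4,5,6,7,8,9,34,37]) (D := sw_1_3_D) (by decide +kernel) sw_1_3_c (by decide +kernel) hR hH
noncomputable def sw_1_4_S0 : List ℕ := [nat_lit 0x17004016, nat_lit 0x1300000b00000800001000000100a014]
noncomputable def sw_1_4_S : List (List ℕ) := [sw_1_4_S0]
noncomputable def sw_1_4_defs : List ℕ := [(nat_lit 0x8000030010000200500001009000000020000000000000)]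
noncomputable def sw_1_4_recs : List ℕ := [(nat_lit 0x50000500004080000300005)]
noncomputable def sw_1_4_T : List (List ℕ × ℕ) := [([2,5,8,5,1,8], (nat_lit 0xc00001400000600001700000f000007))]
noncomputable def sw_1_4_D : H26.Dag := ⟨[0,1,2,3,4,5,7,6,9,8], [[0,0],
  [1,1],
  [2,2],
  [3,3],
  [4,4],
  [5,5],
  [6,7],
  [7,6],
  [8,9],
  [9,8],
  [2,5,9,5,1,8],
  [8,8]], [], sw_1_4_defs, sw_1_4_recs⟩
theorem sw_1_4_c : sw_1_4_D.check sw_1_4_S sw_1_4_T = true := by decide +kernel
theorem sw_1_4 {G : Type*} [Group G] {g : ℕ → G} (hR : Rels g sw_1_r_R) {H : Subgroup G}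
    (hH : ∀ k ∈ [], g k ∈ H) : evA g [2,5,8,5,1,8] ∈ H :=
  mem_dag (K := 10) (J := [0,1,2,3,4,5,6,7,8,9,35,37]) (D := sw_1_4_D) (by decide +kernel) sw_1_4_c (by decide +kernel) hR hH
theorem sw_1 {G : Type*} [Group G] {z u v a b r y k : G}
    (t : TA z u v a b r)
    (n : NY z u v a b r y)
    (w : SW z u v r k)
    (e : k * y⁻¹ * k⁻¹ = y)
    (f : k * k = 1) :
    k * k = 1 ∧ k * y * k = y⁻¹ ∧ k * z * k = r ∧ k * (z * u * v * r) * k = z * u * v * r ∧ k * (u * r) * k = v * r :=
  ⟨mul_inv_eq_one.1 ((evA_eq_tm ((InvI.cons t.1 (InvI.cons t.2.1 (InvI.cons t.2.2.1 (InvI.cons t.2.2.2.1 (InvI.cons t.2.2.2.2.1 (InvI.cons t.2.2.2.2.2.1 InvI.nil)))))) : InvI [z, u, v, a, b, r, y, k] [(nat_lit 0), (nat_lit 1), (nat_lit 2), (nat_lit 3), (nat_lit 4), (nat_lit 5)]) [(.v (nat_lit 0)), (.v (nat_lit 1)), (.v (nat_lit 2)), (.v (nat_lit 3)), (.v (nat_lit 4)), (.v (nat_lit 5)), (.v (nat_lit 6)), (.inv (.v (nat_lit 6))), (.v (nat_lit 7)), (.inv (.v (nat_lit 7)))] [8,8] (.mul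 (.mul (.v (nat_lit 7)) (.v (nat_lit 7))) (.inv .one)) (by decide +kernel)).symm.trans (Subgroup.mem_bot.1 (sw_1_0 (sw_1_r t n w e f) (H := ⊥) (List.forall_mem_nil _)))),
   mul_inv_eq_one.1 ((evA_eq_tm ((InvI.cons t.1 (InvI.cons t.2.1 (InvI.cons t.2.2.1 (InvI.cons t.2.2.2.1 (InvI.cons t.2.2.2.2.1 (InvI.cons t.2.2.2.2.2.1 InvI.nil)))))) : InvI [z, u, v, a, b, r, y, k] [(nat_lit 0), (nat_lit 1), (nat_lit 2), (nat_lit 3), (nat_lit 4), (nat_lit 5)]) [(.v (nat_lit 0)), (.v (nat_lit 1)), (.v (nat_lit 2)), (.v (nat_lit 3)), (.v (nat_lit 4)), (.v (nat_lit 5)), (.v (nat_lit 6)), (.inv (.v (nat_lit 6))), (.v (nat_lit 7)), (.inv (.v (nat_lit 7)))] [6,8,6,8] (.mul (.mul (.mul (.v (nat_lit 7)) (.v (nat_lit 6))) (.v (nat_lit 7))) (.inv (.inv (.v (nat_lit 6))))) (by decide +kernel)).symm.trans (Subgroup.mem_bot.1 (sw_1_1 (sw_1_r t n w e f) (H := ⊥) (List.forall_mem_nil _)))),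
   mul_inv_eq_one.1 ((evA_eq_tm ((InvI.cons t.1 (InvI.cons t.2.1 (InvI.cons t.2.2.1 (InvI.cons t.2.2.2.1 (InvI.cons t.2.2.2.2.1 (InvI.cons t.2.2.2.2.2.1 InvI.nil)))))) : InvI [z, u, v, a, b, r, y, k] [(nat_lit 0), (nat_lit 1), (nat_lit 2), (nat_lit 3), (nat_lit 4), (nat_lit 5)]) [(.v (nat_lit 0)), (.v (nat_lit 1)), (.v (nat_lit 2)), (.v (nat_lit 3)), (.v (nat_lit 4)), (.v (nat_lit 5)), (.v (nat_lit 6)), (.inv (.v (nat_lit 6))), (.v (nat_lit 7)), (.inv (.v (nat_lit 7)))] [5,8,0,8] (.mul (.mul (.mul (.v (nat_lit 7)) (.v (nat_lit 0))) (.v (nat_lit 7))) (.inv (.v (nat_lit 5)))) (by decide +kernel)).symm.trans (Subgroup.mem_bot.1 (sw_1_2 (sw_1_r t n w e f) (H := ⊥) (List.forall_mem_nil _)))),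
   mul_inv_eq_one.1 ((evA_eq_tm ((InvI.cons t.1 (InvI.cons t.2.1 (InvI.cons t.2.2.1 (InvI.cons t.2.2.2.1 (InvI.cons t.2.2.2.2.1 (InvI.cons t.2.2.2.2.2.1 InvI.nil)))))) : InvI [z, u, v, a, b, r, y, k] [(nat_lit 0), (nat_lit 1), (nat_lit 2), (nat_lit 3), (nat_lit 4), (nat_lit 5)]) [(.v (nat_lit 0)), (.v (nat_lit 1)), (.v (nat_lit 2)), (.v (nat_lit 3)), (.v (nat_lit 4)), (.v (nat_lit 5)), (.v (nat_lit 6)), (.inv (.v (nat_lit 6))), (.v (nat_lit 7)), (.inv (.v (nat_lit 7)))] [0,1,2,5,8,5,2,1,0,8] (.mul (.mul (.mul (.v (nat_lit 7)) (.mul (.mul (.mul (.v (nat_lit 0)) (.v (nat_lit 1))) (.v (nat_lit 2))) (.v (nat_lit 5)))) (.v (nat_lit 7))) (.inv (.mul (.mul (.mul (.v (nat_lit 0)) (.v (nat_lit 1))) (.v (nat_lit 2))) (.v (nat_lit 5))))) (by decide +kernel)).symm.trans (Subgroup.mem_bot.1 (sw_1_3 (sw_1_r t n w e f) (H := ⊥) (List.forall_mem_nil _)))),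
   mul_inv_eq_one.1 ((evA_eq_tm ((InvI.cons t.1 (InvI.cons t.2.1 (InvI.cons t.2.2.1 (InvI.cons t.2.2.2.1 (InvI.cons t.2.2.2.2.1 (InvI.cons t.2.2.2.2.2.1 InvI.nil)))))) : InvI [z, u, v, a, b, r, y, k] [(nat_lit 0), (nat_lit 1), (nat_lit 2), (nat_lit 3), (nat_lit 4), (nat_lit 5)]) [(.v (nat_lit 0)), (.v (nat_lit 1)), (.v (nat_lit 2)), (.v (nat_lit 3)), (.v (nat_lit 4)), (.v (nat_lit 5)), (.v (nat_lit 6)), (.inv (.v (nat_lit 6))), (.v (nat_lit 7)), (.inv (.v (nat_lit 7)))] [2,5,8,5,1,8] (.mul (.mul (.mul (.v (nat_lit 7)) (.mul (.v (nat_lit 1)) (.v (nat_lit 5)))) (.v (nat_lit 7))) (.inv (.mul (.v (nat_lit 2)) (.v (nat_lit 5))))) (by decide +kernel)).symm.trans (Subgroup.mem_bot.1 (sw_1_4 (sw_1_r t n w e f) (H := ⊥) (List.forall_mem_nil _))))⟩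
noncomputable def sw_zr_r_R : List (List ℕ) := [[0,0],
  [1,1],
  [2,2],
  [3,3],
  [4,4],
  [5,5],
  [6,7],
  [7,6],
  [8,9],
  [9,8],
  [2,1,2,1],
  [1,0,1,0],
  [2,0,2,0],
  [3,0,3,0],
  [4,0,4,0],
  [5,0,5,0],
  [3,1,3,1],
  [4,2,4,2],
  [4,3,4,3],
  [1,0,4,1,4],
  [2,0,3,2,3],
  [1,5,1,5],
  [5,1,3,5,3],
  [2,5,2,5],
  [5,2,4,5,4],
  [6,6,6],
  [5,7,5,6],
  [0,7,0,6],
  [2,7,1,6],
  [0,1,2,7,2,6],
  [4,7,3,6],
  [0,3,4,7,4,6],
  [5,9,0,8],
  [0,9,5,8],
  [0,1,2,5,9,5,2,1,0,8],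
  [2,5,9,5,1,8],
  [7,9,7,8],
  [0,5,8,8]]
theorem sw_zr_r {G : Type*} [Group G] {z u v a b r y k : G}
    (t : TA z u v a b r)
    (n : NY z u v a b r y)
    (w : SW z u v r k)
    (e : k * y⁻¹ * k⁻¹ = y)
    (f : k * k = z * r) :
    Rels (nthG [z, u, v, a, b, r, y, y⁻¹, k, k⁻¹]) sw_zr_r_R :=
  rels_of_eqs ((InvI.cons t.1 (InvI.cons t.2.1 (InvI.cons t.2.2.1 (InvI.cons t.2.2.2.1 (InvI.cons t.2.2.2.2.1 (InvI.cons t.2.2.2.2.2.1 InvI.nil)))))) : InvI [z, u, v, a, b, r, y, k] [(nat_lit 0), (nat_lit 1), (nat_lit 2), (nat_lit 3), (nat_lit 4), (nat_lit 5)])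
    (AllEq.append (show AllEq [z, u, v, a, b, r, y, k] [((.mul (.v (nat_lit 0)) (.v (nat_lit 0))), .one), ((.mul (.v (nat_lit 1)) (.v (nat_lit 1))), .one), ((.mul (.v (nat_lit 2)) (.v (nat_lit 2))), .one), ((.mul (.v (nat_lit 3)) (.v (nat_lit 3))), .one), ((.mul (.v (nat_lit 4)) (.v (nat_lit 4))), .one), ((.mul (.v (nat_lit 5)) (.v (nat_lit 5))), .one), ((.mul (.v (nat_lit 1)) (.v (nat_lit 2))), (.mul (.v (nat_lit 2)) (.v (nat_lit 1)))), ((.mul (.v (nat_lit 0)) (.v (nat_lit 1))), (.mul (.v (nat_lit 1)) (.v (nat_lit 0)))), ((.mul (.v (nat_lit 0)) (.v (nat_lit 2))), (.mul (.v (nat_lit 2)) (.v (nat_lit 0)))), ((.mul (.v (nat_lit 0)) (.v (nat_lit 3))), (.mul (.v (nat_lit 3)) (.v (nat_lit 0)))), ((.mul (.v (nat_lit 0)) (.v (nat_lit 4))), (.mul (.v (nat_lit 4)) (.v (nat_lit 0)))), ((.mul (.v (nat_lit 0)) (.v (nat_lit 5))), (.mul (.v (nat_lit 5)) (.v (nat_lit 0)))), ((.mul (.v (nat_lit 1)) (.v (nat_lit 3))), (.mul (.v (nat_lit 3)) (.v (nat_lit 1)))), ((.mul (.v (nat_lit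 2)) (.v (nat_lit 4))), (.mul (.v (nat_lit 4)) (.v (nat_lit 2)))), ((.mul (.v (nat_lit 3)) (.v (nat_lit 4))), (.mul (.v (nat_lit 4)) (.v (nat_lit 3)))), ((.mul (.mul (.v (nat_lit 4)) (.v (nat_lit 1))) (.v (nat_lit 4))), (.mul (.v (nat_lit 1)) (.v (nat_lit 0)))), ((.mul (.mul (.v (nat_lit 3)) (.v (nat_lit 2))) (.v (nat_lit 3))), (.mul (.v (nat_lit 2)) (.v (nat_lit 0)))), ((.mul (.v (nat_lit 5)) (.v (nat_lit 1))), (.mul (.v (nat_lit 1)) (.v (nat_lit 5)))), ((.mul (.mul (.v (nat_lit 3)) (.v (nat_lit 5))) (.v (nat_lit 3))), (.mul (.v (nat_lit 5)) (.v (nat_lit 1)))), ((.mul (.v (nat_lit 5)) (.v (nat_lit 2))), (.mul (.v (nat_lit 2)) (.v (nat_lit 5)))), ((.mul (.mul (.v (nat_lit 4)) (.v (nat_lit 5))) (.v (nat_lit 4))), (.mul (.v (nat_lit 5)) (.v (nat_lit 2))))] from t)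
    (AllEq.append (show AllEq [z, u, v, a, b, r, y, k] [((.pw (.v (nat_lit 6)) (nat_lit 3)), .one), ((.mul (.v (nat_lit 6)) (.v (nat_lit 5))), (.mul (.v (nat_lit 5)) (.v (nat_lit 6)))), ((.mul (.v (nat_lit 6)) (.v (nat_lit 0))), (.mul (.v (nat_lit 0)) (.v (nat_lit 6)))), ((.mul (.mul (.v (nat_lit 6)) (.v (nat_lit 1))) (.inv (.v (nat_lit 6)))), (.v (nat_lit 2))), ((.mul (.mul (.v (nat_lit 6)) (.v (nat_lit 2))) (.inv (.v (nat_lit 6)))), (.mul (.mul (.v (nat_lit 0)) (.v (nat_lit 1))) (.v (nat_lit 2)))), ((.mul (.mul (.v (nat_lit 6)) (.v (nat_lit 3))) (.inv (.v (nat_lit 6)))), (.v (nat_lit 4))), ((.mul (.mul (.v (nat_lit 6)) (.v (nat_lit 4))) (.inv (.v (nat_lit 6)))), (.mul (.mul (.v (nat_lit 0)) (.v (nat_lit 3))) (.v (nat_lit 4))))] from n)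
    (AllEq.append (show AllEq [z, u, v, a, b, r, y, k] [((.mul (.mul (.v (nat_lit 7)) (.v (nat_lit 0))) (.inv (.v (nat_lit 7)))), (.v (nat_lit 5))), ((.mul (.mul (.v (nat_lit 7)) (.v (nat_lit 5))) (.inv (.v (nat_lit 7)))), (.v (nat_lit 0))), ((.mul (.mul (.v (nat_lit 7)) (.mul (.mul (.mul (.v (nat_lit 0)) (.v (nat_lit 1))) (.v (nat_lit 2))) (.v (nat_lit 5)))) (.inv (.v (nat_lit 7)))), (.mul (.mul (.mul (.v (nat_lit 0)) (.v (nat_lit 1))) (.v (nat_lit 2))) (.v (nat_lit 5)))), ((.mul (.mul (.v (nat_lit 7)) (.mul (.v (nat_lit 1)) (.v (nat_lit 5)))) (.inv (.v (nat_lit 7)))), (.mul (.v (nat_lit 2)) (.v (nat_lit 5))))] from w)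
    (AllEq.append (show AllEq [z, u, v, a, b, r, y, k] [((.mul (.mul (.v (nat_lit 7)) (.inv (.v (nat_lit 6)))) (.inv (.v (nat_lit 7)))), (.v (nat_lit 6)))] from ⟨e, trivial⟩)
    (show AllEq [z, u, v, a, b, r, y, k] [((.mul (.v (nat_lit 7)) (.v (nat_lit 7))), (.mul (.v (nat_lit 0)) (.v (nat_lit 5))))] from ⟨f, trivial⟩)))))
    [(.v (nat_lit 0)), (.v (nat_lit 1)), (.v (nat_lit 2)), (.v (nat_lit 3)), (.v (nat_lit 4)), (.v (nat_lit 5)), (.v (nat_lit 6)), (.inv (.v (nat_lit 6))), (.v (nat_lit 7)), (.inv (.v (nat_lit 7)))] (by decide +kernel)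
noncomputable def sw_zr_0_S0 : List ℕ := [nat_lit 0x1300000700000c008016, nat_lit 0xf000014000002000014]
noncomputable def sw_zr_0_S : List (List ℕ) := [sw_zr_0_S0]
noncomputable def sw_zr_0_defs : List ℕ := [(nat_lit 0x50000100800001009000000000000000000000)]
noncomputable def sw_zr_0_recs : List ℕ := [(nat_lit 0x200003080000200004)]
noncomputable def sw_zr_0_T : List (List ℕ × ℕ) := [([0,8,0,8], (nat_lit 0xc00000500000f000007))]
noncomputable def sw_zr_0_D : H26.Dag := ⟨[0,1,2,3,4,5,7,6,9,8], [[0,0],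
  [1,1],
  [2,2],
  [3,3],
  [4,4],
  [5,5],
  [6,7],
  [7,6],
  [8,9],
  [9,8],
  [0,9,5,8],
  [0,5,8,8]], [], sw_zr_0_defs, sw_zr_0_recs⟩
theorem sw_zr_0_c : sw_zr_0_D.check sw_zr_0_S sw_zr_0_T = true := by decide +kernel
theorem sw_zr_0 {G : Type*} [Group G] {g : ℕ → G} (hR : Rels g sw_zr_r_R) {H : Subgroup G}
    (hH : ∀ k ∈ [], g k ∈ H) : evA g [0,8,0,8] ∈ H :=
  mem_dag (K := 10) (J := [0,1,2,3,4,5,6,7,8,9,33,37]) (D := sw_zr_0_D) (by decide +kernel) sw_zr_0_c (by decide +kernel) hR hH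
noncomputable def sw_zr_1_S0 : List ℕ := [nat_lit 0x1b00000800001000c014, nat_lit 0x1f00000b00001c00c016, nat_lit 0x500001f00001400c01a, nat_lit 0x9000002000018000018]
noncomputable def sw_zr_1_S : List (List ℕ) := [sw_zr_1_S0]
noncomputable def sw_zr_1_defs : List ℕ := [(nat_lit 0x50000200000000008000030000000200000001009000000060000000000000)]
noncomputable def sw_zr_1_recs : List ℕ := [(nat_lit 0x70000500004080000400006080000600007060000300006)]
noncomputable def sw_zr_1_T : List (List ℕ × ℕ) := [([6,0,8,6,0,8], (nat_lit 0xc00001400000e00001700000f000007))]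
noncomputable def sw_zr_1_D : H26.Dag := ⟨[0,1,2,3,4,5,7,6,9,8], [[0,0],
  [1,1],
  [2,2],
  [3,3],
  [4,4],
  [5,5],
  [6,7],
  [7,6],
  [8,9],
  [9,8],
  [0,7,0,6],
  [0,9,5,8],
  [7,9,7,8],
  [0,5,8,8]], [], sw_zr_1_defs, sw_zr_1_recs⟩
theorem sw_zr_1_c : sw_zr_1_D.check sw_zr_1_S sw_zr_1_T = true := by decide +kernel
theorem sw_zr_1 {G : Type*} [Group G] {g : ℕ → G} (hR : Rels g sw_zr_r_R) {H : Subgroup G}
    (hH : ∀ k ∈ [], g k ∈ H) : evA g [6,0,8,6,0,8] ∈ H :=
  mem_dag (K := 10) (J := [0,1,2,3,4,5,6,7,8,9,27,33,36,37]) (D := sw_zr_1_D) (by decide +kernel) sw_zr_1_c (by decide +kernel) hR hH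
noncomputable def sw_zr_2_S0 : List ℕ := [nat_lit 0x13000008000010008014, nat_lit 0x100001300000c008016]
noncomputable def sw_zr_2_S : List (List ℕ) := [sw_zr_2_S0]
noncomputable def sw_zr_2_defs : List ℕ := [(nat_lit 0x1009000000050000000000000)]
noncomputable def sw_zr_2_recs : List ℕ := [(nat_lit 0x80000200003050000300004)]
noncomputable def sw_zr_2_T : List (List ℕ × ℕ) := [([5,0,8,8], (nat_lit 0xc00000500000f000007))]
noncomputable def sw_zr_2_D : H26.Dag := ⟨[0,1,2,3,4,5,7,6,9,8], [[0,0],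
  [1,1],
  [2,2],
  [3,3],
  [4,4],
  [5,5],
  [6,7],
  [7,6],
  [8,9],
  [9,8],
  [5,0,5,0],
  [0,5,8,8]], [], sw_zr_2_defs, sw_zr_2_recs⟩
theorem sw_zr_2_c : sw_zr_2_D.check sw_zr_2_S sw_zr_2_T = true := by decide +kernel
theorem sw_zr_2 {G : Type*} [Group G] {g : ℕ → G} (hR : Rels g sw_zr_r_R) {H : Subgroup G}
    (hH : ∀ k ∈ [], g k ∈ H) : evA g [5,0,8,8] ∈ H :=
  mem_dag (K := 10) (J := [0,1,2,3,4,5,6,7,8,9,15,37]) (D := sw_zr_2_D) (by decide +kernel) sw_zr_2_c (by decide +kernel) hR hH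
noncomputable def sw_zr_3_S0 : List ℕ := [nat_lit 0x3300000700002c004014, nat_lit 0x2f00002c00000100c020, nat_lit 0x3700003400000500801a, nat_lit 0x3700000700000c00801c, nat_lit 0x3b00001300000d008016, nat_lit 0x3b00001c000024008018, nat_lit 0x2400001500001200000a00002f00000800001000001800002001001e, nat_lit 0x2700001900002400c01a]
noncomputable def sw_zr_3_S : List (List ℕ) := [sw_zr_3_S0]
noncomputable def sw_zr_3_defs : List ℕ := [(nat_lit 0x5000040090000100500001008000000050000000000007005000060050000500200004002000030010000200100001009000000000000000000000)]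
noncomputable def sw_zr_3_recs : List ℕ := [(nat_lit 0x8000080000909000070000602000080000e010000d0000e05000020000d000000b0000d080000c0000b000000a0000c)]
noncomputable def sw_zr_3_T : List (List ℕ × ℕ) := [([0,1,2,5,0,8,5,2,1,8], (nat_lit 0xc00001400001c00002400001d00002700001f00001700000f000007))]
noncomputable def sw_zr_3_D : H26.Dag := ⟨[0,1,2,3,4,5,7,6,9,8], [[0,0],
  [1,1],
  [2,2],
  [3,3],
  [4,4],
  [5,5],
  [6,7],
  [7,6],
  [8,9],
  [9,8],
  [5,0,5,0],
  [1,5,1,5],
  [2,5,2,5],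
  [5,9,0,8],
  [0,9,5,8],
  [0,1,2,5,9,5,2,1,0,8],
  [0,5,8,8]], [], sw_zr_3_defs, sw_zr_3_recs⟩
theorem sw_zr_3_c : sw_zr_3_D.check sw_zr_3_S sw_zr_3_T = true := by decide +kernel
theorem sw_zr_3 {G : Type*} [Group G] {g : ℕ → G} (hR : Rels g sw_zr_r_R) {H : Subgroup G}
    (hH : ∀ k ∈ [], g k ∈ H) : evA g [0,1,2,5,0,8,5,2,1,8] ∈ H :=
  mem_dag (K := 10) (J := [0,1,2,3,4,5,6,7,8,9,15,21,23,32,33,34,37]) (D := sw_zr_3_D) (by decide +kernel) sw_zr_3_c (by decide +kernel) hR hH
noncomputable def sw_zr_4_S0 : List ℕ := [nat_lit 0x23000008000010008016, nat_lit 0x2300000c000014004018, nat_lit 0x27000010000018008014, nat_lit 0x1f00000900002700c01c, nat_lit 0x1b00000500000200000f00000d00a01a]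
noncomputable def sw_zr_4_S : List (List ℕ) := [sw_zr_4_S0]
noncomputable def sw_zr_4_defs : List ℕ := [(nat_lit 0x1005000000080000500100004000000030000000200500001009000000020000000000000)]
noncomputable def sw_zr_4_recs : List ℕ := [(nat_lit 0x50000700006080000100007050000500009090000400008020000300008)]
noncomputable def sw_zr_4_T : List (List ℕ × ℕ) := [([2,5,0,8,5,1,0,8], (nat_lit 0xc00001400001c00001200001f00001700000f000007))]
noncomputable def sw_zr_4_D : H26.Dag := ⟨[0,1,2,3,4,5,7,6,9,8], [[0,0],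
  [1,1],
  [2,2],
  [3,3],
  [4,4],
  [5,5],
  [6,7],
  [7,6],
  [8,9],
  [9,8],
  [5,0,5,0],
  [2,5,2,5],
  [5,9,0,8],
  [2,5,9,5,1,8],
  [0,5,8,8]], [], sw_zr_4_defs, sw_zr_4_recs⟩
theorem sw_zr_4_c : sw_zr_4_D.check sw_zr_4_S sw_zr_4_T = true := by decide +kernel
theorem sw_zr_4 {G : Type*} [Group G] {g : ℕ → G} (hR : Rels g sw_zr_r_R) {H : Subgroup G}
    (hH : ∀ k ∈ [], g k ∈ H) : evA g [2,5,0,8,5,1,0,8] ∈ H :=
  mem_dag (K := 10) (J := [0,1,2,3,4,5,6,7,8,9,15,23,32,35,37]) (D := sw_zr_4_D) (by decide +kernel) sw_zr_4_c (by decide +kernel) hR hH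
theorem sw_zr {G : Type*} [Group G] {z u v a b r y k : G}
    (t : TA z u v a b r)
    (n : NY z u v a b r y)
    (w : SW z u v r k)
    (e : k * y⁻¹ * k⁻¹ = y)
    (f : k * k = z * r) :
    k * z * (k * z) = 1 ∧ k * z * y * (k * z) = y⁻¹ ∧ k * z * z * (k * z) = r ∧ k * z * (z * u * v * r) * (k * z) = z * u * v * r ∧ k * z * (u * r) * (k * z) = v * r :=
  ⟨mul_inv_eq_one.1 ((evA_eq_tm ((InvI.cons t.1 (InvI.cons t.2.1 (InvI.cons t.2.2.1 (InvI.cons t.2.2.2.1 (InvI.cons t.2.2.2.2.1 (InvI.cons t.2.2.2.2.2.1 InvI.nil)))))) : InvI [z, u, v, a, b, r, y, k] [(nat_lit 0), (nat_lit 1), (nat_lit 2), (nat_lit 3), (nat_lit 4), (nat_lit 5)]) [(.v (nat_lit 0)), (.v (nat_lit 1)), (.v (nat_lit 2)), (.v (nat_lit 3)), (.v (nat_lit 4)), (.v (nat_lit 5)), (.v (nat_lit 6)), (.inv (.v (nat_lit 6))), (.v (nat_lit 7)), (.inv (.v (nat_lit 7)))] [0,8,0,8] (.mul (.mul (.mul (.v (nat_lit 7)) (.v (nat_lit 0))) (.mul (.v (nat_lit 7)) (.v (nat_lit 0)))) (.inv .one)) (by decide +kernel)).symm.trans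 (Subgroup.mem_bot.1 (sw_zr_0 (sw_zr_r t n w e f) (H := ⊥) (List.forall_mem_nil _)))),
   mul_inv_eq_one.1 ((evA_eq_tm ((InvI.cons t.1 (InvI.cons t.2.1 (InvI.cons t.2.2.1 (InvI.cons t.2.2.2.1 (InvI.cons t.2.2.2.2.1 (InvI.cons t.2.2.2.2.2.1 InvI.nil)))))) : InvI [z, u, v, a, b, r, y, k] [(nat_lit 0), (nat_lit 1), (nat_lit 2), (nat_lit 3), (nat_lit 4), (nat_lit 5)]) [(.v (nat_lit 0)), (.v (nat_lit 1)), (.v (nat_lit 2)), (.v (nat_lit 3)), (.v (nat_lit 4)), (.v (nat_lit 5)), (.v (nat_lit 6)), (.inv (.v (nat_lit 6))), (.v (nat_lit 7)), (.inv (.v (nat_lit 7)))] [6,0,8,6,0,8] (.mul (.mul (.mul (.mul (.v (nat_lit 7)) (.v (nat_lit 0))) (.v (nat_lit 6))) (.mul (.v (nat_lit 7)) (.v (nat_lit 0)))) (.inv (.inv (.v (nat_lit 6))))) (by decide +kernel)).symm.trans (Subgroup.mem_bot.1 (sw_zr_1 (sw_zr_r t n w e f) (H := ⊥) (List.forall_mem_nil _)))),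
   mul_inv_eq_one.1 ((evA_eq_tm ((InvI.cons t.1 (InvI.cons t.2.1 (InvI.cons t.2.2.1 (InvI.cons t.2.2.2.1 (InvI.cons t.2.2.2.2.1 (InvI.cons t.2.2.2.2.2.1 InvI.nil)))))) : InvI [z, u, v, a, b, r, y, k] [(nat_lit 0), (nat_lit 1), (nat_lit 2), (nat_lit 3), (nat_lit 4), (nat_lit 5)]) [(.v (nat_lit 0)), (.v (nat_lit 1)), (.v (nat_lit 2)), (.v (nat_lit 3)), (.v (nat_lit 4)), (.v (nat_lit 5)), (.v (nat_lit 6)), (.inv (.v (nat_lit 6))), (.v (nat_lit 7)), (.inv (.v (nat_lit 7)))] [5,0,8,8] (.mul (.mul (.mul (.mul (.v (nat_lit 7)) (.v (nat_lit 0))) (.v (nat_lit 0))) (.mul (.v (nat_lit 7)) (.v (nat_lit 0)))) (.inv (.v (nat_lit 5)))) (by decide +kernel)).symm.trans (Subgroup.mem_bot.1 (sw_zr_2 (sw_zr_r t n w e f) (H := ⊥) (List.forall_mem_nil _)))),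
   mul_inv_eq_one.1 ((evA_eq_tm ((InvI.cons t.1 (InvI.cons t.2.1 (InvI.cons t.2.2.1 (InvI.cons t.2.2.2.1 (InvI.cons t.2.2.2.2.1 (InvI.cons t.2.2.2.2.2.1 InvI.nil)))))) : InvI [z, u, v, a, b, r, y, k] [(nat_lit 0), (nat_lit 1), (nat_lit 2), (nat_lit 3), (nat_lit 4), (nat_lit 5)]) [(.v (nat_lit 0)), (.v (nat_lit 1)), (.v (nat_lit 2)), (.v (nat_lit 3)), (.v (nat_lit 4)), (.v (nat_lit 5)), (.v (nat_lit 6)), (.inv (.v (nat_lit 6))), (.v (nat_lit 7)), (.inv (.v (nat_lit 7)))] [0,1,2,5,0,8,5,2,1,8] (.mul (.mul (.mul (.mul (.v (nat_lit 7)) (.v (nat_lit 0))) (.mul (.mul (.mul (.v (nat_lit 0)) (.v (nat_lit 1))) (.v (nat_lit 2))) (.v (nat_lit 5)))) (.mul (.v (nat_lit 7)) (.v (nat_lit 0)))) (.inv (.mul (.mul (.mul (.v (nat_lit 0)) (.v (nat_lit 1))) (.v (nat_lit 2))) (.v (nat_lit 5))))) (by decide +kernel)).symm.trans (Subgroup.mem_bot.1 (sw_zr_3 (sw_zr_r t n w e f) (H := ⊥) (List.forall_mem_nil _)))),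
   mul_inv_eq_one.1 ((evA_eq_tm ((InvI.cons t.1 (InvI.cons t.2.1 (InvI.cons t.2.2.1 (InvI.cons t.2.2.2.1 (InvI.cons t.2.2.2.2.1 (InvI.cons t.2.2.2.2.2.1 InvI.nil)))))) : InvI [z, u, v, a, b, r, y, k] [(nat_lit 0), (nat_lit 1), (nat_lit 2), (nat_lit 3), (nat_lit 4), (nat_lit 5)]) [(.v (nat_lit 0)), (.v (nat_lit 1)), (.v (nat_lit 2)), (.v (nat_lit 3)), (.v (nat_lit 4)), (.v (nat_lit 5)), (.v (nat_lit 6)), (.inv (.v (nat_lit 6))), (.v (nat_lit 7)), (.inv (.v (nat_lit 7)))] [2,5,0,8,5,1,0,8] (.mul (.mul (.mul (.mul (.v (nat_lit 7)) (.v (nat_lit 0))) (.mul (.v (nat_lit 1)) (.v (nat_lit 5)))) (.mul (.v (nat_lit 7)) (.v (nat_lit 0)))) (.inv (.mul (.v (nat_lit 2)) (.v (nat_lit 5))))) (by decide +kernel)).symm.trans (Subgroup.mem_bot.1 (sw_zr_4 (sw_zr_r t n w e f) (H := ⊥) (List.forall_mem_nil _))))⟩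
noncomputable def sf_c_r_R : List (List ℕ) := [[0,0],
  [1,1],
  [2,2],
  [3,3],
  [4,4],
  [5,5],
  [6,7],
  [7,6],
  [8,8],
  [2,1,2,1],
  [1,0,1,0],
  [2,0,2,0],
  [3,0,3,0],
  [4,0,4,0],
  [5,0,5,0],
  [3,1,3,1],
  [4,2,4,2],
  [4,3,4,3],
  [1,0,4,1,4],
  [2,0,3,2,3],
  [1,5,1,5],
  [5,1,3,5,3],
  [2,5,2,5],
  [5,2,4,5,4],
  [6,6,6],
  [5,7,5,6],
  [0,7,0,6],
  [2,7,1,6],
  [0,1,2,7,2,6],
  [4,7,3,6],
  [0,3,4,7,4,6],
  [6,8,6,8],
  [5,8,0,8],
  [0,1,2,5,8,5,2,1,0,8],
  [2,5,8,5,1,8]]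
theorem sf_c_r {G : Type*} [Group G] {z u v a b r y s : G}
    (t : TA z u v a b r)
    (n : NY z u v a b r y)
    (w : RS0 z u v r y s) :
    Rels (nthG [z, u, v, a, b, r, y, y⁻¹, s]) sf_c_r_R :=
  rels_of_eqs ((InvI.cons t.1 (InvI.cons t.2.1 (InvI.cons t.2.2.1 (InvI.cons t.2.2.2.1 (InvI.cons t.2.2.2.2.1 (InvI.cons t.2.2.2.2.2.1 (InvI.cons w.1 InvI.nil))))))) : InvI [z, u, v, a, b, r, y, s] [(nat_lit 0), (nat_lit 1), (nat_lit 2), (nat_lit 3), (nat_lit 4), (nat_lit 5), (nat_lit 7)])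
    (AllEq.append (show AllEq [z, u, v, a, b, r, y, s] [((.mul (.v (nat_lit 0)) (.v (nat_lit 0))), .one), ((.mul (.v (nat_lit 1)) (.v (nat_lit 1))), .one), ((.mul (.v (nat_lit 2)) (.v (nat_lit 2))), .one), ((.mul (.v (nat_lit 3)) (.v (nat_lit 3))), .one), ((.mul (.v (nat_lit 4)) (.v (nat_lit 4))), .one), ((.mul (.v (nat_lit 5)) (.v (nat_lit 5))), .one), ((.mul (.v (nat_lit 1)) (.v (nat_lit 2))), (.mul (.v (nat_lit 2)) (.v (nat_lit 1)))), ((.mul (.v (nat_lit 0)) (.v (nat_lit 1))), (.mul (.v (nat_lit 1)) (.v (nat_lit 0)))), ((.mul (.v (nat_lit 0)) (.v (nat_lit 2))), (.mul (.v (nat_lit 2)) (.v (nat_lit 0)))), ((.mul (.v (nat_lit 0)) (.v (nat_lit 3))), (.mul (.v (nat_lit 3)) (.v (nat_lit 0)))), ((.mul (.v (nat_lit 0)) (.v (nat_lit 4))), (.mul (.v (nat_lit 4)) (.v (nat_lit 0)))), ((.mul (.v (nat_lit 0)) (.v (nat_lit 5))), (.mul (.v (nat_lit 5)) (.v (nat_lit 0)))), ((.mul (.v (nat_lit 1)) (.v (nat_lit 3))), (.mul (.v (nat_lit 3)) (.v (nat_lit 1)))), ((.mul (.v (nat_lit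 2)) (.v (nat_lit 4))), (.mul (.v (nat_lit 4)) (.v (nat_lit 2)))), ((.mul (.v (nat_lit 3)) (.v (nat_lit 4))), (.mul (.v (nat_lit 4)) (.v (nat_lit 3)))), ((.mul (.mul (.v (nat_lit 4)) (.v (nat_lit 1))) (.v (nat_lit 4))), (.mul (.v (nat_lit 1)) (.v (nat_lit 0)))), ((.mul (.mul (.v (nat_lit 3)) (.v (nat_lit 2))) (.v (nat_lit 3))), (.mul (.v (nat_lit 2)) (.v (nat_lit 0)))), ((.mul (.v (nat_lit 5)) (.v (nat_lit 1))), (.mul (.v (nat_lit 1)) (.v (nat_lit 5)))), ((.mul (.mul (.v (nat_lit 3)) (.v (nat_lit 5))) (.v (nat_lit 3))), (.mul (.v (nat_lit 5)) (.v (nat_lit 1)))), ((.mul (.v (nat_lit 5)) (.v (nat_lit 2))), (.mul (.v (nat_lit 2)) (.v (nat_lit 5)))), ((.mul (.mul (.v (nat_lit 4)) (.v (nat_lit 5))) (.v (nat_lit 4))), (.mul (.v (nat_lit 5)) (.v (nat_lit 2))))] from t)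
    (AllEq.append (show AllEq [z, u, v, a, b, r, y, s] [((.pw (.v (nat_lit 6)) (nat_lit 3)), .one), ((.mul (.v (nat_lit 6)) (.v (nat_lit 5))), (.mul (.v (nat_lit 5)) (.v (nat_lit 6)))), ((.mul (.v (nat_lit 6)) (.v (nat_lit 0))), (.mul (.v (nat_lit 0)) (.v (nat_lit 6)))), ((.mul (.mul (.v (nat_lit 6)) (.v (nat_lit 1))) (.inv (.v (nat_lit 6)))), (.v (nat_lit 2))), ((.mul (.mul (.v (nat_lit 6)) (.v (nat_lit 2))) (.inv (.v (nat_lit 6)))), (.mul (.mul (.v (nat_lit 0)) (.v (nat_lit 1))) (.v (nat_lit 2)))), ((.mul (.mul (.v (nat_lit 6)) (.v (nat_lit 3))) (.inv (.v (nat_lit 6)))), (.v (nat_lit 4))), ((.mul (.mul (.v (nat_lit 6)) (.v (nat_lit 4))) (.inv (.v (nat_lit 6)))), (.mul (.mul (.v (nat_lit 0)) (.v (nat_lit 3))) (.v (nat_lit 4))))] from n)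
    (show AllEq [z, u, v, a, b, r, y, s] [((.mul (.v (nat_lit 7)) (.v (nat_lit 7))), .one), ((.mul (.mul (.v (nat_lit 7)) (.v (nat_lit 6))) (.v (nat_lit 7))), (.inv (.v (nat_lit 6)))), ((.mul (.mul (.v (nat_lit 7)) (.v (nat_lit 0))) (.v (nat_lit 7))), (.v (nat_lit 5))), ((.mul (.mul (.v (nat_lit 7)) (.mul (.mul (.mul (.v (nat_lit 0)) (.v (nat_lit 1))) (.v (nat_lit 2))) (.v (nat_lit 5)))) (.v (nat_lit 7))), (.mul (.mul (.mul (.v (nat_lit 0)) (.v (nat_lit 1))) (.v (nat_lit 2))) (.v (nat_lit 5)))), ((.mul (.mul (.v (nat_lit 7)) (.mul (.v (nat_lit 1)) (.v (nat_lit 5)))) (.v (nat_lit 7))), (.mul (.v (nat_lit 2)) (.v (nat_lit 5))))] from w)))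
    [(.v (nat_lit 0)), (.v (nat_lit 1)), (.v (nat_lit 2)), (.v (nat_lit 3)), (.v (nat_lit 4)), (.v (nat_lit 5)), (.v (nat_lit 6)), (.inv (.v (nat_lit 6))), (.v (nat_lit 7))] (by decide +kernel)
noncomputable def sf_c_0_S0 : List ℕ := [nat_lit 0xf00000700000c000024, nat_lit 0x57000002000054008016, nat_lit 0x5b000013000054008012, nat_lit 0x5f000017000058008012, nat_lit 0x6300001b00005c008014, nat_lit 0x6f00001f000060008014, nat_lit 0x7300002300006c00c024, nat_lit 0x7b000027000070004024, nat_lit 0x7f00002b000074008012, nat_lit 0x8b000033000084008018, nat_lit 0x9700003b00009000c024, nat_lit 0x9b000043000098008012, nat_lit 0x9f00004b00009c008014, nat_lit 0xa300001100006300006801001a, nat_lit 0xa300000a00000500000d012020, nat_lit 0xa700003500003a000015012022, nat_lit 0x7700007c00001e00003d0000a7014026, nat_lit 0xab00006700006c00801e, nat_lit 0xaf00002100007f00008401001c, nat_lit 0xaf00001a0000450000ab000041004026, nat_lit 0x8700002f00007800004d00004a010020, nat_lit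 0x5100008700000a, nat_lit 0x9300003700005500002500008b004022, nat_lit 0x8f00005900009300000a, nat_lit 0x3f00005d000029000010, nat_lit 0x4700006200002d000006, nat_lit 0x4f000066000031000008, nat_lit 0x6a00009f000000]
noncomputable def sf_c_0_S : List (List ℕ) := [sf_c_0_S0]
noncomputable def sf_c_0_defs : List ℕ := [(nat_lit 0x20001c00500019002000190010001600000012000000100000000e0050000d0050000c0020000c0050000b0020000a0000000a005000090010000900000008000000070050000600100006000000060000000500000004000000030000000200400011004000100030000f0030000e0080000d0080000c0040000b0040000a003000090030000800800007008000060040000500400004003000030030000200800001008000000000000000000000)]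
noncomputable def sf_c_0_recs : List ℕ := [(nat_lit 0x1200013ff0002700013ff0002600011ff000250000fff0000d00023ff0000c00024050000b00020ff0002000021050001d0002b03000200002b010001a0002a08000190001d050001b00029050001700028040001900028040002600027030002500026080002300025040002000022030001c0001f080001b0001e080001a0001c04000170001b040001600018030001500017030001400016050001400015050000200003)]
noncomputable def sf_c_0_T : List (List ℕ × ℕ) := [([0,8,3,4,8,3,4,8,3,4,0,4,3,8,4,3,8,4,3,8], (nat_lit 0xc00001400001c00002400002c00003400003c00004400004c00006d00004f00004700003f00003700002f00002700001f00001700000f000007))]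
noncomputable def sf_c_0_D : H26.Dag := ⟨[0,1,2,3,4,5,7,6,8], [[0,0],
  [1,1],
  [2,2],
  [3,3],
  [4,4],
  [5,5],
  [6,7],
  [7,6],
  [8,8],
  [3,0,3,0],
  [4,0,4,0],
  [5,0,5,0],
  [4,2,4,2],
  [1,0,4,1,4],
  [2,0,3,2,3],
  [1,5,1,5],
  [5,1,3,5,3],
  [5,2,4,5,4],
  [5,8,0,8],
  [2,5,8,5,1,8]], [], sf_c_0_defs, sf_c_0_recs⟩
theorem sf_c_0_c : sf_c_0_D.check sf_c_0_S sf_c_0_T = true := by decide +kernel
theorem sf_c_0 {G : Type*} [Group G] {g : ℕ → G} (hR : Rels g sf_c_r_R) {H : Subgroup G}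
    (hH : ∀ k ∈ [], g k ∈ H) : evA g [0,8,3,4,8,3,4,8,3,4,0,4,3,8,4,3,8,4,3,8] ∈ H :=
  mem_dag (K := 9) (J := [0,1,2,3,4,5,6,7,8,12,13,14,16,18,19,20,21,23,32,34]) (D := sf_c_0_D) (by decide +kernel) sf_c_0_c (by decide +kernel) hR hH
noncomputable def sf_c_1_S0 : List ℕ := [nat_lit 0x5700000b00005400c02c, nat_lit 0x5b00000f00000700005400000100402e, nat_lit 0x5f00005c000006008028, nat_lit 0x63000013000058000009010024, nat_lit 0x6700001700006000000d012026, nat_lit 0x6f00001b00006400001101002a, nat_lit 0x7300001f000068000015012022, nat_lit 0x7700007400001a004012, nat_lit 0x6b00007000001d00001a, nat_lit 0x7f00002c000034004020, nat_lit 0x8300002300006c00402c, nat_lit 0x2700007800002100002900008300007c00002e, nat_lit 0x2e00007b000004, nat_lit 0x8700003200008000401e, nat_lit 0x87000030000038004020, nat_lit 0x9300002500003500003a012024, nat_lit 0x9700009400003e004014, nat_lit 0x9700003300008c00801e, nat_lit 0x9f00003b00009c00c02c, nat_lit 0xa700003f00004100402c,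 nat_lit 0xab0000430000a0008016, nat_lit 0xaf0000470000a400801c, nat_lit 0xb300004b0000ac008018, nat_lit 0xbf00008b000090008028, nat_lit 0xbf00004500009700009c01002a, nat_lit 0xc300005d00006200401e, nat_lit 0xc300005d0000bf00004500c02a, nat_lit 0xa30000a800004e00006900006600004901402e, nat_lit 0x5200006d000055000006, nat_lit 0x720000af000002, nat_lit 0xbb00004f0000750000590000b3004022, nat_lit 0xb70000790000bb000002, nat_lit 0x7d0000b7000002]
noncomputable def sf_c_1_S : List (List ℕ) := [sf_c_1_S0]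
noncomputable def sf_c_1_defs : List ℕ := [(nat_lit 0x4000230050002200100013001000120000001200100011000000100050000f0010000f0000000e0050000c0020000c0000000c0050000a0020000a004000090050000800400008002000080010000700000007005000060000000600100005002000040050000300200003000000020050000000400011004000100030000f0030000e0080000d0080000c0040000b0040000a003000090030000800800007008000060040000500400004003000030030000200800001008000000010000000000000)]
noncomputable def sf_c_1_recs : List ℕ := [(nat_lit 0x10001200013ff000130002dff000120002e01000110002aff0002b0002aff000270002805000250003002000260003004000260002f02000230002f040002a0002c03000280002b03000270002a080002500029080002600027040002200025000000d00025020000d00024030000d00021020001f00021020000800009ff0001e00009080001a00020030000c0001f050001d0001a000001b0001d010001b0001c04000190001b050001800019030001700018020001500017050001500016080001400015)]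
noncomputable def sf_c_1_T : List (List ℕ × ℕ) := [([1,8,3,4,8,3,4,8,3,4,1,4,3,8,4,3,8,4,3,8], (nat_lit 0xc00001400001c00002400002c00003400003c00004400004c00008100004f00004700003f00003700002f00002700001f00001700000f000007))]
noncomputable def sf_c_1_D : H26.Dag := ⟨[0,1,2,3,4,5,7,6,8], [[0,0],
  [1,1],
  [2,2],
  [3,3],
  [4,4],
  [5,5],
  [6,7],
  [7,6],
  [8,8],
  [1,0,1,0],
  [2,0,2,0],
  [3,0,3,0],
  [4,0,4,0],
  [5,0,5,0],
  [3,1,3,1],
  [4,2,4,2],
  [4,3,4,3],
  [1,0,4,1,4],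
  [2,0,3,2,3],
  [5,1,3,5,3],
  [2,5,2,5],
  [5,2,4,5,4],
  [5,8,0,8],
  [2,5,8,5,1,8]], [], sf_c_1_defs, sf_c_1_recs⟩
theorem sf_c_1_c : sf_c_1_D.check sf_c_1_S sf_c_1_T = true := by decide +kernel
theorem sf_c_1 {G : Type*} [Group G] {g : ℕ → G} (hR : Rels g sf_c_r_R) {H : Subgroup G}
    (hH : ∀ k ∈ [], g k ∈ H) : evA g [1,8,3,4,8,3,4,8,3,4,1,4,3,8,4,3,8,4,3,8] ∈ H :=
  mem_dag (K := 9) (J := [0,1,2,3,4,5,6,7,8,10,11,12,13,14,15,16,17,18,19,21,22,23,32,34]) (D := sf_c_1_D) (by decide +kernel) sf_c_1_c (by decide +kernel) hR hH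
noncomputable def sf_c_2_S0 : List ℕ := [nat_lit 0x5700000b00005400c024, nat_lit 0x5b00000f00000700005400000100a026, nat_lit 0x5f000013000058008012, nat_lit 0x1700005c00000600000900c020, nat_lit 0x6300001b000060008014, nat_lit 0x6700001f00000e000011012022, nat_lit 0x6f000023000064004024, nat_lit 0x2700006800001600001900006f00006c006026, nat_lit 0x1e00006b000002, nat_lit 0x2b00002100003000c016, nat_lit 0x7300003300002600003801201a, nat_lit 0x7f00003b000074004024, nat_lit 0x8300003f00007800c024, nat_lit 0x8b000047000084008012, nat_lit 0x9300004b000088008018, nat_lit 0x9700002a00007800801e, nat_lit 0x3200003d00009700002d00007f00007c000026, nat_lit 0x41000035000006, nat_lit 0x8f00008c00004500007b00004400201c, nat_lit 0x8700004900008f000004, nat_lit 0x4f00004d000039000008, nat_lit 0x52000093000004]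
noncomputable def sf_c_2_S : List (List ℕ) := [sf_c_2_S0]
noncomputable def sf_c_2_defs : List ℕ := [(nat_lit 0x50001c002000120020001100000011002000100000000f0050000e0020000e0050000d0000000c005000080010000800200007000000060000000400100003000000020050000000400011004000100030000f0030000e0080000d0080000c0040000b0040000a003000090030000800800007008000060040000500400004003000030030000200800001008000000020000000000000)]
noncomputable def sf_c_2_recs : List ℕ := [(nat_lit 0x20001200013ff0002400013ff0001100021ff000100002303000220001eff0001e00020010001d00025040002100024030002000022080001d00020080001c0001f010000d0001c010000b0000a010000800009ff0001a0000908000180001b050001800019040001700018050001700005030001500017050001500016080001400015)]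
noncomputable def sf_c_2_T : List (List ℕ × ℕ) := [([2,8,3,4,8,3,4,8,3,4,2,4,3,8,4,3,8,4,3,8], (nat_lit 0xc00001400001c00002400002c00003400003c00004400004c00005500004f00004700003f00003700002f00002700001f00001700000f000007))]
noncomputable def sf_c_2_D : H26.Dag := ⟨[0,1,2,3,4,5,7,6,8], [[0,0],
  [1,1],
  [2,2],
  [3,3],
  [4,4],
  [5,5],
  [6,7],
  [7,6],
  [8,8],
  [3,0,3,0],
  [4,0,4,0],
  [3,1,3,1],
  [4,2,4,2],
  [1,0,4,1,4],
  [2,0,3,2,3],
  [1,5,1,5],
  [5,1,3,5,3],
  [5,2,4,5,4],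
  [5,8,0,8],
  [2,5,8,5,1,8]], [], sf_c_2_defs, sf_c_2_recs⟩
theorem sf_c_2_c : sf_c_2_D.check sf_c_2_S sf_c_2_T = true := by decide +kernel
theorem sf_c_2 {G : Type*} [Group G] {g : ℕ → G} (hR : Rels g sf_c_r_R) {H : Subgroup G}
    (hH : ∀ k ∈ [], g k ∈ H) : evA g [2,8,3,4,8,3,4,8,3,4,2,4,3,8,4,3,8,4,3,8] ∈ H :=
  mem_dag (K := 9) (J := [0,1,2,3,4,5,6,7,8,12,13,15,16,18,19,20,21,23,32,34]) (D := sf_c_2_D) (by decide +kernel) sf_c_2_c (by decide +kernel) hR hH
noncomputable def sf_c_3_S0 : List ℕ := [nat_lit 0xf00000700000c008024, nat_lit 0x17000002000014004012, nat_lit 0x1f00000600001c004014, nat_lit 0x2700000a000024000024, nat_lit 0x5700000e000054008016, nat_lit 0x5b00002b000054008012, nat_lit 0x5f00002f000058008012, nat_lit 0x6300003300005c008014, nat_lit 0x6f000037000060008014, nat_lit 0x7300003b00006c00c024, nat_lit 0x7b00003f000070004024, nat_lit 0x7f000043000074008012, nat_lit 0x8b00004b000084008018, nat_lit 0x9700001d00006300006801001a, nat_lit 0x97000016000011000019012020,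 nat_lit 0x9b00003500003a000021012022, nat_lit 0x7700007c00002a00003d00009b014026, nat_lit 0x9f00006700006c00801e, nat_lit 0xa300002d00007f00008401001c, nat_lit 0xa300002600004500009f000041004026, nat_lit 0x8700004700007800004d00004a010020, nat_lit 0x5100008700000a, nat_lit 0x9300004f00005500003100008b004022, nat_lit 0x8f00005900009300000a, nat_lit 0x5d00008f00000a]
noncomputable def sf_c_3_S : List (List ℕ) := [sf_c_3_S0]
noncomputable def sf_c_3_defs : List ℕ := [(nat_lit 0x20001c0050001900200019001000160050001300500012002000120050001100200010000000100050000f0010000f0000000e0000000d0050000c0010000c0000000c0000000b0000000a000000090000000800400011004000100030000f0030000e0080000d0080000c0040000b0040000a003000090030000800800007008000060040000500400004003000030030000200800001008000000050000000000000)]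
noncomputable def sf_c_3_recs : List ℕ := [(nat_lit 0x50001200013ff0001300023ff0001200024050001100020ff0002000021050001d00028030002000028010001a0002708000190001d050001b00026050001700025040001900025040002000022030001c0001f080001b0001e080001a0001c04000170001b040001600018030001500017030001400016050001400015050000800009000000600007000000400005000000200003)]
noncomputable def sf_c_3_T : List (List ℕ × ℕ) := [([5,8,3,4,8,3,4,8,3,4,5,4,3,8,4,3,8,4,3,8], (nat_lit 0xc00001400001c00002400002c00003400003c00004400004c00006100004f00004700003f00003700002f00002700001f00001700000f000007))]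
noncomputable def sf_c_3_D : H26.Dag := ⟨[0,1,2,3,4,5,7,6,8], [[0,0],
  [1,1],
  [2,2],
  [3,3],
  [4,4],
  [5,5],
  [6,7],
  [7,6],
  [8,8],
  [3,0,3,0],
  [4,0,4,0],
  [5,0,5,0],
  [4,2,4,2],
  [1,0,4,1,4],
  [2,0,3,2,3],
  [1,5,1,5],
  [5,1,3,5,3],
  [5,2,4,5,4],
  [5,8,0,8],
  [2,5,8,5,1,8]], [], sf_c_3_defs, sf_c_3_recs⟩
theorem sf_c_3_c : sf_c_3_D.check sf_c_3_S sf_c_3_T = true := by decide +kernel
theorem sf_c_3 {G : Type*} [Group G] {g : ℕ → G} (hR : Rels g sf_c_r_R) {H : Subgroup G}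
    (hH : ∀ k ∈ [], g k ∈ H) : evA g [5,8,3,4,8,3,4,8,3,4,5,4,3,8,4,3,8,4,3,8] ∈ H :=
  mem_dag (K := 9) (J := [0,1,2,3,4,5,6,7,8,12,13,14,16,18,19,20,21,23,32,34]) (D := sf_c_3_D) (by decide +kernel) sf_c_3_c (by decide +kernel) hR hH
theorem sf_c {G : Type*} [Group G] {z u v a b r y s : G}
    (t : TA z u v a b r)
    (n : NY z u v a b r y)
    (w : RS0 z u v r y s) :
    (s * a * b) ^ 3 * z = z * (s * a * b) ^ 3 ∧ (s * a * b) ^ 3 * u = u * (s * a * b) ^ 3 ∧ (s * a * b) ^ 3 * v = v * (s * a * b) ^ 3 ∧ (s * a * b) ^ 3 * r = r * (s * a * b) ^ 3 :=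
  ⟨mul_inv_eq_one.1 ((evA_eq_tm ((InvI.cons t.1 (InvI.cons t.2.1 (InvI.cons t.2.2.1 (InvI.cons t.2.2.2.1 (InvI.cons t.2.2.2.2.1 (InvI.cons t.2.2.2.2.2.1 (InvI.cons w.1 InvI.nil))))))) : InvI [z, u, v, a, b, r, y, s] [(nat_lit 0), (nat_lit 1), (nat_lit 2), (nat_lit 3), (nat_lit 4), (nat_lit 5), (nat_lit 7)]) [(.v (nat_lit 0)), (.v (nat_lit 1)), (.v (nat_lit 2)), (.v (nat_lit 3)), (.v (nat_lit 4)), (.v (nat_lit 5)), (.v (nat_lit 6)), (.inv (.v (nat_lit 6))), (.v (nat_lit 7))] [0,8,3,4,8,3,4,8,3,4,0,4,3,8,4,3,8,4,3,8] (.mul (.mul (.pw (.mul (.mul (.v (nat_lit 7)) (.v (nat_lit 3))) (.v (nat_lit 4))) (nat_lit 3)) (.v (nat_lit 0))) (.inv (.mul (.v (nat_lit 0)) (.pw (.mul (.mul (.v (nat_lit 7)) (.v (nat_lit 3))) (.v (nat_lit 4))) (nat_lit 3))))) (by decide +kernel)).symm.trans (Subgroup.mem_bot.1 (sf_c_0 (sf_c_r t n w) (H := ⊥) (List.forall_mem_nil _)))),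
   mul_inv_eq_one.1 ((evA_eq_tm ((InvI.cons t.1 (InvI.cons t.2.1 (InvI.cons t.2.2.1 (InvI.cons t.2.2.2.1 (InvI.cons t.2.2.2.2.1 (InvI.cons t.2.2.2.2.2.1 (InvI.cons w.1 InvI.nil))))))) : InvI [z, u, v, a, b, r, y, s] [(nat_lit 0), (nat_lit 1), (nat_lit 2), (nat_lit 3), (nat_lit 4), (nat_lit 5), (nat_lit 7)]) [(.v (nat_lit 0)), (.v (nat_lit 1)), (.v (nat_lit 2)), (.v (nat_lit 3)), (.v (nat_lit 4)), (.v (nat_lit 5)), (.v (nat_lit 6)), (.inv (.v (nat_lit 6))), (.v (nat_lit 7))] [1,8,3,4,8,3,4,8,3,4,1,4,3,8,4,3,8,4,3,8] (.mul (.mul (.pw (.mul (.mul (.v (nat_lit 7)) (.v (nat_lit 3))) (.v (nat_lit 4))) (nat_lit 3)) (.v (nat_lit 1))) (.inv (.mul (.v (nat_lit 1)) (.pw (.mul (.mul (.v (nat_lit 7)) (.v (nat_lit 3))) (.v (nat_lit 4))) (nat_lit 3))))) (by decide +kernel)).symm.trans (Subgroup.mem_bot.1 (sf_c_1 (sf_c_r t n w) (H := ⊥) (List.forall_mem_nil _)))),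
   mul_inv_eq_one.1 ((evA_eq_tm ((InvI.cons t.1 (InvI.cons t.2.1 (InvI.cons t.2.2.1 (InvI.cons t.2.2.2.1 (InvI.cons t.2.2.2.2.1 (InvI.cons t.2.2.2.2.2.1 (InvI.cons w.1 InvI.nil))))))) : InvI [z, u, v, a, b, r, y, s] [(nat_lit 0), (nat_lit 1), (nat_lit 2), (nat_lit 3), (nat_lit 4), (nat_lit 5), (nat_lit 7)]) [(.v (nat_lit 0)), (.v (nat_lit 1)), (.v (nat_lit 2)), (.v (nat_lit 3)), (.v (nat_lit 4)), (.v (nat_lit 5)), (.v (nat_lit 6)), (.inv (.v (nat_lit 6))), (.v (nat_lit 7))] [2,8,3,4,8,3,4,8,3,4,2,4,3,8,4,3,8,4,3,8] (.mul (.mul (.pw (.mul (.mul (.v (nat_lit 7)) (.v (nat_lit 3))) (.v (nat_lit 4))) (nat_lit 3)) (.v (nat_lit 2))) (.inv (.mul (.v (nat_lit 2)) (.pw (.mul (.mul (.v (nat_lit 7)) (.v (nat_lit 3))) (.v (nat_lit 4))) (nat_lit 3))))) (by decide +kernel)).symm.trans (Subgroup.mem_bot.1 (sf_c_2 (sf_c_r t n w) (H := ⊥) (List.forall_mem_nil _)))),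
   mul_inv_eq_one.1 ((evA_eq_tm ((InvI.cons t.1 (InvI.cons t.2.1 (InvI.cons t.2.2.1 (InvI.cons t.2.2.2.1 (InvI.cons t.2.2.2.2.1 (InvI.cons t.2.2.2.2.2.1 (InvI.cons w.1 InvI.nil))))))) : InvI [z, u, v, a, b, r, y, s] [(nat_lit 0), (nat_lit 1), (nat_lit 2), (nat_lit 3), (nat_lit 4), (nat_lit 5), (nat_lit 7)]) [(.v (nat_lit 0)), (.v (nat_lit 1)), (.v (nat_lit 2)), (.v (nat_lit 3)), (.v (nat_lit 4)), (.v (nat_lit 5)), (.v (nat_lit 6)), (.inv (.v (nat_lit 6))), (.v (nat_lit 7))] [5,8,3,4,8,3,4,8,3,4,5,4,3,8,4,3,8,4,3,8] (.mul (.mul (.pw (.mul (.mul (.v (nat_lit 7)) (.v (nat_lit 3))) (.v (nat_lit 4))) (nat_lit 3)) (.v (nat_lit 5))) (.inv (.mul (.v (nat_lit 5)) (.pw (.mul (.mul (.v (nat_lit 7)) (.v (nat_lit 3))) (.v (nat_lit 4))) (nat_lit 3))))) (by decide +kernel)).symm.trans (Subgroup.mem_bot.1 (sf_c_3 (sf_c_r t n w) (H := ⊥) (List.forall_mem_nil _))))⟩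
noncomputable def sf1_r_R : List (List ℕ) := [[0,0],
  [1,1],
  [2,2],
  [3,3],
  [4,4],
  [5,5],
  [6,7],
  [7,6],
  [8,8],
  [2,1,2,1],
  [1,0,1,0],
  [2,0,2,0],
  [3,0,3,0],
  [4,0,4,0],
  [5,0,5,0],
  [3,1,3,1],
  [4,2,4,2],
  [4,3,4,3],
  [1,0,4,1,4],
  [2,0,3,2,3],
  [1,5,1,5],
  [5,1,3,5,3],
  [2,5,2,5],
  [5,2,4,5,4],
  [6,6,6],
  [5,7,5,6],
  [0,7,0,6],
  [2,7,1,6],
  [0,1,2,7,2,6],
  [4,7,3,6],
  [0,3,4,7,4,6],
  [6,8,6,8],
  [5,8,0,8],
  [0,1,2,5,8,5,2,1,0,8],
  [2,5,8,5,1,8],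
  [0,4,3,8,4,3,8,4,3,8]]
theorem sf1_r {G : Type*} [Group G] {z u v a b r y s : G}
    (t : TA z u v a b r)
    (n : NY z u v a b r y)
    (w : RS0 z u v r y s)
    (e : (s * a * b) ^ 3 = z) :
    Rels (nthG [z, u, v, a, b, r, y, y⁻¹, s]) sf1_r_R :=
  rels_of_eqs ((InvI.cons t.1 (InvI.cons t.2.1 (InvI.cons t.2.2.1 (InvI.cons t.2.2.2.1 (InvI.cons t.2.2.2.2.1 (InvI.cons t.2.2.2.2.2.1 (InvI.cons w.1 InvI.nil))))))) : InvI [z, u, v, a, b, r, y, s] [(nat_lit 0), (nat_lit 1), (nat_lit 2), (nat_lit 3), (nat_lit 4), (nat_lit 5), (nat_lit 7)])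
    (AllEq.append (show AllEq [z, u, v, a, b, r, y, s] [((.mul (.v (nat_lit 0)) (.v (nat_lit 0))), .one), ((.mul (.v (nat_lit 1)) (.v (nat_lit 1))), .one), ((.mul (.v (nat_lit 2)) (.v (nat_lit 2))), .one), ((.mul (.v (nat_lit 3)) (.v (nat_lit 3))), .one), ((.mul (.v (nat_lit 4)) (.v (nat_lit 4))), .one), ((.mul (.v (nat_lit 5)) (.v (nat_lit 5))), .one), ((.mul (.v (nat_lit 1)) (.v (nat_lit 2))), (.mul (.v (nat_lit 2)) (.v (nat_lit 1)))), ((.mul (.v (nat_lit 0)) (.v (nat_lit 1))), (.mul (.v (nat_lit 1)) (.v (nat_lit 0)))), ((.mul (.v (nat_lit 0)) (.v (nat_lit 2))), (.mul (.v (nat_lit 2)) (.v (nat_lit 0)))), ((.mul (.v (nat_lit 0)) (.v (nat_lit 3))), (.mul (.v (nat_lit 3)) (.v (nat_lit 0)))), ((.mul (.v (nat_lit 0)) (.v (nat_lit 4))), (.mul (.v (nat_lit 4)) (.v (nat_lit 0)))), ((.mul (.v (nat_lit 0)) (.v (nat_lit 5))), (.mul (.v (nat_lit 5)) (.v (nat_lit 0)))), ((.mul (.v (nat_lit 1)) (.v (nat_lit 3))), (.mul (.v (nat_lit 3)) (.v (nat_lit 1)))), ((.mul (.v (nat_lit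 2)) (.v (nat_lit 4))), (.mul (.v (nat_lit 4)) (.v (nat_lit 2)))), ((.mul (.v (nat_lit 3)) (.v (nat_lit 4))), (.mul (.v (nat_lit 4)) (.v (nat_lit 3)))), ((.mul (.mul (.v (nat_lit 4)) (.v (nat_lit 1))) (.v (nat_lit 4))), (.mul (.v (nat_lit 1)) (.v (nat_lit 0)))), ((.mul (.mul (.v (nat_lit 3)) (.v (nat_lit 2))) (.v (nat_lit 3))), (.mul (.v (nat_lit 2)) (.v (nat_lit 0)))), ((.mul (.v (nat_lit 5)) (.v (nat_lit 1))), (.mul (.v (nat_lit 1)) (.v (nat_lit 5)))), ((.mul (.mul (.v (nat_lit 3)) (.v (nat_lit 5))) (.v (nat_lit 3))), (.mul (.v (nat_lit 5)) (.v (nat_lit 1)))), ((.mul (.v (nat_lit 5)) (.v (nat_lit 2))), (.mul (.v (nat_lit 2)) (.v (nat_lit 5)))), ((.mul (.mul (.v (nat_lit 4)) (.v (nat_lit 5))) (.v (nat_lit 4))), (.mul (.v (nat_lit 5)) (.v (nat_lit 2))))] from t)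
    (AllEq.append (show AllEq [z, u, v, a, b, r, y, s] [((.pw (.v (nat_lit 6)) (nat_lit 3)), .one), ((.mul (.v (nat_lit 6)) (.v (nat_lit 5))), (.mul (.v (nat_lit 5)) (.v (nat_lit 6)))), ((.mul (.v (nat_lit 6)) (.v (nat_lit 0))), (.mul (.v (nat_lit 0)) (.v (nat_lit 6)))), ((.mul (.mul (.v (nat_lit 6)) (.v (nat_lit 1))) (.inv (.v (nat_lit 6)))), (.v (nat_lit 2))), ((.mul (.mul (.v (nat_lit 6)) (.v (nat_lit 2))) (.inv (.v (nat_lit 6)))), (.mul (.mul (.v (nat_lit 0)) (.v (nat_lit 1))) (.v (nat_lit 2)))), ((.mul (.mul (.v (nat_lit 6)) (.v (nat_lit 3))) (.inv (.v (nat_lit 6)))), (.v (nat_lit 4))), ((.mul (.mul (.v (nat_lit 6)) (.v (nat_lit 4))) (.inv (.v (nat_lit 6)))), (.mul (.mul (.v (nat_lit 0)) (.v (nat_lit 3))) (.v (nat_lit 4))))] from n)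
    (AllEq.append (show AllEq [z, u, v, a, b, r, y, s] [((.mul (.v (nat_lit 7)) (.v (nat_lit 7))), .one), ((.mul (.mul (.v (nat_lit 7)) (.v (nat_lit 6))) (.v (nat_lit 7))), (.inv (.v (nat_lit 6)))), ((.mul (.mul (.v (nat_lit 7)) (.v (nat_lit 0))) (.v (nat_lit 7))), (.v (nat_lit 5))), ((.mul (.mul (.v (nat_lit 7)) (.mul (.mul (.mul (.v (nat_lit 0)) (.v (nat_lit 1))) (.v (nat_lit 2))) (.v (nat_lit 5)))) (.v (nat_lit 7))), (.mul (.mul (.mul (.v (nat_lit 0)) (.v (nat_lit 1))) (.v (nat_lit 2))) (.v (nat_lit 5)))), ((.mul (.mul (.v (nat_lit 7)) (.mul (.v (nat_lit 1)) (.v (nat_lit 5)))) (.v (nat_lit 7))), (.mul (.v (nat_lit 2)) (.v (nat_lit 5))))] from w)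
    (show AllEq [z, u, v, a, b, r, y, s] [((.pw (.mul (.mul (.v (nat_lit 7)) (.v (nat_lit 3))) (.v (nat_lit 4))) (nat_lit 3)), (.v (nat_lit 0)))] from ⟨e, trivial⟩))))
    [(.v (nat_lit 0)), (.v (nat_lit 1)), (.v (nat_lit 2)), (.v (nat_lit 3)), (.v (nat_lit 4)), (.v (nat_lit 5)), (.v (nat_lit 6)), (.inv (.v (nat_lit 6))), (.v (nat_lit 7))] (by decide +kernel)
noncomputable def sf1_0_S0 : List ℕ := [nat_lit 0x2300000700000c004014, nat_lit 0x27000007000010004016, nat_lit 0x2b000007000014004018, nat_lit 0x3b00000b00001c008028, nat_lit 0x3f00000500002700002c00c026, nat_lit 0x43000009000011004016, nat_lit 0x43000013000008000028010026, nat_lit 0x47000013000018004022, nat_lit 0x4b00001300000c00003c01002a, nat_lit 0x5b00000d00002100401e, nat_lit 0x5b00000d00003b00003400c02a, nat_lit 0x5f00001b000020008038, nat_lit 0x6b000002000034004018, nat_lit 0x6b00002300002c00401e, nat_lit 0x7300000a00004800401a, nat_lit 0x7300002b000030004022, nat_lit 0x7700000a00004c00401c, nat_lit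 0x83000033000038004022, nat_lit 0x8300003100003600007400c024, nat_lit 0x9300001200007800802c, nat_lit 0x9700001600009000401a, nat_lit 0x9700001a000070004022, nat_lit 0x9b000039000049004014, nat_lit 0x9b00001e00005000801e, nat_lit 0xa700004f000054008028, nat_lit 0xa700005d00009b0000a001002a, nat_lit 0xab00006100006600401e, nat_lit 0xab0000610000a700005d00c02a, nat_lit 0xaf000053000058008038, nat_lit 0xbf00002a000088008038, nat_lit 0xc3000063000068004022, nat_lit 0xc700003a0000a4000038, nat_lit 0xcb0000420000250000bc00c024, nat_lit 0xcb00004d00009300009000c02e, nat_lit 0xe30000520000e0000038, nat_lit 0xe700005a0000d8000038, nat_lit 0xeb00009f0000a4008038, nat_lit 0xeb00006900006e0000e800008e00003c, nat_lit 0xef00006a00009f0000a400007d00003c, nat_lit 0xf30000b30000b8004022, nat_lit 0xf70000810000860000e000008900003c, nat_lit 0xfb0000760000dc004018, nat_lit 0x1030000c700003a00004700001300002000006800007900010000a03e, nat_lit 0xf70000bb00005b00006000002e0000680000790001000000a900010301203e,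 nat_lit 0x9a0000ad0000a2000004, nat_lit 0xc80000ad0000f7000010, nat_lit 0xb100009a000004, nat_lit 0xe40000b10000ef000010, nat_lit 0x740000b60000bb000008, nat_lit 0x550000be0000ab000006, nat_lit 0x7b0000c20000c0000010, nat_lit 0xc5000055000006, nat_lit 0xcf0000ca0000fc000006, nat_lit 0xd20000a6000000, nat_lit 0x1070001040000aa004022, nat_lit 0x920000a300001e0000170000200000640000c40001000000d900010700403e, nat_lit 0xba0000dd000096000004, nat_lit 0xd80000e10000e3000010, nat_lit 0x450000e60000cd000006, nat_lit 0x8b0000ea0000b0000010, nat_lit 0xee000072000000, nat_lit 0x10b0000cf00007b00000a00004800001e0000580000b800009d00e03e, nat_lit 0xdb00008700008400004600008c0000f20000b800009d0000f500010b01603e, nat_lit 0xf90000d5000000]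
noncomputable def sf1_0_S1 : List ℕ := [nat_lit 0x10b0000fd00010c00c01a, nat_lit 0xd300007f00003d00007300007c0000d000010c0001010000f600009e02003e, nat_lit 0xb80001050000d3000008, nat_lit 0x5800010a00007f000010, nat_lit 0x1800010e00002f000008, nat_lit 0x112000007000000]
noncomputable def sf1_0_S : List (List ℕ) := [sf1_0_S0, sf1_0_S1]
noncomputable def sf1_0_defs : List ℕ := [(nat_lit 0x8000300030002f0080002e0040002c0080002a0080002700800026008000250080002300300021008000200040001f0030001e0040001d0080001c0040001800800016004000160040001500300015008000140030001400500013008000110050001100100011004000100050000f0040000f0080000d0080000c0040000c0080000b0080000a0050000a0040000a00400009003000080040000700300007008000060030000600800005005000050010000500500004004000040020000400300003005000020040000200300002004000010030000100200001001000010080000000500000004000000030000000200000001000000000000000000000),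
  (nat_lit 0x4000330040003100300031)]
noncomputable def sf1_0_recs : List ℕ := [(nat_lit 0x3300033ff0003300036080003c00042000001500022ff0002b00022ff000140000dff0002500020ff0003500038ff000310003a030003f00041000003600033ff0003e00033030002500014ff0002f0001eff000140001bff000160000aff0002a00025020003100038ff0002e0001cff000380003bff000310003d040003f0004000000360003e02000380003d030002d0003c02000310003b02000350003a00000280003a050003500039050003700038050002300032010002e0003205000280003103000190003000000210002f00000150002b05000260002a01000270002a030002700029010001400029030001300026000002000026030001b00025000002300025020001d00024010001c00020030000d0002000000120001d030000b0001c00000110001c010000a0001a000000c0001a000000700017050000c00016010001200016030000e00012030000500011030000900010000000f00010020000a0000f01000060000e00000040000a000000300009000000200008),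
  (nat_lit 0xff0000100000ff0000b00005ff0001f00015ff0002d00034000004200042)]
noncomputable def sf1_0_T : List (List ℕ × ℕ) := [([0], (nat_lit 0x115))]
noncomputable def sf1_0_D : H26.Dag := ⟨[0,1,2,3,4,5,7,6,8], [[0,0],
  [1,1],
  [2,2],
  [3,3],
  [4,4],
  [5,5],
  [6,7],
  [7,6],
  [8,8],
  [2,1,2,1],
  [1,0,1,0],
  [2,0,2,0],
  [3,0,3,0],
  [4,0,4,0],
  [5,0,5,0],
  [3,1,3,1],
  [4,2,4,2],
  [4,3,4,3],
  [1,0,4,1,4],
  [2,0,3,2,3],
  [1,5,1,5],
  [5,1,3,5,3],
  [2,5,2,5],
  [5,2,4,5,4],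
  [6,6,6],
  [0,1,2,7,2,6],
  [0,3,4,7,4,6],
  [6,8,6,8],
  [5,8,0,8],
  [0,1,2,5,8,5,2,1,0,8],
  [2,5,8,5,1,8],
  [0,4,3,8,4,3,8,4,3,8]], [], sf1_0_defs, sf1_0_recs⟩
theorem sf1_0_c : sf1_0_D.check sf1_0_S sf1_0_T = true := by decide +kernel
theorem sf1_0 {G : Type*} [Group G] {g : ℕ → G} (hR : Rels g sf1_r_R) {H : Subgroup G}
    (hH : ∀ k ∈ [], g k ∈ H) : evA g [0] ∈ H :=
  mem_dag (K := 9) (J := [0,1,2,3,4,5,6,7,8,9,10,11,12,13,14,15,16,17,18,19,20,21,22,23,24,28,30,31,32,33,34,35]) (D := sf1_0_D) (by decide +kernel) sf1_0_c (by decide +kernel) hR hH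
theorem sf1 {G : Type*} [Group G] {z u v a b r y s : G}
    (t : TA z u v a b r)
    (n : NY z u v a b r y)
    (w : RS0 z u v r y s)
    (e : (s * a * b) ^ 3 = z) :
    z = 1 :=
  mul_inv_eq_one.1 ((evA_eq_tm ((InvI.cons t.1 (InvI.cons t.2.1 (InvI.cons t.2.2.1 (InvI.cons t.2.2.2.1 (InvI.cons t.2.2.2.2.1 (InvI.cons t.2.2.2.2.2.1 (InvI.cons w.1 InvI.nil))))))) : InvI [z, u, v, a, b, r, y, s] [(nat_lit 0), (nat_lit 1), (nat_lit 2), (nat_lit 3), (nat_lit 4), (nat_lit 5), (nat_lit 7)]) [(.v (nat_lit 0)), (.v (nat_lit 1)), (.v (nat_lit 2)), (.v (nat_lit 3)), (.v (nat_lit 4)), (.v (nat_lit 5)), (.v (nat_lit 6)), (.inv (.v (nat_lit 6))), (.v (nat_lit 7))] [0] (.mul (.v (nat_lit 0)) (.inv .one)) (by decide +kernel)).symm.trans (Subgroup.mem_bot.1 (sf1_0 (sf1_r t n w e) (H := ⊥) (List.forall_mem_nil _))))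
noncomputable def sf2_r_R : List (List ℕ) := [[0,0],
  [1,1],
  [2,2],
  [3,3],
  [4,4],
  [5,5],
  [6,7],
  [7,6],
  [8,8],
  [2,1,2,1],
  [1,0,1,0],
  [2,0,2,0],
  [3,0,3,0],
  [4,0,4,0],
  [5,0,5,0],
  [3,1,3,1],
  [4,2,4,2],
  [4,3,4,3],
  [1,0,4,1,4],
  [2,0,3,2,3],
  [1,5,1,5],
  [5,1,3,5,3],
  [2,5,2,5],
  [5,2,4,5,4],
  [6,6,6],
  [5,7,5,6],
  [0,7,0,6],
  [2,7,1,6],
  [0,1,2,7,2,6],
  [4,7,3,6],
  [0,3,4,7,4,6],
  [6,8,6,8],
  [5,8,0,8],
  [0,1,2,5,8,5,2,1,0,8],
  [2,5,8,5,1,8],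
  [1,4,3,8,4,3,8,4,3,8]]
theorem sf2_r {G : Type*} [Group G] {z u v a b r y s : G}
    (t : TA z u v a b r)
    (n : NY z u v a b r y)
    (w : RS0 z u v r y s)
    (e : (s * a * b) ^ 3 = u) :
    Rels (nthG [z, u, v, a, b, r, y, y⁻¹, s]) sf2_r_R :=
  rels_of_eqs ((InvI.cons t.1 (InvI.cons t.2.1 (InvI.cons t.2.2.1 (InvI.cons t.2.2.2.1 (InvI.cons t.2.2.2.2.1 (InvI.cons t.2.2.2.2.2.1 (InvI.cons w.1 InvI.nil))))))) : InvI [z, u, v, a, b, r, y, s] [(nat_lit 0), (nat_lit 1), (nat_lit 2), (nat_lit 3), (nat_lit 4), (nat_lit 5), (nat_lit 7)])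
    (AllEq.append (show AllEq [z, u, v, a, b, r, y, s] [((.mul (.v (nat_lit 0)) (.v (nat_lit 0))), .one), ((.mul (.v (nat_lit 1)) (.v (nat_lit 1))), .one), ((.mul (.v (nat_lit 2)) (.v (nat_lit 2))), .one), ((.mul (.v (nat_lit 3)) (.v (nat_lit 3))), .one), ((.mul (.v (nat_lit 4)) (.v (nat_lit 4))), .one), ((.mul (.v (nat_lit 5)) (.v (nat_lit 5))), .one), ((.mul (.v (nat_lit 1)) (.v (nat_lit 2))), (.mul (.v (nat_lit 2)) (.v (nat_lit 1)))), ((.mul (.v (nat_lit 0)) (.v (nat_lit 1))), (.mul (.v (nat_lit 1)) (.v (nat_lit 0)))), ((.mul (.v (nat_lit 0)) (.v (nat_lit 2))), (.mul (.v (nat_lit 2)) (.v (nat_lit 0)))), ((.mul (.v (nat_lit 0)) (.v (nat_lit 3))), (.mul (.v (nat_lit 3)) (.v (nat_lit 0)))), ((.mul (.v (nat_lit 0)) (.v (nat_lit 4))), (.mul (.v (nat_lit 4)) (.v (nat_lit 0)))), ((.mul (.v (nat_lit 0)) (.v (nat_lit 5))), (.mul (.v (nat_lit 5)) (.v (nat_lit 0)))), ((.mul (.v (nat_lit 1)) (.v (nat_lit 3))), (.mul (.v (nat_lit 3)) (.v (nat_lit 1)))), ((.mul (.v (nat_lit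 2)) (.v (nat_lit 4))), (.mul (.v (nat_lit 4)) (.v (nat_lit 2)))), ((.mul (.v (nat_lit 3)) (.v (nat_lit 4))), (.mul (.v (nat_lit 4)) (.v (nat_lit 3)))), ((.mul (.mul (.v (nat_lit 4)) (.v (nat_lit 1))) (.v (nat_lit 4))), (.mul (.v (nat_lit 1)) (.v (nat_lit 0)))), ((.mul (.mul (.v (nat_lit 3)) (.v (nat_lit 2))) (.v (nat_lit 3))), (.mul (.v (nat_lit 2)) (.v (nat_lit 0)))), ((.mul (.v (nat_lit 5)) (.v (nat_lit 1))), (.mul (.v (nat_lit 1)) (.v (nat_lit 5)))), ((.mul (.mul (.v (nat_lit 3)) (.v (nat_lit 5))) (.v (nat_lit 3))), (.mul (.v (nat_lit 5)) (.v (nat_lit 1)))), ((.mul (.v (nat_lit 5)) (.v (nat_lit 2))), (.mul (.v (nat_lit 2)) (.v (nat_lit 5)))), ((.mul (.mul (.v (nat_lit 4)) (.v (nat_lit 5))) (.v (nat_lit 4))), (.mul (.v (nat_lit 5)) (.v (nat_lit 2))))] from t)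
    (AllEq.append (show AllEq [z, u, v, a, b, r, y, s] [((.pw (.v (nat_lit 6)) (nat_lit 3)), .one), ((.mul (.v (nat_lit 6)) (.v (nat_lit 5))), (.mul (.v (nat_lit 5)) (.v (nat_lit 6)))), ((.mul (.v (nat_lit 6)) (.v (nat_lit 0))), (.mul (.v (nat_lit 0)) (.v (nat_lit 6)))), ((.mul (.mul (.v (nat_lit 6)) (.v (nat_lit 1))) (.inv (.v (nat_lit 6)))), (.v (nat_lit 2))), ((.mul (.mul (.v (nat_lit 6)) (.v (nat_lit 2))) (.inv (.v (nat_lit 6)))), (.mul (.mul (.v (nat_lit 0)) (.v (nat_lit 1))) (.v (nat_lit 2)))), ((.mul (.mul (.v (nat_lit 6)) (.v (nat_lit 3))) (.inv (.v (nat_lit 6)))), (.v (nat_lit 4))), ((.mul (.mul (.v (nat_lit 6)) (.v (nat_lit 4))) (.inv (.v (nat_lit 6)))), (.mul (.mul (.v (nat_lit 0)) (.v (nat_lit 3))) (.v (nat_lit 4))))] from n)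
    (AllEq.append (show AllEq [z, u, v, a, b, r, y, s] [((.mul (.v (nat_lit 7)) (.v (nat_lit 7))), .one), ((.mul (.mul (.v (nat_lit 7)) (.v (nat_lit 6))) (.v (nat_lit 7))), (.inv (.v (nat_lit 6)))), ((.mul (.mul (.v (nat_lit 7)) (.v (nat_lit 0))) (.v (nat_lit 7))), (.v (nat_lit 5))), ((.mul (.mul (.v (nat_lit 7)) (.mul (.mul (.mul (.v (nat_lit 0)) (.v (nat_lit 1))) (.v (nat_lit 2))) (.v (nat_lit 5)))) (.v (nat_lit 7))), (.mul (.mul (.mul (.v (nat_lit 0)) (.v (nat_lit 1))) (.v (nat_lit 2))) (.v (nat_lit 5)))), ((.mul (.mul (.v (nat_lit 7)) (.mul (.v (nat_lit 1)) (.v (nat_lit 5)))) (.v (nat_lit 7))), (.mul (.v (nat_lit 2)) (.v (nat_lit 5))))] from w)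
    (show AllEq [z, u, v, a, b, r, y, s] [((.pw (.mul (.mul (.v (nat_lit 7)) (.v (nat_lit 3))) (.v (nat_lit 4))) (nat_lit 3)), (.v (nat_lit 1)))] from ⟨e, trivial⟩))))
    [(.v (nat_lit 0)), (.v (nat_lit 1)), (.v (nat_lit 2)), (.v (nat_lit 3)), (.v (nat_lit 4)), (.v (nat_lit 5)), (.v (nat_lit 6)), (.inv (.v (nat_lit 6))), (.v (nat_lit 7))] (by decide +kernel)
noncomputable def sf2_0_S0 : List ℕ := [nat_lit 0x2300000700000c004014, nat_lit 0x27000007000010004016, nat_lit 0x2b000007000014004018, nat_lit 0x2f000007000020000038, nat_lit 0x3300000b000010004012, nat_lit 0x3700000b00001400401e, nat_lit 0x3b00000500002700002c00c026, nat_lit 0x3f00000f00001c00802c, nat_lit 0x43000013000018004022, nat_lit 0x4b000017000008000024010024, nat_lit 0x4f00001700001000004001002e, nat_lit 0x57000002000038004018, nat_lit 0x5700002300002c00401e, nat_lit 0x6300000a000048000038, nat_lit 0x6700000e00001f00001c00001d01403c, nat_lit 0x73000012000040008028, nat_lit 0x7700002d00003200005c00c024,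 nat_lit 0x7f00001a00006000802c, nat_lit 0x7f00003b00001100007401002a, nat_lit 0x8300003d00004900401e, nat_lit 0x8700003500006300006000004501403c, nat_lit 0x9300002a000084008022, nat_lit 0x9f00002e00007c000038, nat_lit 0xab00006b000070004022, nat_lit 0xb300008b000090004022, nat_lit 0xbb00009700009c004022, nat_lit 0xc30000a30000a8004022, nat_lit 0xcb0000af00004200005b00002b00003000007000005d0000c800a03e, nat_lit 0xb700005600008300003900006700007000005d0000c800006d0000cb01203e, nat_lit 0xb00000710000b7000010, nat_lit 0x78000076000056000008, nat_lit 0x1500007a00004e000002, nat_lit 0x4700007e000051000010, nat_lit 0x82000087000002, nat_lit 0x6200008f0000850000470000130000180000540000980000bc00c03e, nat_lit 0xbf00009f00005700002500004b0000540000980000bc00008900006201403e, nat_lit 0x9000008d0000bf000008, nat_lit 0x3600009200005a00000a, nat_lit 0x6400009600007b000010, nat_lit 0x9a000016000002, nat_lit 0xc30000a300006300009e00004400002200005400009c00006500008900e03e,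 nat_lit 0x610000a100006a000006, nat_lit 0x900000a60000a7000008, nat_lit 0x480000aa000063000010, nat_lit 0x140000ae00002b000006, nat_lit 0xb2000007000000]
noncomputable def sf2_0_S : List (List ℕ) := [sf2_0_S0]
noncomputable def sf2_0_defs : List ℕ := [(nat_lit 0x30002b0080002a00400028004000270040002500800024004000220080001d0040001a0040001800300018008000150040001400300014003000130040001100300011001000110030000f0050000e0080000d0040000d0050000c0040000b0030000b0010000b0080000a0050000a0040000a00300008008000050050000500100005008000040040000400500003003000030030000200200002008000010030000100200001001000010080000000500000004000000030000000200000001000000000000000000000)]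
noncomputable def sf2_0_recs : List ℕ := [(nat_lit 0xff0000100000ff0000a00004ff0001800011ff0002900023ff0002c0003001000040000aff0000d0000aff0001e00018ff0002700011ff000230002f080002e0002c010001100011ff0002100011ff0001f00004ff000200000dff000240001dff0002b0002d04000310003203000290003003000260002e03000230002c030001b0002a050001e00027040002000024080001f00021010001f00020030001c0001f02000170001f01000160001d010000f0001c080000f00019050001100018010000a00015000000d00015040000f0001304000080001203000050001002000060000f020000a0000e01000040000d01000030000c05000070000b00000040000a000000300009000000200008)]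
noncomputable def sf2_0_T : List (List ℕ × ℕ) := [([0], (nat_lit 0xb5))]
noncomputable def sf2_0_D : H26.Dag := ⟨[0,1,2,3,4,5,7,6,8], [[0,0],
  [1,1],
  [2,2],
  [3,3],
  [4,4],
  [5,5],
  [6,7],
  [7,6],
  [8,8],
  [2,1,2,1],
  [1,0,1,0],
  [2,0,2,0],
  [3,0,3,0],
  [4,0,4,0],
  [5,0,5,0],
  [3,1,3,1],
  [4,2,4,2],
  [4,3,4,3],
  [1,0,4,1,4],
  [2,0,3,2,3],
  [1,5,1,5],
  [5,1,3,5,3],
  [2,5,2,5],
  [5,2,4,5,4],
  [6,6,6],
  [0,1,2,7,2,6],
  [0,3,4,7,4,6],
  [6,8,6,8],
  [5,8,0,8],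
  [0,1,2,5,8,5,2,1,0,8],
  [2,5,8,5,1,8],
  [1,4,3,8,4,3,8,4,3,8]], [], sf2_0_defs, sf2_0_recs⟩
theorem sf2_0_c : sf2_0_D.check sf2_0_S sf2_0_T = true := by decide +kernel
theorem sf2_0 {G : Type*} [Group G] {g : ℕ → G} (hR : Rels g sf2_r_R) {H : Subgroup G}
    (hH : ∀ k ∈ [], g k ∈ H) : evA g [0] ∈ H :=
  mem_dag (K := 9) (J := [0,1,2,3,4,5,6,7,8,9,10,11,12,13,14,15,16,17,18,19,20,21,22,23,24,28,30,31,32,33,34,35]) (D := sf2_0_D) (by decide +kernel) sf2_0_c (by decide +kernel) hR hH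
theorem sf2 {G : Type*} [Group G] {z u v a b r y s : G}
    (t : TA z u v a b r)
    (n : NY z u v a b r y)
    (w : RS0 z u v r y s)
    (e : (s * a * b) ^ 3 = u) :
    z = 1 :=
  mul_inv_eq_one.1 ((evA_eq_tm ((InvI.cons t.1 (InvI.cons t.2.1 (InvI.cons t.2.2.1 (InvI.cons t.2.2.2.1 (InvI.cons t.2.2.2.2.1 (InvI.cons t.2.2.2.2.2.1 (InvI.cons w.1 InvI.nil))))))) : InvI [z, u, v, a, b, r, y, s] [(nat_lit 0), (nat_lit 1), (nat_lit 2), (nat_lit 3), (nat_lit 4), (nat_lit 5), (nat_lit 7)]) [(.v (nat_lit 0)), (.v (nat_lit 1)), (.v (nat_lit 2)), (.v (nat_lit 3)), (.v (nat_lit 4)), (.v (nat_lit 5)), (.v (nat_lit 6)), (.inv (.v (nat_lit 6))), (.v (nat_lit 7))] [0] (.mul (.v (nat_lit 0)) (.inv .one)) (by decide +kernel)).symm.trans (Subgroup.mem_bot.1 (sf2_0 (sf2_r t n w e) (H := ⊥) (List.forall_mem_nil _))))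
noncomputable def sf3_r_R : List (List ℕ) := [[0,0],
  [1,1],
  [2,2],
  [3,3],
  [4,4],
  [5,5],
  [6,7],
  [7,6],
  [8,8],
  [2,1,2,1],
  [1,0,1,0],
  [2,0,2,0],
  [3,0,3,0],
  [4,0,4,0],
  [5,0,5,0],
  [3,1,3,1],
  [4,2,4,2],
  [4,3,4,3],
  [1,0,4,1,4],
  [2,0,3,2,3],
  [1,5,1,5],
  [5,1,3,5,3],
  [2,5,2,5],
  [5,2,4,5,4],
  [6,6,6],
  [5,7,5,6],
  [0,7,0,6],
  [2,7,1,6],
  [0,1,2,7,2,6],
  [4,7,3,6],
  [0,3,4,7,4,6],
  [6,8,6,8],
  [5,8,0,8],
  [0,1,2,5,8,5,2,1,0,8],
  [2,5,8,5,1,8],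
  [2,4,3,8,4,3,8,4,3,8]]
theorem sf3_r {G : Type*} [Group G] {z u v a b r y s : G}
    (t : TA z u v a b r)
    (n : NY z u v a b r y)
    (w : RS0 z u v r y s)
    (e : (s * a * b) ^ 3 = v) :
    Rels (nthG [z, u, v, a, b, r, y, y⁻¹, s]) sf3_r_R :=
  rels_of_eqs ((InvI.cons t.1 (InvI.cons t.2.1 (InvI.cons t.2.2.1 (InvI.cons t.2.2.2.1 (InvI.cons t.2.2.2.2.1 (InvI.cons t.2.2.2.2.2.1 (InvI.cons w.1 InvI.nil))))))) : InvI [z, u, v, a, b, r, y, s] [(nat_lit 0), (nat_lit 1), (nat_lit 2), (nat_lit 3), (nat_lit 4), (nat_lit 5), (nat_lit 7)])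
    (AllEq.append (show AllEq [z, u, v, a, b, r, y, s] [((.mul (.v (nat_lit 0)) (.v (nat_lit 0))), .one), ((.mul (.v (nat_lit 1)) (.v (nat_lit 1))), .one), ((.mul (.v (nat_lit 2)) (.v (nat_lit 2))), .one), ((.mul (.v (nat_lit 3)) (.v (nat_lit 3))), .one), ((.mul (.v (nat_lit 4)) (.v (nat_lit 4))), .one), ((.mul (.v (nat_lit 5)) (.v (nat_lit 5))), .one), ((.mul (.v (nat_lit 1)) (.v (nat_lit 2))), (.mul (.v (nat_lit 2)) (.v (nat_lit 1)))), ((.mul (.v (nat_lit 0)) (.v (nat_lit 1))), (.mul (.v (nat_lit 1)) (.v (nat_lit 0)))), ((.mul (.v (nat_lit 0)) (.v (nat_lit 2))), (.mul (.v (nat_lit 2)) (.v (nat_lit 0)))), ((.mul (.v (nat_lit 0)) (.v (nat_lit 3))), (.mul (.v (nat_lit 3)) (.v (nat_lit 0)))), ((.mul (.v (nat_lit 0)) (.v (nat_lit 4))), (.mul (.v (nat_lit 4)) (.v (nat_lit 0)))), ((.mul (.v (nat_lit 0)) (.v (nat_lit 5))), (.mul (.v (nat_lit 5)) (.v (nat_lit 0)))), ((.mul (.v (nat_lit 1)) (.v (nat_lit 3))), (.mul (.v (nat_lit 3)) (.v (nat_lit 1)))), ((.mul (.v (nat_lit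 2)) (.v (nat_lit 4))), (.mul (.v (nat_lit 4)) (.v (nat_lit 2)))), ((.mul (.v (nat_lit 3)) (.v (nat_lit 4))), (.mul (.v (nat_lit 4)) (.v (nat_lit 3)))), ((.mul (.mul (.v (nat_lit 4)) (.v (nat_lit 1))) (.v (nat_lit 4))), (.mul (.v (nat_lit 1)) (.v (nat_lit 0)))), ((.mul (.mul (.v (nat_lit 3)) (.v (nat_lit 2))) (.v (nat_lit 3))), (.mul (.v (nat_lit 2)) (.v (nat_lit 0)))), ((.mul (.v (nat_lit 5)) (.v (nat_lit 1))), (.mul (.v (nat_lit 1)) (.v (nat_lit 5)))), ((.mul (.mul (.v (nat_lit 3)) (.v (nat_lit 5))) (.v (nat_lit 3))), (.mul (.v (nat_lit 5)) (.v (nat_lit 1)))), ((.mul (.v (nat_lit 5)) (.v (nat_lit 2))), (.mul (.v (nat_lit 2)) (.v (nat_lit 5)))), ((.mul (.mul (.v (nat_lit 4)) (.v (nat_lit 5))) (.v (nat_lit 4))), (.mul (.v (nat_lit 5)) (.v (nat_lit 2))))] from t)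
    (AllEq.append (show AllEq [z, u, v, a, b, r, y, s] [((.pw (.v (nat_lit 6)) (nat_lit 3)), .one), ((.mul (.v (nat_lit 6)) (.v (nat_lit 5))), (.mul (.v (nat_lit 5)) (.v (nat_lit 6)))), ((.mul (.v (nat_lit 6)) (.v (nat_lit 0))), (.mul (.v (nat_lit 0)) (.v (nat_lit 6)))), ((.mul (.mul (.v (nat_lit 6)) (.v (nat_lit 1))) (.inv (.v (nat_lit 6)))), (.v (nat_lit 2))), ((.mul (.mul (.v (nat_lit 6)) (.v (nat_lit 2))) (.inv (.v (nat_lit 6)))), (.mul (.mul (.v (nat_lit 0)) (.v (nat_lit 1))) (.v (nat_lit 2)))), ((.mul (.mul (.v (nat_lit 6)) (.v (nat_lit 3))) (.inv (.v (nat_lit 6)))), (.v (nat_lit 4))), ((.mul (.mul (.v (nat_lit 6)) (.v (nat_lit 4))) (.inv (.v (nat_lit 6)))), (.mul (.mul (.v (nat_lit 0)) (.v (nat_lit 3))) (.v (nat_lit 4))))] from n)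
    (AllEq.append (show AllEq [z, u, v, a, b, r, y, s] [((.mul (.v (nat_lit 7)) (.v (nat_lit 7))), .one), ((.mul (.mul (.v (nat_lit 7)) (.v (nat_lit 6))) (.v (nat_lit 7))), (.inv (.v (nat_lit 6)))), ((.mul (.mul (.v (nat_lit 7)) (.v (nat_lit 0))) (.v (nat_lit 7))), (.v (nat_lit 5))), ((.mul (.mul (.v (nat_lit 7)) (.mul (.mul (.mul (.v (nat_lit 0)) (.v (nat_lit 1))) (.v (nat_lit 2))) (.v (nat_lit 5)))) (.v (nat_lit 7))), (.mul (.mul (.mul (.v (nat_lit 0)) (.v (nat_lit 1))) (.v (nat_lit 2))) (.v (nat_lit 5)))), ((.mul (.mul (.v (nat_lit 7)) (.mul (.v (nat_lit 1)) (.v (nat_lit 5)))) (.v (nat_lit 7))), (.mul (.v (nat_lit 2)) (.v (nat_lit 5))))] from w)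
    (show AllEq [z, u, v, a, b, r, y, s] [((.pw (.mul (.mul (.v (nat_lit 7)) (.v (nat_lit 3))) (.v (nat_lit 4))) (nat_lit 3)), (.v (nat_lit 2)))] from ⟨e, trivial⟩))))
    [(.v (nat_lit 0)), (.v (nat_lit 1)), (.v (nat_lit 2)), (.v (nat_lit 3)), (.v (nat_lit 4)), (.v (nat_lit 5)), (.v (nat_lit 6)), (.inv (.v (nat_lit 6))), (.v (nat_lit 7))] (by decide +kernel)
noncomputable def sf3_0_S0 : List ℕ := [nat_lit 0xf00000b00000700c012, nat_lit 0x1700001300000200c014, nat_lit 0x1b000007000005008016, nat_lit 0x2300001f000005008018, nat_lit 0x2b00002700000500801a, nat_lit 0x3300002f00000500801c, nat_lit 0x3700001f00000100801e, nat_lit 0x3b000027000008008020, nat_lit 0x3f00001b00000700002000c024, nat_lit 0x43000002000030008026, nat_lit 0x4700002600002f00002000c028, nat_lit 0x4b00000700003000802a, nat_lit 0x4f00002e00002f00002800c02c, nat_lit 0x5700005300802e, nat_lit 0x5f00005b000018000006000035010030, nat_lit 0xb00000700003500003900005f016030, nat_lit 0x3d00000b00001c008014,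 nat_lit 0x6b00006700005300c034, nat_lit 0x6f00002f000045008036, nat_lit 0x7f00007b00007700007300005b00001800000600004500004901c038, nat_lit 0x7f00007b00007700007300004200203a, nat_lit 0x8700008300004b00000700004501003a, nat_lit 0x4e00004a00005500c014, nat_lit 0x9f00009b00009700009300008f00008b00001e00000700004502003c, nat_lit 0xa300001c000040004018, nat_lit 0x23000021000061000016, nat_lit 0xa700001e00001c00801a, nat_lit 0x1200000900006900c020, nat_lit 0xab00004b00001c00801c, nat_lit 0x73000042000071000026, nat_lit 0x5900005200007100c036, nat_lit 0xaf0000a300000c00801e, nat_lit 0xb300003d00000b00001d00c022, nat_lit 0xb700000b00004c008026, nat_lit 0x2600002d000085000012, nat_lit 0x760000ab00008500c014, nat_lit 0xbf0000bb00802e, nat_lit 0xc70000c300003f00001b000091010032, nat_lit 0x8b00001e0000910000950000c7016032, nat_lit 0x9900008b0000a8008018, nat_lit 0x620000c400009900001a, nat_lit 0xa1000065000064004020, nat_lit 0xa500008b0000a800006d010024, nat_lit 0xcf0000cb0000bb00c034,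 nat_lit 0x8300004b0000ad008036, nat_lit 0xdf0000db0000d70000d300005c00004200001b0000ad0000b101c038, nat_lit 0x550000870000b500c026, nat_lit 0x90000710000790000870000b500203a, nat_lit 0xdc0000e00000b900002a, nat_lit 0x160000be0000b90000c10000d701003a, nat_lit 0xe00000b900004600003000002500203a, nat_lit 0xc90000db0000d7008036, nat_lit 0xcd00008a00008d008016, nat_lit 0xf70000f30000ef0000eb0000e70000e30000270000080000ad02003c, nat_lit 0x9b00009700009300008f00008b00001e0000ad0000d50000f700003c, nat_lit 0x8f00008b00001e0000ad0000d50000f70000f30000ef0000eb00003c, nat_lit 0xf70000d90000a000c020, nat_lit 0xc200005d0000e10000d60000b1004024, nat_lit 0x870000e50000dc00000a, nat_lit 0x840000e50000d7000010, nat_lit 0x790000ea0000ca000010, nat_lit 0x860000ee0000c5000002, nat_lit 0x2d0000ee0000d2000004, nat_lit 0x440000f100007200000a]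
noncomputable def sf3_0_S1 : List ℕ := [nat_lit 0xf1000079000010, nat_lit 0xf5000086000002, nat_lit 0x150000f50000b700000a, nat_lit 0x300000fa00007300000a, nat_lit 0xfe00001b000000, nat_lit 0x1a0000fe000040000006, nat_lit 0xfe000069000008, nat_lit 0xfe000051000010, nat_lit 0x7e00010900000d000006, nat_lit 0x10900001500000a, nat_lit 0x1090000be000010, nat_lit 0x2700010e0000b4000008, nat_lit 0x116000022000004, nat_lit 0x1160000c4000008, nat_lit 0x1210000af000002, nat_lit 0x12100007e000006, nat_lit 0x12e000082000002, nat_lit 0x8b0001410000e400c01e, nat_lit 0x1450000a1000139000064004022, nat_lit 0x9900014600014a008014, nat_lit 0xfb00010500012500013d00c028, nat_lit 0x10f00010b0001070001030000ff00009e00011900000f00012a02003c, nat_lit 0xff000099000090000036, nat_lit 0x1460000e80000dd0001590000ff00a03a, nat_lit 0x8f00015e000100008036, nat_lit 0x16100008f00009a00014e0000a500015e00010000015a0000de004038, nat_lit 0xeb000165000161000094006022, nat_lit 0x1030001660000ec00016a00e022,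 nat_lit 0x9700016d00010800c018, nat_lit 0x10b00017100009c000036, nat_lit 0xf70000d900017500011000c02c, nat_lit 0x560000ba0001550001790000d6008028, nat_lit 0x5a00017e0000b1000000, nat_lit 0x10200017e0000ae000010, nat_lit 0x11e000182000083000010, nat_lit 0xa3000185000048000006, nat_lit 0x1a00018a0000fc000006, nat_lit 0x11900018a000050000008, nat_lit 0x18d000139000002, nat_lit 0x18d000065000004, nat_lit 0x18d0000a3000006, nat_lit 0x18d0000a2000008, nat_lit 0x19200015200000a, nat_lit 0x1950000a7000000, nat_lit 0x19500009d000006, nat_lit 0x195000119000008, nat_lit 0x11b00011700011300c034, nat_lit 0x11f00002a0001b9008036, nat_lit 0x12b0001270001230001aa00019d00019a0000230001b90001bd01c038, nat_lit 0x1270001230001aa00019d0001200001c101003a, nat_lit 0x1c60001c2000002, nat_lit 0x1c600012b000004, nat_lit 0x1c90001cd0001ca008012, nat_lit 0x11f00019a0001a90001240001280001cd00003a, nat_lit 0x1d60001ca000002, nat_lit 0x1bd0001d90001be008014, nat_lit 0x1bd0001d10001be008016,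 nat_lit 0x12f0001a90001320001b90001dd00c03a, nat_lit 0x1e60001dd0001e5000026, nat_lit 0x14300013f00013b0001370001330001b20001350001320001b902003c, nat_lit 0x15700015300014f00014b00014700008c0001a500019e00013002003c, nat_lit 0x1f20001e90001f100c01e, nat_lit 0x1ee0001e50001f10001f5000028, nat_lit 0x1470001ad000134000036]
noncomputable def sf3_0_S2 : List ℕ := [nat_lit 0x1470001410000310001340001fd00003a, nat_lit 0xa90000630001300001f100015700015300014f00014b00020100014702403c, nat_lit 0x2c0002060001ad000000, nat_lit 0xaa00020600008c000006, nat_lit 0x206000148000010, nat_lit 0x2800020a0001b6000008, nat_lit 0x6400020e0001a5000008, nat_lit 0x216000112000000, nat_lit 0x21a0001a2000006, nat_lit 0x12f00021a000120000010, nat_lit 0x2250001f1000006, nat_lit 0x22500012f000010, nat_lit 0x15300014f00014b0002110000a900006300022d00022a00015700003c, nat_lit 0x1440001fa00015700023100002c, nat_lit 0x23600023100023500802a, nat_lit 0x14300023900014400c020, nat_lit 0x2290001be0001e10001ed00023d00c024,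 nat_lit 0x1ed000241000229000006, nat_lit 0x1b900024600022e000010, nat_lit 0x2000024a000222000006, nat_lit 0x24e00021d000000]
noncomputable def sf3_0_S : List (List ℕ) := [sf3_0_S0, sf3_0_S1, sf3_0_S2]
noncomputable def sf3_0_defs : List ℕ := [(nat_lit 0x800030003000120040003c0080003b0030003a00400039008000380030000900200036005000350080003400500004006000320080002e007000300040000f0060002e00600001005000020040001600100028000000120000000e0030000100400026008000250030002400400023008000220030000e00500020008000120020001e0050001d0080001c005000160080000b00600019008000140040000800700016002000040060001400600000004000120050000100300010005000030030000600200009001000070000000b005000000000000900400000000000070030000000000001001000040000000300200002001000010020000000000000),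
  (nat_lit 0x4000540080005300300052004000510080000e0040004f0080004e0030004d0040004c008000130080000800200049005000480080000d008000110060004500800044006000070040004200800041003000400040003f)]
noncomputable def sf3_0_recs : List ℕ := [(nat_lit 0xff0000600003ff0001c0000bff0000c0002dff000100002aff0003400012ff0003600021ff000200003502000270003d020003900023020003c0002603000330003d020001c0003400000340001008000100003601000340000c020001a0003508000370000505000370001a010002000037000003300020080000100033030000a00018020001800022040002200028030002900030000003000022040002f0003106000010002f000002d0001c020002d0001001000120002d010000e0002c03000020002b080002a00021010002a0001c05000060002a02000290000a040000600029020002800008000000f00028030001a0002700000210001f010001a0002108000060001f010001b0001f000001a0001b08000000001a010000600016000001600002020001500017060000000015050000900013020000b00012050000700011010000b0001002000070000f04000010000e03000030000d05000050000c04000050000a030000500008020000500006000000000005010000000003),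
  (nat_lit 0x50004c00051050005500050010005500055030004b00055030004600050010004b0004b05000460004b020004600046010004600046010004700047ff0004900047020004700047020004900049010004700049ff0004a0004901000470004a000004600047080000700046040000300013030003000013000000e0001305000080000d040002200011030000100011020000800011010000800011ff0001300029ff0003e0000dff0001100028ff0001200003ff0000100010ff000200001fff000330002105000430003d05000260004200000410002500000240004001000240003a01000390003f000003f0002305000300002205000230003f03000370004305000080003e010001800030000001800038010003800022010000e0000903000020000801000280000804000300000d02000070000dff0002c00009080003700002050000c00002ff000080002b080001f00003040002900003ff0000f0000d000000100003ff0001600000ff000020000501000120000c080002100010),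
  (nat_lit 0xff0000100000ff0000800007ff0004700046ff0005000055020005000050020004f0004f05000540004f020005400054080000800047030005500047ff000470004b030000100008000000100000ff0001100008ff000030000008000510000aff0002200018ff0001300009ff0000e0000a020005100051)]
noncomputable def sf3_0_T : List (List ℕ × ℕ) := [([0], (nat_lit 0x251))]
noncomputable def sf3_0_D : H26.Dag := ⟨[0,1,2,3,4,5,7,6,8], [[0,0],
  [1,1],
  [2,2],
  [3,3],
  [4,4],
  [5,5],
  [6,7],
  [7,6],
  [8,8],
  [2,1,2,1],
  [1,0,1,0],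
  [2,0,2,0],
  [3,0,3,0],
  [4,0,4,0],
  [5,0,5,0],
  [3,1,3,1],
  [4,2,4,2],
  [1,0,4,1,4],
  [2,0,3,2,3],
  [1,5,1,5],
  [5,1,3,5,3],
  [2,5,2,5],
  [5,2,4,5,4],
  [6,6,6],
  [0,1,2,7,2,6],
  [0,3,4,7,4,6],
  [6,8,6,8],
  [5,8,0,8],
  [0,1,2,5,8,5,2,1,0,8],
  [2,5,8,5,1,8],
  [2,4,3,8,4,3,8,4,3,8]], [], sf3_0_defs, sf3_0_recs⟩
theorem sf3_0_c : sf3_0_D.check sf3_0_S sf3_0_T = true := by decide +kernel
theorem sf3_0 {G : Type*} [Group G] {g : ℕ → G} (hR : Rels g sf3_r_R) {H : Subgroup G}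
    (hH : ∀ k ∈ [], g k ∈ H) : evA g [0] ∈ H :=
  mem_dag (K := 9) (J := [0,1,2,3,4,5,6,7,8,9,10,11,12,13,14,15,16,18,19,20,21,22,23,24,28,30,31,32,33,34,35]) (D := sf3_0_D) (by decide +kernel) sf3_0_c (by decide +kernel) hR hH
theorem sf3 {G : Type*} [Group G] {z u v a b r y s : G}
    (t : TA z u v a b r)
    (n : NY z u v a b r y)
    (w : RS0 z u v r y s)
    (e : (s * a * b) ^ 3 = v) :
    z = 1 :=
  mul_inv_eq_one.1 ((evA_eq_tm ((InvI.cons t.1 (InvI.cons t.2.1 (InvI.cons t.2.2.1 (InvI.cons t.2.2.2.1 (InvI.cons t.2.2.2.2.1 (InvI.cons t.2.2.2.2.2.1 (InvI.cons w.1 InvI.nil))))))) : InvI [z, u, v, a, b, r, y, s] [(nat_lit 0), (nat_lit 1), (nat_lit 2), (nat_lit 3), (nat_lit 4), (nat_lit 5), (nat_lit 7)]) [(.v (nat_lit 0)), (.v (nat_lit 1)), (.v (nat_lit 2)), (.v (nat_lit 3)), (.v (nat_lit 4)), (.v (nat_lit 5)), (.v (nat_lit 6)), (.inv (.v (nat_lit 6))), (.v (nat_lit 7))] [0] (.mul (.v (nat_lit 0)) (.inv .one)) (by decide +kernel)).symm.trans (Subgroup.mem_bot.1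 (sf3_0 (sf3_r t n w e) (H := ⊥) (List.forall_mem_nil _))))
noncomputable def sf4_r_R : List (List ℕ) := [[0,0],
  [1,1],
  [2,2],
  [3,3],
  [4,4],
  [5,5],
  [6,7],
  [7,6],
  [8,8],
  [2,1,2,1],
  [1,0,1,0],
  [2,0,2,0],
  [3,0,3,0],
  [4,0,4,0],
  [5,0,5,0],
  [3,1,3,1],
  [4,2,4,2],
  [4,3,4,3],
  [1,0,4,1,4],
  [2,0,3,2,3],
  [1,5,1,5],
  [5,1,3,5,3],
  [2,5,2,5],
  [5,2,4,5,4],
  [6,6,6],
  [5,7,5,6],
  [0,7,0,6],
  [2,7,1,6],
  [0,1,2,7,2,6],
  [4,7,3,6],
  [0,3,4,7,4,6],
  [6,8,6,8],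
  [5,8,0,8],
  [0,1,2,5,8,5,2,1,0,8],
  [2,5,8,5,1,8],
  [5,4,3,8,4,3,8,4,3,8]]
theorem sf4_r {G : Type*} [Group G] {z u v a b r y s : G}
    (t : TA z u v a b r)
    (n : NY z u v a b r y)
    (w : RS0 z u v r y s)
    (e : (s * a * b) ^ 3 = r) :
    Rels (nthG [z, u, v, a, b, r, y, y⁻¹, s]) sf4_r_R :=
  rels_of_eqs ((InvI.cons t.1 (InvI.cons t.2.1 (InvI.cons t.2.2.1 (InvI.cons t.2.2.2.1 (InvI.cons t.2.2.2.2.1 (InvI.cons t.2.2.2.2.2.1 (InvI.cons w.1 InvI.nil))))))) : InvI [z, u, v, a, b, r, y, s] [(nat_lit 0), (nat_lit 1), (nat_lit 2), (nat_lit 3), (nat_lit 4), (nat_lit 5), (nat_lit 7)])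
    (AllEq.append (show AllEq [z, u, v, a, b, r, y, s] [((.mul (.v (nat_lit 0)) (.v (nat_lit 0))), .one), ((.mul (.v (nat_lit 1)) (.v (nat_lit 1))), .one), ((.mul (.v (nat_lit 2)) (.v (nat_lit 2))), .one), ((.mul (.v (nat_lit 3)) (.v (nat_lit 3))), .one), ((.mul (.v (nat_lit 4)) (.v (nat_lit 4))), .one), ((.mul (.v (nat_lit 5)) (.v (nat_lit 5))), .one), ((.mul (.v (nat_lit 1)) (.v (nat_lit 2))), (.mul (.v (nat_lit 2)) (.v (nat_lit 1)))), ((.mul (.v (nat_lit 0)) (.v (nat_lit 1))), (.mul (.v (nat_lit 1)) (.v (nat_lit 0)))), ((.mul (.v (nat_lit 0)) (.v (nat_lit 2))), (.mul (.v (nat_lit 2)) (.v (nat_lit 0)))), ((.mul (.v (nat_lit 0)) (.v (nat_lit 3))), (.mul (.v (nat_lit 3)) (.v (nat_lit 0)))), ((.mul (.v (nat_lit 0)) (.v (nat_lit 4))), (.mul (.v (nat_lit 4)) (.v (nat_lit 0)))), ((.mul (.v (nat_lit 0)) (.v (nat_lit 5))), (.mul (.v (nat_lit 5)) (.v (nat_lit 0)))), ((.mul (.v (nat_lit 1)) (.v (nat_lit 3))), (.mul (.v (nat_lit 3)) (.v (nat_lit 1)))), ((.mul (.v (nat_lit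 2)) (.v (nat_lit 4))), (.mul (.v (nat_lit 4)) (.v (nat_lit 2)))), ((.mul (.v (nat_lit 3)) (.v (nat_lit 4))), (.mul (.v (nat_lit 4)) (.v (nat_lit 3)))), ((.mul (.mul (.v (nat_lit 4)) (.v (nat_lit 1))) (.v (nat_lit 4))), (.mul (.v (nat_lit 1)) (.v (nat_lit 0)))), ((.mul (.mul (.v (nat_lit 3)) (.v (nat_lit 2))) (.v (nat_lit 3))), (.mul (.v (nat_lit 2)) (.v (nat_lit 0)))), ((.mul (.v (nat_lit 5)) (.v (nat_lit 1))), (.mul (.v (nat_lit 1)) (.v (nat_lit 5)))), ((.mul (.mul (.v (nat_lit 3)) (.v (nat_lit 5))) (.v (nat_lit 3))), (.mul (.v (nat_lit 5)) (.v (nat_lit 1)))), ((.mul (.v (nat_lit 5)) (.v (nat_lit 2))), (.mul (.v (nat_lit 2)) (.v (nat_lit 5)))), ((.mul (.mul (.v (nat_lit 4)) (.v (nat_lit 5))) (.v (nat_lit 4))), (.mul (.v (nat_lit 5)) (.v (nat_lit 2))))] from t)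
    (AllEq.append (show AllEq [z, u, v, a, b, r, y, s] [((.pw (.v (nat_lit 6)) (nat_lit 3)), .one), ((.mul (.v (nat_lit 6)) (.v (nat_lit 5))), (.mul (.v (nat_lit 5)) (.v (nat_lit 6)))), ((.mul (.v (nat_lit 6)) (.v (nat_lit 0))), (.mul (.v (nat_lit 0)) (.v (nat_lit 6)))), ((.mul (.mul (.v (nat_lit 6)) (.v (nat_lit 1))) (.inv (.v (nat_lit 6)))), (.v (nat_lit 2))), ((.mul (.mul (.v (nat_lit 6)) (.v (nat_lit 2))) (.inv (.v (nat_lit 6)))), (.mul (.mul (.v (nat_lit 0)) (.v (nat_lit 1))) (.v (nat_lit 2)))), ((.mul (.mul (.v (nat_lit 6)) (.v (nat_lit 3))) (.inv (.v (nat_lit 6)))), (.v (nat_lit 4))), ((.mul (.mul (.v (nat_lit 6)) (.v (nat_lit 4))) (.inv (.v (nat_lit 6)))), (.mul (.mul (.v (nat_lit 0)) (.v (nat_lit 3))) (.v (nat_lit 4))))] from n)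
    (AllEq.append (show AllEq [z, u, v, a, b, r, y, s] [((.mul (.v (nat_lit 7)) (.v (nat_lit 7))), .one), ((.mul (.mul (.v (nat_lit 7)) (.v (nat_lit 6))) (.v (nat_lit 7))), (.inv (.v (nat_lit 6)))), ((.mul (.mul (.v (nat_lit 7)) (.v (nat_lit 0))) (.v (nat_lit 7))), (.v (nat_lit 5))), ((.mul (.mul (.v (nat_lit 7)) (.mul (.mul (.mul (.v (nat_lit 0)) (.v (nat_lit 1))) (.v (nat_lit 2))) (.v (nat_lit 5)))) (.v (nat_lit 7))), (.mul (.mul (.mul (.v (nat_lit 0)) (.v (nat_lit 1))) (.v (nat_lit 2))) (.v (nat_lit 5)))), ((.mul (.mul (.v (nat_lit 7)) (.mul (.v (nat_lit 1)) (.v (nat_lit 5)))) (.v (nat_lit 7))), (.mul (.v (nat_lit 2)) (.v (nat_lit 5))))] from w)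
    (show AllEq [z, u, v, a, b, r, y, s] [((.pw (.mul (.mul (.v (nat_lit 7)) (.v (nat_lit 3))) (.v (nat_lit 4))) (nat_lit 3)), (.v (nat_lit 5)))] from ⟨e, trivial⟩))))
    [(.v (nat_lit 0)), (.v (nat_lit 1)), (.v (nat_lit 2)), (.v (nat_lit 3)), (.v (nat_lit 4)), (.v (nat_lit 5)), (.v (nat_lit 6)), (.inv (.v (nat_lit 6))), (.v (nat_lit 7))] (by decide +kernel)
noncomputable def sf4_0_S0 : List ℕ := [nat_lit 0x2300000700000c004014, nat_lit 0x27000007000010004016, nat_lit 0x2b000007000014004018, nat_lit 0x2f00000700001800401a, nat_lit 0x3300000700001c00401c, nat_lit 0x37000007000020000038, nat_lit 0x3b00000b000010004012, nat_lit 0x3f00000b00001400401e, nat_lit 0x4700000b00001c008028, nat_lit 0x4f00000500002700002c00c026, nat_lit 0x5f000009000025004016, nat_lit 0x5f000013000008000028010026, nat_lit 0x63000013000018004022, nat_lit 0x6700001300000c00004801002a, nat_lit 0x7300001700001000005801002e, nat_lit 0x7b00002100003500401e, nat_lit 0x8f000023000034008028, nat_lit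 0x9300000200004c000038, nat_lit 0x9700000600005400401a, nat_lit 0x9b00002700003400802c, nat_lit 0x9f00000600005c000038, nat_lit 0xa300000a00006400401a, nat_lit 0xa300002b000030004022, nat_lit 0xa700000a00006800401c, nat_lit 0xa700002b00002400009001002a, nat_lit 0xab00000a00006c000038, nat_lit 0xaf00000e000078000038, nat_lit 0xb300001200007c004018, nat_lit 0xb300004100006100401e, nat_lit 0xb700004100008f00009400004600003c, nat_lit 0xb700004d00009b0000a000005200603c, nat_lit 0xbb00001a000058008028, nat_lit 0xbb00003b00004800802c, nat_lit 0xbf00001e000060004012, nat_lit 0xbf00003f00000100008c010026, nat_lit 0xc300003f000044004022, nat_lit 0xcb00007500007a008012, nat_lit 0xcf00004f000054004022, nat_lit 0xd30000260000a800802c, nat_lit 0xd300004f0000190000bc01002a, nat_lit 0xe700002a0000d000401a, nat_lit 0xe700002e000098004022, nat_lit 0xeb00005f00006800802c, nat_lit 0xef00002a0000d8000038, nat_lit 0xf300003200007000801e, nat_lit 0xff00006700006c008038, nat_lit 0xff0000a90000eb0000f00000ae00603c,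 nat_lit 0x1030000b50000ba004014, nat_lit 0x1070000650000ab0000a800007100203c, nat_lit 0x10f00006f000074008028, nat_lit 0x10f0000b10000f30000f801002a, nat_lit 0x1130000c50000ca00401e, nat_lit 0x11300003a0000e0008022, nat_lit 0x11f00007b000080004022, nat_lit 0x123000083000088004022, nat_lit 0x12700008b00009000802c, nat_lit 0x1270000890000860000ec01002a, nat_lit 0xcb0000450000930000900000dd01403c, nat_lit 0x12b0000460000cc004028, nat_lit 0x12b00004600004b00004800008101403c, nat_lit 0x12f00004a0000dc000038, nat_lit 0x1330000a30000250000d401002e, nat_lit 0x1370000560000fc000038, nat_lit 0x13b00005e00003d00012000c024]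
noncomputable def sf4_0_S1 : List ℕ := [nat_lit 0x13b0000990000d30000d000c02e, nat_lit 0x14b00006e00012000401a, nat_lit 0x15b0000bd00010300010c00c024, nat_lit 0x15f0000e30000910000e901002e, nat_lit 0x1630000a2000158000038, nat_lit 0x16700010700006500014400c02e, nat_lit 0x16b0000ce0000f70000fc0000f900003c, nat_lit 0x16f00011700011c004022, nat_lit 0x1730000fd00010200015800011100003c, nat_lit 0x17b0001370000a300002b0000380000160000880000d900017801603e, nat_lit 0x10e0000ee00009d0000f500013300013800017c0001260001770000da01403e, nat_lit 0x8800012900010e000008, nat_lit 0x1600012e0000ea00000a, nat_lit 0x2000012e0000ee000010, nat_lit 0x380001320000e6000010, nat_lit 0xb00013600007e000002, nat_lit 0x2b00013a0000e2000006, nat_lit 0x3f00013e0000e0000006, nat_lit 0x1420000eb00000a, nat_lit 0xc30001460000d1000008, nat_lit 0x14f00014e00016c000010, nat_lit 0x15200011a000004, nat_lit 0x17f00017c000126004022, nat_lit 0x1730000d600007f00001b00002000008400012400017800015900017f01003e,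 nat_lit 0x15600015d000122000004, nat_lit 0x13800015d000173000010, nat_lit 0x150000162000163000010, nat_lit 0x55000166000105000000, nat_lit 0x8d00016a0000a6000006, nat_lit 0xc400016a0000e7000008, nat_lit 0x6400016e00014b000008, nat_lit 0xc7000172000130000010, nat_lit 0x17600014900000a, nat_lit 0x6b00017a0000c1000010, nat_lit 0x17e0000f200000a, nat_lit 0x10b000186000168000008, nat_lit 0x18e00011600000a, nat_lit 0x18300013f000144004022, nat_lit 0x18300013f0000ab0000a400005a0000b000006a00011c00011d01a03e, nat_lit 0x1530000c700008d0000c30001820000ac00014000018400019a00011e01403e, nat_lit 0x11c00019d000153000008, nat_lit 0x6a0001a200018a00000a, nat_lit 0xb00001a60000db000010, nat_lit 0x5a0001aa000095000006, nat_lit 0xa40001ae0000cf000008, nat_lit 0xab0001b20000d8000010, nat_lit 0x1430001b600015c000008, nat_lit 0x1ba00010a000002, nat_lit 0x1960001910001bd00019500602a, nat_lit 0x1470000af0000590000a30000ac0001400001840001c100019a00011e02003e, nat_lit 0x11c0001c5000147000008,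 nat_lit 0x780001ca0000af000010, nat_lit 0x180001ce00002f000008, nat_lit 0x1d2000007000000]
noncomputable def sf4_0_S : List (List ℕ) := [sf4_0_S0, sf4_0_S1]
noncomputable def sf4_0_defs : List ℕ := [(nat_lit 0x80001900800018005000180010001800800017005000170040001700400016003000150080001400800013005000130040001300100012008000100040000f0020000f0050000e0080000c0030000c0080000b0080000a0050000a0040000a00800009005000090040000900800008005000080020000800400007003000070040000600300006008000050050000500100005008000040050000400400004002000040080000300500003004000030030000300800002005000020040000200300002002000020080000100500001004000010030000100200001001000010080000000500000004000000030000000200000001000000000000000000000),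
  (nat_lit 0x40004f0040004d0030004d00800048008000470040004500800044004000410080003900500038004000350080003300400031008000300040002c0040002b0040002a0030002a004000290080002800500028008000250010002400500022004000200040001e0040001d0030001d0030001c0050001b0040001a0020001a0010001a)]
noncomputable def sf4_0_recs : List ℕ := [(nat_lit 0x1000470004e050003e0004d04000340004c05000360004b080002e0004a05000320004a080004900032030003a00049020002300049030002100048030001f00047040003700044010003d00044030003d00043010001c00043080002c0004100000350004001000350003f000001a0003f030001b0003c05000350003b02000190003a030002500039000003300039030002e0003402000290003403000140003302000160003203000100003003000220002f01000170002f02000110002e01000150002e01000160002d02000120002d01000290002c000001e0002c050001d0002b050001a0002a030002300029000001900029030000b00028000001800028050001600027020000c00026000001400025050001200024010000c0002301000190001e04000150001c030001100019030000500018030000900017000001300017020000a0001301000060001101000040000f01000030000e05000070000d00000060000c00000050000b00000040000a000000300009000000200008),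
  (nat_lit 0xff0000100000ff0000b00005ff0002b0001dff0004600051050006000060010004200050ff0005600050ff000350002aff000130000aff0003300028ff000140000bff000360002bff000310001dff0004600054080005b00060030005000060050005000042ff0005900042050003600031ff000410001a050000a0000fff0004b00031ff0002c00004ff000170000fff0002500010ff0005200018ff0003900030ff0004700028ff0005800053ff0004d0005c030005d0005f020004d00053ff0005a00053ff000440003005000170000aff000370000fff0003a0000aff0001500002ff0004900001ff0002e00000ff000320000dff0004a00007ff0002100057040005d0005e02000580005c03000460005b020004d0005a050005000059050005500058040004a0005701000420005600000470005205000330004e)]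
noncomputable def sf4_0_T : List (List ℕ × ℕ) := [([0], (nat_lit 0x1d5))]
noncomputable def sf4_0_D : H26.Dag := ⟨[0,1,2,3,4,5,7,6,8], [[0,0],
  [1,1],
  [2,2],
  [3,3],
  [4,4],
  [5,5],
  [6,7],
  [7,6],
  [8,8],
  [2,1,2,1],
  [1,0,1,0],
  [2,0,2,0],
  [3,0,3,0],
  [4,0,4,0],
  [5,0,5,0],
  [3,1,3,1],
  [4,2,4,2],
  [4,3,4,3],
  [1,0,4,1,4],
  [2,0,3,2,3],
  [1,5,1,5],
  [5,1,3,5,3],
  [2,5,2,5],
  [5,2,4,5,4],
  [6,6,6],
  [0,1,2,7,2,6],
  [0,3,4,7,4,6],
  [6,8,6,8],
  [5,8,0,8],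
  [0,1,2,5,8,5,2,1,0,8],
  [2,5,8,5,1,8],
  [5,4,3,8,4,3,8,4,3,8]], [], sf4_0_defs, sf4_0_recs⟩
theorem sf4_0_c : sf4_0_D.check sf4_0_S sf4_0_T = true := by decide +kernel
theorem sf4_0 {G : Type*} [Group G] {g : ℕ → G} (hR : Rels g sf4_r_R) {H : Subgroup G}
    (hH : ∀ k ∈ [], g k ∈ H) : evA g [0] ∈ H :=
  mem_dag (K := 9) (J := [0,1,2,3,4,5,6,7,8,9,10,11,12,13,14,15,16,17,18,19,20,21,22,23,24,28,30,31,32,33,34,35]) (D := sf4_0_D) (by decide +kernel) sf4_0_c (by decide +kernel) hR hH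
theorem sf4 {G : Type*} [Group G] {z u v a b r y s : G}
    (t : TA z u v a b r)
    (n : NY z u v a b r y)
    (w : RS0 z u v r y s)
    (e : (s * a * b) ^ 3 = r) :
    z = 1 :=
  mul_inv_eq_one.1 ((evA_eq_tm ((InvI.cons t.1 (InvI.cons t.2.1 (InvI.cons t.2.2.1 (InvI.cons t.2.2.2.1 (InvI.cons t.2.2.2.2.1 (InvI.cons t.2.2.2.2.2.1 (InvI.cons w.1 InvI.nil))))))) : InvI [z, u, v, a, b, r, y, s] [(nat_lit 0), (nat_lit 1), (nat_lit 2), (nat_lit 3), (nat_lit 4), (nat_lit 5), (nat_lit 7)]) [(.v (nat_lit 0)), (.v (nat_lit 1)), (.v (nat_lit 2)), (.v (nat_lit 3)), (.v (nat_lit 4)), (.v (nat_lit 5)), (.v (nat_lit 6)), (.inv (.v (nat_lit 6))), (.v (nat_lit 7))] [0] (.mul (.v (nat_lit 0)) (.inv .one)) (by decide +kernel)).symm.trans (Subgroup.mem_bot.1 (sf4_0 (sf4_r t n w e) (H := ⊥) (List.forall_mem_nil _))))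
noncomputable def sf5_r_R : List (List ℕ) := [[0,0],
  [1,1],
  [2,2],
  [3,3],
  [4,4],
  [5,5],
  [6,7],
  [7,6],
  [8,8],
  [2,1,2,1],
  [1,0,1,0],
  [2,0,2,0],
  [3,0,3,0],
  [4,0,4,0],
  [5,0,5,0],
  [3,1,3,1],
  [4,2,4,2],
  [4,3,4,3],
  [1,0,4,1,4],
  [2,0,3,2,3],
  [1,5,1,5],
  [5,1,3,5,3],
  [2,5,2,5],
  [5,2,4,5,4],
  [6,6,6],
  [5,7,5,6],
  [0,7,0,6],
  [2,7,1,6],
  [0,1,2,7,2,6],
  [4,7,3,6],
  [0,3,4,7,4,6],
  [6,8,6,8],
  [5,8,0,8],
  [0,1,2,5,8,5,2,1,0,8],
  [2,5,8,5,1,8],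
  [0,1,4,3,8,4,3,8,4,3,8]]
theorem sf5_r {G : Type*} [Group G] {z u v a b r y s : G}
    (t : TA z u v a b r)
    (n : NY z u v a b r y)
    (w : RS0 z u v r y s)
    (e : (s * a * b) ^ 3 = z * u) :
    Rels (nthG [z, u, v, a, b, r, y, y⁻¹, s]) sf5_r_R :=
  rels_of_eqs ((InvI.cons t.1 (InvI.cons t.2.1 (InvI.cons t.2.2.1 (InvI.cons t.2.2.2.1 (InvI.cons t.2.2.2.2.1 (InvI.cons t.2.2.2.2.2.1 (InvI.cons w.1 InvI.nil))))))) : InvI [z, u, v, a, b, r, y, s] [(nat_lit 0), (nat_lit 1), (nat_lit 2), (nat_lit 3), (nat_lit 4), (nat_lit 5), (nat_lit 7)])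
    (AllEq.append (show AllEq [z, u, v, a, b, r, y, s] [((.mul (.v (nat_lit 0)) (.v (nat_lit 0))), .one), ((.mul (.v (nat_lit 1)) (.v (nat_lit 1))), .one), ((.mul (.v (nat_lit 2)) (.v (nat_lit 2))), .one), ((.mul (.v (nat_lit 3)) (.v (nat_lit 3))), .one), ((.mul (.v (nat_lit 4)) (.v (nat_lit 4))), .one), ((.mul (.v (nat_lit 5)) (.v (nat_lit 5))), .one), ((.mul (.v (nat_lit 1)) (.v (nat_lit 2))), (.mul (.v (nat_lit 2)) (.v (nat_lit 1)))), ((.mul (.v (nat_lit 0)) (.v (nat_lit 1))), (.mul (.v (nat_lit 1)) (.v (nat_lit 0)))), ((.mul (.v (nat_lit 0)) (.v (nat_lit 2))), (.mul (.v (nat_lit 2)) (.v (nat_lit 0)))), ((.mul (.v (nat_lit 0)) (.v (nat_lit 3))), (.mul (.v (nat_lit 3)) (.v (nat_lit 0)))), ((.mul (.v (nat_lit 0)) (.v (nat_lit 4))), (.mul (.v (nat_lit 4)) (.v (nat_lit 0)))), ((.mul (.v (nat_lit 0)) (.v (nat_lit 5))), (.mul (.v (nat_lit 5)) (.v (nat_lit 0)))), ((.mul (.v (nat_lit 1)) (.v (nat_lit 3))), (.mul (.v (nat_lit 3)) (.v (nat_lit 1)))), ((.mul (.v (nat_lit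 2)) (.v (nat_lit 4))), (.mul (.v (nat_lit 4)) (.v (nat_lit 2)))), ((.mul (.v (nat_lit 3)) (.v (nat_lit 4))), (.mul (.v (nat_lit 4)) (.v (nat_lit 3)))), ((.mul (.mul (.v (nat_lit 4)) (.v (nat_lit 1))) (.v (nat_lit 4))), (.mul (.v (nat_lit 1)) (.v (nat_lit 0)))), ((.mul (.mul (.v (nat_lit 3)) (.v (nat_lit 2))) (.v (nat_lit 3))), (.mul (.v (nat_lit 2)) (.v (nat_lit 0)))), ((.mul (.v (nat_lit 5)) (.v (nat_lit 1))), (.mul (.v (nat_lit 1)) (.v (nat_lit 5)))), ((.mul (.mul (.v (nat_lit 3)) (.v (nat_lit 5))) (.v (nat_lit 3))), (.mul (.v (nat_lit 5)) (.v (nat_lit 1)))), ((.mul (.v (nat_lit 5)) (.v (nat_lit 2))), (.mul (.v (nat_lit 2)) (.v (nat_lit 5)))), ((.mul (.mul (.v (nat_lit 4)) (.v (nat_lit 5))) (.v (nat_lit 4))), (.mul (.v (nat_lit 5)) (.v (nat_lit 2))))] from t)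
    (AllEq.append (show AllEq [z, u, v, a, b, r, y, s] [((.pw (.v (nat_lit 6)) (nat_lit 3)), .one), ((.mul (.v (nat_lit 6)) (.v (nat_lit 5))), (.mul (.v (nat_lit 5)) (.v (nat_lit 6)))), ((.mul (.v (nat_lit 6)) (.v (nat_lit 0))), (.mul (.v (nat_lit 0)) (.v (nat_lit 6)))), ((.mul (.mul (.v (nat_lit 6)) (.v (nat_lit 1))) (.inv (.v (nat_lit 6)))), (.v (nat_lit 2))), ((.mul (.mul (.v (nat_lit 6)) (.v (nat_lit 2))) (.inv (.v (nat_lit 6)))), (.mul (.mul (.v (nat_lit 0)) (.v (nat_lit 1))) (.v (nat_lit 2)))), ((.mul (.mul (.v (nat_lit 6)) (.v (nat_lit 3))) (.inv (.v (nat_lit 6)))), (.v (nat_lit 4))), ((.mul (.mul (.v (nat_lit 6)) (.v (nat_lit 4))) (.inv (.v (nat_lit 6)))), (.mul (.mul (.v (nat_lit 0)) (.v (nat_lit 3))) (.v (nat_lit 4))))] from n)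
    (AllEq.append (show AllEq [z, u, v, a, b, r, y, s] [((.mul (.v (nat_lit 7)) (.v (nat_lit 7))), .one), ((.mul (.mul (.v (nat_lit 7)) (.v (nat_lit 6))) (.v (nat_lit 7))), (.inv (.v (nat_lit 6)))), ((.mul (.mul (.v (nat_lit 7)) (.v (nat_lit 0))) (.v (nat_lit 7))), (.v (nat_lit 5))), ((.mul (.mul (.v (nat_lit 7)) (.mul (.mul (.mul (.v (nat_lit 0)) (.v (nat_lit 1))) (.v (nat_lit 2))) (.v (nat_lit 5)))) (.v (nat_lit 7))), (.mul (.mul (.mul (.v (nat_lit 0)) (.v (nat_lit 1))) (.v (nat_lit 2))) (.v (nat_lit 5)))), ((.mul (.mul (.v (nat_lit 7)) (.mul (.v (nat_lit 1)) (.v (nat_lit 5)))) (.v (nat_lit 7))), (.mul (.v (nat_lit 2)) (.v (nat_lit 5))))] from w)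
    (show AllEq [z, u, v, a, b, r, y, s] [((.pw (.mul (.mul (.v (nat_lit 7)) (.v (nat_lit 3))) (.v (nat_lit 4))) (nat_lit 3)), (.mul (.v (nat_lit 0)) (.v (nat_lit 1))))] from ⟨e, trivial⟩))))
    [(.v (nat_lit 0)), (.v (nat_lit 1)), (.v (nat_lit 2)), (.v (nat_lit 3)), (.v (nat_lit 4)), (.v (nat_lit 5)), (.v (nat_lit 6)), (.inv (.v (nat_lit 6))), (.v (nat_lit 7))] (by decide +kernel)
noncomputable def sf5_0_S0 : List ℕ := [nat_lit 0x1f00000700000c004014, nat_lit 0x23000007000010004016, nat_lit 0x27000007000014004018, nat_lit 0x3300000700001c000038, nat_lit 0x3700000b000010004012, nat_lit 0x3f00000500002300002800c026, nat_lit 0x43000009000015004016, nat_lit 0x43000013000008000024010026, nat_lit 0x47000013000018004022, nat_lit 0x5b000002000038004016, nat_lit 0x5f00000200003c004018, nat_lit 0x5f00001f00002800401e, nat_lit 0x6300002300003000802c, nat_lit 0x4f00000d00003300003000003101403c, nat_lit 0x67000064000035008038, nat_lit 0x6b00000a00004800401a, nat_lit 0x6b00002700002c004022,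 nat_lit 0x6f00001200004000401e, nat_lit 0x6f00002500005b00006000c026, nat_lit 0x73000029000049004016, nat_lit 0x7700002900002e00006c00c024, nat_lit 0x7f00001a00007c00401a, nat_lit 0x7f000043000048004020, nat_lit 0x8300004300004c00802c, nat_lit 0x8700003d000051004014, nat_lit 0x8b00004700004400008401002e, nat_lit 0x9300005d000065004020, nat_lit 0x9300005d00008300008000c02e, nat_lit 0x97000053000058004022, nat_lit 0x9b000073000078004020, nat_lit 0x9b00004e00004600007c00c024, nat_lit 0xa70000560000a4000038, nat_lit 0xab00008b000090008038, nat_lit 0xab00006900006e0000a800007e00603c, nat_lit 0xb300009f00006100008700004700001300001c0000580000710000b000a03e, nat_lit 0xa700007f00001e00006800003a00004f0000580000710000b00000890000b301203e, nat_lit 0xa000008d0000a7000010, nat_lit 0x7600009200005a000004, nat_lit 0x9500007a000002, nat_lit 0xb70000b400008a004022, nat_lit 0x8500008200008f00002200001700001c0000540000980000b000009d0000b700803e, nat_lit 0xa00000a10000a3000010,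 nat_lit 0x510000a6000099000002, nat_lit 0x210000a9000042000006, nat_lit 0x180000ae00002b000008, nat_lit 0xb2000007000000]
noncomputable def sf5_0_S : List (List ℕ) := [sf5_0_S0]
noncomputable def sf5_0_defs : List ℕ := [(nat_lit 0x4000270030002700800025008000220080001f0080001e0080001d0040001c004000140040001200800011005000110010001100500010004000100040000f0040000e0020000e0030000d004000090080000800500008003000070020000700400006003000060010000600500004004000040020000400300003003000020020000200800001005000010040000100300001002000010010000100800000004000000030000000200000001000000000000000000000)]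
noncomputable def sf5_0_recs : List ℕ := [(nat_lit 0xff0000100000ff0000a00005ff000110001aff0001e0001dff0002700028030002b0002d010001e00011ff0001100026ff0001f0001dff0002700029040002b0002c01000280002a00000230002a050002800029010001e00026020001d00026030001500025050001f00024020002200024040002000022000001d0002102000120002002000110001f000001e0001f010001a0001d000001b0001c02000170001b010000f0001b030000a0001a00000110001a000001300019080001800013020000b00018010000900017000000e00017000000d00016030000500011030000800010000000f0001002000090000f01000030000d05000060000c000000400009000000300008000000200007)]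
noncomputable def sf5_0_T : List (List ℕ × ℕ) := [([0], (nat_lit 0xb5))]
noncomputable def sf5_0_D : H26.Dag := ⟨[0,1,2,3,4,5,7,6,8], [[0,0],
  [1,1],
  [2,2],
  [3,3],
  [4,4],
  [5,5],
  [6,7],
  [7,6],
  [8,8],
  [2,1,2,1],
  [1,0,1,0],
  [2,0,2,0],
  [3,0,3,0],
  [4,0,4,0],
  [5,0,5,0],
  [3,1,3,1],
  [4,2,4,2],
  [4,3,4,3],
  [1,0,4,1,4],
  [2,0,3,2,3],
  [1,5,1,5],
  [5,1,3,5,3],
  [2,5,2,5],
  [5,2,4,5,4],
  [6,6,6],
  [0,1,2,7,2,6],
  [0,3,4,7,4,6],
  [6,8,6,8],
  [5,8,0,8],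
  [0,1,2,5,8,5,2,1,0,8],
  [2,5,8,5,1,8],
  [0,1,4,3,8,4,3,8,4,3,8]], [], sf5_0_defs, sf5_0_recs⟩
theorem sf5_0_c : sf5_0_D.check sf5_0_S sf5_0_T = true := by decide +kernel
theorem sf5_0 {G : Type*} [Group G] {g : ℕ → G} (hR : Rels g sf5_r_R) {H : Subgroup G}
    (hH : ∀ k ∈ [], g k ∈ H) : evA g [0] ∈ H :=
  mem_dag (K := 9) (J := [0,1,2,3,4,5,6,7,8,9,10,11,12,13,14,15,16,17,18,19,20,21,22,23,24,28,30,31,32,33,34,35]) (D := sf5_0_D) (by decide +kernel) sf5_0_c (by decide +kernel) hR hH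
theorem sf5 {G : Type*} [Group G] {z u v a b r y s : G}
    (t : TA z u v a b r)
    (n : NY z u v a b r y)
    (w : RS0 z u v r y s)
    (e : (s * a * b) ^ 3 = z * u) :
    z = 1 :=
  mul_inv_eq_one.1 ((evA_eq_tm ((InvI.cons t.1 (InvI.cons t.2.1 (InvI.cons t.2.2.1 (InvI.cons t.2.2.2.1 (InvI.cons t.2.2.2.2.1 (InvI.cons t.2.2.2.2.2.1 (InvI.cons w.1 InvI.nil))))))) : InvI [z, u, v, a, b, r, y, s] [(nat_lit 0), (nat_lit 1), (nat_lit 2), (nat_lit 3), (nat_lit 4), (nat_lit 5), (nat_lit 7)]) [(.v (nat_lit 0)), (.v (nat_lit 1)), (.v (nat_lit 2)), (.v (nat_lit 3)), (.v (nat_lit 4)), (.v (nat_lit 5)), (.v (nat_lit 6)), (.inv (.v (nat_lit 6))), (.v (nat_lit 7))] [0] (.mul (.v (nat_lit 0)) (.inv .one)) (by decide +kernel)).symm.trans (Subgroup.mem_bot.1 (sf5_0 (sf5_r t n w e) (H := ⊥) (List.forall_mem_nil _))))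
noncomputable def sf6_r_R : List (List ℕ) := [[0,0],
  [1,1],
  [2,2],
  [3,3],
  [4,4],
  [5,5],
  [6,7],
  [7,6],
  [8,8],
  [2,1,2,1],
  [1,0,1,0],
  [2,0,2,0],
  [3,0,3,0],
  [4,0,4,0],
  [5,0,5,0],
  [3,1,3,1],
  [4,2,4,2],
  [4,3,4,3],
  [1,0,4,1,4],
  [2,0,3,2,3],
  [1,5,1,5],
  [5,1,3,5,3],
  [2,5,2,5],
  [5,2,4,5,4],
  [6,6,6],
  [5,7,5,6],
  [0,7,0,6],
  [2,7,1,6],
  [0,1,2,7,2,6],
  [4,7,3,6],
  [0,3,4,7,4,6],
  [6,8,6,8],
  [5,8,0,8],
  [0,1,2,5,8,5,2,1,0,8],
  [2,5,8,5,1,8],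
  [0,2,4,3,8,4,3,8,4,3,8]]
theorem sf6_r {G : Type*} [Group G] {z u v a b r y s : G}
    (t : TA z u v a b r)
    (n : NY z u v a b r y)
    (w : RS0 z u v r y s)
    (e : (s * a * b) ^ 3 = z * v) :
    Rels (nthG [z, u, v, a, b, r, y, y⁻¹, s]) sf6_r_R :=
  rels_of_eqs ((InvI.cons t.1 (InvI.cons t.2.1 (InvI.cons t.2.2.1 (InvI.cons t.2.2.2.1 (InvI.cons t.2.2.2.2.1 (InvI.cons t.2.2.2.2.2.1 (InvI.cons w.1 InvI.nil))))))) : InvI [z, u, v, a, b, r, y, s] [(nat_lit 0), (nat_lit 1), (nat_lit 2), (nat_lit 3), (nat_lit 4), (nat_lit 5), (nat_lit 7)])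
    (AllEq.append (show AllEq [z, u, v, a, b, r, y, s] [((.mul (.v (nat_lit 0)) (.v (nat_lit 0))), .one), ((.mul (.v (nat_lit 1)) (.v (nat_lit 1))), .one), ((.mul (.v (nat_lit 2)) (.v (nat_lit 2))), .one), ((.mul (.v (nat_lit 3)) (.v (nat_lit 3))), .one), ((.mul (.v (nat_lit 4)) (.v (nat_lit 4))), .one), ((.mul (.v (nat_lit 5)) (.v (nat_lit 5))), .one), ((.mul (.v (nat_lit 1)) (.v (nat_lit 2))), (.mul (.v (nat_lit 2)) (.v (nat_lit 1)))), ((.mul (.v (nat_lit 0)) (.v (nat_lit 1))), (.mul (.v (nat_lit 1)) (.v (nat_lit 0)))), ((.mul (.v (nat_lit 0)) (.v (nat_lit 2))), (.mul (.v (nat_lit 2)) (.v (nat_lit 0)))), ((.mul (.v (nat_lit 0)) (.v (nat_lit 3))), (.mul (.v (nat_lit 3)) (.v (nat_lit 0)))), ((.mul (.v (nat_lit 0)) (.v (nat_lit 4))), (.mul (.v (nat_lit 4)) (.v (nat_lit 0)))), ((.mul (.v (nat_lit 0)) (.v (nat_lit 5))), (.mul (.v (nat_lit 5)) (.v (nat_lit 0)))), ((.mul (.v (nat_lit 1)) (.v (nat_lit 3))), (.mul (.v (nat_lit 3)) (.v (nat_lit 1)))), ((.mul (.v (nat_lit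 2)) (.v (nat_lit 4))), (.mul (.v (nat_lit 4)) (.v (nat_lit 2)))), ((.mul (.v (nat_lit 3)) (.v (nat_lit 4))), (.mul (.v (nat_lit 4)) (.v (nat_lit 3)))), ((.mul (.mul (.v (nat_lit 4)) (.v (nat_lit 1))) (.v (nat_lit 4))), (.mul (.v (nat_lit 1)) (.v (nat_lit 0)))), ((.mul (.mul (.v (nat_lit 3)) (.v (nat_lit 2))) (.v (nat_lit 3))), (.mul (.v (nat_lit 2)) (.v (nat_lit 0)))), ((.mul (.v (nat_lit 5)) (.v (nat_lit 1))), (.mul (.v (nat_lit 1)) (.v (nat_lit 5)))), ((.mul (.mul (.v (nat_lit 3)) (.v (nat_lit 5))) (.v (nat_lit 3))), (.mul (.v (nat_lit 5)) (.v (nat_lit 1)))), ((.mul (.v (nat_lit 5)) (.v (nat_lit 2))), (.mul (.v (nat_lit 2)) (.v (nat_lit 5)))), ((.mul (.mul (.v (nat_lit 4)) (.v (nat_lit 5))) (.v (nat_lit 4))), (.mul (.v (nat_lit 5)) (.v (nat_lit 2))))] from t)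
    (AllEq.append (show AllEq [z, u, v, a, b, r, y, s] [((.pw (.v (nat_lit 6)) (nat_lit 3)), .one), ((.mul (.v (nat_lit 6)) (.v (nat_lit 5))), (.mul (.v (nat_lit 5)) (.v (nat_lit 6)))), ((.mul (.v (nat_lit 6)) (.v (nat_lit 0))), (.mul (.v (nat_lit 0)) (.v (nat_lit 6)))), ((.mul (.mul (.v (nat_lit 6)) (.v (nat_lit 1))) (.inv (.v (nat_lit 6)))), (.v (nat_lit 2))), ((.mul (.mul (.v (nat_lit 6)) (.v (nat_lit 2))) (.inv (.v (nat_lit 6)))), (.mul (.mul (.v (nat_lit 0)) (.v (nat_lit 1))) (.v (nat_lit 2)))), ((.mul (.mul (.v (nat_lit 6)) (.v (nat_lit 3))) (.inv (.v (nat_lit 6)))), (.v (nat_lit 4))), ((.mul (.mul (.v (nat_lit 6)) (.v (nat_lit 4))) (.inv (.v (nat_lit 6)))), (.mul (.mul (.v (nat_lit 0)) (.v (nat_lit 3))) (.v (nat_lit 4))))] from n)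
    (AllEq.append (show AllEq [z, u, v, a, b, r, y, s] [((.mul (.v (nat_lit 7)) (.v (nat_lit 7))), .one), ((.mul (.mul (.v (nat_lit 7)) (.v (nat_lit 6))) (.v (nat_lit 7))), (.inv (.v (nat_lit 6)))), ((.mul (.mul (.v (nat_lit 7)) (.v (nat_lit 0))) (.v (nat_lit 7))), (.v (nat_lit 5))), ((.mul (.mul (.v (nat_lit 7)) (.mul (.mul (.mul (.v (nat_lit 0)) (.v (nat_lit 1))) (.v (nat_lit 2))) (.v (nat_lit 5)))) (.v (nat_lit 7))), (.mul (.mul (.mul (.v (nat_lit 0)) (.v (nat_lit 1))) (.v (nat_lit 2))) (.v (nat_lit 5)))), ((.mul (.mul (.v (nat_lit 7)) (.mul (.v (nat_lit 1)) (.v (nat_lit 5)))) (.v (nat_lit 7))), (.mul (.v (nat_lit 2)) (.v (nat_lit 5))))] from w)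
    (show AllEq [z, u, v, a, b, r, y, s] [((.pw (.mul (.mul (.v (nat_lit 7)) (.v (nat_lit 3))) (.v (nat_lit 4))) (nat_lit 3)), (.mul (.v (nat_lit 0)) (.v (nat_lit 2))))] from ⟨e, trivial⟩))))
    [(.v (nat_lit 0)), (.v (nat_lit 1)), (.v (nat_lit 2)), (.v (nat_lit 3)), (.v (nat_lit 4)), (.v (nat_lit 5)), (.v (nat_lit 6)), (.inv (.v (nat_lit 6))), (.v (nat_lit 7))] (by decide +kernel)
noncomputable def sf6_0_S0 : List ℕ := [nat_lit 0x2300000700000c004014, nat_lit 0x27000007000010004016, nat_lit 0x2b000007000014004018, nat_lit 0x37000007000020000038, nat_lit 0x3b00000b000010004012, nat_lit 0x4300000100002300003000c024, nat_lit 0x4700000b00001c008028, nat_lit 0x5300000f00001c00802c, nat_lit 0x5b000013000018004022, nat_lit 0x5f00001b000020008038, nat_lit 0x6f00000200003c004016, nat_lit 0x73000002000040004018, nat_lit 0x7300002300002c00401e, nat_lit 0x77000023000034008028, nat_lit 0x7b00000200004c000038, nat_lit 0x5f00001900004700004c00003900003c, nat_lit 0x7f000006000058000038,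 nat_lit 0x5f00001d00005300005800004100603c, nat_lit 0x8300000a00005c00401a, nat_lit 0x8300002b000030004022, nat_lit 0x8b000033000038008038, nat_lit 0x8b00003500007700007c00003a00003c, nat_lit 0x8f000051000056004016, nat_lit 0x8f00000e00006800402c, nat_lit 0x8f00000e00001f00001c00001900203c, nat_lit 0x9b00001200005000401e, nat_lit 0x9b00002900006f00007400c026, nat_lit 0x9f00003b00004800006100005e00603c, nat_lit 0xa300002d000069004016, nat_lit 0xa300003f000001000070010026, nat_lit 0xa700003f000044004022, nat_lit 0xa700002d00003200008400c024, nat_lit 0xab000016000088008028, nat_lit 0xc300004900007d004014, nat_lit 0xc300005b000009000031010024, nat_lit 0xc700002600006c004018, nat_lit 0xc70000460000420000bc00c02a, nat_lit 0xcb00006300006c00401e, nat_lit 0xcb00006300000d00009400c02a, nat_lit 0xcf00006b00002500003e010026, nat_lit 0xd300008d00009200401c, nat_lit 0xd300009500009a008028, nat_lit 0xd700002a0000a0000038, nat_lit 0xdf00004e0000150000ac01002a, nat_lit 0xe70000810000ad00401e,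 nat_lit 0xe70000810000ab00007900c02a, nat_lit 0xeb00005a0000b4004018, nat_lit 0xef000093000098004022, nat_lit 0xf300006a000089004020, nat_lit 0xf700006e00005d0000ec00c02a, nat_lit 0xff0000720000660000b800c024, nat_lit 0x1070000af0000b400401e, nat_lit 0x1070000af00003900009d00c02a, nat_lit 0x10b0000b90000c500401c, nat_lit 0x10b0000cd0000d2008028, nat_lit 0x1130000bb0000c0004022, nat_lit 0x1130000a10000a60000f000c024, nat_lit 0x117000086000104000038, nat_lit 0x11b00009e0000dc004022, nat_lit 0x11f0000df0000e4008038, nat_lit 0x11f0000b10000b60001040000e500003c, nat_lit 0x1270000f70000fc004022, nat_lit 0x1270000d50000da00011c00c024, nat_lit 0x12b0001030000a700003f00004c00005900008f0000980000bd00012401603e]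
noncomputable def sf6_0_S1 : List ℕ := [nat_lit 0xf60000fb00009f00009c0000f40000c200008600010400012c0000fe00012301c03e, nat_lit 0xe20001010000fa000002, nat_lit 0xbd0001010000f6000006, nat_lit 0xdd0001060000ea000006, nat_lit 0x9800010a0000fb000008, nat_lit 0xc000010e0000db000008, nat_lit 0xd0001120000a900000a, nat_lit 0x5800011600007b000010, nat_lit 0x2000011a0000d7000010, nat_lit 0x4f00011e000074000006, nat_lit 0x13000122000075000006, nat_lit 0xb7000126000089000008, nat_lit 0x5b00012a000100000008, nat_lit 0x10f00012e000118000010, nat_lit 0x1320000ca000002, nat_lit 0x1360000f1000004, nat_lit 0x12f00012c0000fe004022, nat_lit 0x13e0000ee0000e300004e00002f0000380000940000f000012400014100012f00803e, nat_lit 0x10400014500010f000010, nat_lit 0x7d00014a000139000002, nat_lit 0x2100014d00004e000006, nat_lit 0x1800015200002f000008, nat_lit 0x156000007000000]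
noncomputable def sf6_0_S : List (List ℕ) := [sf6_0_S0, sf6_0_S1]
noncomputable def sf6_0_defs : List ℕ := [(nat_lit 0x40002800400027003000270040002600400024003000230030002100800020005000200040001e0080001b0050001a0020001a0030001800300017001000160040001500300015004000130030001200100012005000100040000f0020000f0080000e0030000e0040000d0030000d0020000d0080000c0050000b0040000a0080000900800008005000080030000800200008003000070020000700100007008000060040000400800003005000030030000300800002005000020040000200300002002000020080000100500001004000010030000100200001001000010080000000500000004000000030000000200000001000000000000000000000),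
  (nat_lit 0x400040003000400040003d0080003b0080003700400033008000300040002e0080002d0050002c0030002b00800029)]
noncomputable def sf6_0_recs : List ℕ := [(nat_lit 0x4000480004a010004600049030003e00049020004500047000003800047030003600046050004000045010003b00044030002f00044010003300042000003d00042050003300041010002c00041010002d0003f050003a0003d02000300003c03000250003b000002c0003a050002900039010003700039030002a00037050002700035010002400034000002e00034030001e00033050002400032010001a00032050002e00031000001a00031040001c0003000000290003001000210002a010002000029030001000029030001b00028000002600028010001900027020001c00026010001300026080001100023050001900023000001200023020001200022000000d00022030000b00020000001600020010001f0001705000150001f020001e0001705000120001e010000c0001d010000a0001c000000f0001c000000e0001b000000700017030000500016020000600014010000600011010000b0001001000030000e05000070000d00000040000a000000300009000000200008),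
  (nat_lit 0xff0000100000ff0000b00005ff0001600020ff0002d00029ff000400004303000480004b020004700043010002d00016ff0004500043ff0003f00016ff000300002dff0002800004ff0001c00013ff0001b00000ff0000800003ff0003500007ff0001e00015ff000270000dff000360002fff0003e00025ff0004600044ff0003b00049)]
noncomputable def sf6_0_T : List (List ℕ × ℕ) := [([0], (nat_lit 0x159))]
noncomputable def sf6_0_D : H26.Dag := ⟨[0,1,2,3,4,5,7,6,8], [[0,0],
  [1,1],
  [2,2],
  [3,3],
  [4,4],
  [5,5],
  [6,7],
  [7,6],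
  [8,8],
  [2,1,2,1],
  [1,0,1,0],
  [2,0,2,0],
  [3,0,3,0],
  [4,0,4,0],
  [5,0,5,0],
  [3,1,3,1],
  [4,2,4,2],
  [4,3,4,3],
  [1,0,4,1,4],
  [2,0,3,2,3],
  [1,5,1,5],
  [5,1,3,5,3],
  [2,5,2,5],
  [5,2,4,5,4],
  [6,6,6],
  [0,1,2,7,2,6],
  [0,3,4,7,4,6],
  [6,8,6,8],
  [5,8,0,8],
  [0,1,2,5,8,5,2,1,0,8],
  [2,5,8,5,1,8],
  [0,2,4,3,8,4,3,8,4,3,8]], [], sf6_0_defs, sf6_0_recs⟩
theorem sf6_0_c : sf6_0_D.check sf6_0_S sf6_0_T = true := by decide +kernel
theorem sf6_0 {G : Type*} [Group G] {g : ℕ → G} (hR : Rels g sf6_r_R) {H : Subgroup G}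
    (hH : ∀ k ∈ [], g k ∈ H) : evA g [0] ∈ H :=
  mem_dag (K := 9) (J := [0,1,2,3,4,5,6,7,8,9,10,11,12,13,14,15,16,17,18,19,20,21,22,23,24,28,30,31,32,33,34,35]) (D := sf6_0_D) (by decide +kernel) sf6_0_c (by decide +kernel) hR hH
theorem sf6 {G : Type*} [Group G] {z u v a b r y s : G}
    (t : TA z u v a b r)
    (n : NY z u v a b r y)
    (w : RS0 z u v r y s)
    (e : (s * a * b) ^ 3 = z * v) :
    z = 1 :=
  mul_inv_eq_one.1 ((evA_eq_tm ((InvI.cons t.1 (InvI.cons t.2.1 (InvI.cons t.2.2.1 (InvI.cons t.2.2.2.1 (InvI.cons t.2.2.2.2.1 (InvI.cons t.2.2.2.2.2.1 (InvI.cons w.1 InvI.nil))))))) : InvI [z, u, v, a, b, r, y, s] [(nat_lit 0), (nat_lit 1), (nat_lit 2), (nat_lit 3), (nat_lit 4), (nat_lit 5), (nat_lit 7)]) [(.v (nat_lit 0)), (.v (nat_lit 1)), (.v (nat_lit 2)), (.v (nat_lit 3)), (.v (nat_lit 4)), (.v (nat_lit 5)), (.v (nat_lit 6)), (.inv (.v (nat_lit 6))), (.v (nat_lit 7))] [0] (.mul (.v (nat_lit 0)) (.inv .one)) (by decide +kernel)).symm.trans (Subgroup.mem_bot.1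 (sf6_0 (sf6_r t n w e) (H := ⊥) (List.forall_mem_nil _))))
noncomputable def sf7_r_R : List (List ℕ) := [[0,0],
  [1,1],
  [2,2],
  [3,3],
  [4,4],
  [5,5],
  [6,7],
  [7,6],
  [8,8],
  [2,1,2,1],
  [1,0,1,0],
  [2,0,2,0],
  [3,0,3,0],
  [4,0,4,0],
  [5,0,5,0],
  [3,1,3,1],
  [4,2,4,2],
  [4,3,4,3],
  [1,0,4,1,4],
  [2,0,3,2,3],
  [1,5,1,5],
  [5,1,3,5,3],
  [2,5,2,5],
  [5,2,4,5,4],
  [6,6,6],
  [5,7,5,6],
  [0,7,0,6],
  [2,7,1,6],
  [0,1,2,7,2,6],
  [4,7,3,6],
  [0,3,4,7,4,6],
  [6,8,6,8],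
  [5,8,0,8],
  [0,1,2,5,8,5,2,1,0,8],
  [2,5,8,5,1,8],
  [0,5,4,3,8,4,3,8,4,3,8]]
theorem sf7_r {G : Type*} [Group G] {z u v a b r y s : G}
    (t : TA z u v a b r)
    (n : NY z u v a b r y)
    (w : RS0 z u v r y s)
    (e : (s * a * b) ^ 3 = z * r) :
    Rels (nthG [z, u, v, a, b, r, y, y⁻¹, s]) sf7_r_R :=
  rels_of_eqs ((InvI.cons t.1 (InvI.cons t.2.1 (InvI.cons t.2.2.1 (InvI.cons t.2.2.2.1 (InvI.cons t.2.2.2.2.1 (InvI.cons t.2.2.2.2.2.1 (InvI.cons w.1 InvI.nil))))))) : InvI [z, u, v, a, b, r, y, s] [(nat_lit 0), (nat_lit 1), (nat_lit 2), (nat_lit 3), (nat_lit 4), (nat_lit 5), (nat_lit 7)])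
    (AllEq.append (show AllEq [z, u, v, a, b, r, y, s] [((.mul (.v (nat_lit 0)) (.v (nat_lit 0))), .one), ((.mul (.v (nat_lit 1)) (.v (nat_lit 1))), .one), ((.mul (.v (nat_lit 2)) (.v (nat_lit 2))), .one), ((.mul (.v (nat_lit 3)) (.v (nat_lit 3))), .one), ((.mul (.v (nat_lit 4)) (.v (nat_lit 4))), .one), ((.mul (.v (nat_lit 5)) (.v (nat_lit 5))), .one), ((.mul (.v (nat_lit 1)) (.v (nat_lit 2))), (.mul (.v (nat_lit 2)) (.v (nat_lit 1)))), ((.mul (.v (nat_lit 0)) (.v (nat_lit 1))), (.mul (.v (nat_lit 1)) (.v (nat_lit 0)))), ((.mul (.v (nat_lit 0)) (.v (nat_lit 2))), (.mul (.v (nat_lit 2)) (.v (nat_lit 0)))), ((.mul (.v (nat_lit 0)) (.v (nat_lit 3))), (.mul (.v (nat_lit 3)) (.v (nat_lit 0)))), ((.mul (.v (nat_lit 0)) (.v (nat_lit 4))), (.mul (.v (nat_lit 4)) (.v (nat_lit 0)))), ((.mul (.v (nat_lit 0)) (.v (nat_lit 5))), (.mul (.v (nat_lit 5)) (.v (nat_lit 0)))), ((.mul (.v (nat_lit 1)) (.v (nat_lit 3))), (.mul (.v (nat_lit 3)) (.v (nat_lit 1)))), ((.mul (.v (nat_lit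 2)) (.v (nat_lit 4))), (.mul (.v (nat_lit 4)) (.v (nat_lit 2)))), ((.mul (.v (nat_lit 3)) (.v (nat_lit 4))), (.mul (.v (nat_lit 4)) (.v (nat_lit 3)))), ((.mul (.mul (.v (nat_lit 4)) (.v (nat_lit 1))) (.v (nat_lit 4))), (.mul (.v (nat_lit 1)) (.v (nat_lit 0)))), ((.mul (.mul (.v (nat_lit 3)) (.v (nat_lit 2))) (.v (nat_lit 3))), (.mul (.v (nat_lit 2)) (.v (nat_lit 0)))), ((.mul (.v (nat_lit 5)) (.v (nat_lit 1))), (.mul (.v (nat_lit 1)) (.v (nat_lit 5)))), ((.mul (.mul (.v (nat_lit 3)) (.v (nat_lit 5))) (.v (nat_lit 3))), (.mul (.v (nat_lit 5)) (.v (nat_lit 1)))), ((.mul (.v (nat_lit 5)) (.v (nat_lit 2))), (.mul (.v (nat_lit 2)) (.v (nat_lit 5)))), ((.mul (.mul (.v (nat_lit 4)) (.v (nat_lit 5))) (.v (nat_lit 4))), (.mul (.v (nat_lit 5)) (.v (nat_lit 2))))] from t)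
    (AllEq.append (show AllEq [z, u, v, a, b, r, y, s] [((.pw (.v (nat_lit 6)) (nat_lit 3)), .one), ((.mul (.v (nat_lit 6)) (.v (nat_lit 5))), (.mul (.v (nat_lit 5)) (.v (nat_lit 6)))), ((.mul (.v (nat_lit 6)) (.v (nat_lit 0))), (.mul (.v (nat_lit 0)) (.v (nat_lit 6)))), ((.mul (.mul (.v (nat_lit 6)) (.v (nat_lit 1))) (.inv (.v (nat_lit 6)))), (.v (nat_lit 2))), ((.mul (.mul (.v (nat_lit 6)) (.v (nat_lit 2))) (.inv (.v (nat_lit 6)))), (.mul (.mul (.v (nat_lit 0)) (.v (nat_lit 1))) (.v (nat_lit 2)))), ((.mul (.mul (.v (nat_lit 6)) (.v (nat_lit 3))) (.inv (.v (nat_lit 6)))), (.v (nat_lit 4))), ((.mul (.mul (.v (nat_lit 6)) (.v (nat_lit 4))) (.inv (.v (nat_lit 6)))), (.mul (.mul (.v (nat_lit 0)) (.v (nat_lit 3))) (.v (nat_lit 4))))] from n)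
    (AllEq.append (show AllEq [z, u, v, a, b, r, y, s] [((.mul (.v (nat_lit 7)) (.v (nat_lit 7))), .one), ((.mul (.mul (.v (nat_lit 7)) (.v (nat_lit 6))) (.v (nat_lit 7))), (.inv (.v (nat_lit 6)))), ((.mul (.mul (.v (nat_lit 7)) (.v (nat_lit 0))) (.v (nat_lit 7))), (.v (nat_lit 5))), ((.mul (.mul (.v (nat_lit 7)) (.mul (.mul (.mul (.v (nat_lit 0)) (.v (nat_lit 1))) (.v (nat_lit 2))) (.v (nat_lit 5)))) (.v (nat_lit 7))), (.mul (.mul (.mul (.v (nat_lit 0)) (.v (nat_lit 1))) (.v (nat_lit 2))) (.v (nat_lit 5)))), ((.mul (.mul (.v (nat_lit 7)) (.mul (.v (nat_lit 1)) (.v (nat_lit 5)))) (.v (nat_lit 7))), (.mul (.v (nat_lit 2)) (.v (nat_lit 5))))] from w)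
    (show AllEq [z, u, v, a, b, r, y, s] [((.pw (.mul (.mul (.v (nat_lit 7)) (.v (nat_lit 3))) (.v (nat_lit 4))) (nat_lit 3)), (.mul (.v (nat_lit 0)) (.v (nat_lit 5))))] from ⟨e, trivial⟩))))
    [(.v (nat_lit 0)), (.v (nat_lit 1)), (.v (nat_lit 2)), (.v (nat_lit 3)), (.v (nat_lit 4)), (.v (nat_lit 5)), (.v (nat_lit 6)), (.inv (.v (nat_lit 6))), (.v (nat_lit 7))] (by decide +kernel)
noncomputable def sf7_0_S0 : List ℕ := [nat_lit 0xf00000b00000700c012, nat_lit 0x1700001300000200c014, nat_lit 0x1b000007000005008016, nat_lit 0x2300001f000005008018, nat_lit 0x2b00002700000500801a, nat_lit 0x3300002f00000500801c, nat_lit 0x3700001f00000100801e, nat_lit 0x3b000027000008008020, nat_lit 0x3f000027000020008022, nat_lit 0x4300001300000200002800c024, nat_lit 0x4700001b00000700002000c026, nat_lit 0x4b000002000030008028, nat_lit 0x4f00000700003000802c, nat_lit 0x5300003200002f00002800c02e, nat_lit 0x5b000057008030, nat_lit 0x6300005f000018000006000039010032, nat_lit 0xb00000700003900003d000063016032,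 nat_lit 0x4100000b00001c008014, nat_lit 0x6b00006700000e000006000039010034, nat_lit 0x3f00002700003900004900006b016034, nat_lit 0x4d00003f00002c008018, nat_lit 0x7300006f00005700c036, nat_lit 0x7700002f000055008038, nat_lit 0x8700008300007f00007b00005f00001800000600005500005901c03a, nat_lit 0x8700008300007f00007b00004600203c, nat_lit 0x8f00008b00004f00000700005501003c, nat_lit 0x5e00005a00006500c014, nat_lit 0x9f00001c000048004018, nat_lit 0x2300002900006d000016, nat_lit 0xa300001e00001c00801a, nat_lit 0x9300001600000900007500602e, nat_lit 0xa700004f00001c00801c, nat_lit 0x7b00004600007d000028, nat_lit 0x1600000900007d00002c, nat_lit 0x6900006200007d00c038, nat_lit 0xab00001e0000a0008022, nat_lit 0xaf00004100000b00001d00c024, nat_lit 0xb300000b000050008028, nat_lit 0x2e000031000095000012, nat_lit 0x820000a700009500c014, nat_lit 0xb700003100004f00001d00c02e, nat_lit 0x7a0000a30000a100c01c, nat_lit 0xbf0000bb008030, nat_lit 0xc70000c300004700001b0000a9010034,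 nat_lit 0xab00001e0000a90000ad0000c7016034, nat_lit 0xb10000ab0000a4008018, nat_lit 0xcf0000cb0000bb00c036, nat_lit 0x6200001b0000b9000038, nat_lit 0x8b00004f0000b9008038, nat_lit 0xdf0000db0000d70000d300006000004600001b0000b90000c101c03a, nat_lit 0x6500008f0000c500c028, nat_lit 0x900007d00008900008f0000c500203c, nat_lit 0xdc0000e00000c900002c, nat_lit 0x160000ce0000c90000d10000d701003c, nat_lit 0xe00000c900005600003000002d00203c, nat_lit 0xd90000db0000d7008038, nat_lit 0xdd00009a00009d008016, nat_lit 0xe300007700002f0000080000b901003c, nat_lit 0x8600007e0000610000be0000e500203c, nat_lit 0xff0000fb0000f70000f30000ef0000eb0000e700007e00001b0000b902403e, nat_lit 0xe7000085000094004020, nat_lit 0xe700008500001600001100c02e, nat_lit 0x1030000420000b000401a, nat_lit 0xa30000910000f9000014]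
noncomputable def sf7_0_S1 : List ℕ := [nat_lit 0x107000103000010008020, nat_lit 0x4300001300010100c01a, nat_lit 0x10f00009a0000b300010400c02e, nat_lit 0x7a0000fe000109000028, nat_lit 0x113000102000019008022, nat_lit 0x6700002300003800011100c024, nat_lit 0x11b000117008030, nat_lit 0x12300011f00010b000013000119010034, nat_lit 0x11300010200011900011d000123016034, nat_lit 0x12100011500004d008014, nat_lit 0x121000113000105008018, nat_lit 0x12b00012700011700c036, nat_lit 0xda00004b00012d008038, nat_lit 0x14700014300013f00013b00013700013300012f0000d300001300012d02403e, nat_lit 0x12f0000dd00011000401a, nat_lit 0x12f0000dd00002e0000b800c024, nat_lit 0x12f0000e200007b0000b000c02e, nat_lit 0xab00009100014100013400c02a, nat_lit 0x14b000139000134004018, nat_lit 0x14b00010d00009800401e, nat_lit 0x137000149000150000038, nat_lit 0x15b0000d500001600000d00c02a, nat_lit 0x14500008e00007100015501002e, nat_lit 0x17300016f00016b00016700016300015f0000b700002f0000050000ce02403e,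 nat_lit 0x1360001310000e000015d00c026, nat_lit 0x17400016100014700c020, nat_lit 0x15f0000a5000098004018, nat_lit 0x15f00013d00013400401e, nat_lit 0x15f0000a50000f10000ec00c026, nat_lit 0x9b000169000164000038, nat_lit 0x18300017f00017b00c036, nat_lit 0x19700019300018f00018b00018700013400015a00015600002300017902403e, nat_lit 0x19b000139000188000038, nat_lit 0x1a70001a300019f00c036, nat_lit 0x18200018c00019000019400019800017e00017a00002100003f00018502a03e, nat_lit 0x10900019c00018a000186004038, nat_lit 0x2b00018d0000fa000000, nat_lit 0x2600018d0000fd000002, nat_lit 0x3b00018d000108000004, nat_lit 0x3600018d00010900000a, nat_lit 0x110001920000af000008, nat_lit 0xf600019200014100000a, nat_lit 0x12a0001960000b5000006, nat_lit 0xab00019a000114000006, nat_lit 0x1d00019a000102000008, nat_lit 0x17700019e00014c000006, nat_lit 0x5400019e00010f000008, nat_lit 0x160001a200007c00000a, nat_lit 0xeb0001a6000134000006, nat_lit 0x1a9000126000002, nat_lit 0x1ae000115000002, nat_lit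 0xba0001b200012d000010, nat_lit 0x1b5000177000006, nat_lit 0x1b9000054000008, nat_lit 0xda0001b900008c000010, nat_lit 0xe90001be000080000010, nat_lit 0x1c2000149000000, nat_lit 0x1c200016d000002, nat_lit 0x1c200014500000a, nat_lit 0xef0001c2000138000010, nat_lit 0xee0001ce000135000006, nat_lit 0x1d90000da000010, nat_lit 0x1dd0000e6000002, nat_lit 0x1dd0000e300000a]
noncomputable def sf7_0_S2 : List ℕ := [nat_lit 0x1ee00015200000a, nat_lit 0x1000001f2000147000008, nat_lit 0x206000165000004, nat_lit 0x1bb0001b70001b30001af0001ab00005200001200001500003300007802403e, nat_lit 0xee0001f90001fe00020d00c02a, nat_lit 0x1bc0002110000ff00020a00002e, nat_lit 0x1700002150001b7008038, nat_lit 0x2150001bc00020e0000770000b800016000016400016800016c00017002a03e, nat_lit 0x17000021d00016f000038, nat_lit 0x21900022100021a00801c, nat_lit 0x2250001b80002160002090000fb01003c, nat_lit 0xf80002290002250001b300c02a, nat_lit 0x22e0001b40002250001b300402a, nat_lit 0x22d0000f300020200015400402e,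 nat_lit 0x1570002350001b4000219000026, nat_lit 0x16c00023900015700023500e026, nat_lit 0x1b000023d00016700c01a, nat_lit 0xf400023200023d000167006024, nat_lit 0x176000245000202008028, nat_lit 0x1e900017100016400024500020200014f00803c, nat_lit 0xb100024e0001e1000000, nat_lit 0x1c900024e00014e000002, nat_lit 0xac00024e0001d2000006, nat_lit 0x24e000150000010, nat_lit 0x1c50002520001e6000002, nat_lit 0x1ab00025600009c000010, nat_lit 0x1d00025a0001d5000008, nat_lit 0x262000164000010, nat_lit 0x265000242000000, nat_lit 0x2650001ab000010, nat_lit 0xba00026a0001f5000010, nat_lit 0x2790000ed000006, nat_lit 0x2790000ba000010, nat_lit 0x24600027100024a004014, nat_lit 0x25d0000ab00001e00028100027e0000ff0000fb0000f70000f300020200028500003e, nat_lit 0x245000289000249000002, nat_lit 0x27500028d00026d000010, nat_lit 0x40000291000052000006, nat_lit 0x28000296000012000008, nat_lit 0x29a000006000000]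
noncomputable def sf7_0_S : List (List ℕ) := [sf7_0_S0, sf7_0_S1, sf7_0_S2]
noncomputable def sf7_0_defs : List ℕ := [(nat_lit 0x40003e0080003d0030003c0040003b0080003a00300039004000290050001d00200036005000350080003400500004006000320080002e00700030004000110060002e006000010040000b00500002004000170030000e000000130000000e0030000100800025003000240040000c0050002200800013002000200050001f0080001e005000170080000b0060001b0080001500700019004000080070001700200004006000150060000000400013005000010050000300300006004000040030000900200009001000070000000b005000000000000900400000000000070030000000000001001000040000000300200002001000010020000000000000),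
  (nat_lit 0x40006d0080006c0030006b0040006a0080001900600068008000670060000900800043004000640080006300300062004000610080004b0060005f0080005e00600007003000140040005b0080005a0030005900400058008000570030002d0030003400300054004000530080005200300043004000500080004f0030004e0040004d0080004c0030004b004000340060004900800045007000470040004200600045006000030030004100400012003000040020004000400002)]
noncomputable def sf7_0_recs : List ℕ := [(nat_lit 0x10004000028000002b00040050000a0003902000240003903000330003f08000380000c010003300038020001e0003400000340001208000120003601000340000c020001c0003508000370000505000370001c01000220003700000330002205000330002108000010003303000280003000000300002a040002f0003106000010002f000002d00024050000e0002d000002c0001e020002c0001201000130002c010000e0002b04000270002a08000290002302000290000c01000290001e050000600029050002800024040000600028020002700008000001100027000002300021010001c00023080000600021010001d00021000001c0001d08000000001c030000a0001900000190000f04000160001a010000600017000001700002020001600018060000000016050000900014020000b00013010000b0001202000070001101000090001004000070000f04000010000e03000030000d05000050000c04000050000a030000500008020000500006000000000005010000000003),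
  (nat_lit 0x50001d0001f01000330001f080001200022ff000510003fff0004d0003b050002a0003a01000570003a00000520003aff0001f00038ff0002200036040001400012030001400052ff0004a0003301000190002a010000f00030ff0004c0003aff0001e0000cff0001200013ff000520005dff0000300001ff000440002aff0003000047ff0004b00039ff0001700005ff0004300014ff000410000eff0002800010ff0002b0000aff0000900040000006900066080000900069050006100066030006000065080000700060050005800026020003a00057010004c0005700000250005702000500005b020005c0005103000370005c04000560004c05000080005605000530004d010002500052000004c00052050004c0002a050002b0004b010002d0004b00000430004b030004a00051000004a0003608000030004a030001000047010000f00047000004700044040004600048060000300046010004400019040000d00044010004300024050004000043000004100010040000300041),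
  (nat_lit 0xff0000500000ff0000a00009ff0000f00019ff0002600058ff0003b0005300000530003b080000100022030003f00022ff000220003308000190002600000580002608000580000fff0001200001ff000260006aff000570000f08000530002aff000140000eff0002500019ff0003a00030ff000520002a01000530002601000580003b00000580006a000006b00059020005a0005502000540006b010006b0003c050006b0003c010003d0006c050006c0006c050005a0005a000005b0005b000006c0005a050005b0006d050006e0003f030001d0006e020005b0003eff000500003e05000530003b)]
noncomputable def sf7_0_T : List (List ℕ × ℕ) := [([0], (nat_lit 0x29d))]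
noncomputable def sf7_0_D : H26.Dag := ⟨[0,1,2,3,4,5,7,6,8], [[0,0],
  [1,1],
  [2,2],
  [3,3],
  [4,4],
  [5,5],
  [6,7],
  [7,6],
  [8,8],
  [2,1,2,1],
  [1,0,1,0],
  [2,0,2,0],
  [3,0,3,0],
  [4,0,4,0],
  [5,0,5,0],
  [3,1,3,1],
  [4,2,4,2],
  [4,3,4,3],
  [1,0,4,1,4],
  [2,0,3,2,3],
  [1,5,1,5],
  [5,1,3,5,3],
  [2,5,2,5],
  [5,2,4,5,4],
  [6,6,6],
  [0,1,2,7,2,6],
  [0,3,4,7,4,6],
  [6,8,6,8],
  [5,8,0,8],
  [0,1,2,5,8,5,2,1,0,8],
  [2,5,8,5,1,8],
  [0,5,4,3,8,4,3,8,4,3,8]], [], sf7_0_defs, sf7_0_recs⟩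
theorem sf7_0_c : sf7_0_D.check sf7_0_S sf7_0_T = true := by decide +kernel
theorem sf7_0 {G : Type*} [Group G] {g : ℕ → G} (hR : Rels g sf7_r_R) {H : Subgroup G}
    (hH : ∀ k ∈ [], g k ∈ H) : evA g [0] ∈ H :=
  mem_dag (K := 9) (J := [0,1,2,3,4,5,6,7,8,9,10,11,12,13,14,15,16,17,18,19,20,21,22,23,24,28,30,31,32,33,34,35]) (D := sf7_0_D) (by decide +kernel) sf7_0_c (by decide +kernel) hR hH
theorem sf7 {G : Type*} [Group G] {z u v a b r y s : G}
    (t : TA z u v a b r)
    (n : NY z u v a b r y)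
    (w : RS0 z u v r y s)
    (e : (s * a * b) ^ 3 = z * r) :
    z = 1 :=
  mul_inv_eq_one.1 ((evA_eq_tm ((InvI.cons t.1 (InvI.cons t.2.1 (InvI.cons t.2.2.1 (InvI.cons t.2.2.2.1 (InvI.cons t.2.2.2.2.1 (InvI.cons t.2.2.2.2.2.1 (InvI.cons w.1 InvI.nil))))))) : InvI [z, u, v, a, b, r, y, s] [(nat_lit 0), (nat_lit 1), (nat_lit 2), (nat_lit 3), (nat_lit 4), (nat_lit 5), (nat_lit 7)]) [(.v (nat_lit 0)), (.v (nat_lit 1)), (.v (nat_lit 2)), (.v (nat_lit 3)), (.v (nat_lit 4)), (.v (nat_lit 5)), (.v (nat_lit 6)), (.inv (.v (nat_lit 6))), (.v (nat_lit 7))] [0] (.mul (.v (nat_lit 0)) (.inv .one)) (by decide +kernel)).symm.trans (Subgroup.mem_bot.1 (sf7_0 (sf7_r t n w e) (H := ⊥) (List.forall_mem_nil _))))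
noncomputable def sf8_r_R : List (List ℕ) := [[0,0],
  [1,1],
  [2,2],
  [3,3],
  [4,4],
  [5,5],
  [6,7],
  [7,6],
  [8,8],
  [2,1,2,1],
  [1,0,1,0],
  [2,0,2,0],
  [3,0,3,0],
  [4,0,4,0],
  [5,0,5,0],
  [3,1,3,1],
  [4,2,4,2],
  [4,3,4,3],
  [1,0,4,1,4],
  [2,0,3,2,3],
  [1,5,1,5],
  [5,1,3,5,3],
  [2,5,2,5],
  [5,2,4,5,4],
  [6,6,6],
  [5,7,5,6],
  [0,7,0,6],
  [2,7,1,6],
  [0,1,2,7,2,6],
  [4,7,3,6],
  [0,3,4,7,4,6],
  [6,8,6,8],
  [5,8,0,8],
  [0,1,2,5,8,5,2,1,0,8],
  [2,5,8,5,1,8],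
  [1,2,4,3,8,4,3,8,4,3,8]]
theorem sf8_r {G : Type*} [Group G] {z u v a b r y s : G}
    (t : TA z u v a b r)
    (n : NY z u v a b r y)
    (w : RS0 z u v r y s)
    (e : (s * a * b) ^ 3 = u * v) :
    Rels (nthG [z, u, v, a, b, r, y, y⁻¹, s]) sf8_r_R :=
  rels_of_eqs ((InvI.cons t.1 (InvI.cons t.2.1 (InvI.cons t.2.2.1 (InvI.cons t.2.2.2.1 (InvI.cons t.2.2.2.2.1 (InvI.cons t.2.2.2.2.2.1 (InvI.cons w.1 InvI.nil))))))) : InvI [z, u, v, a, b, r, y, s] [(nat_lit 0), (nat_lit 1), (nat_lit 2), (nat_lit 3), (nat_lit 4), (nat_lit 5), (nat_lit 7)])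
    (AllEq.append (show AllEq [z, u, v, a, b, r, y, s] [((.mul (.v (nat_lit 0)) (.v (nat_lit 0))), .one), ((.mul (.v (nat_lit 1)) (.v (nat_lit 1))), .one), ((.mul (.v (nat_lit 2)) (.v (nat_lit 2))), .one), ((.mul (.v (nat_lit 3)) (.v (nat_lit 3))), .one), ((.mul (.v (nat_lit 4)) (.v (nat_lit 4))), .one), ((.mul (.v (nat_lit 5)) (.v (nat_lit 5))), .one), ((.mul (.v (nat_lit 1)) (.v (nat_lit 2))), (.mul (.v (nat_lit 2)) (.v (nat_lit 1)))), ((.mul (.v (nat_lit 0)) (.v (nat_lit 1))), (.mul (.v (nat_lit 1)) (.v (nat_lit 0)))), ((.mul (.v (nat_lit 0)) (.v (nat_lit 2))), (.mul (.v (nat_lit 2)) (.v (nat_lit 0)))), ((.mul (.v (nat_lit 0)) (.v (nat_lit 3))), (.mul (.v (nat_lit 3)) (.v (nat_lit 0)))), ((.mul (.v (nat_lit 0)) (.v (nat_lit 4))), (.mul (.v (nat_lit 4)) (.v (nat_lit 0)))), ((.mul (.v (nat_lit 0)) (.v (nat_lit 5))), (.mul (.v (nat_lit 5)) (.v (nat_lit 0)))), ((.mul (.v (nat_lit 1)) (.v (nat_lit 3))), (.mul (.v (nat_lit 3)) (.v (nat_lit 1)))), ((.mul (.v (nat_lit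 2)) (.v (nat_lit 4))), (.mul (.v (nat_lit 4)) (.v (nat_lit 2)))), ((.mul (.v (nat_lit 3)) (.v (nat_lit 4))), (.mul (.v (nat_lit 4)) (.v (nat_lit 3)))), ((.mul (.mul (.v (nat_lit 4)) (.v (nat_lit 1))) (.v (nat_lit 4))), (.mul (.v (nat_lit 1)) (.v (nat_lit 0)))), ((.mul (.mul (.v (nat_lit 3)) (.v (nat_lit 2))) (.v (nat_lit 3))), (.mul (.v (nat_lit 2)) (.v (nat_lit 0)))), ((.mul (.v (nat_lit 5)) (.v (nat_lit 1))), (.mul (.v (nat_lit 1)) (.v (nat_lit 5)))), ((.mul (.mul (.v (nat_lit 3)) (.v (nat_lit 5))) (.v (nat_lit 3))), (.mul (.v (nat_lit 5)) (.v (nat_lit 1)))), ((.mul (.v (nat_lit 5)) (.v (nat_lit 2))), (.mul (.v (nat_lit 2)) (.v (nat_lit 5)))), ((.mul (.mul (.v (nat_lit 4)) (.v (nat_lit 5))) (.v (nat_lit 4))), (.mul (.v (nat_lit 5)) (.v (nat_lit 2))))] from t)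
    (AllEq.append (show AllEq [z, u, v, a, b, r, y, s] [((.pw (.v (nat_lit 6)) (nat_lit 3)), .one), ((.mul (.v (nat_lit 6)) (.v (nat_lit 5))), (.mul (.v (nat_lit 5)) (.v (nat_lit 6)))), ((.mul (.v (nat_lit 6)) (.v (nat_lit 0))), (.mul (.v (nat_lit 0)) (.v (nat_lit 6)))), ((.mul (.mul (.v (nat_lit 6)) (.v (nat_lit 1))) (.inv (.v (nat_lit 6)))), (.v (nat_lit 2))), ((.mul (.mul (.v (nat_lit 6)) (.v (nat_lit 2))) (.inv (.v (nat_lit 6)))), (.mul (.mul (.v (nat_lit 0)) (.v (nat_lit 1))) (.v (nat_lit 2)))), ((.mul (.mul (.v (nat_lit 6)) (.v (nat_lit 3))) (.inv (.v (nat_lit 6)))), (.v (nat_lit 4))), ((.mul (.mul (.v (nat_lit 6)) (.v (nat_lit 4))) (.inv (.v (nat_lit 6)))), (.mul (.mul (.v (nat_lit 0)) (.v (nat_lit 3))) (.v (nat_lit 4))))] from n)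
    (AllEq.append (show AllEq [z, u, v, a, b, r, y, s] [((.mul (.v (nat_lit 7)) (.v (nat_lit 7))), .one), ((.mul (.mul (.v (nat_lit 7)) (.v (nat_lit 6))) (.v (nat_lit 7))), (.inv (.v (nat_lit 6)))), ((.mul (.mul (.v (nat_lit 7)) (.v (nat_lit 0))) (.v (nat_lit 7))), (.v (nat_lit 5))), ((.mul (.mul (.v (nat_lit 7)) (.mul (.mul (.mul (.v (nat_lit 0)) (.v (nat_lit 1))) (.v (nat_lit 2))) (.v (nat_lit 5)))) (.v (nat_lit 7))), (.mul (.mul (.mul (.v (nat_lit 0)) (.v (nat_lit 1))) (.v (nat_lit 2))) (.v (nat_lit 5)))), ((.mul (.mul (.v (nat_lit 7)) (.mul (.v (nat_lit 1)) (.v (nat_lit 5)))) (.v (nat_lit 7))), (.mul (.v (nat_lit 2)) (.v (nat_lit 5))))] from w)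
    (show AllEq [z, u, v, a, b, r, y, s] [((.pw (.mul (.mul (.v (nat_lit 7)) (.v (nat_lit 3))) (.v (nat_lit 4))) (nat_lit 3)), (.mul (.v (nat_lit 1)) (.v (nat_lit 2))))] from ⟨e, trivial⟩))))
    [(.v (nat_lit 0)), (.v (nat_lit 1)), (.v (nat_lit 2)), (.v (nat_lit 3)), (.v (nat_lit 4)), (.v (nat_lit 5)), (.v (nat_lit 6)), (.inv (.v (nat_lit 6))), (.v (nat_lit 7))] (by decide +kernel)
noncomputable def sf8_0_S0 : List ℕ := [nat_lit 0x23000020006030, nat_lit 0x2b00000700000c004014, nat_lit 0x2f000007000010004016, nat_lit 0x33000007000014004018, nat_lit 0x3700000700001800401a, nat_lit 0x3b00000700001c00401c, nat_lit 0x3f000007000020000034, nat_lit 0x43000040006030, nat_lit 0x43000007000024008034, nat_lit 0x47000007000028000040, nat_lit 0x4b00000b000010004012, nat_lit 0x4f00000b00001400401e, nat_lit 0x5300000500002b00003800c024, nat_lit 0x5700000b00001c008028, nat_lit 0x6700000900002f00003400c026, nat_lit 0x6b00000f000018004020, nat_lit 0x6f00000f00001c00802c, nat_lit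 0x77000074006030, nat_lit 0x7f00000d000039004016, nat_lit 0x7f000013000008000030010026, nat_lit 0x83000013000018004022, nat_lit 0x8700001300000c00005801002a, nat_lit 0x8b00001300002000003a, nat_lit 0x8f00008c006030, nat_lit 0x97000011000031004014, nat_lit 0x9700001700000800002c010024, nat_lit 0x9b00001700001000007001002e, nat_lit 0xa30000a0006030, nat_lit 0xab00003500005500401e, nat_lit 0xab00003500005700005000c02a, nat_lit 0xaf000041000069004020, nat_lit 0xaf00004100006f00006c00c02e, nat_lit 0xb300001b000020000032, nat_lit 0xb70000b4006030, nat_lit 0xb700001b000024008032, nat_lit 0xbb00001b000028008040, nat_lit 0xc700001f00002800803e, nat_lit 0xcb0000020000c0004036, nat_lit 0xcf0000020000c400403a, nat_lit 0xd30000020000c800803e, nat_lit 0xd300002300002800603e, nat_lit 0xe700002b000030004012, nat_lit 0xe700000600004c004016, nat_lit 0xe700002b0000070000240000cc00c038, nat_lit 0x950000ad00a030, nat_lit 0xeb000006000050004018, nat_lit 0xeb00002b00003400401e, nat_lit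 0xef00000600005800401c, nat_lit 0xef00002b00003c008028, nat_lit 0xdb00002500004700003c0000c1002044, nat_lit 0xf300000600005c000034, nat_lit 0xf300002b000040000036, nat_lit 0xf70000f4006030, nat_lit 0xf7000006000060008034, nat_lit 0xf70000e80000a600000a000078010038, nat_lit 0x450000d90000d2008036, nat_lit 0xfb0000f00000c5008040, nat_lit 0xfb000006000064000040, nat_lit 0xbb0000350000570000640000e5000044, nat_lit 0xff00000a00006c00401a, nat_lit 0x10300000a00007000401c, nat_lit 0x10300002f00003c00802c, nat_lit 0xd700002500004700003c0000f5014044, nat_lit 0x10700000a000074000034]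
noncomputable def sf8_0_S1 : List ℕ := [nat_lit 0x10b00000a000078008034, nat_lit 0x10b00002f000044008036, nat_lit 0x10f0001040000f9008040, nat_lit 0x10f00000a00007c000040, nat_lit 0xbb00004100006f00007c00010d006044, nat_lit 0x11300000e00008400401a, nat_lit 0x113000033000038004022, nat_lit 0x1130000330000070000240000d000c03c, nat_lit 0x9900011d00a030, nat_lit 0x11700000e00008800401c, nat_lit 0x11700003300002c0000f001002a, nat_lit 0x11b00000e00008c000034, nat_lit 0x11b00003300004000003a, nat_lit 0x11f00011c006030, nat_lit 0x11f00000e000090008034, nat_lit 0x11f00011400011a0000120000a401003c, nat_lit 0x6d00013d00013600803a, nat_lit 0x12300000e000094000040, nat_lit 0x12700001200009c00401c, nat_lit 0x12700003700003000010401002e, nat_lit 0x12b0000120000a0000034, nat_lit 0x12b00011900012100003a, nat_lit 0x5a0000c400015500c022, nat_lit 0x12f00012c006030, nat_lit 0x12f0000120000a4008034, nat_lit 0x12f00003700003400000e00009001003c, nat_lit 0x1330000120000a8000040, nat_lit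 0x1370000160000ac004018, nat_lit 0x1370000c100012900401e, nat_lit 0x1370000c10000ef0000ec00c02a, nat_lit 0x13b0000160000b000401a, nat_lit 0x13b0000f500014d004020, nat_lit 0x13b0000f500010300010000c02e, nat_lit 0x13f00003b000040000032, nat_lit 0x13f0000160000b4000034, nat_lit 0x143000140006030, nat_lit 0x14300003b000044008032, nat_lit 0x1430000160000b8008034, nat_lit 0x14700003b000048008040, nat_lit 0x1470000c10000ef0000fc0000e6000044, nat_lit 0x1470000f500010300011000010e006044, nat_lit 0x14b00001a0000c0004014, nat_lit 0xa90000b10001a500c034, nat_lit 0x14f00001a0000c4004018, nat_lit 0x14f000131000141008022, nat_lit 0x520000a00001b100c03a, nat_lit 0x15300003f00004800803e, nat_lit 0x15300001a0000c8000040, nat_lit 0x15b0000220000d000401a, nat_lit 0x15b00001e00015000403a, nat_lit 0x15b00004300003800011900011601403c, nat_lit 0x15f00001e00015400803e, nat_lit 0x15f00004300004800603e, nat_lit 0x15f0000220000d4000040, nat_lit 0x1630001990001a2004014, nat_lit 0x1630000260000d8004028,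 nat_lit 0x16300002600002700001c000041014044, nat_lit 0x16700019900019e004016, nat_lit 0x1670000260000dc00402c, nat_lit 0x16700002600002700001c000035002044, nat_lit 0x17300002a00006800401e, nat_lit 0x1730000a90000e70000ec00c026, nat_lit 0x17700004b000054004020, nat_lit 0x1770000a90000a600010000c024]
noncomputable def sf8_0_S2 : List ℕ := [nat_lit 0x17b00004b00005800802c, nat_lit 0x17f00002a0000700001e10001de000044, nat_lit 0x17f00004b0000580001ed0001ea006044, nat_lit 0x18300002e000080004012, nat_lit 0x18300004f0000050000e8010026, nat_lit 0x18700004f000054004022, nat_lit 0x1870000b50000ba00011400c024, nat_lit 0x18b00004f00005c00003a, nat_lit 0x197000032000128008028, nat_lit 0x19700005300004c00017c01002e, nat_lit 0x19f00019c006030, nat_lit 0x1a7000201000225004020, nat_lit 0x1a70000bd0000c200013c00c024, nat_lit 0x1a700020100017b00017800c02e, nat_lit 0x1ab00005700005c000032, nat_lit 0x1ab0000360000b4000036, nat_lit 0x1b30000c90000ce00015000c026, nat_lit 0x1bf00005f00006400603e,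 nat_lit 0x1c300019d0001a2008012, nat_lit 0x1c70001e500016700016c00c026, nat_lit 0x1d300003a00011800802c, nat_lit 0x1d300006700002900017c01002a, nat_lit 0x1db0001d8006030, nat_lit 0x1e300003e000098008012, nat_lit 0x1e30000ed0001fd004014, nat_lit 0x1e300006b0000090000a5010024, nat_lit 0x1eb0001e8006030, nat_lit 0x1f30000f10000f600013800c026, nat_lit 0x1f700006f000074000032, nat_lit 0x1fb00006f000078008032, nat_lit 0x1fb0000420000b8008036, nat_lit 0x20300007300007c00803e, nat_lit 0x20700004600020000403a, nat_lit 0x20700010100010600015c00c024, nat_lit 0x20b00004600020400803e, nat_lit 0x2130001d900016300017000c024, nat_lit 0x21700004a0001d000401a, nat_lit 0x21700004e00000a00007800020800c03c, nat_lit 0x28100029500a030, nat_lit 0x21b00007f00008800802c, nat_lit 0x223000220006030, nat_lit 0x22300004a0001dc008034, nat_lit 0x22700004a0001e0000040, nat_lit 0x22b000115000219004014, nat_lit 0x22b00005200009800801e, nat_lit 0x22b0001b600024100c036, nat_lit 0x22b00008300000d0000b9010024,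 nat_lit 0x1bb00005f0000050000ec0002b900a03c, nat_lit 0x22f00008300008000021c01002e, nat_lit 0x23700029d0002c1004020, nat_lit 0x23700029d00021b00021800c02e, nat_lit 0x23b00008700008c000032, nat_lit 0x23f000087000090008032, nat_lit 0x243000087000094008040, nat_lit 0x24300029d00021b0002280002aa006044, nat_lit 0x24700008b00009400803e, nat_lit 0x24b00005e00024800803e, nat_lit 0x24b00008f00009400603e, nat_lit 0x24f0002d50002da004014, nat_lit 0x24f000145000123000118000251014044, nat_lit 0x253000145000123000118000171002044, nat_lit 0x25f00006200019800401c, nat_lit 0x25f00009700009c008028, nat_lit 0x25f0002b100022b00023001002a]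
noncomputable def sf8_0_S3 : List ℕ := [nat_lit 0x26300006200019c000034, nat_lit 0x2630002b10002b600003a, nat_lit 0x21e0001b400030500c022, nat_lit 0x2670000620001a4000040, nat_lit 0x26b0002f90002fe00401e, nat_lit 0x26b0002f900025f0002b100c02a, nat_lit 0x26f00009b0000a0000032, nat_lit 0x27300009b0000a4008032, nat_lit 0x27700009b0000a8008040, nat_lit 0x2770002f900025f00026800030e000044, nat_lit 0x27f00009f0000a800803e, nat_lit 0x28300006e00027c004036, nat_lit 0x2830000a300003d0001e4000262014038, nat_lit 0x33100032e004030, nat_lit 0x28700006e00028000803e, nat_lit 0x2870000a30000a800603e, nat_lit 0x28b00016900013300012800017d014044, nat_lit 0x28f000321000326004016, nat_lit 0x28f000169000133000128000221002044, nat_lit 0x29b00007200029d004012, nat_lit 0x29b00016d00026d004016, nat_lit 0x29b00007600018400402c, nat_lit 0x29b0000ab0000150000f5010026, nat_lit 0x29f0000ab0000b0004022, nat_lit 0x2a300007600018c000032, nat_lit 0x2a300007200023c000036, nat_lit 0x2a30000ab0000b400003a,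 nat_lit 0x2a7000076000190008032, nat_lit 0x2ab000076000194008040, nat_lit 0x2ab00016d0002f1000040, nat_lit 0x2af00007a0002f9008012, nat_lit 0x2af00007e0001e4004028, nat_lit 0x2b300007e0001ec008032, nat_lit 0x2b300007a000274008036, nat_lit 0x2b30000af0000b800803a, nat_lit 0x2b700007e0001f0008040, nat_lit 0x2b7000179000341000040, nat_lit 0x2b700007a00009b0000a8000169006044, nat_lit 0x2bb0000820000c0004028, nat_lit 0x2c30000820000c8008040, nat_lit 0x2c700008a0000cc00402c, nat_lit 0x2cb0000860002c000403a, nat_lit 0x2cf0000b70000bc00603e, nat_lit 0x2cf00008a0000d4008040, nat_lit 0x2d300008e0000e0004018, nat_lit 0x2d300011200010e00021000c02a, nat_lit 0x2d700008e0000e400401a, nat_lit 0x2d70000ea0000e60001cc00c02e, nat_lit 0x2db0000bf0000c400401e, nat_lit 0x2db0000bf0000810002c000c02a, nat_lit 0x2db0001a50001a900017800033600803c, nat_lit 0x2df0002dc0003ca004022, nat_lit 0x2df0000b200021100403a, nat_lit 0x2e70003c10003c6008028, nat_lit 0x2e70000c30000c000039901002a,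 nat_lit 0x2ef0000920000dc00c036, nat_lit 0x2f70000920000e400c03a, nat_lit 0x2ff0001c1000285004014, nat_lit 0x2ff0000cf000021000105010024, nat_lit 0x3030000cf0000cc0003a101002e, nat_lit 0x30b00009e0002f400c036, nat_lit 0x30f0000a20000d8004036, nat_lit 0x3130000a20000e000403a, nat_lit 0x3170000d70000e000401e]
noncomputable def sf8_0_S4 : List ℕ := [nat_lit 0x3170000d700002500016c00c02a, nat_lit 0x31b0001090001110002d800c024, nat_lit 0x31f0000e10000e90002d400c026, nat_lit 0x3230000db0000e4004020, nat_lit 0x3230000db00002500017000c02e, nat_lit 0x32b0003b1000409004016, nat_lit 0x32b0000df00008d0000ea010026, nat_lit 0x32f0000df0000e4004022, nat_lit 0x3330003b10003b600401c, nat_lit 0x3330003fd000402008028, nat_lit 0x3330000df0000d80001dd01002a, nat_lit 0x3370003f9006030, nat_lit 0x33f0003b9000405004014, nat_lit 0x33f0000e300008d000112010024, nat_lit 0x3430003b90003be00401c, nat_lit 0x34300040d00041200802c, nat_lit 0x3430000e30000dc0001e901002e, nat_lit 0x3470003e1004030,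 nat_lit 0x34f0000e70000f000802c, nat_lit 0x34f0000ae0003a1004032, nat_lit 0x34f0000b100039900c032, nat_lit 0x34f00021100020e00021c01002a, nat_lit 0x34f00026500025e00026001002e, nat_lit 0x1c30000e50000fb0000f0000449014044, nat_lit 0x35300035000045d008040, nat_lit 0x3530000a60001040000f90001dd000044, nat_lit 0x3530000e70000f00000c50001e9006044, nat_lit 0x3570000b600018c000034, nat_lit 0x35b0000b6000190008034, nat_lit 0x35b0002b90002bd00803a, nat_lit 0x35f0001750002f1008040, nat_lit 0x35f0000b6000194000040, nat_lit 0x24300007100007600019400047d000044, nat_lit 0x3630000ef0000f4000032, nat_lit 0x3630000c2000140000036, nat_lit 0x3630000c50003dd00403e, nat_lit 0x2720000de000485000028, nat_lit 0x3670000ef0000f8008032, nat_lit 0x3670000be0001b0008034, nat_lit 0x36700044900044e008036, nat_lit 0x3670000c500032800a03e, nat_lit 0x36b0000f30000fc00803e, nat_lit 0x36b00048500048e008040, nat_lit 0x36b0000ca0001b8000040, nat_lit 0x2c300023d00023a0001b80004ad006044, nat_lit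 0x36f0000f70000fc00603e, nat_lit 0x36f0004950004a2008040, nat_lit 0x36f0000d60001c0000040, nat_lit 0x30f0000a20000dc0003280004b9012038, nat_lit 0x4c100030f00030c008012, nat_lit 0x3730000e9000112008012, nat_lit 0x3730000e2000209004014, nat_lit 0x3730000e60001c4004028, nat_lit 0x3730004b50004c600c036, nat_lit 0x3730000e6000063000058000201014044, nat_lit 0x3f10004d5008030, nat_lit 0x3770000e200032400401a, nat_lit 0x3770000e90002d8004020, nat_lit 0x37b0000ee0001ec008034, nat_lit 0x37f0000ee0001f0000040, nat_lit 0x38300010300010c008032, nat_lit 0x3830000f6000144008036, nat_lit 0x3830000f90003f500a03e, nat_lit 0x3830000f60000c10000be0001b0010038]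
noncomputable def sf8_0_S5 : List ℕ := [nat_lit 0x38700010700011000803e, nat_lit 0x3870000fe000204000040, nat_lit 0x48d000491000272000204000505000044, nat_lit 0x5090002ef0002f4004012, nat_lit 0x38b0004f10004fa008040, nat_lit 0x38b00010200020c000040, nat_lit 0x2cf00027900027600020c000515000044, nat_lit 0x38f00010a000318004018, nat_lit 0x38f0001110002d400401e, nat_lit 0x3930001210002e800c032, nat_lit 0x39300011a00003100019801002a, nat_lit 0x3930001130000390001d401002e, nat_lit 0x39700011e00030800803e, nat_lit 0x3970001210002ec00603e, nat_lit 0x397000116000234000040, nat_lit 0x39b00025100052d004020, nat_lit 0x39b0001260000710002a000c024, nat_lit 0x39b0002510001d30001d000c02e, nat_lit 0x39f000117000120008032, nat_lit 0x39f000126000240008034, nat_lit 0x3a3000117000124008040, nat_lit 0x3a300017100017600036000047e000044, nat_lit 0x3a30002510001d30001e00002a9006044, nat_lit 0x3a700011b00012400803e, nat_lit 0x3a700012e000248000040, nat_lit 0x3ab00013e000284008020, nat_lit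 0x3af00011f00012400603e, nat_lit 0x3af00013a00024c000040, nat_lit 0x3b300055100055a004014, nat_lit 0x3b3000146000250004028, nat_lit 0x3b300014600009300008800029d014044, nat_lit 0x3bf00022100052900401e, nat_lit 0x3bf00014e000359008022, nat_lit 0x3bf00014a00007900035d00c026, nat_lit 0x3bf00022100019700021500c02a, nat_lit 0x3c300012700012c000032, nat_lit 0x3c300014a000270000034, nat_lit 0x3c70003c4006030, nat_lit 0x3c7000127000130008032, nat_lit 0x3cb000127000134008040, nat_lit 0x3cb0002210001970001a400030d000044, nat_lit 0x3cb00017d0001820003800004ee006044, nat_lit 0x3cf00012b00013400803e, nat_lit 0x3cf000152000280000040, nat_lit 0x3d300015e0003d000803e, nat_lit 0x3d300012f00013400603e, nat_lit 0x3d3000162000288000040, nat_lit 0x3d700059d0005a2004016, nat_lit 0x3d700016a00029000402c, nat_lit 0x3d700016a0000a700009c0002f9002044, nat_lit 0x3e300016e0002a000401a, nat_lit 0x3e300013700013c004022, nat_lit 0x3e30001370000160000b80002cc00c03c, nat_lit 0x3a50005d100a030,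 nat_lit 0x3e70003e40005ce00017a0002b401003c, nat_lit 0x3eb0005cd0005d500003a, nat_lit 0x3ef00018200037c008032, nat_lit 0x3ef00017a0002b4008034, nat_lit 0x3ef00017e0003c8008036, nat_lit 0x3f300018600014c004028, nat_lit 0x3f30001860001540001be0002f4014044, nat_lit 0x4d90004dd0005f100003e, nat_lit 0x3f700013f00014800803e, nat_lit 0x3f7000186000154008040]
noncomputable def sf8_0_S6 : List ℕ := [nat_lit 0x3f700018a0002c4000040, nat_lit 0x3f700048900048600036c0004ae006044, nat_lit 0x2e30000bf0000810002c4000601000044, nat_lit 0x3fb00019200015800402c, nat_lit 0x3fb0001920001600001d600030c002044, nat_lit 0x3ff00014300013c0005cd0005ca01403c, nat_lit 0x40300018e0003f800803e, nat_lit 0x40300014300014800603e, nat_lit 0x403000192000160008040, nat_lit 0x4030001960002d0000040, nat_lit 0x4030004f50004f200038c000516000044, nat_lit 0x2fb0000cb0000890002d0000625006044, nat_lit 0x4070001a200021000401e, nat_lit 0x4070001a200010d00039000c02a, nat_lit 0x40b00019e0000e500037800c02e,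 nat_lit 0x40f0005ed0005f2008040, nat_lit 0x40f00014b0001850003f8000602000044, nat_lit 0x4130001b500023400803e, nat_lit 0x4130001ae0002ec000040, nat_lit 0x4170005fd00061900062a00028a008038, nat_lit 0x41b00041800064e004012, nat_lit 0x41b0005fd000609004016, nat_lit 0x41f0001ba00017000c03a, nat_lit 0x42700015700015c004020, nat_lit 0x42700015700019100040000c02e, nat_lit 0x42b00060d000612008040, nat_lit 0x42b000157000191000404000626006044, nat_lit 0x42f00065d00066200802c, nat_lit 0x4330001c600041400803e, nat_lit 0x4330001ca00023400603e, nat_lit 0x4330001c2000308000040, nat_lit 0x43700062100062d004014, nat_lit 0x43700062100061e00019e000245008038, nat_lit 0x43b000438000682004012, nat_lit 0x43b00062100062a004016, nat_lit 0x43f0001ce00042400c03a, nat_lit 0x4430001d200016c00403a, nat_lit 0x4470001da00021400401a, nat_lit 0x4470001da0001a100040c00c024, nat_lit 0x44b0001e60001c8004018, nat_lit 0x44b0001e600019d00040800c026, nat_lit 0x453000691006030, nat_lit 0x45f0001f60002b9004020,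 nat_lit 0x4630001f20001d40002ed000575000044, nat_lit 0x4630001f60001750002f1000375006044, nat_lit 0x4670001fa0001980003490005c1006044, nat_lit 0x46b0004cd0004ca00039000c026, nat_lit 0x46f00020600031c004020, nat_lit 0x46f0004cd00037300037800c024, nat_lit 0x46f0002060001dd00044800c02e, nat_lit 0x473000212000265004022, nat_lit 0x47700020e00021c000579000576000044, nat_lit 0x4770001830000750002ac000376006044, nat_lit 0x47f00018b00019400803e, nat_lit 0x48300018f00019400603e, nat_lit 0x48700055500055a008012, nat_lit 0x4870003710006b1004014, nat_lit 0x48700047d00035f00017500026d014044, nat_lit 0x49300019700019c000032, nat_lit 0x4930002220003c4000036, nat_lit 0x49300052900052600003a, nat_lit 0x49f00022a00049c00803e, nat_lit 0x49f00019f0001a400603e, nat_lit 0x4a300030d000267000260000379014044]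
noncomputable def sf8_0_S7 : List ℕ := [nat_lit 0x4a700034500028f00029400c026, nat_lit 0x4af000236000336000032, nat_lit 0x4af0002320003ec000036, nat_lit 0x5910003c300017d0003ec000709004038, nat_lit 0x4b3000236000331008032, nat_lit 0x4b300022e00022200014a000274010038, nat_lit 0x4b700049900049e0003ed00c024, nat_lit 0x4b70004fd0004f20003e900c02e, nat_lit 0x4c70002460001c800403a, nat_lit 0x4cb0001c30001c800401e, nat_lit 0x4cb00046100046600042900c026, nat_lit 0x4cb0001c30000e500041900c02a, nat_lit 0x4cf00024a000214004020, nat_lit 0x4cf00046100046a00044100c024, nat_lit 0x4cf00024a00010d00043500c02e, nat_lit 0x4d300024e000450004020, nat_lit 0x4d30001c70001cc004022, nat_lit 0x4d700072500072e008028, nat_lit 0x4d700024e00040100802c, nat_lit 0x4d70001c70001c40004d101002a, nat_lit 0x4db000721006030, nat_lit 0x4e3000439000735004014, nat_lit 0x4e30003bd000405004028, nat_lit 0x4ef0002560005f600003a, nat_lit 0x36a0001890003f400075d00c024, nat_lit 0x4f30001d30001dc008032, nat_lit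 0x4f30002520003a0008036, nat_lit 0x4f300025200017100016e0002a8010038, nat_lit 0x4f70001d70001e000803e, nat_lit 0x4fb00025a0004f800803e, nat_lit 0x4fb0001db0001e000603e, nat_lit 0x4ff0002d9000482004012, nat_lit 0x4ff0002e90006cd004016, nat_lit 0x4ff0002a90006dd00402c, nat_lit 0x4ff0002a900022700021c00034d002044, nat_lit 0x5070002e900024f00025c00c024, nat_lit 0x50b00037d0006fd008040, nat_lit 0x50b0001e300007d0002b8000392000044, nat_lit 0x50b00025e0002600005c50005c2006044, nat_lit 0x50f0001e70001f000803e, nat_lit 0x51300026a00051000803e, nat_lit 0x51700038d0003960003e000c024, nat_lit 0x51f00027e00021400c03a, nat_lit 0x5270006890006860004c800c024, nat_lit 0x52b0006310006a1004012, nat_lit 0x52f00020f000214004022, nat_lit 0x52f00042100042600045000c024, nat_lit 0x53300052c0007b200069e0004dc010038, nat_lit 0x53b0006950006c500401c, nat_lit 0x53b00028e000411008028, nat_lit 0x53b00073100073a00802c, nat_lit 0x53b0002130002490004d101002e, nat_lit 0x53f0007a9004030, nat_lit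 0x54700029900051c00603e, nat_lit 0x5470002920004ec000040, nat_lit 0x54b00045500045200003a, nat_lit 0x6f20003da0007dd00c022, nat_lit 0x54f00021b000224008032, nat_lit 0x54f00029e000240008036, nat_lit 0x54f00029e00007100016d0003e8010038, nat_lit 0x54f0002c10002fd0002f600049801003c, nat_lit 0x55300021f00022800803e, nat_lit 0x5570002a200055400803e, nat_lit 0x55700022300022800603e]
noncomputable def sf8_0_S8 : List ℕ := [nat_lit 0x5570002a60004fc000040, nat_lit 0x55f0005710003b30003bc00c024, nat_lit 0x5630002bd0004c000803e, nat_lit 0x5630002ae00047c000040, nat_lit 0x56700022f000234008040, nat_lit 0x56700031100031600056400080e000044, nat_lit 0x5670002c50002ca0005480007da006044, nat_lit 0x56b00081100081a004014, nat_lit 0x56b00053900039700039400053d014044, nat_lit 0x56f000811000816004016, nat_lit 0x56f00053900039700039400057d002044, nat_lit 0x57b00023b00024400803e, nat_lit 0x57b0002ce000248008040, nat_lit 0x57f00023f00024400603e, nat_lit 0x57f0002d200024c008040, nat_lit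 0x57f0007e90007e6000558000802000044, nat_lit 0x5830002d6000258004018, nat_lit 0x5830002da00050400401e, nat_lit 0x5830002da0002a900055c00c02a, nat_lit 0x5870002d600025c00401a, nat_lit 0x58700048200047e00049000c02e, nat_lit 0x58b0002de0002540006d1000781014038, nat_lit 0x58f0002de00025c00c03a, nat_lit 0x5970002e200058c00c036, nat_lit 0x85500085d008030, nat_lit 0x59b00083900083e004016, nat_lit 0x59b0002e6000250004036, nat_lit 0x59b00056d0003af000549000769002044, nat_lit 0x59f0002e200059400c03a, nat_lit 0x5a30002e600025800403a, nat_lit 0x5a70002ea000504004018, nat_lit 0x5a700024f00025800401e, nat_lit 0x5a700024f0001450003b800c02a, nat_lit 0x5ab0002ea00050800401a, nat_lit 0x5af0002ea000771008034, nat_lit 0x5af0002ee0004f000a03e, nat_lit 0x5b300047900048100058400c026, nat_lit 0x5b700025300025c004020, nat_lit 0x5b70002530001450003bc00c02e, nat_lit 0x5bb000841000891004016, nat_lit 0x5bb0002570002d5000482010026, nat_lit 0x5bf00025700025c004022, nat_lit 0x5c300084100084a00401c,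 nat_lit 0x5c300087d000882008028, nat_lit 0x5c300025700025000057501002a, nat_lit 0x5c7000875006030, nat_lit 0x5cb000859004030, nat_lit 0x5d300025f000264000032, nat_lit 0x5d30002fa000270000036, nat_lit 0x5d700030200049c000040, nat_lit 0x5db0005bd0003d70003dc00c026, nat_lit 0x5e3000316000564008040, nat_lit 0x5e300031200022f000234000539000044, nat_lit 0x5e700070e0007060003cd00c02a, nat_lit 0x3560003d10008d500c032, nat_lit 0x8d900078900085500403e, nat_lit 0x5eb00031a000280008040, nat_lit 0x5eb0008c10008be0005d80008c6006044, nat_lit 0x5ef00071500071200056500c02e, nat_lit 0x5ef00027300006a0001f400035101403c, nat_lit 0x86100078a0008ed00c03e, nat_lit 0x5f300027300027800603e, nat_lit 0x5f300031e000288008040, nat_lit 0x5f700032200029800401a]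
noncomputable def sf8_0_S9 : List ℕ := [nat_lit 0x5f700032600030d0005e000c02e, nat_lit 0x5fb0008e10008e6004014, nat_lit 0x5fb00032a00029000c036, nat_lit 0x5fb0005ad0003cf00058d0006ed014044, nat_lit 0x5ff00032a00029800c03a, nat_lit 0x6070008f90008f60003260006f9008038, nat_lit 0x60b000608000916004012, nat_lit 0x60b0005b90003d30005990005e9002044, nat_lit 0x60f00033e00029400403a, nat_lit 0x61300028b0001690003dc00c02a, nat_lit 0x6170003460004a8004018, nat_lit 0x61b00028f000298004020, nat_lit 0x61f000909004030, nat_lit 0x61f0003460006f9000034, nat_lit 0x61f00034a00049800403e, nat_lit 0x62700029300028c00039101002a, nat_lit 0x62b000921006030, nat_lit 0x6330002970002900005c101002e, nat_lit 0x63b0005410005460004ec0007d9000044, nat_lit 0x63b00058500058a00047c00080d006044, nat_lit 0x63f0002b30002b800603e, nat_lit 0x63f000382000514008040, nat_lit 0x63f0005e500091d000040, nat_lit 0x63f00038600031e0002880005b9000044, nat_lit 0x64300038e00051800401a, nat_lit 0x6470003d50002e70002ec000649000044,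 nat_lit 0x64b00039e0002f8004018, nat_lit 0x64b0004b20004ae0004bc00c02a, nat_lit 0x64b00039e00009d00031400042d00803c, nat_lit 0x64f00064c000972004022, nat_lit 0x6530003ae0000a20000e400034800803c, nat_lit 0x41e00034800097900c03a, nat_lit 0x6570003ae00031400401a, nat_lit 0x65700065400097a004022, nat_lit 0x6570003aa0002d400403a, nat_lit 0x65b0002d30002d8004022, nat_lit 0x65f000989006030, nat_lit 0x65f0003b6000534008032, nat_lit 0x65f00065c00098e0003ba0003e101003c, nat_lit 0x6630003b6000538008040, nat_lit 0x6630003b200033c000040, nat_lit 0x45700042500033300033c0009a1000044, nat_lit 0x6670003be0004e8008040, nat_lit 0x6670003ba00034c000040, nat_lit 0x45b00043d00034300034c0009ad006044, nat_lit 0x66b0005350008d100c036, nat_lit 0x7d500094900094e0008cd0009b5010038, nat_lit 0x66f00066c0009b9004012, nat_lit 0x66f00064900096500402c, nat_lit 0x6730003de00032400c03a, nat_lit 0x6730002ef0001bd00042000c02a, nat_lit 0x67700063d00064200064c00c026, nat_lit 0x67700050d00050600052000c02a,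 nat_lit 0x67b0009690009cd004016, nat_lit 0x67b0003e200040d0007c50007c2014038, nat_lit 0x67f00096900096e00401c, nat_lit 0x67f0009990009960007be00a02e, nat_lit 0x68700062e00062600065400c02a, nat_lit 0x68b00067d00043700044400c024, nat_lit 0x68f0003e6000524000040, nat_lit 0x693000303000308008040, nat_lit 0x69300071900071e0006900009ee000044, nat_lit 0x69700067900043300043000066e014044, nat_lit 0x63b0006150009f900003e]
noncomputable def sf8_0_S10 : List ℕ := [nat_lit 0x9fd00094e00080a000036, nat_lit 0x69b000698000a02004012, nat_lit 0x69b0009f10009f6004016, nat_lit 0x6a30004d500074d00403a, nat_lit 0x6a300066500066a00065800c024, nat_lit 0x6a700051100051900065400c026, nat_lit 0x6a70004c20004be0004c400c02a, nat_lit 0x6ab00030f000314004020, nat_lit 0x6ab00030f0001d500044400c02e, nat_lit 0x6af000981000a11004014, nat_lit 0x6b30003fa00033c00803e, nat_lit 0x6bb000402000458008040, nat_lit 0x6bf0006bd0009d9008036, nat_lit 0x6bf0006bd0006c20004e20009c5010038, nat_lit 0x6cb00041200045c008040,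 nat_lit 0x9a90009b1000a39000014, nat_lit 0x6cf000745000a0d000036, nat_lit 0x6cf00041a0004b500003a, nat_lit 0x6d30004160006c8000040, nat_lit 0xa490006d300072d0007260004e0016044, nat_lit 0x6d700041e00034000801e, nat_lit 0x6d700097e000a1500c036, nat_lit 0x6d700032f0003b1000521010024, nat_lit 0x6db00097e0009e500c032, nat_lit 0x6db00041e00034000073901002a, nat_lit 0x6df00033300033c008040, nat_lit 0x6df00072900072e0006d4000a4a006044, nat_lit 0x6e300042e0006b400803e, nat_lit 0x6e300033700033c00603e, nat_lit 0x6e70009a10009a500402c, nat_lit 0x6ef00043600050100803a, nat_lit 0x6ef00043600039000051e0006b801003c, nat_lit 0x6f30004320006c4000040, nat_lit 0xa810006f3000739000732000544010044, nat_lit 0x4e70004e400075a0006c4000a81000044, nat_lit 0x6f700044200044c008022, nat_lit 0x6f700073500073a000a5100c02a, nat_lit 0xa19000a55000a91004032, nat_lit 0x6fb0006f8000a9500003a, nat_lit 0x6ff00034300034c008040, nat_lit 0x6ff00043a0004e8000040, nat_lit 0x6ff00073500073a0006f4000a82000044,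 nat_lit 0x70300034700034c00803e, nat_lit 0x70300044600068400603e, nat_lit 0x7070009ad0006670003be0004e4002044, nat_lit 0x71300035700036000803e, nat_lit 0x71300046e000480000040, nat_lit 0x88e000761000362000480000ab9000044, nat_lit 0x57b000365000362000480000ab9006044, nat_lit 0x71700035b00036000603e, nat_lit 0x717000472000484000040, nat_lit 0x86e00076e00036e000484000ac9006044, nat_lit 0x71b00047a0005b800401a, nat_lit 0x71b000481000588004020, nat_lit 0x71f0004a600037800c03a, nat_lit 0x71f0004aa00050a000a7900c026, nat_lit 0x7230004e20006cc000040, nat_lit 0x7230004e60003be0004e8000aa1006044, nat_lit 0xa85000aa5000ae5000012, nat_lit 0x7270004ea000514000040, nat_lit 0x73300051e0006bc000040, nat_lit 0x7370005320006a000c03a, nat_lit 0x73f00039f0003a400603e, nat_lit 0x73f00054a0003b0008040]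
noncomputable def sf8_0_S11 : List ℕ := [nat_lit 0x73f00054e000580000040, nat_lit 0x73f0007690007660004fc000801000044, nat_lit 0x74300055a00055c00401e, nat_lit 0x74300055a0002aa00050400c02a, nat_lit 0x7470005520003bc00401a, nat_lit 0x747000556000490004020, nat_lit 0x74700055600047d00071c00c02e, nat_lit 0x74b00055e0003bc00c03a, nat_lit 0x74f0008e90008f1008040, nat_lit 0x74f0003ab000549000740000b02006044, nat_lit 0x753000afd000afa0005560006d9008038, nat_lit 0x757000754000b2a004012, nat_lit 0x757000afd000b06004016, nat_lit 0x75700056a0003b4004036, nat_lit 0x75700056e00024b0002d10007e9002044, nat_lit 0x75f00056a0003b800403a, nat_lit 0x76300057200056000401a, nat_lit 0x76300057200055900074800c024, nat_lit 0x7670005760005b0008032, nat_lit 0x7670005720007f5008034, nat_lit 0x76700057a00054c00a03e, nat_lit 0x7670006ad0006b20003720006d5010038, nat_lit 0x76b0003b70003bc004022, nat_lit 0x77b00058e0003d0008040, nat_lit 0x77b0006ed0006ea00049c0008c5006044, nat_lit 0x77f00059600077c00803e,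 nat_lit 0x77f0005e90005e2000728000aee000044, nat_lit 0x7830005a60004ed00072c00c02a, nat_lit 0x787000b5d000b62004014, nat_lit 0x787000b5d000b65000b6a0007a2008038, nat_lit 0x78b0005aa0003e000c03a, nat_lit 0x7930005b200079000c03a, nat_lit 0x7970005b60003dc00403a, nat_lit 0x79b0005be0005a100078400c026, nat_lit 0x79f0003db0003e0004022, nat_lit 0x7a3000b81006030, nat_lit 0x7ab000b79004030, nat_lit 0x7af0005fe000420004018, nat_lit 0x7af0006060004bc00401e, nat_lit 0x7af0005fa00040c00c03a, nat_lit 0x7af0006060004ad00072000c02a, nat_lit 0x7af0005fe0001cd0004440006a500803c, nat_lit 0x7b3000622000440004018, nat_lit 0x7b300062d00068800401e, nat_lit 0x7b700062a000528004020, nat_lit 0x7b700061e00040800403a, nat_lit 0x7b700062a00051500073000c02e, nat_lit 0x7bb0006a1000a8d004020, nat_lit 0x7bb00040700040c004022, nat_lit 0x7bb00040700019a0001b900042400c03c, nat_lit 0x7bb000bb50007b70007b4000baa01403c, nat_lit 0x7bf000b9d004030, nat_lit 0x7bf000bc1000bca00003a, nat_lit 0x7cb00065200052000401e,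 nat_lit 0x7cb00065600060a0007b000c026, nat_lit 0x7cb000652000505000a7900c02a, nat_lit 0x7cf00065a00045c00603e, nat_lit 0x7d70006720007c800c03a, nat_lit 0x7db00067600057400403a, nat_lit 0x7df00067e00068c00401a, nat_lit 0x7df00067e00062e0007b800c024, nat_lit 0x7df0006820004bd000a4500c02e, nat_lit 0x7e300068e0007d400603e, nat_lit 0x7e700069200045800803e]
noncomputable def sf8_0_S12 : List ℕ := [nat_lit 0x7eb0006960007a9008034, nat_lit 0x7ef00069a00063a000724000ae2000044, nat_lit 0x7f300069e000721000034, nat_lit 0x7f70006a2000636000734000af2006044, nat_lit 0x7fb000ba5000bd9008020, nat_lit 0x7fb0006a60009e9004036, nat_lit 0x7ff00045300045800603e, nat_lit 0x803000a2d000c0d004014, nat_lit 0x8070009a60009a20006ec00c02e, nat_lit 0x80b0009b20009ae00070c00c02a, nat_lit 0x80f0006e10006de00055c00c026, nat_lit 0x80f0006b20003760005b400c02a, nat_lit 0x8130006ae000764004020, nat_lit 0x8130006e100048700049000c024, nat_lit 0x8130006ae0005760005ac00c02e, nat_lit 0x8170006b600079c00401e,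 nat_lit 0x8170006b60005c200061800c02a, nat_lit 0x81b0006ba000a59004020, nat_lit 0x81b00046b000470004022, nat_lit 0x81f00078100077e00071c00c024, nat_lit 0x81f0006ce00057500076400c02e, nat_lit 0x82300082500056f00057400c026, nat_lit 0x82b0006d600049000c03a, nat_lit 0x83300048700048c00401e, nat_lit 0x83300048700047d0008a100c02a, nat_lit 0x8370006e200081400401a, nat_lit 0x8370006de000560004020, nat_lit 0x83b000c5d000c62008028, nat_lit 0x83b00048b00048800078501002a, nat_lit 0x83f000c59004030, nat_lit 0x8470009050005fb00060400c024, nat_lit 0x84b0006f600084800c03a, nat_lit 0x84f0006fa0004a800403a, nat_lit 0x8530004a30004a800401e, nat_lit 0x85300079100079600061400c026, nat_lit 0x857000702000624004020, nat_lit 0x8570004a70004ac004022, nat_lit 0x85b000929000c4100401c, nat_lit 0x85b00070200062800802c, nat_lit 0x85f000c81006030, nat_lit 0x85f00070200062c008036, nat_lit 0x8630004ab000345000799010024, nat_lit 0x86f0007220004e000803e, nat_lit 0xa2a000a65000a6a000a4e000ca9006038,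 nat_lit 0x87300072a00033300033c0009a1006044, nat_lit 0x8770007360006fc000036, nat_lit 0x877000a61000a5e00003a, nat_lit 0xbd2000ba9000bae000cb900c024, nat_lit 0x87b000755000ab1000040, nat_lit 0x87b00073600034300034c0009ad000044, nat_lit 0x87f0004d70004e0008040, nat_lit 0x87f00074a000402000458000a75006044, nat_lit 0x88300075200087000803e, nat_lit 0x8830004db0004e000603e, nat_lit 0xa6e000cae000cd1008036, nat_lit 0x89300081d00056b00057800c024, nat_lit 0x89700077a00050400403a, nat_lit 0x89b0004ff000508004020, nat_lit 0x89b0004ff0002a900056000c02e, nat_lit 0x89f000503000508004022, nat_lit 0x8a3000ce1006030, nat_lit 0x8ab00078e0005cc000036, nat_lit 0x8af00079a00061800401e, nat_lit 0x8af00079a0005c100079c00c02a]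
noncomputable def sf8_0_S13 : List ℕ := [nat_lit 0x8b300079e00051800c03a, nat_lit 0x8bb0007a20008b800c03a, nat_lit 0x8bb00095500095e00079400c026, nat_lit 0x8bf000d01004030, nat_lit 0x8bf0007a60007ac000036, nat_lit 0x8c70007aa00054400603e, nat_lit 0x8cb000a09000a0600086c00c024, nat_lit 0x8cf0007b60002130002490001c300006300005000018800047c000824014046, nat_lit 0x8cf0007ba00073d0004d30001c700006300005400021500047c000828006046, nat_lit 0x8d700053b000544008040, nat_lit 0x8d70007ca00073900087c000cc2006044, nat_lit 0x8db00053f00054400803e, nat_lit 0x8db0007d20008c800603e, nat_lit 0xaaa000708000d29000d26000d2d010038, nat_lit 0x8e70007d60008c400403a, nat_lit 0x8eb0007f600056000c03a, nat_lit 0x8eb000b4d000b5600082c00c026, nat_lit 0x8f30007fa0008f000c03a, nat_lit 0x8f3000b3100075700075c00c026, nat_lit 0x8f70007fe00055c00403a, nat_lit 0x8f7000b31000b2e00083000c024, nat_lit 0x8fb00055b000560004022, nat_lit 0x8fb0008a90008ae00076c00c024, nat_lit 0x8fb00055b00022700020d0001830001880002160001a40004ac000c9100e046,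 nat_lit 0x8ff000d4d006030, nat_lit 0x907000d3d004030, nat_lit 0xc76000d41000d65008036, nat_lit 0x90f00080a00086c00c03a, nat_lit 0x90f0008cd0008d200073800c026, nat_lit 0x91300081a0007d90008e400c02a, nat_lit 0x91700056b00057400401e, nat_lit 0x91700056b00053900073800c02a, nat_lit 0x91b00081e00089400401a, nat_lit 0x91f00056f000578004020, nat_lit 0x91f00056f00053900073c00c02e, nat_lit 0x923000c55000d1d004020, nat_lit 0x923000573000578004022, nat_lit 0x92300057300023300022c0006a900045f000173000180000470000c4900e046, nat_lit 0x92b000832000590004018, nat_lit 0x92b00082e00058800c03a, nat_lit 0x92b000ac2000aba00082c00c02a, nat_lit 0x92b0008320002e10005a40008b500803c, nat_lit 0x92f00083200059400401a, nat_lit 0x92f00092c000da6004022, nat_lit 0x93300083a0005a0004018, nat_lit 0x93300083a0002e600025c0005cc00803c, nat_lit 0xdb500093300057f0007e90007ee0005da00038a0002d000065800098600070400e046, nat_lit 0xcf6000dba000d36000004, nat_lit 0x8b9000dba000aaa00000e, nat_lit 0x5cc000dba000aae00000c,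 nat_lit 0x8ac000dbe000d3200000c, nat_lit 0xa9e000dc1000d99000000, nat_lit 0x70b000dc100058f000006, nat_lit 0x5cf000dc6000683000010, nat_lit 0xdca000d1600000e, nat_lit 0xaa1000dce000da200000a, nat_lit 0xdce000d9e00000c, nat_lit 0x562000dd1000c2500000a, nat_lit 0xdd50005cf000010, nat_lit 0xa89000dde000d41000004, nat_lit 0x74b000de600080b000006, nat_lit 0xdee000d3e00000c, nat_lit 0xbe2000df1000b1e00000e, nat_lit 0x777000df90007cf000010]
noncomputable def sf8_0_S14 : List ℕ := [nat_lit 0xdfd000777000010, nat_lit 0x89a000e01000b95004040, nat_lit 0x88600078e00089500089a000e010009c9000a35000a320009d6024042, nat_lit 0xbd60009d1000e09000c39000c32014044, nat_lit 0x90b000b41000e0d000bde000040, nat_lit 0xe1100090b000010, nat_lit 0xc4d000c52000e0d000bde000add014044, nat_lit 0x723000ad9000e1900003e, nat_lit 0xc02000bd5000bda000ba2000e19000b19000b16000c35000c65024042, nat_lit 0xe210007eb0007f000603e, nat_lit 0xc05000e25000c6a000806000b11014038, nat_lit 0x76f00076c000b5a000b11000e2901003c,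 nat_lit 0x8df000aea000ae2000e2d00c02e, nat_lit 0x882000770000e31004032, nat_lit 0xe3500087a0008a4008034, nat_lit 0xe390008df000d2500801a, nat_lit 0xe3d000cf200089700077600088901203c, nat_lit 0xb4a000e41000d2a000cc101002a, nat_lit 0xe45000b4e0007f90008f8000d6100803c, nat_lit 0xe49000cc60009ae00071000c02e, nat_lit 0xe4d0008ff00084900c032, nat_lit 0x5c7000841000e51008034, nat_lit 0xe55000dad000daa008018, nat_lit 0x84e00078d000ce5000cea000e15000bdd000bda000b9a0009dd024042, nat_lit 0x8a60005cc000db500c03a, nat_lit 0x93700083a0005a400401a, nat_lit 0x93700083e000898004020, nat_lit 0x93700083600058400403a, nat_lit 0x93b0008420005c000401a, nat_lit 0x93b000583000588004022, nat_lit 0x93b000e51000e5a00403a, nat_lit 0x93b000e6d000937000934000db201403c, nat_lit 0x93f000852000840000032, nat_lit 0x93f000e75000e7e00003a, nat_lit 0x943000593000831000ac2010024, nat_lit 0x94b0005970005a000401e, nat_lit 0x94b00059700056d00075c00c02a, nat_lit 0x94f000861000c7100403a, nat_lit 0x94f000b21000b2600093800c024,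 nat_lit 0x95300086600083d00093400c026, nat_lit 0x95300086600077a0005080008ac00803c, nat_lit 0xcee0008ac000ea100c03a, nat_lit 0x95700059b0005a4004020, nat_lit 0x95700086a0005a800403a, nat_lit 0x95b000e8d000e92008028, nat_lit 0x95f00087200094800603e, nat_lit 0x963000e65000e99004014, nat_lit 0x96b0005a70005ac004022, nat_lit 0x96b00087a00084500093c00c024, nat_lit 0x96f000882000774008040, nat_lit 0x96f00087a0008a8000040, nat_lit 0x903000b09000b0e0008a8000ec9000044, nat_lit 0x973000abe000e89004020, nat_lit 0x9770005b30005b8004022, nat_lit 0x97700089200084a0008fc00c02e, nat_lit 0x9770005b3000479000ab5000e8900c03c, nat_lit 0x97b000978000ede00803a, nat_lit 0x97b000978000ed6000ad1000e1d01003c, nat_lit 0x983000e06000bcd00403e, nat_lit 0x987000c6d000e95000036, nat_lit 0x9870008a2000ac500003a, nat_lit 0x897000865000ace000ef100c024, nat_lit 0xeea000cbe000cb6000a9a0004c30001bf0001bc000475000718000ef1006046, nat_lit 0x98b00089e000980000040]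
noncomputable def sf8_0_S15 : List ℕ := [nat_lit 0x903000c29000c2e000980000efd006044, nat_lit 0x98f0008a600025b0002540006d100047700021200026500050c0008b0014046, nat_lit 0x98f0008a600025b0000930000130000180000a8000294000624000c8d000046, nat_lit 0x98f0005bf00025700009300002d0001840004740006ca00050c000ca5012046, nat_lit 0x9930008aa0008fc00401a, nat_lit 0x9930008b2000764004022, nat_lit 0x9930008b20005720007f50008f000c03c, nat_lit 0xd46000f1900a030, nat_lit 0x997000b71000b760008b400c026, nat_lit 0x99b0008ca0007a0004020, nat_lit 0x99b0005db00026700009700003d00006b0000680001e0000508000ced00e046, nat_lit 0x9a30008e2000600004018, nat_lit 0x9a30008e600084400401e, nat_lit 0x9a30008e200033900061000094100803c, nat_lit 0xf350009a30005eb00070e00070a0005de0002bf0002c40006500009760006e400e046, nat_lit 0xca2000f3a000cda000002, nat_lit 0x941000f3a000a7200000c, nat_lit 0xc9d000f3e000cd600000c, nat_lit 0x6eb000f4100060f000008, nat_lit 0x88b000f4500084f000008, nat_lit 0xf45000c9d00000c,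 nat_lit 0xf45000c8200000e, nat_lit 0x5ba000f49000c2100000a, nat_lit 0xf4d00088b000008, nat_lit 0x797000f5a000807000008, nat_lit 0xf61000797000008, nat_lit 0xc1a000f61000b8d00000e, nat_lit 0xbfe000f61000b8200000c, nat_lit 0xf69000c1a00000e, nat_lit 0x7a7000f6d0007e7000010, nat_lit 0xf750007a7000010, nat_lit 0x92a000c85000c8a000926000f79000a21000a1e0006b0000a26024042, nat_lit 0xbf6000a42000f7d000cf9000cfe008044, nat_lit 0xcfe000f81000bee004040, nat_lit 0xb6d000b85000f81000bf2000bba008044, nat_lit 0xc0a0007ad000bb1000bba000f89000b6d000b85000c3d000c95024042, nat_lit 0xf8d0007f30007f800803e, nat_lit 0x9a5000804000c1e000f91000c9a00c038, nat_lit 0x95200093d000f9500003a, nat_lit 0xf9500066300098900a03e, nat_lit 0x6e70009a1000f9900095a00802e, nat_lit 0x936000919000fa1000ccd008024, nat_lit 0x947000944000ed1000973000e410008d70007ce00074d000880000fa5006046, nat_lit 0x931000fa9000eb500003a, nat_lit 0x8670004ab0006f9000935000fa900e03c, nat_lit 0xfb2000faa000fa600c022, nat_lit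 0x887000cc9000fb500c018, nat_lit 0x61b000620000fa6000fb5000fb901403c, nat_lit 0x857000f55000cc9000fb5000fb200a03c, nat_lit 0xeb6000fc1008030, nat_lit 0xe7a000948000fc1000d5d00c03e, nat_lit 0xf12000fc9000e72000000, nat_lit 0xd59000fc9000ec1000002, nat_lit 0xd55000fc9000e76000006, nat_lit 0x8fc000fc900093b000008, nat_lit 0x8a5000fcd000f16000006, nat_lit 0xe61000fcd000f1d00000e, nat_lit 0xb59000fd2000ebe000006, nat_lit 0x76c000fd200096b000008, nat_lit 0xc6a000fd6000ad5000004, nat_lit 0x560000fd6000587000008, nat_lit 0xcea000fd600085200000a, nat_lit 0x907000fd600094000000e, nat_lit 0xdf6000fd6000de100000c]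
noncomputable def sf8_0_S16 : List ℕ := [nat_lit 0xe16000fd6000e5e000010, nat_lit 0xd4e000fda000e6d00000e, nat_lit 0x78e000fde000b46000002, nat_lit 0x25c000fde000763000008, nat_lit 0xdea000fde000e0d000010, nat_lit 0xfe1000db2000000, nat_lit 0xd49000fe1000e9d000004, nat_lit 0x3bc000fe60005ab000008, nat_lit 0xb3e000fea000ead00000e, nat_lit 0x773000fea000970000010, nat_lit 0x71c000fed000837000008, nat_lit 0x55a000ff20002da000002, nat_lit 0x490000ff500089b000008, nat_lit 0xffa000e86000008, nat_lit 0xffa000e8200000a, nat_lit 0x6f4000ffe0006ff000010, nat_lit 0x9e1001001000a7e000008, nat_lit 0xd51001006000e99000002, nat_lit 0x1006000e6a000004, nat_lit 0xdd900100a000e2900000c, nat_lit 0x2e600100e000b3500000e, nat_lit 0x2de00100e00076800000c, nat_lit 0x9400100e00057a000010, nat_lit 0x99a001012000c11000008, nat_lit 0x101a000ea500000e, nat_lit 0x12400101e0002ee000010, nat_lit 0x1022000eaa000004, nat_lit 0x1026000ec6000000, nat_lit 0x1026000ecd000004, nat_lit 0x36000102a0006e6000010,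 nat_lit 0x1e000102d0003a3000010, nat_lit 0x6d600103200085500000c, nat_lit 0x19400103200078a000010, nat_lit 0xa5200103e0006f8000006, nat_lit 0x4dc0010420006b700000e, nat_lit 0x1046000eb9000000, nat_lit 0x1046000eed000004, nat_lit 0x104e000a3d000002, nat_lit 0x24c001052000b3a000010, nat_lit 0x248001056000b52000010, nat_lit 0x1400105a000455000006, nat_lit 0x8300105a0002c1000008, nat_lit 0x99100105e000c1600000c, nat_lit 0x34001066000256000006, nat_lit 0xec0010760001f3000006, nat_lit 0x1cf00107a00039c000008, nat_lit 0x48000107e0008dd000010, nat_lit 0x187001082000581000008, nat_lit 0xc46001086000bbd000004, nat_lit 0x72600108a0003fe000002, nat_lit 0x16600109a0007f2000008, nat_lit 0x15900109e0007e1000006, nat_lit 0x170010a200045a000008, nat_lit 0x2330010a6000568000010, nat_lit 0xf9e0010aa000f85000010, nat_lit 0x370010ae000225000008, nat_lit 0x660010b2000069000008, nat_lit 0x4eb0010b6000821000010, nat_lit 0x3090010ba0005e7000006, nat_lit 0x47b0010be000829000010, nat_lit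 0x10c1000d95000010, nat_lit 0x33b0010c5000874000010, nat_lit 0x3d30010ca000939000010, nat_lit 0x3cf0010ce00090d000010]
noncomputable def sf8_0_S17 : List ℕ := [nat_lit 0xa70010d20005c5000010, nat_lit 0x5730010d6000914000006, nat_lit 0x93d0010da0008af000006, nat_lit 0x10da000f05000008, nat_lit 0x1330010de000349000010, nat_lit 0x2670010e2000278000010, nat_lit 0x88f0010e6000918000006, nat_lit 0x8930010e600091c000008, nat_lit 0x5d70010ea0005ec000010, nat_lit 0x8270010ee000920000008, nat_lit 0x10f6000cb2000002, nat_lit 0x7930010fa000fa9000006, nat_lit 0x78f0010fe000fae000008, nat_lit 0x297001102000945000008, nat_lit 0x1106000d7600000a, nat_lit 0x64300110a000ca5000008, nat_lit 0x3df00111200061c000008, nat_lit 0x5df0011160005f8000008, nat_lit 0x111a000d7a000002, nat_lit 0x111a000d7e00000a, nat_lit 0x111e000d82000000, nat_lit 0x9970011220009a4000006, nat_lit 0x1126000d86000004, nat_lit 0x1126000d8a00000a, nat_lit 0x112e000fc100000e, nat_lit 0x1132000fc600000c, nat_lit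 0x113200095f000010, nat_lit 0x113600063300000a, nat_lit 0x113e000f0d000006, nat_lit 0x114200092e000004, nat_lit 0x7ab001142000fbe00000e, nat_lit 0x11460008fe000000, nat_lit 0x114600090200000a, nat_lit 0x1156000f2e000000, nat_lit 0x1156000f32000002, nat_lit 0x1156000f36000008, nat_lit 0x117a000887000006, nat_lit 0xf0a001161000d0900c036, nat_lit 0x119500110d000f9500099e0008d400e03c, nat_lit 0x117200119600119a00c03a, nat_lit 0x119d0009620008c0000034, nat_lit 0x11a100119d000643000951000f9a00403c, nat_lit 0x11a60011290009a10011a500c02a, nat_lit 0xd110011a9000d1200c02c, nat_lit 0xd0d0011a9000d0e000032, nat_lit 0xb910011ad000b92000032, nat_lit 0x11b500078b0005ae00060000402a, nat_lit 0x11890011860011b900c014, nat_lit 0xca200118d0011860011b9010024, nat_lit 0x78f00078c0011c100c022, nat_lit 0x11c500078f0005b1000f65000f7101603c, nat_lit 0x11c9000f51000f5d0006f600084800403c, nat_lit 0x11c60011ca0011ce00c018, nat_lit 0x11d100116a00095c00c040, nat_lit 0xc790011d1000b7d000d09000d06008038,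 nat_lit 0xc7e0011d10011c60011c2000b9100603c, nat_lit 0xb8a0007ac0011dd00c03a, nat_lit 0xee1000ee6000ae90010960004e70007410004d30004e00011910011dd010046, nat_lit 0x11e20011e5000edd00a03e, nat_lit 0xd5d000ed90011e9008040, nat_lit 0x11ed0011650011d2004034, nat_lit 0xc790011f1000f2500c036, nat_lit 0x11d50011f10011ea00e03e, nat_lit 0x983000ed50011f900003a]
noncomputable def sf8_0_S18 : List ℕ := [nat_lit 0x103900103600095c0011fd00402e, nat_lit 0x108d001092000ef9001201008026, nat_lit 0x1206000d6a00103a00120500c02a, nat_lit 0x1062000f290011f500c03e, nat_lit 0x11d900120d000eb100095b001169004044, nat_lit 0x101600116900121100c040, nat_lit 0x99f0011810009a0008040, nat_lit 0x63700117d0009a0000040, nat_lit 0xd92001159000d21000d8d00e026, nat_lit 0x7c7000646000578000d9100122101403c, nat_lit 0x1226001221001225008034, nat_lit 0xbe6001229000be5008034, nat_lit 0x923000be90007db0007d800122d01403c, nat_lit 0x12310010f1000bc60007d400403e, nat_lit 0x12350007d7000006, nat_lit 0xbfa001235000be600000e,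 nat_lit 0x123d0007e3000010, nat_lit 0x62f0011750003df0003dc000f790004430004400012410007c70007c4002046, nat_lit 0x124500062f00116d00063800121e000044, nat_lit 0x12190012490007c3000965008026, nat_lit 0x8c30009bd0009c200124d00121d00c02a, nat_lit 0x1251000d3900000c, nat_lit 0x125500063700091100403e, nat_lit 0x96300106900075f00075c00120e0006030006000012590008e70008e4002046, nat_lit 0x92700113a00125d00108d008040, nat_lit 0x1261000927000010, nat_lit 0xc5600113a00125d001209000963000968002044, nat_lit 0x126a000967000010, nat_lit 0x78b00079000116a00059f0005a400126d00082300082800115a000cdd028046, nat_lit 0x115d00115a000cdd0011510012710011bd001189000f220011b1010042, nat_lit 0xef50010490008f70008f40012160008b70008b400127500073b000738002046, nat_lit 0xaf500127900098700098c00c03e, nat_lit 0x127e000f01000002, nat_lit 0x109100126600114900114e001279004044, nat_lit 0x127900128500127a008040, nat_lit 0xaf5001289000af6000034, nat_lit 0x107200128100128d000af5000d71000d6e00c038, nat_lit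 0x1292000d19000002, nat_lit 0x1292000d6d00000e, nat_lit 0xaf5000d7100129900106d00129600e038, nat_lit 0x7db0012390007d3000423000420000e020003bb0003b800077400129600129d026046, nat_lit 0x6a00012a10007db000008, nat_lit 0x3080012a6000433000010, nat_lit 0xd00012aa00015b000008, nat_lit 0x240012ae00004300000e, nat_lit 0x12b2000007000000]
noncomputable def sf8_0_S : List (List ℕ) := [sf8_0_S0, sf8_0_S1, sf8_0_S2, sf8_0_S3, sf8_0_S4, sf8_0_S5, sf8_0_S6, sf8_0_S7, sf8_0_S8, sf8_0_S9, sf8_0_S10, sf8_0_S11, sf8_0_S12, sf8_0_S13, sf8_0_S14, sf8_0_S15, sf8_0_S16, sf8_0_S17, sf8_0_S18]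
noncomputable def sf8_0_defs : List ℕ := [(nat_lit 0x40000b0080000a0070000a0060000a0050000a0030000a0020000a004000090030000900200009001000090080000800400008002000080080000700300007001000070080000600700006006000060040000600300006008000050070000500600005005000050010000500800004007000040060000400500004004000040020000400800003007000030060000300500003004000030030000300800002007000020060000200500002004000020030000200200002008000010070000100600001005000010040000100300001002000010010000100800000007000000060000000500000004000000030000000200000001000000000000000000000),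
  (nat_lit 0x30001c0070001b0060001b0030001b0080001a0070001a0060001a0010001a00800019007000190060001900500019004000190040001800300018001000180080001700400017008000160030001600700015006000150040001500800014007000140060001400500014008000130070001300600013004000130020001300800012005000120040001200300012004000110030001100200011001000110080001000400010002000100080000f0030000f0010000f0080000e0070000e0060000e0040000e0030000e0080000d0070000d0060000d0050000d0080000c0070000c0060000c0050000c0040000c0080000b0070000b0060000b0050000b),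
  (nat_lit 0x1000330080003200300031002000310010003100800030005000300080002f0040002f0030002f0040002e0030002e0080002d0040002d0020002d0080002c0030002c0010002c0080002b0070002b0010002b0080002a0070002a0060002a0040002a0020002a004000290030002900200029001000290080002800200028008000270010002700800026007000260060002600300026008000250060002500500025004000240030002400200024001000240080002300800022008000210070002100600021004000210080002000500020001000200080001f0070001f0060001f0050001f0040001f0040001e0030001e0080001d0040001d0080001c),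
  (nat_lit 0x400050002000500080004f0010004f0070004e0060004e0070004d0040004d0040004c0030004c0020004c0080004b0080004a008000490070004900600049003000490040004800300048001000480080004700200047008000460080004500700045004000450080004400500044003000430080004200800041007000400080003f0070003f0040003e0010003e0080003d0080003c0070003b0060003b0080003a0070003a0060003a008000390050003900800038006000380050003800100038008000370070003700500037004000370020003700600036004000360030003600400035003000350040003400200034001000340080003300500033),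
  (nat_lit 0x200077008000760080007500700074006000740080007300800072001000720080007100700071005000710040007100400070003000700040006f0030006f0080006e0030006d0040006b00700069006000690040006800300068001000680080006700800066007000650060006500400064003000640010006400800063008000620080006100800060004000600040005f0030005f0080005d0080005c0040005c0080005b0080005a0070005a0040005a00300059004000580040005700300057002000570010005700800056005000560080005500400055004000540030005400200054001000540080005300800052004000510030005100800050),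
  (nat_lit 0x30009f0010009f0040009d0080009c0040009c0080009b0030009b0080009a0040009900300099008000980060009700800096006000960070009500500095004000950020009500400094003000940070009300400093003000930040009200300092002000920010009200400091003000910020009100400090003000900080008f0080008e0040008c0030008c0020008c0010008c0080008b0080008a00400089003000890080008800800087007000860060008600800085008000840060008400500084008000830070008300400083002000830040008200800081003000800080007f0040007b0080007a00800079008000780040007700300077),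
  (nat_lit 0x8000d0006000d0003000d0008000cf007000cf004000ce002000ce008000cd008000cc005000cb001000cb008000ca006000ca008000c8008000c7008000c6007000c6008000c5007000c5008000c4001000c4004000c3003000c3004000c2004000c1002000c1001000c1008000c0008000bf004000be003000be008000bd005000bd002000bd003000bc003000bb002000ba001000ba008000b5008000b4007000b4004000b4004000b3003000b3004000b0003000b0008000af004000ad008000ac008000a7008000a5005000a5001000a5007000a4005000a4004000a4006000a3004000a3003000a3003000a2004000a1002000a1001000a10040009f),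
  (nat_lit 0x8001140020011400800112006001120080011100700111008001100080010f0040010d0040010c0030010c008001080080010700300106004001040030010400600102004001010040010000300100003000fd006000f7008000f6007000f6004000f6003000f5004000f4003000f4004000f3003000f3001000f3003000f2008000f1008000f0008000ee008000ed007000ed004000ed007000ec004000ec004000eb003000eb002000eb001000eb008000ea003000e9004000e8003000e8008000e7004000e5003000e5008000e3004000e2003000df008000de008000dd003000da004000d7008000d6008000d5004000d2003000d2002000d2008000d1),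
  (nat_lit 0x70015600400156004001550030015500400154003001540040015100300151004001500080014f0080014e0030014d0080014b0040014800800147003001460060014500300144004001430030014300300142006001410080014000700140004001400040013f0040013e0040013a0030013a00400137003001370080013600800135008001330060013300800132008001310040012f0060012a0010012a007001290050012900400129003001280040012700300127004001260030012600600123005001220040012100300121004001200030011f0040011e0030011e0040011d0040011a003001190040011800300118003001160040011500100115),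
  (nat_lit 0x30017a008001770040017600300175004001700080016f0080016e0060016e0060016d0080016c0070016c0040016c0040016b00800169004001690080016800100168008001670050016700400166003001660040016500300165008001640010016400600161004001600040015f0030015f0040015e0030015e0080015c0040015c0040015b0040015a0030015a0030015900300158008001570060015700800156)]
noncomputable def sf8_0_recs : List ℕ := [(nat_lit 0x1c00041080004000035020000e00040000001b00040000001a0003f020003e0002e05000180003e00000360003e010003c0001c020001d0003d00000170003d070003c0003d020000f0003c00000160003c080003b00036010000e0003b00000150003b010000c0003a00000130003a07000390002f070003200039000001200039010000b00039070000900034060003100034070003000033070002f0003206000090003100000090002e05000080002d070002c0002d05000070002c050001a0002b02000260002b05000130002a01000210002a070002700028040001b00026040000a00025000001400025070002200023040000700022030001500021030000500020030000b0001f00000190001f070001c0001d02000060001b02000050001a020000c00019010000600015010000d00014010000400013010000300012050000900011000000800010070000f0001000000070000f00000060000e00000050000d00000040000c00000030000b00000020000a070000700008),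
  (nat_lit 0x10003f0005d02000140005d020003a0005c01000190005c080001500059050003600059000001800059080001b00058050003500058000001e00058050003400057070001100057060005400057060002000056070005300056000003300056050003100054060001100054060005300020040002700053000003000053060005200012000002f00052010001e00051020001800051000001100051000002d00050050001000050070004f00050000002c0004f050000f0004f050003f0004e02000490004e000002b0004e050003a0004d01000450004d000002a0004d05000290004c04000230004b00000280004b070004a0004b030004a0002204000300004a00000270004a040004000049000002600049050002400048030004600027040002800047000002300047070004600047040000f00046000002200046030003b00045000002100045070004400030070003300044030000d0004400000200004401000430002e050001e00043000003500043010001000042000001d00042),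
  (nat_lit 0x30008b00097010002600097000006500097080004d0009408000740009300000770009307000240009206000910009206000240009101000770009000000240009005000230008f05000220008e05000850008d020008b0008d04000860008b060008a0006e040003a0008a060006c0008a03000250008a00000610008a05000770008900000760008807000870008802000210008607000850007f070008100085000007300085010005b00084060008000082010005600081070007f00081060001e00080010002d0007e050001d0007e050001c0007d020004d0007c07000790007a040003900078000005d00078020002500078070007500076030005e00074020004500074020005a00071020001e0007007000180006f02000530006c020002c0006a05000160006a050005d00069010004e00069020006500069070006600067040005e00065010004900065040001600062010004400061030001400061030003900060010001f0006001000360005f02000350005f02000150005e),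
  (nat_lit 0x100037000c50700037000c40700035000c306000bc000c204000b1000c00400042000bf0000081000bf0600038000bd0600036000bb03000ae000b901000af000b90700060000b7030009e000b7040009e000b605000af000b60100030000b60500072000b50000038000b50500083000b40000037000b40000034000b3070002e000b307000af000b20500032000b10000031000b0050002f000ae010004c000ad05000a2000ad000007b000ad030002d000ac010009c000ac050007a000ac0500078000ab0200097000ab0500094000aa0000064000aa0500063000a9040002c000a8020008e000a80500062000a8030002b000a70300040000a60500060000a6000007c000a60100086000a60800065000a30000068000a3080004e000a20700029000a1060009f000a1060009e0005d060005d000a0070009e000a006000290009f02000680009d00000290009d05000280009c05000270009b050008a0009a010008b0009a050006800099030009800062040006c00098000006600098),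
  (nat_lit 0x20006b000e008000c3000e00100050000e00500042000e0050007b000df000007a000de02000b5000dd00000c8000dd06000dc000bc080005e000dc06000c2000dc0500070000dc000005f000dc0200043000dc02000c2000db01000db000c3050006f000db00000c9000db070003e000db01000da000b0050006d000da00000bb000da060003e000da08000c9000d901000b1000d9000006b000d9050003d000d901000d80007d08000bb000d8020004f000d8050003c000d802000d7000900500064000d70000094000d7030006e000d60000063000d60000062000d50100059000d40200058000d40000070000d408000d3000700400097000d30300086000d306000ae000d307000b1000d3020003b000d306000bd000d10400059000d0020005b000d00000072000d00400043000cf00000c6000cf07000c4000cd0300058000cc010005a000cc0000083000cc0300038000cb030003e000ca00000c7000ca050005b000c80200038000c802000b4000c701000b5000c6050005a000c5),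
  (nat_lit 0x54000fd0600051000fd06000fc0005e08000bc000fc0500052000fc01000f1000fb00000ac000fb05000de000fb04000af000fa04000ac000f907000f8000af07000b2000f8030004e000f800000a7000f80800097000f505000a3000f50000099000f505000a1000f4070004c000f406000f3000f4050009f000f3060004c000f3010007b000f20200099000f2000004c000f2050004b000f107000f0000f1000009b000f0050004a000f00500061000ef02000a7000ef04000a6000ef01000e4000ef0800086000ec0500093000ec0000089000ec0500092000eb0700048000eb04000a0000ea0500091000e90600048000e90100089000e80200064000e80000048000e8000008f000e70500047000e70500073000e601000a7000e602000e4000e6050008c000e507000ba000e506000c1000e50400074000e40300065000e406000b9000e401000b4000e300000c5000e302000e2000b30500082000e200000c3000e201000bc000e102000e1000bb0500080000e10600043000e1),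
  (nat_lit 0x8000ab0012807000680012706001260012704000b90012402000f000124050006600124080007c0012100001180012102000890012107000640012006000640011f01000940011d02000930011d03000780011c05001110011b01000dd0011b02000c60011b02000e30011a01000f50011901000aa0011802000ec00118020008a00117070011000114020010100112000007100112010010200111000008400111070005a0011006001080010f00000820010e010006f0010e020006f0010d00000be0010d05000c10010c070008c0010c06001040010c02000ff0010b01000b30010a00000c20010a05000ff00109020005600109060005b0010700000b80010601000800010602000800010505000ba00104060008c0010402000b00010300000bc0010305000dd0010205000e3001010100083001010100100000be02000820010005000b30010000000570010007000510010006000fd0010006000a7000ff08000c2000fe0500055000fe02000fd000b8010006d000fd05000b0000fd),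
  (nat_lit 0x7000890015506001540015506000890015404001250015302000f900153010008f0015305000880015303001520012404000ae00152050013a0015107001460015106001470014f04000dc0014e02000cf0014e01000c80014e000011b0014e02001360014c01001130014b03000840014b01001120014a01001310014906000840014701000f700145060014300144060007b0014301000a30014202000a20014200001280014201000960014108000a60013f05001210013f000011d0013f01000d70013f07000770013e060013d0013e06000770013d02000a90013c01000e70013c05000760013c010013b000a804000fc0013b05000c60013800001330013807001310013603000dc0013502000c50013501000ca0013503000720013402001130013405000cf0013301000d00013302000840013305000ca0013202000cc0013201000710013207000710013105000bf0012d01000c00012d020009c0012c05000a00012c010012b0009b02000fa0012b050009e0012b02000a400129),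
  (nat_lit 0xa50017d00000a10017c070009d0017c080017b0016506000a60017b05000ea0017b01001260017a000009f0017a0800162001790600179000a605000b70017902000e50017800001580017802000f600176050012600175020009b0017405000980017406001630017207001680017103000ec0017001000ed0017000001560017003000960016f03000d70016e000016c0016e05000ee0016d02000960016d02001600016c080013b0016b000013d0016b00001410016a05000ed00169010009500169000014000169070009500168060016400167080013c00166070009300166000013e0016606001650013f060016200165060009600163060013f00162050012300161000009600161050015600160010014000160000009500160020013e0015f00000920015f07000900015f00000910015e06000900015e08000ef0015b000011e0015b08000e60015a000013a0015a010013a00159020011e00159000008c00159050011e00158060012f0015801000ee00157050013e00155),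
  (nat_lit 0x6001a50018e08000ff001a50200148001a400000c1001a40500148001a30100110001a20500194001a104001360019f000012e0019f060011b0019e000019d0019e05001470019d02001920019d05001070019c06000c80019c05001910019b01001460019b020019a0014606001780019a01001990011605000d20019900001390019902001980011505000ce00198000014d0019804000bd00197050014c0019707001950019703000b50019607000b40019503000d10019500000c4001950600194000cb04000d10019403000cd0019304000cd00192050012e0019200000bd0019202001040019100001450019002000f40018f05001820018f00001440018f07000ad0018f01001580018e02001510018e04000f50018c07001830018a03000ad00189080012500187000012700187060017e0018702000a50018600001290018505000f60018407000a40018308000fb0018201001270018202001270018106000a50017f08001240017e06000a30017e00001260017e05001770017d),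
  (nat_lit 0xeb001cf07000e8001cf06001a7001cd05001ae001cc0500144001c902001c80015001001bf001c805001b2001c802001bb001c706000dd001c70200161001c6000016d001c601001c5001660500120001c507000d7001c501001c40015e02001c40016b050011f001c406000d7001c40800138001c107001a0001c006000d2001c002001b0001bf0500139001bf00000d2001bf0400130001be07001bd0013005001b5001bd0400112001bd02001bc001390100150001b005001b0001bc04001ad001bb03000e1001bb0500115001b907000ce001b806001ac001b801001b1001b700000ce001b70300133001b606001a1001b604000e3001b506001a9001b503000cf001b50200137001b105001b1001b404000db001b302001a8001b301001b2001390000116001b2020019c001af010019e001af0000115001ae06000ce001ac00001a8001ab0500110001aa02000c4001aa0500130001a90200194001a90100195001a80700135001a80000148001a6010012f001a6020012f001a5),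
  (nat_lit 0x600115001f907001f4001f805001b3001f701001ed001f700001a2001f7070015c001f606001f1001f50700116001f305001bb001f202001eb001f20100147001f2040010f001ef06001eb001ef060010f001ee0700108001ee0300102001ee02001bd001ee05001cb001ed0700101001ed0200149001ed01001a1001ec000010f001ec0400114001eb05001c7001eb0600102001eb010012e001eb0000107001eb06001e2001ea07001e5001e803000f7001e702001e0001e607000f6001e506001e3001e406000f7001e20200143001e10000175001e105001ca001e00200144001df06001de001df0100175001de00000f3001de03000ee001da020011f001d90800152001d90000154001d9050016b001d901001d1001d80000157001d807000ed001d70800153001d507000ec001d50000155001d50100120001d50200120001d4010015f001d30000165001d306000ee001d205001c6001d10200123001d100000ee001d10500140001d00100156001d00200155001cf050015f001cf),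
  (nat_lit 0x5001e60022b01001850022b02001720022a070022500228030014100227050015700226020014100226070014000225010015d002240100220001b8070013700220060021b0022001001b90021f00001370021f02001990021e05001c10021e010021d001ef04001a10021d02001be0021d01001980021c020021b001ac06001370021b040014200218010018a00217070021300217020018900216000020500216030012a00215020018800215020018400214010012900214070012900213060021100212010018000211060020a0020f030013f0020e010016e0020e02001570020d00002040020d050016e0020c01001220020c06001230020a020015c0020805001d80020701001c600207030011b0020602001b50020605001850020501001e600205050016a0020401001230020402001d800204050016c0020302001560020305001c20020205001ba0020100001fd002000700115001ff07001a2001fe04001f2001fe01001ae001fd0000131001fc02001b2001fb0000147001fa),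
  (nat_lit 0xff00107001ddff000ee001f30600157001bcff00116001d2ff0023a001bc0800096000bdff00202000e90600161001bfff0020a00139070015000141ff000bd00173ff00091001c2ff0024a001bfff0023100141ff001a000096ff000d200163ff002360022aff001c00017204001720024c00001670024c03001710024b00001640024b04001710024a050020a0024a06001610024a00001630024a080020600248030015d0024802002330024805001ce00247020015d0024700002240024605001cd00245010015c0024505002380024402001cd00243060021a0024301002410020f060023a00241070023d0023f08002150023e01001da0023e03001570023e010020b0023d07001560023d02001d60023c060023b0023c020020a0023a06001570023a0700230002390200236001c007002310023606001500023601001c100235000015000235030020900233040020800233010021a0023207001500023102001ea0022f060022c0022f02001e40022e060022d0022e06001450022c),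
  (nat_lit 0x50025f0026203002610026001002610022504001c50026102002530026108001ef0026004001c80025e03002500025e07002500025d050023e0025d030016d0025d02002500025c020025b0024005002290025b00001dc0025b010024e0025a030016a0025a00002530025807002510025701001d600256070016900255020016800255060025400227040022a00254020024c00254010024d00253070020e0025305001d60025201001670025204001c40025004001670024f050020f0024f06001670024e07001640024e03001610024e000016f0024e07001600024d02002250024d00001680024d060024c0016f080019f001610300164001c300001c3001710600160001c305001c30023f040023f0021e030021e001d9030016b0023504002350022800002280023707002370016905001db0023704001b2001db06001d1001b207001fb0020d080020d001fa06001c6001c808001c7001c60800157001bbff001bb0024208001d8001f2080019d0016a08001eb0016d08000ee00107),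
  (nat_lit 0xff001bf001bcff0024f00241ff0012300226ff0009000089ff001c60020dff00169000edff0016a000eeff0023c0024cff001d800096ff0016000156ff0016100157ff0025a001daff0016f00264ff0023e0024e060021500257060025100215060022100186000021900221030021f0021904002510021904002570017e030018700251040021f001870400182001b908001950018904001980018f07001890019806001fd002160800216001fc08001cb001ca08001a20022b08001e6001f708001a80018508000f600110ff00110001e90700115001e8ff000f6001f9ff001e8001ff04000f400115ff00115001e5040013700127ff00201000f4070012900137060021700137ff0012700222ff000a1001baff0013700213ff000ce00183ff0022000217ff001b80018a040018a00268010021000268000017f0026808002270026602001e700266020022c0026507002640023c070023b0026403001d800264000023e00264030021800263010021500263040022b00263010026200240),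
  (nat_lit 0xff0017e000f3ff00187000f4ff0021c000ce0800248001eeff0015b0011eff0009b00098ff0015a0013aff0002600025ff000650000dff0022b00189ff001590008cff0009700005ff001240004aff001250004bff0003700132ff001ee00206ff000ef00061ff0017900062ff000e600073ff0001b0000aff0005e00001ff001a200195ff0008b00020ff000d300000ff0015200022ff001530002301001390015002002610020b00002580020bff000c500071ff001bd001b5ff000a600013ff001620011fff0004500019ff0007c0003a0200240001dc00001dc001dc0200168001d7ff000740000c0700227001d6ff001fe00197ff0008600004ff001d900091ff001d500092ff001b20015002002250023dff002530020bff001ad00136ff000d0000cf050020f00241040016700241ff0013f00064ff00077000e8ff00121000d7ff0025b001dcff00255001d7ff0009300048ff00254001d600001670023cff001f2000bdff000ec00024ff001d100141ff0024d0023dff0019f001bb),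
  (nat_lit 0x40025600260070025d002560600266001800700211001e700001e700215080025d001e70800212002500600212001e704001ea00212020022d001800800256002110000211001e30300211001e800001e8002170300217001e304001e20021700001e200210010017f001e205001e2001e2050022c0022c05001ea001ea050022f0022f03001980022f000022f0023406002340019004002340022e060022e002630300137001ea040018a00265010021000265000017f0026505001770017700000a500177ff00221001ea02000a5000f703002630019005000a5000a50800167001e30600215001e30700215001e405001ce00209020015d00209ff002680026500002240022405001cd00223010015c00223ff0017d00177ff00186000f7ff002180019005002380015cff0018c000a5ff00257001e3ff00251001e40100198000ceff0024700209ff0017a00175ff0024600224ff0024500223ff0009d00099ff000a30004c040026300189ff00142000adff002440015cff000f500029),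
  (nat_lit 0xff0000100000ff0001000008ff0005600033ff0010c000c1ff001a7001f60200232001a70700243001dc0100232001dcff0021a001dc00001a7001a700001cd001cd0500261002610100240001a7ff00262001a708001cd00261080022c001ce0800224001e2080016800208ff0025900208080015c0020bff0020b00249080023800258080017f0023906002390018dff0018d002300300191002670200267001f008001f00018b080010f001f1ff001f1001f8030010c001f4ff001f4001f506001f50024800001f5001f500001f1001f10600248001f100002480024805002670018d000026700267080022d0023c05001e30022d0800180001d6050025800258030020f0025802002600020f)]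
noncomputable def sf8_0_T : List (List ℕ × ℕ) := [([0], (nat_lit 0x12b5))]
noncomputable def sf8_0_D : H26.Dag := ⟨[0,1,2,3,4,5,7,6,8], [[0,0],
  [1,1],
  [2,2],
  [3,3],
  [4,4],
  [5,5],
  [6,7],
  [7,6],
  [8,8],
  [2,1,2,1],
  [1,0,1,0],
  [2,0,2,0],
  [3,0,3,0],
  [4,0,4,0],
  [5,0,5,0],
  [3,1,3,1],
  [4,2,4,2],
  [4,3,4,3],
  [1,0,4,1,4],
  [2,0,3,2,3],
  [1,5,1,5],
  [5,1,3,5,3],
  [2,5,2,5],
  [5,2,4,5,4],
  [6,6,6],
  [5,7,5,6],
  [0,7,0,6],
  [2,7,1,6],
  [0,1,2,7,2,6],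
  [4,7,3,6],
  [0,3,4,7,4,6],
  [6,8,6,8],
  [5,8,0,8],
  [0,1,2,5,8,5,2,1,0,8],
  [2,5,8,5,1,8],
  [1,2,4,3,8,4,3,8,4,3,8]], [], sf8_0_defs, sf8_0_recs⟩
theorem sf8_0_c : sf8_0_D.check sf8_0_S sf8_0_T = true := by decide +kernel
theorem sf8_0 {G : Type*} [Group G] {g : ℕ → G} (hR : Rels g sf8_r_R) {H : Subgroup G}
    (hH : ∀ k ∈ [], g k ∈ H) : evA g [0] ∈ H :=
  mem_dag (K := 9) (J := [0,1,2,3,4,5,6,7,8,9,10,11,12,13,14,15,16,17,18,19,20,21,22,23,24,25,26,27,28,29,30,31,32,33,34,35]) (D := sf8_0_D) (by decide +kernel) sf8_0_c (by decide +kernel) hR hH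
theorem sf8 {G : Type*} [Group G] {z u v a b r y s : G}
    (t : TA z u v a b r)
    (n : NY z u v a b r y)
    (w : RS0 z u v r y s)
    (e : (s * a * b) ^ 3 = u * v) :
    z = 1 :=
  mul_inv_eq_one.1 ((evA_eq_tm ((InvI.cons t.1 (InvI.cons t.2.1 (InvI.cons t.2.2.1 (InvI.cons t.2.2.2.1 (InvI.cons t.2.2.2.2.1 (InvI.cons t.2.2.2.2.2.1 (InvI.cons w.1 InvI.nil))))))) : InvI [z, u, v, a, b, r, y, s] [(nat_lit 0), (nat_lit 1), (nat_lit 2), (nat_lit 3), (nat_lit 4), (nat_lit 5), (nat_lit 7)]) [(.v (nat_lit 0)), (.v (nat_lit 1)), (.v (nat_lit 2)), (.v (nat_lit 3)), (.v (nat_lit 4)), (.v (nat_lit 5)), (.v (nat_lit 6)), (.inv (.v (nat_lit 6))), (.v (nat_lit 7))] [0] (.mul (.v (nat_lit 0)) (.inv .one)) (by decide +kernel)).symm.trans (Subgroup.mem_bot.1 (sf8_0 (sf8_r t n w e) (H := ⊥) (List.forall_mem_nil _))))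
noncomputable def sf9_r_R : List (List ℕ) := [[0,0],
  [1,1],
  [2,2],
  [3,3],
  [4,4],
  [5,5],
  [6,7],
  [7,6],
  [8,8],
  [2,1,2,1],
  [1,0,1,0],
  [2,0,2,0],
  [3,0,3,0],
  [4,0,4,0],
  [5,0,5,0],
  [3,1,3,1],
  [4,2,4,2],
  [4,3,4,3],
  [1,0,4,1,4],
  [2,0,3,2,3],
  [1,5,1,5],
  [5,1,3,5,3],
  [2,5,2,5],
  [5,2,4,5,4],
  [6,6,6],
  [5,7,5,6],
  [0,7,0,6],
  [2,7,1,6],
  [0,1,2,7,2,6],
  [4,7,3,6],
  [0,3,4,7,4,6],
  [6,8,6,8],
  [5,8,0,8],
  [0,1,2,5,8,5,2,1,0,8],
  [2,5,8,5,1,8],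
  [1,5,4,3,8,4,3,8,4,3,8]]
theorem sf9_r {G : Type*} [Group G] {z u v a b r y s : G}
    (t : TA z u v a b r)
    (n : NY z u v a b r y)
    (w : RS0 z u v r y s)
    (e : (s * a * b) ^ 3 = u * r) :
    Rels (nthG [z, u, v, a, b, r, y, y⁻¹, s]) sf9_r_R :=
  rels_of_eqs ((InvI.cons t.1 (InvI.cons t.2.1 (InvI.cons t.2.2.1 (InvI.cons t.2.2.2.1 (InvI.cons t.2.2.2.2.1 (InvI.cons t.2.2.2.2.2.1 (InvI.cons w.1 InvI.nil))))))) : InvI [z, u, v, a, b, r, y, s] [(nat_lit 0), (nat_lit 1), (nat_lit 2), (nat_lit 3), (nat_lit 4), (nat_lit 5), (nat_lit 7)])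
    (AllEq.append (show AllEq [z, u, v, a, b, r, y, s] [((.mul (.v (nat_lit 0)) (.v (nat_lit 0))), .one), ((.mul (.v (nat_lit 1)) (.v (nat_lit 1))), .one), ((.mul (.v (nat_lit 2)) (.v (nat_lit 2))), .one), ((.mul (.v (nat_lit 3)) (.v (nat_lit 3))), .one), ((.mul (.v (nat_lit 4)) (.v (nat_lit 4))), .one), ((.mul (.v (nat_lit 5)) (.v (nat_lit 5))), .one), ((.mul (.v (nat_lit 1)) (.v (nat_lit 2))), (.mul (.v (nat_lit 2)) (.v (nat_lit 1)))), ((.mul (.v (nat_lit 0)) (.v (nat_lit 1))), (.mul (.v (nat_lit 1)) (.v (nat_lit 0)))), ((.mul (.v (nat_lit 0)) (.v (nat_lit 2))), (.mul (.v (nat_lit 2)) (.v (nat_lit 0)))), ((.mul (.v (nat_lit 0)) (.v (nat_lit 3))), (.mul (.v (nat_lit 3)) (.v (nat_lit 0)))), ((.mul (.v (nat_lit 0)) (.v (nat_lit 4))), (.mul (.v (nat_lit 4)) (.v (nat_lit 0)))), ((.mul (.v (nat_lit 0)) (.v (nat_lit 5))), (.mul (.v (nat_lit 5)) (.v (nat_lit 0)))), ((.mul (.v (nat_lit 1)) (.v (nat_lit 3))), (.mul (.v (nat_lit 3)) (.v (nat_lit 1)))), ((.mul (.v (nat_lit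 2)) (.v (nat_lit 4))), (.mul (.v (nat_lit 4)) (.v (nat_lit 2)))), ((.mul (.v (nat_lit 3)) (.v (nat_lit 4))), (.mul (.v (nat_lit 4)) (.v (nat_lit 3)))), ((.mul (.mul (.v (nat_lit 4)) (.v (nat_lit 1))) (.v (nat_lit 4))), (.mul (.v (nat_lit 1)) (.v (nat_lit 0)))), ((.mul (.mul (.v (nat_lit 3)) (.v (nat_lit 2))) (.v (nat_lit 3))), (.mul (.v (nat_lit 2)) (.v (nat_lit 0)))), ((.mul (.v (nat_lit 5)) (.v (nat_lit 1))), (.mul (.v (nat_lit 1)) (.v (nat_lit 5)))), ((.mul (.mul (.v (nat_lit 3)) (.v (nat_lit 5))) (.v (nat_lit 3))), (.mul (.v (nat_lit 5)) (.v (nat_lit 1)))), ((.mul (.v (nat_lit 5)) (.v (nat_lit 2))), (.mul (.v (nat_lit 2)) (.v (nat_lit 5)))), ((.mul (.mul (.v (nat_lit 4)) (.v (nat_lit 5))) (.v (nat_lit 4))), (.mul (.v (nat_lit 5)) (.v (nat_lit 2))))] from t)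
    (AllEq.append (show AllEq [z, u, v, a, b, r, y, s] [((.pw (.v (nat_lit 6)) (nat_lit 3)), .one), ((.mul (.v (nat_lit 6)) (.v (nat_lit 5))), (.mul (.v (nat_lit 5)) (.v (nat_lit 6)))), ((.mul (.v (nat_lit 6)) (.v (nat_lit 0))), (.mul (.v (nat_lit 0)) (.v (nat_lit 6)))), ((.mul (.mul (.v (nat_lit 6)) (.v (nat_lit 1))) (.inv (.v (nat_lit 6)))), (.v (nat_lit 2))), ((.mul (.mul (.v (nat_lit 6)) (.v (nat_lit 2))) (.inv (.v (nat_lit 6)))), (.mul (.mul (.v (nat_lit 0)) (.v (nat_lit 1))) (.v (nat_lit 2)))), ((.mul (.mul (.v (nat_lit 6)) (.v (nat_lit 3))) (.inv (.v (nat_lit 6)))), (.v (nat_lit 4))), ((.mul (.mul (.v (nat_lit 6)) (.v (nat_lit 4))) (.inv (.v (nat_lit 6)))), (.mul (.mul (.v (nat_lit 0)) (.v (nat_lit 3))) (.v (nat_lit 4))))] from n)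
    (AllEq.append (show AllEq [z, u, v, a, b, r, y, s] [((.mul (.v (nat_lit 7)) (.v (nat_lit 7))), .one), ((.mul (.mul (.v (nat_lit 7)) (.v (nat_lit 6))) (.v (nat_lit 7))), (.inv (.v (nat_lit 6)))), ((.mul (.mul (.v (nat_lit 7)) (.v (nat_lit 0))) (.v (nat_lit 7))), (.v (nat_lit 5))), ((.mul (.mul (.v (nat_lit 7)) (.mul (.mul (.mul (.v (nat_lit 0)) (.v (nat_lit 1))) (.v (nat_lit 2))) (.v (nat_lit 5)))) (.v (nat_lit 7))), (.mul (.mul (.mul (.v (nat_lit 0)) (.v (nat_lit 1))) (.v (nat_lit 2))) (.v (nat_lit 5)))), ((.mul (.mul (.v (nat_lit 7)) (.mul (.v (nat_lit 1)) (.v (nat_lit 5)))) (.v (nat_lit 7))), (.mul (.v (nat_lit 2)) (.v (nat_lit 5))))] from w)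
    (show AllEq [z, u, v, a, b, r, y, s] [((.pw (.mul (.mul (.v (nat_lit 7)) (.v (nat_lit 3))) (.v (nat_lit 4))) (nat_lit 3)), (.mul (.v (nat_lit 1)) (.v (nat_lit 5))))] from ⟨e, trivial⟩))))
    [(.v (nat_lit 0)), (.v (nat_lit 1)), (.v (nat_lit 2)), (.v (nat_lit 3)), (.v (nat_lit 4)), (.v (nat_lit 5)), (.v (nat_lit 6)), (.inv (.v (nat_lit 6))), (.v (nat_lit 7))] (by decide +kernel)
noncomputable def sf9_0_S0 : List ℕ := [nat_lit 0x1f00000700000c004014, nat_lit 0x23000007000010004016, nat_lit 0x27000007000014004018, nat_lit 0x2b00000700001800401a, nat_lit 0x3b00000100001f00002c00c024, nat_lit 0x3f00000b00001c008028, nat_lit 0x4300000500002300002800c026, nat_lit 0x5300001300000c00004001002a, nat_lit 0x5b00001700001000004801002e, nat_lit 0x5f00001500001d00401e, nat_lit 0x5f00001500003f00003800c02a, nat_lit 0x63000002000038004018, nat_lit 0x6700001f000030008028, nat_lit 0x6b00000600004800401c, nat_lit 0x6b00002300003000802c, nat_lit 0x6f00000a00005000401a, nat_lit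 0x6f00002700002c004022, nat_lit 0x7300000a00005400401c, nat_lit 0x7b00000e00005c00401c, nat_lit 0x7f00003100006700006400c02a, nat_lit 0x8b00003700003c004022, nat_lit 0x9300001200007c008028, nat_lit 0x9b00001a00007400802c, nat_lit 0x9f00003500003a00008000c026, nat_lit 0xa300004b00005400802c, nat_lit 0xa700004f00004c0000a401002e, nat_lit 0xaf000061000065004020, nat_lit 0xb3000053000058008038, nat_lit 0xbb0000220000a0008022, nat_lit 0xbf00002e000090000038, nat_lit 0xc300004200001100009401002a, nat_lit 0xc300006f00001900009c01002e, nat_lit 0xc700003e0000ac000038, nat_lit 0xcb0000460000b000401a, nat_lit 0xcb00005900007d004020, nat_lit 0xcf000073000078008038, nat_lit 0xcf0000460000b4000038, nat_lit 0xd700004a0000bc004018, nat_lit 0xd700005500007900401e, nat_lit 0xdb000083000088004022, nat_lit 0xdf0000750000bf00004d00005d01403c, nat_lit 0xeb0000810000c70000c400008901403c, nat_lit 0xef0000810000c70000c400009900203c, nat_lit 0xf30000850000a5000038, nat_lit 0xf300006a0000a70000ac00008100603c,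 nat_lit 0xfb00006e0000b800401a, nat_lit 0xff0000950000a9000038, nat_lit 0x10300008e0000d400401a, nat_lit 0x10b0000e30000e8004022, nat_lit 0x1130000ad0000b20000c700004200002b0000340000840000dc00010800c03e, nat_lit 0x10f0001140000c6008022, nat_lit 0xaa00009a0000c300006f00002700003400008800009d0001080000c900010f00603e, nat_lit 0xae0000cd0000b900000a, nat_lit 0xf40000d20000ff000010, nat_lit 0xb00000d6000072000008, nat_lit 0xb30000da0000a1000010, nat_lit 0xde0000df000002, nat_lit 0x1170000f70000fc004022, nat_lit 0x1170000f70000b300002500002a00008c0000520000980000e80000c100e03e, nat_lit 0x1030000920000e200008f00003700003c0000980000e400010c0000e90000e600c03e, nat_lit 0xb50000ed0000be000000, nat_lit 0xb80000f20000d3000008, nat_lit 0x580000f6000077000010, nat_lit 0x140000fa000027000006]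
noncomputable def sf9_0_S1 : List ℕ := [nat_lit 0xfe000007000000]
noncomputable def sf9_0_S : List (List ℕ) := [sf9_0_S0, sf9_0_S1]
noncomputable def sf9_0_defs : List ℕ := [(nat_lit 0x80002e0040002c0030002c0080002b0020002a0010002a004000250030002500100023004000200030001e0040001d0080001c0040001c0080001b0050001b008000180030001600400015008000140040001400800013005000130050001200300011005000100080000e0050000e0080000d0040000d0040000c0030000c0030000b0050000a008000090050000900400009005000080050000700300007003000060050000500800004005000040040000400200004005000030030000300500002004000020030000200800001005000010040000100300001002000010010000100500000004000000030000000200000001000000000000000000000),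
  (nat_lit 0x40003d0040003a0030003a004000380080003600400033)]
noncomputable def sf9_0_recs : List ℕ := [(nat_lit 0xff0000100000ff0000900004ff0001d00015ff000340002dff0003e00040080004200045030003e0004501000230002cff000370002cff0002700014ff0002e0002bff0003f0003cff0003a0003b040004100043030004100044030003900042000003400040050003b0003f000002d0003e01000310003c050003a0003c08000350003b08000320003a080002700037030002100036010003000035000002e00035050002c00033000001d00033020003000032000002b00032050002a0003104000260003003000240003005000230002f04000270002e00000150002c02000290002b040002800029020001400028020001f00027020001c00026010001e00024030000e0002205000180001f00000160001e00000140001c030000a0001b00000130001b020000b0001a00000110001a010000b00019000000d00018050000d00017010001400017040001100016030000f0001402000090001001000060000f010000a0000e00000050000a000000400009000000300008000000200007),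
  (nat_lit 0x0)]
noncomputable def sf9_0_T : List (List ℕ × ℕ) := [([0], (nat_lit 0x101))]
noncomputable def sf9_0_D : H26.Dag := ⟨[0,1,2,3,4,5,7,6,8], [[0,0],
  [1,1],
  [2,2],
  [3,3],
  [4,4],
  [5,5],
  [6,7],
  [7,6],
  [8,8],
  [2,1,2,1],
  [1,0,1,0],
  [2,0,2,0],
  [3,0,3,0],
  [4,0,4,0],
  [5,0,5,0],
  [3,1,3,1],
  [4,2,4,2],
  [4,3,4,3],
  [1,0,4,1,4],
  [2,0,3,2,3],
  [1,5,1,5],
  [5,1,3,5,3],
  [2,5,2,5],
  [5,2,4,5,4],
  [6,6,6],
  [0,1,2,7,2,6],
  [0,3,4,7,4,6],
  [6,8,6,8],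
  [5,8,0,8],
  [0,1,2,5,8,5,2,1,0,8],
  [2,5,8,5,1,8],
  [1,5,4,3,8,4,3,8,4,3,8]], [], sf9_0_defs, sf9_0_recs⟩
theorem sf9_0_c : sf9_0_D.check sf9_0_S sf9_0_T = true := by decide +kernel
theorem sf9_0 {G : Type*} [Group G] {g : ℕ → G} (hR : Rels g sf9_r_R) {H : Subgroup G}
    (hH : ∀ k ∈ [], g k ∈ H) : evA g [0] ∈ H :=
  mem_dag (K := 9) (J := [0,1,2,3,4,5,6,7,8,9,10,11,12,13,14,15,16,17,18,19,20,21,22,23,24,28,30,31,32,33,34,35]) (D := sf9_0_D) (by decide +kernel) sf9_0_c (by decide +kernel) hR hH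
theorem sf9 {G : Type*} [Group G] {z u v a b r y s : G}
    (t : TA z u v a b r)
    (n : NY z u v a b r y)
    (w : RS0 z u v r y s)
    (e : (s * a * b) ^ 3 = u * r) :
    z = 1 :=
  mul_inv_eq_one.1 ((evA_eq_tm ((InvI.cons t.1 (InvI.cons t.2.1 (InvI.cons t.2.2.1 (InvI.cons t.2.2.2.1 (InvI.cons t.2.2.2.2.1 (InvI.cons t.2.2.2.2.2.1 (InvI.cons w.1 InvI.nil))))))) : InvI [z, u, v, a, b, r, y, s] [(nat_lit 0), (nat_lit 1), (nat_lit 2), (nat_lit 3), (nat_lit 4), (nat_lit 5), (nat_lit 7)]) [(.v (nat_lit 0)), (.v (nat_lit 1)), (.v (nat_lit 2)), (.v (nat_lit 3)), (.v (nat_lit 4)), (.v (nat_lit 5)), (.v (nat_lit 6)), (.inv (.v (nat_lit 6))), (.v (nat_lit 7))] [0] (.mul (.v (nat_lit 0)) (.inv .one)) (by decide +kernel)).symm.trans (Subgroup.mem_bot.1 (sf9_0 (sf9_r t n w e) (H := ⊥) (List.forall_mem_nil _))))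
noncomputable def sf10_r_R : List (List ℕ) := [[0,0],
  [1,1],
  [2,2],
  [3,3],
  [4,4],
  [5,5],
  [6,7],
  [7,6],
  [8,8],
  [2,1,2,1],
  [1,0,1,0],
  [2,0,2,0],
  [3,0,3,0],
  [4,0,4,0],
  [5,0,5,0],
  [3,1,3,1],
  [4,2,4,2],
  [4,3,4,3],
  [1,0,4,1,4],
  [2,0,3,2,3],
  [1,5,1,5],
  [5,1,3,5,3],
  [2,5,2,5],
  [5,2,4,5,4],
  [6,6,6],
  [5,7,5,6],
  [0,7,0,6],
  [2,7,1,6],
  [0,1,2,7,2,6],
  [4,7,3,6],
  [0,3,4,7,4,6],
  [6,8,6,8],
  [5,8,0,8],
  [0,1,2,5,8,5,2,1,0,8],
  [2,5,8,5,1,8],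
  [2,5,4,3,8,4,3,8,4,3,8]]
theorem sf10_r {G : Type*} [Group G] {z u v a b r y s : G}
    (t : TA z u v a b r)
    (n : NY z u v a b r y)
    (w : RS0 z u v r y s)
    (e : (s * a * b) ^ 3 = v * r) :
    Rels (nthG [z, u, v, a, b, r, y, y⁻¹, s]) sf10_r_R :=
  rels_of_eqs ((InvI.cons t.1 (InvI.cons t.2.1 (InvI.cons t.2.2.1 (InvI.cons t.2.2.2.1 (InvI.cons t.2.2.2.2.1 (InvI.cons t.2.2.2.2.2.1 (InvI.cons w.1 InvI.nil))))))) : InvI [z, u, v, a, b, r, y, s] [(nat_lit 0), (nat_lit 1), (nat_lit 2), (nat_lit 3), (nat_lit 4), (nat_lit 5), (nat_lit 7)])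
    (AllEq.append (show AllEq [z, u, v, a, b, r, y, s] [((.mul (.v (nat_lit 0)) (.v (nat_lit 0))), .one), ((.mul (.v (nat_lit 1)) (.v (nat_lit 1))), .one), ((.mul (.v (nat_lit 2)) (.v (nat_lit 2))), .one), ((.mul (.v (nat_lit 3)) (.v (nat_lit 3))), .one), ((.mul (.v (nat_lit 4)) (.v (nat_lit 4))), .one), ((.mul (.v (nat_lit 5)) (.v (nat_lit 5))), .one), ((.mul (.v (nat_lit 1)) (.v (nat_lit 2))), (.mul (.v (nat_lit 2)) (.v (nat_lit 1)))), ((.mul (.v (nat_lit 0)) (.v (nat_lit 1))), (.mul (.v (nat_lit 1)) (.v (nat_lit 0)))), ((.mul (.v (nat_lit 0)) (.v (nat_lit 2))), (.mul (.v (nat_lit 2)) (.v (nat_lit 0)))), ((.mul (.v (nat_lit 0)) (.v (nat_lit 3))), (.mul (.v (nat_lit 3)) (.v (nat_lit 0)))), ((.mul (.v (nat_lit 0)) (.v (nat_lit 4))), (.mul (.v (nat_lit 4)) (.v (nat_lit 0)))), ((.mul (.v (nat_lit 0)) (.v (nat_lit 5))), (.mul (.v (nat_lit 5)) (.v (nat_lit 0)))), ((.mul (.v (nat_lit 1)) (.v (nat_lit 3))), (.mul (.v (nat_lit 3)) (.v (nat_lit 1)))), ((.mul (.v (nat_lit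 2)) (.v (nat_lit 4))), (.mul (.v (nat_lit 4)) (.v (nat_lit 2)))), ((.mul (.v (nat_lit 3)) (.v (nat_lit 4))), (.mul (.v (nat_lit 4)) (.v (nat_lit 3)))), ((.mul (.mul (.v (nat_lit 4)) (.v (nat_lit 1))) (.v (nat_lit 4))), (.mul (.v (nat_lit 1)) (.v (nat_lit 0)))), ((.mul (.mul (.v (nat_lit 3)) (.v (nat_lit 2))) (.v (nat_lit 3))), (.mul (.v (nat_lit 2)) (.v (nat_lit 0)))), ((.mul (.v (nat_lit 5)) (.v (nat_lit 1))), (.mul (.v (nat_lit 1)) (.v (nat_lit 5)))), ((.mul (.mul (.v (nat_lit 3)) (.v (nat_lit 5))) (.v (nat_lit 3))), (.mul (.v (nat_lit 5)) (.v (nat_lit 1)))), ((.mul (.v (nat_lit 5)) (.v (nat_lit 2))), (.mul (.v (nat_lit 2)) (.v (nat_lit 5)))), ((.mul (.mul (.v (nat_lit 4)) (.v (nat_lit 5))) (.v (nat_lit 4))), (.mul (.v (nat_lit 5)) (.v (nat_lit 2))))] from t)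
    (AllEq.append (show AllEq [z, u, v, a, b, r, y, s] [((.pw (.v (nat_lit 6)) (nat_lit 3)), .one), ((.mul (.v (nat_lit 6)) (.v (nat_lit 5))), (.mul (.v (nat_lit 5)) (.v (nat_lit 6)))), ((.mul (.v (nat_lit 6)) (.v (nat_lit 0))), (.mul (.v (nat_lit 0)) (.v (nat_lit 6)))), ((.mul (.mul (.v (nat_lit 6)) (.v (nat_lit 1))) (.inv (.v (nat_lit 6)))), (.v (nat_lit 2))), ((.mul (.mul (.v (nat_lit 6)) (.v (nat_lit 2))) (.inv (.v (nat_lit 6)))), (.mul (.mul (.v (nat_lit 0)) (.v (nat_lit 1))) (.v (nat_lit 2)))), ((.mul (.mul (.v (nat_lit 6)) (.v (nat_lit 3))) (.inv (.v (nat_lit 6)))), (.v (nat_lit 4))), ((.mul (.mul (.v (nat_lit 6)) (.v (nat_lit 4))) (.inv (.v (nat_lit 6)))), (.mul (.mul (.v (nat_lit 0)) (.v (nat_lit 3))) (.v (nat_lit 4))))] from n)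
    (AllEq.append (show AllEq [z, u, v, a, b, r, y, s] [((.mul (.v (nat_lit 7)) (.v (nat_lit 7))), .one), ((.mul (.mul (.v (nat_lit 7)) (.v (nat_lit 6))) (.v (nat_lit 7))), (.inv (.v (nat_lit 6)))), ((.mul (.mul (.v (nat_lit 7)) (.v (nat_lit 0))) (.v (nat_lit 7))), (.v (nat_lit 5))), ((.mul (.mul (.v (nat_lit 7)) (.mul (.mul (.mul (.v (nat_lit 0)) (.v (nat_lit 1))) (.v (nat_lit 2))) (.v (nat_lit 5)))) (.v (nat_lit 7))), (.mul (.mul (.mul (.v (nat_lit 0)) (.v (nat_lit 1))) (.v (nat_lit 2))) (.v (nat_lit 5)))), ((.mul (.mul (.v (nat_lit 7)) (.mul (.v (nat_lit 1)) (.v (nat_lit 5)))) (.v (nat_lit 7))), (.mul (.v (nat_lit 2)) (.v (nat_lit 5))))] from w)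
    (show AllEq [z, u, v, a, b, r, y, s] [((.pw (.mul (.mul (.v (nat_lit 7)) (.v (nat_lit 3))) (.v (nat_lit 4))) (nat_lit 3)), (.mul (.v (nat_lit 2)) (.v (nat_lit 5))))] from ⟨e, trivial⟩))))
    [(.v (nat_lit 0)), (.v (nat_lit 1)), (.v (nat_lit 2)), (.v (nat_lit 3)), (.v (nat_lit 4)), (.v (nat_lit 5)), (.v (nat_lit 6)), (.inv (.v (nat_lit 6))), (.v (nat_lit 7))] (by decide +kernel)
noncomputable def sf10_0_S0 : List ℕ := [nat_lit 0x1f00000700000c004014, nat_lit 0x23000007000010004016, nat_lit 0x27000007000014004018, nat_lit 0x2b00000700001800401a, nat_lit 0x2f00000700001c00401c, nat_lit 0x3b00000100001f00002c00c024, nat_lit 0x4300000500002300002800c026, nat_lit 0x4700000f000018004020, nat_lit 0x4b00000f00001c00802c, nat_lit 0x4f000013000018004022, nat_lit 0x5300001300000c00004001002a, nat_lit 0x5700000d000015004014, nat_lit 0x5b00001700001000004c01002e, nat_lit 0x63000021000031004020, nat_lit 0x6300002100004b00004800c02e, nat_lit 0x67000002000038004016, nat_lit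 0x6b00001f00002800401e, nat_lit 0x6f00001f000030008028, nat_lit 0x7300000600004800401a, nat_lit 0x7700000a00005000401a, nat_lit 0x7700002700002c004022, nat_lit 0x7b00000a00005400401c, nat_lit 0x7b00002700002000007001002a, nat_lit 0x7f00000e00005c00401c, nat_lit 0x8300000e000060000038, nat_lit 0x8f00003d00006700006c00c026, nat_lit 0x9300003700003c004020, nat_lit 0x97000016000080008028, nat_lit 0xa300001a00007c00802c, nat_lit 0xa700001e000058008012, nat_lit 0xaf00002600005800801e, nat_lit 0xaf00004f000009000041010024, nat_lit 0xbb00002a0000a0004022, nat_lit 0xc300005700005c008028, nat_lit 0xc30000790000af0000b401002a, nat_lit 0xc700002e00009c000038, nat_lit 0xcb00008500008a00401e, nat_lit 0xcb0000850000c300007900c02a, nat_lit 0xcf00005b000060008038, nat_lit 0xcf0000850000c30000c800008e00003c, nat_lit 0xd300009900009e004016, nat_lit 0xdb000036000085008012, nat_lit 0xdb00003a0000a8004028, nat_lit 0xdb000063000011000045010024, nat_lit 0xdf00004a0000ac000038, nat_lit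 0xcf00003500003a0000ac0000b100603c, nat_lit 0xe300005200001500009801002a, nat_lit 0xe30000770000190000a401002e, nat_lit 0xe700004e0000b8000038, nat_lit 0xeb0000560000bc00401a, nat_lit 0xeb0000710000bd004020, nat_lit 0xeb00005a0000ad004022, nat_lit 0xef00005e0000cc004018, nat_lit 0xef00006d0000b900401e, nat_lit 0xf300006d00009700009c00008d00003c, nat_lit 0xf70000620000d400402c, nat_lit 0xf700006200005f00005c00008500203c, nat_lit 0xff00008700008c004022, nat_lit 0x10300006600007d004020, nat_lit 0x10300008f000094004022, nat_lit 0x10700009d0000b6008012, nat_lit 0x10700008d0000c70000c40000a501403c, nat_lit 0x1130000760000c40000e10000de00603c, nat_lit 0x1170000c10000e70000e40000c901403c]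
noncomputable def sf10_0_S1 : List ℕ := [nat_lit 0x11b0000c10000e70000e40000d500203c, nat_lit 0x11f0000c50000fd000038, nat_lit 0x12f0000d1000101000038, nat_lit 0x12f0000920000b30000b80000c100003c, nat_lit 0x1330000d70000990000b6010024, nat_lit 0x13b0000ea00009500013000010a00603c, nat_lit 0x13f00010b000110004022, nat_lit 0x14300010f0000a10000f9010024, nat_lit 0x1470000fe0000ca0000e300007700002700003400008c0000e500013800a03e, nat_lit 0x14b000148000122004022, nat_lit 0x10900010e0000e700005200002b00003400008800010000013800012500014b00803e, nat_lit 0x118000129000115000002, nat_lit 0x10600012900010900000a, nat_lit 0xfd000129000102000010, nat_lit 0xb800012e00013b000010, nat_lit 0x12000013200012f000010, nat_lit 0xcd0001360000ef000006, nat_lit 0x2500013a0000ee000006, nat_lit 0x8100013e0000cb000006, nat_lit 0x800001410000aa00000a, nat_lit 0xf30001410000f5000010, nat_lit 0x14600006a000004, nat_lit 0x149000081000006, nat_lit 0x3100014900009f000008, nat_lit 0x8300014e000114000010,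 nat_lit 0xd90001520000f2000004, nat_lit 0x15d000031000008, nat_lit 0xfb00016200011d000008, nat_lit 0x12b000166000111000008, nat_lit 0x16e000143000002, nat_lit 0x172000133000002, nat_lit 0x14f000123000128004022, nat_lit 0x13f00010b00009b00015500005c0001690000290000c000012800017d00e03e, nat_lit 0x12b00008e00009d0000cf00015a0000bb0000c000012400015000018100011a00c03e, nat_lit 0x17600018500017a000002, nat_lit 0xd80001890000fb000008, nat_lit 0x6000018e000083000010, nat_lit 0x1800019200002b000008, nat_lit 0x196000007000000]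
noncomputable def sf10_0_S : List (List ℕ) := [sf10_0_S0, sf10_0_S1]
noncomputable def sf10_0_defs : List ℕ := [(nat_lit 0x40002100400020002000200080001f0030001f0040001e0080001d0050001d0080001c0010001800400017002000170080001600300016008000150050001500800014004000140080001300500013001000130080001100100011005000100040000f0080000e0050000e0040000d0030000d0040000c0030000c0080000a0050000a00500009004000090040000800500007003000070020000700400006008000050050000500100005005000040040000400500003004000030030000300500002004000020020000200800001005000010040000100300001002000010010000100500000004000000030000000200000001000000000000000000000),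
  (nat_lit 0x40004800400045003000450010004300400042008000400080003f0010003500800032004000310040002f0030002f0080002e0020002d0010002d0080002900400026003000260010002600400023)]
noncomputable def sf10_0_recs : List ℕ := [(nat_lit 0x80003a00045010003400044080003600041020003700041030002400040020002b0004003000220003f08000300003d05000340003d02000310003c01000380003b00000320003b03000360003a02000380003a000002e0003a050002d00039040002800038030002500038010003700033050002a00037040001b00036050002900036020003000036000002600034020002600033000001700033050002b00032010002c00032050002600031030002c0003001000160003003000270002e040001a0002b03000150002b020001500029020001e00028010001f00025020000e00024020001a0002305000170002000000160001f030001b0001e00000140001e030000a0001d00000130001d00000110001c010000b0001b01000090001a000000d00019050001100018020001600018040001200016000000e00015030000f00014030000500013020000600012020000500011020000900010010000a0000e00000060000b00000050000a000000400009000000300008000000200007),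
  (nat_lit 0xff0000100000ff0000a00005ff0002000017ff000350003eff000430004a08000530004f03000490005301000350004a01000430003eff0004c0004aff000500003e04000160000fff0003700031ff0004400020ff0000f00012030002e00016020000e00005ff000410003cff000290000aff0001600027ff0002400005ff0001f00036ff000320002eff0004000013ff0003b0003aff0004b00047ff0004e0002dff0004500046030004d00052040004d0005104000440005003000430004f01000460004e04000370004c02000390004b05000460004b050004500047080003b00046)]
noncomputable def sf10_0_T : List (List ℕ × ℕ) := [([0], (nat_lit 0x199))]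
noncomputable def sf10_0_D : H26.Dag := ⟨[0,1,2,3,4,5,7,6,8], [[0,0],
  [1,1],
  [2,2],
  [3,3],
  [4,4],
  [5,5],
  [6,7],
  [7,6],
  [8,8],
  [2,1,2,1],
  [1,0,1,0],
  [2,0,2,0],
  [3,0,3,0],
  [4,0,4,0],
  [5,0,5,0],
  [3,1,3,1],
  [4,2,4,2],
  [4,3,4,3],
  [1,0,4,1,4],
  [2,0,3,2,3],
  [1,5,1,5],
  [5,1,3,5,3],
  [2,5,2,5],
  [5,2,4,5,4],
  [6,6,6],
  [0,1,2,7,2,6],
  [0,3,4,7,4,6],
  [6,8,6,8],
  [5,8,0,8],
  [0,1,2,5,8,5,2,1,0,8],
  [2,5,8,5,1,8],
  [2,5,4,3,8,4,3,8,4,3,8]], [], sf10_0_defs, sf10_0_recs⟩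
theorem sf10_0_c : sf10_0_D.check sf10_0_S sf10_0_T = true := by decide +kernel
theorem sf10_0 {G : Type*} [Group G] {g : ℕ → G} (hR : Rels g sf10_r_R) {H : Subgroup G}
    (hH : ∀ k ∈ [], g k ∈ H) : evA g [0] ∈ H :=
  mem_dag (K := 9) (J := [0,1,2,3,4,5,6,7,8,9,10,11,12,13,14,15,16,17,18,19,20,21,22,23,24,28,30,31,32,33,34,35]) (D := sf10_0_D) (by decide +kernel) sf10_0_c (by decide +kernel) hR hH
theorem sf10 {G : Type*} [Group G] {z u v a b r y s : G}
    (t : TA z u v a b r)
    (n : NY z u v a b r y)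
    (w : RS0 z u v r y s)
    (e : (s * a * b) ^ 3 = v * r) :
    z = 1 :=
  mul_inv_eq_one.1 ((evA_eq_tm ((InvI.cons t.1 (InvI.cons t.2.1 (InvI.cons t.2.2.1 (InvI.cons t.2.2.2.1 (InvI.cons t.2.2.2.2.1 (InvI.cons t.2.2.2.2.2.1 (InvI.cons w.1 InvI.nil))))))) : InvI [z, u, v, a, b, r, y, s] [(nat_lit 0), (nat_lit 1), (nat_lit 2), (nat_lit 3), (nat_lit 4), (nat_lit 5), (nat_lit 7)]) [(.v (nat_lit 0)), (.v (nat_lit 1)), (.v (nat_lit 2)), (.v (nat_lit 3)), (.v (nat_lit 4)), (.v (nat_lit 5)), (.v (nat_lit 6)), (.inv (.v (nat_lit 6))), (.v (nat_lit 7))] [0] (.mul (.v (nat_lit 0)) (.inv .one)) (by decide +kernel)).symm.trans (Subgroup.mem_bot.1 (sf10_0 (sf10_r t n w e) (H := ⊥) (List.forall_mem_nil _))))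
noncomputable def sf11_r_R : List (List ℕ) := [[0,0],
  [1,1],
  [2,2],
  [3,3],
  [4,4],
  [5,5],
  [6,7],
  [7,6],
  [8,8],
  [2,1,2,1],
  [1,0,1,0],
  [2,0,2,0],
  [3,0,3,0],
  [4,0,4,0],
  [5,0,5,0],
  [3,1,3,1],
  [4,2,4,2],
  [4,3,4,3],
  [1,0,4,1,4],
  [2,0,3,2,3],
  [1,5,1,5],
  [5,1,3,5,3],
  [2,5,2,5],
  [5,2,4,5,4],
  [6,6,6],
  [5,7,5,6],
  [0,7,0,6],
  [2,7,1,6],
  [0,1,2,7,2,6],
  [4,7,3,6],
  [0,3,4,7,4,6],
  [6,8,6,8],
  [5,8,0,8],
  [0,1,2,5,8,5,2,1,0,8],
  [2,5,8,5,1,8],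
  [0,1,2,4,3,8,4,3,8,4,3,8]]
theorem sf11_r {G : Type*} [Group G] {z u v a b r y s : G}
    (t : TA z u v a b r)
    (n : NY z u v a b r y)
    (w : RS0 z u v r y s)
    (e : (s * a * b) ^ 3 = z * u * v) :
    Rels (nthG [z, u, v, a, b, r, y, y⁻¹, s]) sf11_r_R :=
  rels_of_eqs ((InvI.cons t.1 (InvI.cons t.2.1 (InvI.cons t.2.2.1 (InvI.cons t.2.2.2.1 (InvI.cons t.2.2.2.2.1 (InvI.cons t.2.2.2.2.2.1 (InvI.cons w.1 InvI.nil))))))) : InvI [z, u, v, a, b, r, y, s] [(nat_lit 0), (nat_lit 1), (nat_lit 2), (nat_lit 3), (nat_lit 4), (nat_lit 5), (nat_lit 7)])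
    (AllEq.append (show AllEq [z, u, v, a, b, r, y, s] [((.mul (.v (nat_lit 0)) (.v (nat_lit 0))), .one), ((.mul (.v (nat_lit 1)) (.v (nat_lit 1))), .one), ((.mul (.v (nat_lit 2)) (.v (nat_lit 2))), .one), ((.mul (.v (nat_lit 3)) (.v (nat_lit 3))), .one), ((.mul (.v (nat_lit 4)) (.v (nat_lit 4))), .one), ((.mul (.v (nat_lit 5)) (.v (nat_lit 5))), .one), ((.mul (.v (nat_lit 1)) (.v (nat_lit 2))), (.mul (.v (nat_lit 2)) (.v (nat_lit 1)))), ((.mul (.v (nat_lit 0)) (.v (nat_lit 1))), (.mul (.v (nat_lit 1)) (.v (nat_lit 0)))), ((.mul (.v (nat_lit 0)) (.v (nat_lit 2))), (.mul (.v (nat_lit 2)) (.v (nat_lit 0)))), ((.mul (.v (nat_lit 0)) (.v (nat_lit 3))), (.mul (.v (nat_lit 3)) (.v (nat_lit 0)))), ((.mul (.v (nat_lit 0)) (.v (nat_lit 4))), (.mul (.v (nat_lit 4)) (.v (nat_lit 0)))), ((.mul (.v (nat_lit 0)) (.v (nat_lit 5))), (.mul (.v (nat_lit 5)) (.v (nat_lit 0)))), ((.mul (.v (nat_lit 1)) (.v (nat_lit 3))), (.mul (.v (nat_lit 3)) (.v (nat_lit 1)))), ((.mul (.v (nat_lit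 2)) (.v (nat_lit 4))), (.mul (.v (nat_lit 4)) (.v (nat_lit 2)))), ((.mul (.v (nat_lit 3)) (.v (nat_lit 4))), (.mul (.v (nat_lit 4)) (.v (nat_lit 3)))), ((.mul (.mul (.v (nat_lit 4)) (.v (nat_lit 1))) (.v (nat_lit 4))), (.mul (.v (nat_lit 1)) (.v (nat_lit 0)))), ((.mul (.mul (.v (nat_lit 3)) (.v (nat_lit 2))) (.v (nat_lit 3))), (.mul (.v (nat_lit 2)) (.v (nat_lit 0)))), ((.mul (.v (nat_lit 5)) (.v (nat_lit 1))), (.mul (.v (nat_lit 1)) (.v (nat_lit 5)))), ((.mul (.mul (.v (nat_lit 3)) (.v (nat_lit 5))) (.v (nat_lit 3))), (.mul (.v (nat_lit 5)) (.v (nat_lit 1)))), ((.mul (.v (nat_lit 5)) (.v (nat_lit 2))), (.mul (.v (nat_lit 2)) (.v (nat_lit 5)))), ((.mul (.mul (.v (nat_lit 4)) (.v (nat_lit 5))) (.v (nat_lit 4))), (.mul (.v (nat_lit 5)) (.v (nat_lit 2))))] from t)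
    (AllEq.append (show AllEq [z, u, v, a, b, r, y, s] [((.pw (.v (nat_lit 6)) (nat_lit 3)), .one), ((.mul (.v (nat_lit 6)) (.v (nat_lit 5))), (.mul (.v (nat_lit 5)) (.v (nat_lit 6)))), ((.mul (.v (nat_lit 6)) (.v (nat_lit 0))), (.mul (.v (nat_lit 0)) (.v (nat_lit 6)))), ((.mul (.mul (.v (nat_lit 6)) (.v (nat_lit 1))) (.inv (.v (nat_lit 6)))), (.v (nat_lit 2))), ((.mul (.mul (.v (nat_lit 6)) (.v (nat_lit 2))) (.inv (.v (nat_lit 6)))), (.mul (.mul (.v (nat_lit 0)) (.v (nat_lit 1))) (.v (nat_lit 2)))), ((.mul (.mul (.v (nat_lit 6)) (.v (nat_lit 3))) (.inv (.v (nat_lit 6)))), (.v (nat_lit 4))), ((.mul (.mul (.v (nat_lit 6)) (.v (nat_lit 4))) (.inv (.v (nat_lit 6)))), (.mul (.mul (.v (nat_lit 0)) (.v (nat_lit 3))) (.v (nat_lit 4))))] from n)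
    (AllEq.append (show AllEq [z, u, v, a, b, r, y, s] [((.mul (.v (nat_lit 7)) (.v (nat_lit 7))), .one), ((.mul (.mul (.v (nat_lit 7)) (.v (nat_lit 6))) (.v (nat_lit 7))), (.inv (.v (nat_lit 6)))), ((.mul (.mul (.v (nat_lit 7)) (.v (nat_lit 0))) (.v (nat_lit 7))), (.v (nat_lit 5))), ((.mul (.mul (.v (nat_lit 7)) (.mul (.mul (.mul (.v (nat_lit 0)) (.v (nat_lit 1))) (.v (nat_lit 2))) (.v (nat_lit 5)))) (.v (nat_lit 7))), (.mul (.mul (.mul (.v (nat_lit 0)) (.v (nat_lit 1))) (.v (nat_lit 2))) (.v (nat_lit 5)))), ((.mul (.mul (.v (nat_lit 7)) (.mul (.v (nat_lit 1)) (.v (nat_lit 5)))) (.v (nat_lit 7))), (.mul (.v (nat_lit 2)) (.v (nat_lit 5))))] from w)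
    (show AllEq [z, u, v, a, b, r, y, s] [((.pw (.mul (.mul (.v (nat_lit 7)) (.v (nat_lit 3))) (.v (nat_lit 4))) (nat_lit 3)), (.mul (.mul (.v (nat_lit 0)) (.v (nat_lit 1))) (.v (nat_lit 2))))] from ⟨e, trivial⟩))))
    [(.v (nat_lit 0)), (.v (nat_lit 1)), (.v (nat_lit 2)), (.v (nat_lit 3)), (.v (nat_lit 4)), (.v (nat_lit 5)), (.v (nat_lit 6)), (.inv (.v (nat_lit 6))), (.v (nat_lit 7))] (by decide +kernel)
noncomputable def sf11_0_S0 : List ℕ := [nat_lit 0x2300000700000c004014, nat_lit 0x27000007000010004016, nat_lit 0x2b000007000014004018, nat_lit 0x2f00000700001800401a, nat_lit 0x3300000700001c00401c, nat_lit 0x3700000700002000003a, nat_lit 0x3b00000b000010004012, nat_lit 0x3f00000b00001400401e, nat_lit 0x4300000100002300003000c024, nat_lit 0x4700000b00001c008028, nat_lit 0x4f00000500002700002c00c026, nat_lit 0x5700000f00001c00802c, nat_lit 0x5f000009000029004016, nat_lit 0x5f000013000008000028010026, nat_lit 0x63000013000018004022, nat_lit 0x6700001300000c00004801002a,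 nat_lit 0x6f00000d000021004014, nat_lit 0x7300001700001000005801002e, nat_lit 0x7f00002d000045004020, nat_lit 0x7f00002d00005700005400c02e, nat_lit 0x8300001b00002000803a, nat_lit 0x9b000002000040004018, nat_lit 0x9b00002300002c00401e, nat_lit 0x9f00000200004800401c, nat_lit 0x9f000023000034008028, nat_lit 0x8b00001500003700003400006100203e, nat_lit 0xa30000a000006500803a, nat_lit 0xa300000200004c00003a, nat_lit 0x8300002500004700004c00006d00003e, nat_lit 0xa700000600005400401a, nat_lit 0xab00000600005800401c, nat_lit 0xab00002700003400802c, nat_lit 0xaf00000600005c00003a, nat_lit 0x8300002d00005700005c00008100603e, nat_lit 0xb300000a00006400401a, nat_lit 0xb300002b000030004022, nat_lit 0xb700002b0000240000a001002a, nat_lit 0xbb00000a00006c00003a, nat_lit 0xbf00000e00007400401c, nat_lit 0xbf00002f0000280000ac01002e, nat_lit 0xc300000e00007800003a, nat_lit 0xc700001200007c004018, nat_lit 0xc700006100009100401e, nat_lit 0xcb00007d00009d004020, nat_lit 0xcb00007d0000ab0000a800c02e,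 nat_lit 0xcf00003300003800803a, nat_lit 0xcf00006100009f0000a400006e00003e, nat_lit 0xcf00007d0000ab0000b000008200603e, nat_lit 0xd3000016000088004028, nat_lit 0xd300001600001f00001c00002d01403e, nat_lit 0xd70000b50000ba004016, nat_lit 0xd700001600008c00402c, nat_lit 0xd700001600001f00001c00002500203e, nat_lit 0xe300001a00005000401e, nat_lit 0xeb00001e000060004012, nat_lit 0xef00003f000044004022, nat_lit 0xef00005500005a0000b400c024, nat_lit 0xf30000220000c0008028, nat_lit 0xfb0000b90000be008012, nat_lit 0xff0000c90000d70000dc00c026, nat_lit 0x10f00007900007e0000c800c026, nat_lit 0x11f00005f00006800802c, nat_lit 0x12300003200010800003a, nat_lit 0x1270000890000e1004014]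
noncomputable def sf11_0_S1 : List ℕ := [nat_lit 0x12700003a00007000801e, nat_lit 0x13300006700006c00803a, nat_lit 0x1330000f500011f0001240000fa00603e, nat_lit 0x1370000950000bb0000b80000a900203e, nat_lit 0x14300006f000074008028, nat_lit 0x14300010100012700012c01002a, nat_lit 0x1470000420000f800003a, nat_lit 0x14b00011100011600401e, nat_lit 0x14b000046000110008022, nat_lit 0x14b00011100014300010100c02a, nat_lit 0x14f00011100014300014800011a00003e, nat_lit 0x1530000a10000c30000c00000ad01403e, nat_lit 0x15f00007b000080004022, nat_lit 0x1630000a500010d00003a, nat_lit 0x167000052000090004018, nat_lit 0x16700008600008200011400c02a, nat_lit 0x16b00005200009400401a, nat_lit 0x16b00007200006e00010400c02e, nat_lit 0x16f00006900007100016800c026, nat_lit 0x17300008b000094004020, nat_lit 0x177000139000149004016, nat_lit 0x17700008f000051000072010026, nat_lit 0x17b00008f000094004022, nat_lit 0x17f00013900013e00401c, nat_lit 0x17f00008f0000880000c101002a, nat_lit 0x183000093000051000086010024,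 nat_lit 0x18700014100014600401c, nat_lit 0x18700009300008c0000cd01002e, nat_lit 0x18b0000970000a000802c, nat_lit 0xfb00006d0000a30000a000017101403e, nat_lit 0x18f00018c00017500803a, nat_lit 0x18f0000970000a00000650000cd00603e, nat_lit 0x1970000b100012d00803a, nat_lit 0x19700007600010c00003a, nat_lit 0x14f00004900004e00010c00018500603e, nat_lit 0x19b00008a00013000003a, nat_lit 0x19f00009a00004900013100c026, nat_lit 0x19f0000e50000f30000dd00c02a, nat_lit 0x1ab0000c70000cc004022, nat_lit 0x1af0000db0000e0004022, nat_lit 0x1bf0000fb00006d00015500c02a, nat_lit 0x1c30000ea000118004020, nat_lit 0x1c300017900017e00016d00c024, nat_lit 0x1c30000ea00008100016500c02e, nat_lit 0x1c70000ee0001b0004020, nat_lit 0x1c70000ff000104004022, nat_lit 0x1db0000fe0001b400003a, nat_lit 0x1e300013b000140004022, nat_lit 0x1e70001260001dc00803a, nat_lit 0x1e700011e00012b00013000018d00003e, nat_lit 0x1eb00015700015c004022, nat_lit 0x1ef0001910001960001b40001b900603e, nat_lit 0x1f300016700016c004022,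 nat_lit 0x1f700014a0001f4004020, nat_lit 0x1f700016f000174004022, nat_lit 0x1f700014a00013e0001d400c02e, nat_lit 0x1fb0001520001f800401a, nat_lit 0x1fb000156000194004022, nat_lit 0x1ff00015a0001840001ad01002a, nat_lit 0x1ff00017b0001780001a101002e, nat_lit 0x20300015e0001d400401a, nat_lit 0x20700016a0001b5004018, nat_lit 0x2070001a90001e900401e, nat_lit 0x20f0001a30001a8004022]
noncomputable def sf11_0_S2 : List ℕ := [nat_lit 0x2170001b70001bc004022, nat_lit 0x21f0001cf0001070000310000d90000eb0000f00000de0000f80001bc00020100e040, nat_lit 0x1df00010e0001ac00019a00012d00018100018900012a0001bc00020100020500021f016040, nat_lit 0x1d00002090001df000006, nat_lit 0x1cb00020e000137000004, nat_lit 0xfa00020e00013500000a, nat_lit 0x10800020e00010e000010, nat_lit 0x2110001cb000004, nat_lit 0x124000216000163000010, nat_lit 0xd600021a0000aa000002, nat_lit 0x2900021a0000f1000004, nat_lit 0x5000021a0000c7000006, nat_lit 0x3500022200007b000006, nat_lit 0x11b000222000160000008,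 nat_lit 0x910002250000e3000006, nat_lit 0x2c00022a00010f000006, nat_lit 0xb300022a000121000008, nat_lit 0x5b00022e0000d0000010, nat_lit 0x231000035000006, nat_lit 0x1d70002360001f0000010, nat_lit 0x23900005e000000, nat_lit 0xe7000239000065000010, nat_lit 0x23e00002e000004, nat_lit 0x3700023e0000c5000010, nat_lit 0x19b0002420001e8000010, nat_lit 0xea0002460000ba000004, nat_lit 0x24e0001ce000002, nat_lit 0x2550000e7000010, nat_lit 0xdb00025e000161000006, nat_lit 0x2620001c2000000, nat_lit 0x2620001c6000004, nat_lit 0xff0002650001c0000006, nat_lit 0x1030002650001c4000008, nat_lit 0x1af000272000204000008, nat_lit 0x1c700027e0001ed000008, nat_lit 0x2820001a6000004, nat_lit 0x2860001f2000000, nat_lit 0x28a0001f9000002, nat_lit 0x28a0001ff00000a, nat_lit 0x21b0001f50002950001b20001af0000db00003700003000008d00019c00020c006040, nat_lit 0x1f700016f00026e00025200002600025900003000008d00019c00020c00029d00021b00e040, nat_lit 0x1f60002a10001e1000000, nat_lit 0x1b10002a10001d6000004,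 nat_lit 0x1b50002a10001da000006, nat_lit 0x2990002a10001de00000a, nat_lit 0x2a50001f6000000, nat_lit 0x1e50002a5000207000006, nat_lit 0x19d0002aa0001d2000006, nat_lit 0x28d0002ae00014e000004, nat_lit 0x2b2000291000000, nat_lit 0x2b90001e5000006, nat_lit 0x16d0002b9000193000008, nat_lit 0xe00002be00016b000008, nat_lit 0x940002c1000117000008, nat_lit 0x2cd00016d000008, nat_lit 0xa40002cd0000d2000010, nat_lit 0x380002d2000083000010, nat_lit 0x200002d600005b000010, nat_lit 0x9b0002de00003d000006, nat_lit 0x2b0002e200024a000006, nat_lit 0x130002e6000050000006, nat_lit 0x2e900009b000006, nat_lit 0xb30002ee00011c000008, nat_lit 0x6b0002f2000108000010]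
noncomputable def sf11_0_S3 : List ℕ := [nat_lit 0x19b0002fa0001d8000010, nat_lit 0x2fe000109000002, nat_lit 0x2fe00021d000004, nat_lit 0x13b0002fe0001d0000006, nat_lit 0x30200026a000002, nat_lit 0x1e300030e000220000008, nat_lit 0x316000206000010, nat_lit 0x2130001af0000db00003700003000008d00019c00027600031100027900020c00029d01e040, nat_lit 0x21400031e00021b000010, nat_lit 0x2c60003220002b5000000, nat_lit 0x19d0003220001b6000006, nat_lit 0x1590003260002c9000006, nat_lit 0xe000032a000103000008, nat_lit 0x9400032e0002d9000008, nat_lit 0x3800033200004b000010, nat_lit 0x200003360000a3000010, nat_lit 0x2f00033a000044000008, nat_lit 0x1300033e0002f5000006, nat_lit 0xc30003420000f8000010, nat_lit 0x6b000346000134000010, nat_lit 0x1a300034a0001b8000006, nat_lit 0x34e000106000000, nat_lit 0x34e000305000002, nat_lit 0x20f000352000218000008, nat_lit 0x35e000319000010, nat_lit 0x1eb00015700007700001700001400006c0003550003590003090001400001bd00036101a040, nat_lit 0x1c90003660001fe000006,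 nat_lit 0x15c00036a0001a7000008, nat_lit 0x7800036e0000c3000010, nat_lit 0x1800037200002f000008, nat_lit 0x376000007000000]
noncomputable def sf11_0_S : List (List ℕ) := [sf11_0_S0, sf11_0_S1, sf11_0_S2, sf11_0_S3]
noncomputable def sf11_0_defs : List ℕ := [(nat_lit 0x3000120010001200800010005000100040000f0020000f0080000e0030000e0040000d0030000d0020000d0010000d0080000c0040000c0030000c0080000b0050000b0080000a0050000a0040000a0080000900500009004000090080000800500008003000080020000800400007003000070020000700100007008000060040000600300006008000050050000500100005008000040050000400400004002000040080000300500003004000030030000300800002005000020040000200300002002000020080000100500001004000010030000100200001001000010080000000500000004000000030000000200000001000000000000000000000),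
  (nat_lit 0x50005e0040005d0040005b004000590080005700400055008000520040004e0030004d00800049008000460040004400300041002000410040003f0040003e0030003e0040003d0030003d0080003b004000360040003100400030003000300030002f0080002c008000290040002800800025005000250050002400100024005000230040002300200023004000220030002200400020003000200080001e0040001e0040001d0030001d0010001d0080001c0030001c0080001b0050001b0040001a0030001a0020001a00800019008000180050001800100018008000170050001700400017004000160030001600300015008000140080001300400012),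
  (nat_lit 0x400073008000710040006d0080006b0040006800400066003000610040005f)]
noncomputable def sf11_0_recs : List ℕ := [(nat_lit 0x3b0004905000410004802000190004702000310004302000360003f02000160003e010002f0003c010002c0003b03000100003b01000170003a010001300038080001100035050002200035000001200035080001500034050002100034010001600033020001200033000000d00033050002900032020002f00032010002d00031000001e00031050001d00030040002a0002f000001c0002f050001a0002e03000270002d030000b0002c00000180002c010002b0002005000160002b020000c0002a00000150002a000001400029020002800020050001200028000002200028080002700022010000c00027000001100027010000a00026000000f0002600000070002005000140001f020001c0001f04000150001c00000100001b030001100019030000500018030000900017000001300017020000600015020000a00013010000600011010000b0001001000040000f01000030000e05000070000d00000060000c00000050000b00000040000a000000300009000000200008),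
  (nat_lit 0x30006900083010007f00081000007100081000007400080040006f0007f03000700007f03000640007e000007d0007e05000740007d030005c0007d020007c0007d030005a0007c01000760007b03000560007a020006600079000007600079030004f00078050006c00076030004000071020006b00071050006000070010006100070020004500070050005d0006f03000370006b03000320006a050003b00067020005700067050004b00066010006500053050004200065000005400065010003500063000003e0006308000620003e020002700062040003500061000004000061040002b0006003000340005f00000440005f03000240005e03000280005d000005b0005d02000240005c02000590005b05000400005a00000240005a050004400059000002300059050004d00058030001f00057080003200054020003d00053050004900052040004300052010004a00052050003d00051030004a00050010001c0005008000310004d01000410004c000001a0004c030001b00049),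
  (nat_lit 0xff000410001aff000460002c030000800019ff0001300004ff000170000aff0001900026ff0000300000ff0000600001ff0001100008040006100028ff0001600007ff000200000dff0002800035030007e00061000006b0005eff0002400045ff0005a00037ff000610006400000710007eff000740005eff0005c00040ff0007c0006bff0007e00081ff000710007d030008200086050005e0007101000810007100000740006b020004500040ff0007f00071ff000800006bff0007000040ff0006f0003f020006600066000007600066ff0005f00036080000e00022010007600075ff000120003eff0007900066ff000340000d020000600001ff000220003900000110000eff0007b00075030001700006ff0003300016ff000520002cff0001500001ff0000e00027ff0005700046ff0000600009ff0000c00003ff000430000aff0002d00038ff0001e0001702000410001aff0003100013ff0005800048ff0001a00072ff0004d00041ff0007300077080008500087030006e00085),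
  (nat_lit 0xff0000100000ff0000b00005ff000300001dff0006900056ff000830007a080007800083ff0008500083010001a0001a000001a0001aff0006d00068ff0004c0001aff0003d00030ff0001900004ff000100000bff0000800000ff0000200001ff0002800007ff000120000dff0006100024ff0004000037ff0007e0005eff000710006bff0008600084080008500078ff0008700078010007600066ff000730004e020001a0001a010004c0001aff0007500066)]
noncomputable def sf11_0_T : List (List ℕ × ℕ) := [([0], (nat_lit 0x379))]
noncomputable def sf11_0_D : H26.Dag := ⟨[0,1,2,3,4,5,7,6,8], [[0,0],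
  [1,1],
  [2,2],
  [3,3],
  [4,4],
  [5,5],
  [6,7],
  [7,6],
  [8,8],
  [2,1,2,1],
  [1,0,1,0],
  [2,0,2,0],
  [3,0,3,0],
  [4,0,4,0],
  [5,0,5,0],
  [3,1,3,1],
  [4,2,4,2],
  [4,3,4,3],
  [1,0,4,1,4],
  [2,0,3,2,3],
  [1,5,1,5],
  [5,1,3,5,3],
  [2,5,2,5],
  [5,2,4,5,4],
  [6,6,6],
  [5,7,5,6],
  [0,1,2,7,2,6],
  [0,3,4,7,4,6],
  [6,8,6,8],
  [5,8,0,8],
  [0,1,2,5,8,5,2,1,0,8],
  [2,5,8,5,1,8],
  [0,1,2,4,3,8,4,3,8,4,3,8]], [], sf11_0_defs, sf11_0_recs⟩
theorem sf11_0_c : sf11_0_D.check sf11_0_S sf11_0_T = true := by decide +kernel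
theorem sf11_0 {G : Type*} [Group G] {g : ℕ → G} (hR : Rels g sf11_r_R) {H : Subgroup G}
    (hH : ∀ k ∈ [], g k ∈ H) : evA g [0] ∈ H :=
  mem_dag (K := 9) (J := [0,1,2,3,4,5,6,7,8,9,10,11,12,13,14,15,16,17,18,19,20,21,22,23,24,25,28,30,31,32,33,34,35]) (D := sf11_0_D) (by decide +kernel) sf11_0_c (by decide +kernel) hR hH
theorem sf11 {G : Type*} [Group G] {z u v a b r y s : G}
    (t : TA z u v a b r)
    (n : NY z u v a b r y)
    (w : RS0 z u v r y s)
    (e : (s * a * b) ^ 3 = z * u * v) :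
    z = 1 :=
  mul_inv_eq_one.1 ((evA_eq_tm ((InvI.cons t.1 (InvI.cons t.2.1 (InvI.cons t.2.2.1 (InvI.cons t.2.2.2.1 (InvI.cons t.2.2.2.2.1 (InvI.cons t.2.2.2.2.2.1 (InvI.cons w.1 InvI.nil))))))) : InvI [z, u, v, a, b, r, y, s] [(nat_lit 0), (nat_lit 1), (nat_lit 2), (nat_lit 3), (nat_lit 4), (nat_lit 5), (nat_lit 7)]) [(.v (nat_lit 0)), (.v (nat_lit 1)), (.v (nat_lit 2)), (.v (nat_lit 3)), (.v (nat_lit 4)), (.v (nat_lit 5)), (.v (nat_lit 6)), (.inv (.v (nat_lit 6))), (.v (nat_lit 7))] [0] (.mul (.v (nat_lit 0)) (.inv .one)) (by decide +kernel)).symm.trans (Subgroup.mem_bot.1 (sf11_0 (sf11_r t n w e) (H := ⊥) (List.forall_mem_nil _))))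
noncomputable def sf12_r_R : List (List ℕ) := [[0,0],
  [1,1],
  [2,2],
  [3,3],
  [4,4],
  [5,5],
  [6,7],
  [7,6],
  [8,8],
  [2,1,2,1],
  [1,0,1,0],
  [2,0,2,0],
  [3,0,3,0],
  [4,0,4,0],
  [5,0,5,0],
  [3,1,3,1],
  [4,2,4,2],
  [4,3,4,3],
  [1,0,4,1,4],
  [2,0,3,2,3],
  [1,5,1,5],
  [5,1,3,5,3],
  [2,5,2,5],
  [5,2,4,5,4],
  [6,6,6],
  [5,7,5,6],
  [0,7,0,6],
  [2,7,1,6],
  [0,1,2,7,2,6],
  [4,7,3,6],
  [0,3,4,7,4,6],
  [6,8,6,8],
  [5,8,0,8],
  [0,1,2,5,8,5,2,1,0,8],
  [2,5,8,5,1,8],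
  [0,1,5,4,3,8,4,3,8,4,3,8]]
theorem sf12_r {G : Type*} [Group G] {z u v a b r y s : G}
    (t : TA z u v a b r)
    (n : NY z u v a b r y)
    (w : RS0 z u v r y s)
    (e : (s * a * b) ^ 3 = z * u * r) :
    Rels (nthG [z, u, v, a, b, r, y, y⁻¹, s]) sf12_r_R :=
  rels_of_eqs ((InvI.cons t.1 (InvI.cons t.2.1 (InvI.cons t.2.2.1 (InvI.cons t.2.2.2.1 (InvI.cons t.2.2.2.2.1 (InvI.cons t.2.2.2.2.2.1 (InvI.cons w.1 InvI.nil))))))) : InvI [z, u, v, a, b, r, y, s] [(nat_lit 0), (nat_lit 1), (nat_lit 2), (nat_lit 3), (nat_lit 4), (nat_lit 5), (nat_lit 7)])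
    (AllEq.append (show AllEq [z, u, v, a, b, r, y, s] [((.mul (.v (nat_lit 0)) (.v (nat_lit 0))), .one), ((.mul (.v (nat_lit 1)) (.v (nat_lit 1))), .one), ((.mul (.v (nat_lit 2)) (.v (nat_lit 2))), .one), ((.mul (.v (nat_lit 3)) (.v (nat_lit 3))), .one), ((.mul (.v (nat_lit 4)) (.v (nat_lit 4))), .one), ((.mul (.v (nat_lit 5)) (.v (nat_lit 5))), .one), ((.mul (.v (nat_lit 1)) (.v (nat_lit 2))), (.mul (.v (nat_lit 2)) (.v (nat_lit 1)))), ((.mul (.v (nat_lit 0)) (.v (nat_lit 1))), (.mul (.v (nat_lit 1)) (.v (nat_lit 0)))), ((.mul (.v (nat_lit 0)) (.v (nat_lit 2))), (.mul (.v (nat_lit 2)) (.v (nat_lit 0)))), ((.mul (.v (nat_lit 0)) (.v (nat_lit 3))), (.mul (.v (nat_lit 3)) (.v (nat_lit 0)))), ((.mul (.v (nat_lit 0)) (.v (nat_lit 4))), (.mul (.v (nat_lit 4)) (.v (nat_lit 0)))), ((.mul (.v (nat_lit 0)) (.v (nat_lit 5))), (.mul (.v (nat_lit 5)) (.v (nat_lit 0)))), ((.mul (.v (nat_lit 1)) (.v (nat_lit 3))), (.mul (.v (nat_lit 3)) (.v (nat_lit 1)))), ((.mul (.v (nat_lit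 2)) (.v (nat_lit 4))), (.mul (.v (nat_lit 4)) (.v (nat_lit 2)))), ((.mul (.v (nat_lit 3)) (.v (nat_lit 4))), (.mul (.v (nat_lit 4)) (.v (nat_lit 3)))), ((.mul (.mul (.v (nat_lit 4)) (.v (nat_lit 1))) (.v (nat_lit 4))), (.mul (.v (nat_lit 1)) (.v (nat_lit 0)))), ((.mul (.mul (.v (nat_lit 3)) (.v (nat_lit 2))) (.v (nat_lit 3))), (.mul (.v (nat_lit 2)) (.v (nat_lit 0)))), ((.mul (.v (nat_lit 5)) (.v (nat_lit 1))), (.mul (.v (nat_lit 1)) (.v (nat_lit 5)))), ((.mul (.mul (.v (nat_lit 3)) (.v (nat_lit 5))) (.v (nat_lit 3))), (.mul (.v (nat_lit 5)) (.v (nat_lit 1)))), ((.mul (.v (nat_lit 5)) (.v (nat_lit 2))), (.mul (.v (nat_lit 2)) (.v (nat_lit 5)))), ((.mul (.mul (.v (nat_lit 4)) (.v (nat_lit 5))) (.v (nat_lit 4))), (.mul (.v (nat_lit 5)) (.v (nat_lit 2))))] from t)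
    (AllEq.append (show AllEq [z, u, v, a, b, r, y, s] [((.pw (.v (nat_lit 6)) (nat_lit 3)), .one), ((.mul (.v (nat_lit 6)) (.v (nat_lit 5))), (.mul (.v (nat_lit 5)) (.v (nat_lit 6)))), ((.mul (.v (nat_lit 6)) (.v (nat_lit 0))), (.mul (.v (nat_lit 0)) (.v (nat_lit 6)))), ((.mul (.mul (.v (nat_lit 6)) (.v (nat_lit 1))) (.inv (.v (nat_lit 6)))), (.v (nat_lit 2))), ((.mul (.mul (.v (nat_lit 6)) (.v (nat_lit 2))) (.inv (.v (nat_lit 6)))), (.mul (.mul (.v (nat_lit 0)) (.v (nat_lit 1))) (.v (nat_lit 2)))), ((.mul (.mul (.v (nat_lit 6)) (.v (nat_lit 3))) (.inv (.v (nat_lit 6)))), (.v (nat_lit 4))), ((.mul (.mul (.v (nat_lit 6)) (.v (nat_lit 4))) (.inv (.v (nat_lit 6)))), (.mul (.mul (.v (nat_lit 0)) (.v (nat_lit 3))) (.v (nat_lit 4))))] from n)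
    (AllEq.append (show AllEq [z, u, v, a, b, r, y, s] [((.mul (.v (nat_lit 7)) (.v (nat_lit 7))), .one), ((.mul (.mul (.v (nat_lit 7)) (.v (nat_lit 6))) (.v (nat_lit 7))), (.inv (.v (nat_lit 6)))), ((.mul (.mul (.v (nat_lit 7)) (.v (nat_lit 0))) (.v (nat_lit 7))), (.v (nat_lit 5))), ((.mul (.mul (.v (nat_lit 7)) (.mul (.mul (.mul (.v (nat_lit 0)) (.v (nat_lit 1))) (.v (nat_lit 2))) (.v (nat_lit 5)))) (.v (nat_lit 7))), (.mul (.mul (.mul (.v (nat_lit 0)) (.v (nat_lit 1))) (.v (nat_lit 2))) (.v (nat_lit 5)))), ((.mul (.mul (.v (nat_lit 7)) (.mul (.v (nat_lit 1)) (.v (nat_lit 5)))) (.v (nat_lit 7))), (.mul (.v (nat_lit 2)) (.v (nat_lit 5))))] from w)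
    (show AllEq [z, u, v, a, b, r, y, s] [((.pw (.mul (.mul (.v (nat_lit 7)) (.v (nat_lit 3))) (.v (nat_lit 4))) (nat_lit 3)), (.mul (.mul (.v (nat_lit 0)) (.v (nat_lit 1))) (.v (nat_lit 5))))] from ⟨e, trivial⟩))))
    [(.v (nat_lit 0)), (.v (nat_lit 1)), (.v (nat_lit 2)), (.v (nat_lit 3)), (.v (nat_lit 4)), (.v (nat_lit 5)), (.v (nat_lit 6)), (.inv (.v (nat_lit 6))), (.v (nat_lit 7))] (by decide +kernel)
noncomputable def sf12_0_S0 : List ℕ := [nat_lit 0x1f00000700000c004014, nat_lit 0x23000007000010004016, nat_lit 0x27000007000014004018, nat_lit 0x2f00000700001800401c, nat_lit 0x3300000700001c000038, nat_lit 0x3f00000100001f00002c00c024, nat_lit 0x4300000b000018008028, nat_lit 0x5300000f00001800802c, nat_lit 0x6300001300000c00004401002a, nat_lit 0x6700001700001c008038, nat_lit 0x7b00001f000024004012, nat_lit 0x7b000002000038004016, nat_lit 0x7f00000200003c004018, nat_lit 0x7f00001f00002800401e, nat_lit 0x8300001f000030008028, nat_lit 0x6f00001100003300003000003900203c,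 nat_lit 0x8700008400003d008038, nat_lit 0x87000002000048000038, nat_lit 0x6700001900004300004800004500003c, nat_lit 0x8b00002300003000802c, nat_lit 0x6b00001100003300003000004d01403c, nat_lit 0x8f00008c000051008038, nat_lit 0x8f000006000058000038, nat_lit 0x6700001d00005300005800005900603c, nat_lit 0x9300000a00006000401a, nat_lit 0x9300002700002c004022, nat_lit 0x9700003900008300008000c02a, nat_lit 0x9b00002f000034008038, nat_lit 0x9b00003900008300008800004600003c, nat_lit 0x9b00004d00008b00009000005a00603c, nat_lit 0x9f00006d000076004014, nat_lit 0x9f00001200006c004028, nat_lit 0xa300006d000072004016, nat_lit 0xa300001200007000402c, nat_lit 0xa300001200001b00001800001900203c, nat_lit 0xaf00002d00007b00008000c026, nat_lit 0xb300003700004400802c, nat_lit 0xb700003700004400008900008600603c, nat_lit 0xbb00003b000040004022, nat_lit 0xbb00003100003600009400c024, nat_lit 0xbf00003f0000380000b401002e, nat_lit 0xc3000071000076008012, nat_lit 0xc70000810000a30000a800c026,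 nat_lit 0xd300004f000005000029010024, nat_lit 0xdf00005b00006400802c, nat_lit 0xe300006100009d004014, nat_lit 0xe300005f000009000035010024, nat_lit 0xe700005f00005c0000e001002e, nat_lit 0xef0000b10000bd004020, nat_lit 0xf3000026000074004018, nat_lit 0xf300005e00005a0000d800c02a, nat_lit 0xf700006b00007400401e, nat_lit 0xf700006b0000110000a800c02a, nat_lit 0xfb00007300002500004a010026, nat_lit 0xff000073000078004022, nat_lit 0x1030000c50000ca00401c, nat_lit 0x1030000cd0000d2008028, nat_lit 0x10300007300006c00007d01002a, nat_lit 0x10700007700002500005e010024, nat_lit 0x10b00007700007000008501002e, nat_lit 0x10f00007b00008400003d00008500603c, nat_lit 0x11300004900005e008012, nat_lit 0x113000042000095004014, nat_lit 0x1130000460000c4004028]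
noncomputable def sf12_0_S1 : List ℕ := [nat_lit 0x11300004600004700004400009101403c, nat_lit 0x11b0000560000f8004018, nat_lit 0x11b00005d0000f400401e, nat_lit 0x11f0000660000150000c001002a, nat_lit 0x1230000620000ec000038, nat_lit 0x12b00006e0000a8004018, nat_lit 0x12b00007600005900011c00c02a, nat_lit 0x12f0000720000cc004020, nat_lit 0x13300007a00007500013000c024, nat_lit 0x1370000820000c8004018, nat_lit 0x13700008200007100012c00c026, nat_lit 0x13b0000a70000ac004022, nat_lit 0x13f00008e00006900012800c02e, nat_lit 0x1430000f90000f600011c00c026, nat_lit 0x14300009600008500013800c02a, nat_lit 0x14f0000a60000dc004020, nat_lit 0x14f0000a60000590000e900c02e, nat_lit 0x1530000aa00013c004020, nat_lit 0x15700012500013900401c, nat_lit 0x1570000aa0000d100802c, nat_lit 0x1570000c70000c40000fd01002a, nat_lit 0x15b00011d000121008012, nat_lit 0x15b0000cb0000810000f1010024, nat_lit 0x15f0000d70000dc004022, nat_lit 0x15f0000dd0000e200013c00c024, nat_lit 0x16300013d00014200802c,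 nat_lit 0x1630000db0000a50000fd01002e, nat_lit 0x1670000b600014c000038, nat_lit 0x16b0000c20000e70000ec00011100603c, nat_lit 0x16f0000c600010000401a, nat_lit 0x17300010500010a00017000c024, nat_lit 0x17300014d00015700015400c02e, nat_lit 0x1770000fb000100004020, nat_lit 0x1770000d6000118004022, nat_lit 0x17b0000da00010800801e, nat_lit 0x17f0000da00010800014101002a, nat_lit 0x1870000e6000134004022, nat_lit 0x18b0000ee000138008022, nat_lit 0x18f00011f000124008038, nat_lit 0x19300011600013c00401a, nat_lit 0x193000129000195004020, nat_lit 0x19300012b000130004022, nat_lit 0x1930001160000e100018800c024, nat_lit 0x19700014500017d00802c, nat_lit 0x19700013b0000a900015801002e, nat_lit 0x19f0001490001b100401a, nat_lit 0x19f000143000148004022, nat_lit 0x19f00013600011900019400c02e, nat_lit 0x1a700014b00009a00003f0000480000c800015400017d00017a00017600018402803e, nat_lit 0x1a30001a80001c2008022, nat_lit 0x19300012b00009b00000e00001900004300004000009900014c0001a80001c200018300e03e,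 nat_lit 0x1760001c900019e000000, nat_lit 0x17b0001c90001aa000002, nat_lit 0x1820001c90001a2000004, nat_lit 0xd90001c90001a6000006, nat_lit 0x17f0001c90001bd00000a, nat_lit 0x1cd000176000000, nat_lit 0x1620001cd000179000002, nat_lit 0x1890001d2000192000006, nat_lit 0x1850001d600018b000006, nat_lit 0x780001da00012f000008, nat_lit 0x1de0001b6000000, nat_lit 0x18d0001de0001ba000006, nat_lit 0x1e60001ad000004]
noncomputable def sf12_0_S2 : List ℕ := [nat_lit 0x1660001ea000155000004, nat_lit 0x1ed000185000006, nat_lit 0xed0001ed000117000008, nat_lit 0x1c0001f200009b000010, nat_lit 0x1f900018d000006, nat_lit 0x15900020100016a000008, nat_lit 0x2090000ed000008, nat_lit 0x8800020900008a000010, nat_lit 0x1300020e000098000006, nat_lit 0x216000151000006, nat_lit 0x110000216000102000010, nat_lit 0x7f00021e000021000006, nat_lit 0x5f000222000128000008, nat_lit 0xae00022a0000a1000008, nat_lit 0x22d00007f000006, nat_lit 0xef00022d0000b9000008, nat_lit 0xe700023200013100000a,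 nat_lit 0x2350000ae000008, nat_lit 0x23d0000ef000008, nat_lit 0x16700023d00016c000010, nat_lit 0x24200013f000008, nat_lit 0x24e000172000002, nat_lit 0x1b200022500010f00024500010d00019000019a00025500016e0001a80001c200018301a03e, nat_lit 0x1e20002590001f5000000, nat_lit 0x1820002590001fd000004, nat_lit 0x12d00025e000211000006, nat_lit 0x15d000261000205000006, nat_lit 0xac000266000147000008, nat_lit 0xdc00026a000219000008, nat_lit 0x3400026e0000b7000010, nat_lit 0x58000272000087000010, nat_lit 0x270002760000b0000006, nat_lit 0x4b00027a000239000006, nat_lit 0x9300027e000251000008, nat_lit 0xcf000282000249000008, nat_lit 0x2860000e700000a, nat_lit 0x28a0000b6000000, nat_lit 0x28a0000e3000002, nat_lit 0x19b00012e0000ab00003300002800009400028e00029500029200014c0001a40001c602403e, nat_lit 0x18400029900019b000010, nat_lit 0xd900029e00012e000006, nat_lit 0x780002a20000ab000008, nat_lit 0x1c0002a6000033000010, nat_lit 0x2aa000007000000]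
noncomputable def sf12_0_S : List (List ℕ) := [sf12_0_S0, sf12_0_S1, sf12_0_S2]
noncomputable def sf12_0_defs : List ℕ := [(nat_lit 0x40001c0020001c0030001a003000190040001800800017005000170010001700500016004000150030001500100013004000120040001100300011001000110050000f0040000e0080000d0050000d0030000d0040000c0030000c0020000c0010000c0080000b0030000b00400009008000080050000800800007005000070030000700200007004000060030000600200006001000060080000500500004004000040020000400800003005000030040000300300003008000020050000200400002003000020020000200800001005000010040000100300001002000010010000100800000005000000030000000200000001000000000000000000000),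
  (nat_lit 0x40005200300052004000500080004e0050004e0040004a0080004700300042004000400080003f0050003f0010003f0040003e0040003d0040003c0080003b008000380050003600400035001000320050003100400031004000300080002e0040002d0030002d0040002b00400029003000280040002700400026003000260040002500800024005000240030002300400021001000210080001e0050001d0010001d0050001c)]
noncomputable def sf12_0_recs : List ℕ := [(nat_lit 0x50003000044000002d00044020002300044010002800043040002800042040002300041030002700040010002900040000003500040030001d0003f03000210003e05000290003d010001c0003d05000350003c000001c0003c02000390003b040003700039040001f00038000002e00038020001800037040001e00034020002900031020001500030040002c0002f01000240002e030000f0002e010001b0002d02000100002c020001f0002b080001000028050001b00028000001100028050001a00027000001500027010001500026020001100026000000c00026050001f00025030000a00024000001700024010002300019050001500023000001a0002308000220001a020000b00022020002100019050001100021000001b0002108000200001b010000b0002001000090001f000000e0001f000000d0001e01000080001e000000600019030001000018020000500014010000500010010000a0000f05000060000c00000050000b000000400009000000300008000000200007),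
  (nat_lit 0x20006500057ff000510005300000650005fff0002600006ff0004200045ff0004c00041ff0005c00057000003f0004eff000670005fff0004b0001dff000620005dff000610005eff0004e0005bff0003f00064040006000068030006000069050006400067030005100067000006500067040005500065020005c00065010006100064030004b00064020006200064000004e00064000004800063040004d00062030004c0006103000530005f03000410005e03000450005d020003f0005d05000540005c010005b0005c000003f0005b01000480005a050005200059040004400058020004100058010004e00057030003600057040004300056020004c00056030004400055020003d00055000005000055020004e00054050004100053020003600053050004d0005002000460005005000490004f030002a0004e020004a0004d00000310004d010004b0004c02000320004b05000460004a00000290004a050003a00048030002f00047010003c00046000003d00046080002c00044),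
  (nat_lit 0xff0000100000ff0000c00006ff0002a0001dff0004e0003fff0006000066010001700033000002e00033050001700024ff0003800033ff0003900024ff0001800012ff0002b00009ff0000700003ff0000d00001ff0002100015ff0002d0000cff0004200036ff000510002aff000570005dff0005f0004eff0003f00065010004800059040002b00039ff0005a00059040001800038040001e0002fff0004f00039ff000380003b030000700018ff0002f00034ff0004900017ff000180001fff0002c0001e030005500043ff0002500004ff0001000007040004200021ff0004400043030005f00051ff0000b00000ff0002100028030005d00042ff0005600058)]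
noncomputable def sf12_0_T : List (List ℕ × ℕ) := [([0], (nat_lit 0x2ad))]
noncomputable def sf12_0_D : H26.Dag := ⟨[0,1,2,3,4,5,7,6,8], [[0,0],
  [1,1],
  [2,2],
  [3,3],
  [4,4],
  [5,5],
  [6,7],
  [7,6],
  [8,8],
  [2,1,2,1],
  [1,0,1,0],
  [2,0,2,0],
  [3,0,3,0],
  [4,0,4,0],
  [5,0,5,0],
  [3,1,3,1],
  [4,2,4,2],
  [4,3,4,3],
  [1,0,4,1,4],
  [2,0,3,2,3],
  [1,5,1,5],
  [5,1,3,5,3],
  [2,5,2,5],
  [5,2,4,5,4],
  [6,6,6],
  [0,1,2,7,2,6],
  [0,3,4,7,4,6],
  [6,8,6,8],
  [5,8,0,8],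
  [0,1,2,5,8,5,2,1,0,8],
  [2,5,8,5,1,8],
  [0,1,5,4,3,8,4,3,8,4,3,8]], [], sf12_0_defs, sf12_0_recs⟩
theorem sf12_0_c : sf12_0_D.check sf12_0_S sf12_0_T = true := by decide +kernel
theorem sf12_0 {G : Type*} [Group G] {g : ℕ → G} (hR : Rels g sf12_r_R) {H : Subgroup G}
    (hH : ∀ k ∈ [], g k ∈ H) : evA g [0] ∈ H :=
  mem_dag (K := 9) (J := [0,1,2,3,4,5,6,7,8,9,10,11,12,13,14,15,16,17,18,19,20,21,22,23,24,28,30,31,32,33,34,35]) (D := sf12_0_D) (by decide +kernel) sf12_0_c (by decide +kernel) hR hH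
theorem sf12 {G : Type*} [Group G] {z u v a b r y s : G}
    (t : TA z u v a b r)
    (n : NY z u v a b r y)
    (w : RS0 z u v r y s)
    (e : (s * a * b) ^ 3 = z * u * r) :
    z = 1 :=
  mul_inv_eq_one.1 ((evA_eq_tm ((InvI.cons t.1 (InvI.cons t.2.1 (InvI.cons t.2.2.1 (InvI.cons t.2.2.2.1 (InvI.cons t.2.2.2.2.1 (InvI.cons t.2.2.2.2.2.1 (InvI.cons w.1 InvI.nil))))))) : InvI [z, u, v, a, b, r, y, s] [(nat_lit 0), (nat_lit 1), (nat_lit 2), (nat_lit 3), (nat_lit 4), (nat_lit 5), (nat_lit 7)]) [(.v (nat_lit 0)), (.v (nat_lit 1)), (.v (nat_lit 2)), (.v (nat_lit 3)), (.v (nat_lit 4)), (.v (nat_lit 5)), (.v (nat_lit 6)), (.inv (.v (nat_lit 6))), (.v (nat_lit 7))] [0] (.mul (.v (nat_lit 0)) (.inv .one)) (by decide +kernel)).symm.trans (Subgroup.mem_bot.1 (sf12_0 (sf12_r t n w e) (H := ⊥) (List.forall_mem_nil _))))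
noncomputable def sf13_r_R : List (List ℕ) := [[0,0],
  [1,1],
  [2,2],
  [3,3],
  [4,4],
  [5,5],
  [6,7],
  [7,6],
  [8,8],
  [2,1,2,1],
  [1,0,1,0],
  [2,0,2,0],
  [3,0,3,0],
  [4,0,4,0],
  [5,0,5,0],
  [3,1,3,1],
  [4,2,4,2],
  [4,3,4,3],
  [1,0,4,1,4],
  [2,0,3,2,3],
  [1,5,1,5],
  [5,1,3,5,3],
  [2,5,2,5],
  [5,2,4,5,4],
  [6,6,6],
  [5,7,5,6],
  [0,7,0,6],
  [2,7,1,6],
  [0,1,2,7,2,6],
  [4,7,3,6],
  [0,3,4,7,4,6],
  [6,8,6,8],
  [5,8,0,8],
  [0,1,2,5,8,5,2,1,0,8],
  [2,5,8,5,1,8],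
  [0,2,5,4,3,8,4,3,8,4,3,8]]
theorem sf13_r {G : Type*} [Group G] {z u v a b r y s : G}
    (t : TA z u v a b r)
    (n : NY z u v a b r y)
    (w : RS0 z u v r y s)
    (e : (s * a * b) ^ 3 = z * v * r) :
    Rels (nthG [z, u, v, a, b, r, y, y⁻¹, s]) sf13_r_R :=
  rels_of_eqs ((InvI.cons t.1 (InvI.cons t.2.1 (InvI.cons t.2.2.1 (InvI.cons t.2.2.2.1 (InvI.cons t.2.2.2.2.1 (InvI.cons t.2.2.2.2.2.1 (InvI.cons w.1 InvI.nil))))))) : InvI [z, u, v, a, b, r, y, s] [(nat_lit 0), (nat_lit 1), (nat_lit 2), (nat_lit 3), (nat_lit 4), (nat_lit 5), (nat_lit 7)])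
    (AllEq.append (show AllEq [z, u, v, a, b, r, y, s] [((.mul (.v (nat_lit 0)) (.v (nat_lit 0))), .one), ((.mul (.v (nat_lit 1)) (.v (nat_lit 1))), .one), ((.mul (.v (nat_lit 2)) (.v (nat_lit 2))), .one), ((.mul (.v (nat_lit 3)) (.v (nat_lit 3))), .one), ((.mul (.v (nat_lit 4)) (.v (nat_lit 4))), .one), ((.mul (.v (nat_lit 5)) (.v (nat_lit 5))), .one), ((.mul (.v (nat_lit 1)) (.v (nat_lit 2))), (.mul (.v (nat_lit 2)) (.v (nat_lit 1)))), ((.mul (.v (nat_lit 0)) (.v (nat_lit 1))), (.mul (.v (nat_lit 1)) (.v (nat_lit 0)))), ((.mul (.v (nat_lit 0)) (.v (nat_lit 2))), (.mul (.v (nat_lit 2)) (.v (nat_lit 0)))), ((.mul (.v (nat_lit 0)) (.v (nat_lit 3))), (.mul (.v (nat_lit 3)) (.v (nat_lit 0)))), ((.mul (.v (nat_lit 0)) (.v (nat_lit 4))), (.mul (.v (nat_lit 4)) (.v (nat_lit 0)))), ((.mul (.v (nat_lit 0)) (.v (nat_lit 5))), (.mul (.v (nat_lit 5)) (.v (nat_lit 0)))), ((.mul (.v (nat_lit 1)) (.v (nat_lit 3))), (.mul (.v (nat_lit 3)) (.v (nat_lit 1)))), ((.mul (.v (nat_lit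 2)) (.v (nat_lit 4))), (.mul (.v (nat_lit 4)) (.v (nat_lit 2)))), ((.mul (.v (nat_lit 3)) (.v (nat_lit 4))), (.mul (.v (nat_lit 4)) (.v (nat_lit 3)))), ((.mul (.mul (.v (nat_lit 4)) (.v (nat_lit 1))) (.v (nat_lit 4))), (.mul (.v (nat_lit 1)) (.v (nat_lit 0)))), ((.mul (.mul (.v (nat_lit 3)) (.v (nat_lit 2))) (.v (nat_lit 3))), (.mul (.v (nat_lit 2)) (.v (nat_lit 0)))), ((.mul (.v (nat_lit 5)) (.v (nat_lit 1))), (.mul (.v (nat_lit 1)) (.v (nat_lit 5)))), ((.mul (.mul (.v (nat_lit 3)) (.v (nat_lit 5))) (.v (nat_lit 3))), (.mul (.v (nat_lit 5)) (.v (nat_lit 1)))), ((.mul (.v (nat_lit 5)) (.v (nat_lit 2))), (.mul (.v (nat_lit 2)) (.v (nat_lit 5)))), ((.mul (.mul (.v (nat_lit 4)) (.v (nat_lit 5))) (.v (nat_lit 4))), (.mul (.v (nat_lit 5)) (.v (nat_lit 2))))] from t)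
    (AllEq.append (show AllEq [z, u, v, a, b, r, y, s] [((.pw (.v (nat_lit 6)) (nat_lit 3)), .one), ((.mul (.v (nat_lit 6)) (.v (nat_lit 5))), (.mul (.v (nat_lit 5)) (.v (nat_lit 6)))), ((.mul (.v (nat_lit 6)) (.v (nat_lit 0))), (.mul (.v (nat_lit 0)) (.v (nat_lit 6)))), ((.mul (.mul (.v (nat_lit 6)) (.v (nat_lit 1))) (.inv (.v (nat_lit 6)))), (.v (nat_lit 2))), ((.mul (.mul (.v (nat_lit 6)) (.v (nat_lit 2))) (.inv (.v (nat_lit 6)))), (.mul (.mul (.v (nat_lit 0)) (.v (nat_lit 1))) (.v (nat_lit 2)))), ((.mul (.mul (.v (nat_lit 6)) (.v (nat_lit 3))) (.inv (.v (nat_lit 6)))), (.v (nat_lit 4))), ((.mul (.mul (.v (nat_lit 6)) (.v (nat_lit 4))) (.inv (.v (nat_lit 6)))), (.mul (.mul (.v (nat_lit 0)) (.v (nat_lit 3))) (.v (nat_lit 4))))] from n)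
    (AllEq.append (show AllEq [z, u, v, a, b, r, y, s] [((.mul (.v (nat_lit 7)) (.v (nat_lit 7))), .one), ((.mul (.mul (.v (nat_lit 7)) (.v (nat_lit 6))) (.v (nat_lit 7))), (.inv (.v (nat_lit 6)))), ((.mul (.mul (.v (nat_lit 7)) (.v (nat_lit 0))) (.v (nat_lit 7))), (.v (nat_lit 5))), ((.mul (.mul (.v (nat_lit 7)) (.mul (.mul (.mul (.v (nat_lit 0)) (.v (nat_lit 1))) (.v (nat_lit 2))) (.v (nat_lit 5)))) (.v (nat_lit 7))), (.mul (.mul (.mul (.v (nat_lit 0)) (.v (nat_lit 1))) (.v (nat_lit 2))) (.v (nat_lit 5)))), ((.mul (.mul (.v (nat_lit 7)) (.mul (.v (nat_lit 1)) (.v (nat_lit 5)))) (.v (nat_lit 7))), (.mul (.v (nat_lit 2)) (.v (nat_lit 5))))] from w)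
    (show AllEq [z, u, v, a, b, r, y, s] [((.pw (.mul (.mul (.v (nat_lit 7)) (.v (nat_lit 3))) (.v (nat_lit 4))) (nat_lit 3)), (.mul (.mul (.v (nat_lit 0)) (.v (nat_lit 2))) (.v (nat_lit 5))))] from ⟨e, trivial⟩))))
    [(.v (nat_lit 0)), (.v (nat_lit 1)), (.v (nat_lit 2)), (.v (nat_lit 3)), (.v (nat_lit 4)), (.v (nat_lit 5)), (.v (nat_lit 6)), (.inv (.v (nat_lit 6))), (.v (nat_lit 7))] (by decide +kernel)
noncomputable def sf13_0_S0 : List ℕ := [nat_lit 0x2300000700000c004014, nat_lit 0x27000007000010004016, nat_lit 0x2b000007000014004018, nat_lit 0x2f00000700001800401a, nat_lit 0x3300000700001c00401c, nat_lit 0x37000007000020000030, nat_lit 0x4300000100002300003000c024, nat_lit 0x4700000b00001c008028, nat_lit 0x4f00000500002700002c00c026, nat_lit 0x5300000f000018004020, nat_lit 0x5700000f00001c00802c, nat_lit 0x5f000009000021004016, nat_lit 0x5f000013000008000028010026, nat_lit 0x63000013000018004022, nat_lit 0x6f00001700001000005801002e, nat_lit 0x7700001d00004700004000c02a,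 nat_lit 0x7b00001b000020008030, nat_lit 0x8f000023000028004012, nat_lit 0x8f00000200003c004016, nat_lit 0x93000002000040004018, nat_lit 0x9300002300002c00401e, nat_lit 0x97000023000034008028, nat_lit 0x83000015000037000034000055002032, nat_lit 0x9b00000200004c000030, nat_lit 0xa300002700003400802c, nat_lit 0x7f000015000037000034000061014032, nat_lit 0xa700000600005c000030, nat_lit 0x7b00002900005700005c000069006032, nat_lit 0xab00000a00006400401a, nat_lit 0xab00002b000030004022, nat_lit 0xaf00000a00006800401c, nat_lit 0xaf00002b00002400009801002a, nat_lit 0xb300000a00006c000030, nat_lit 0xb700002f0000280000a401002e, nat_lit 0xbb00000e000074000030, nat_lit 0xbf000012000078004018, nat_lit 0xbf00005500007d00401e, nat_lit 0xbf00005500009700009400c02a, nat_lit 0xc3000033000038008030, nat_lit 0xc300005500009700009c00005e000032, nat_lit 0xc30000610000a30000a800006a006032, nat_lit 0xc70000990000a2004014, nat_lit 0xc7000016000080004028, nat_lit 0xc700001600001f00001c000029014032,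 nat_lit 0xcb00009900009e004016, nat_lit 0xcb00001600008400402c, nat_lit 0xd300004900008f00009400c026, nat_lit 0xd700003b00004800802c, nat_lit 0xdb00003f000001000090010026, nat_lit 0xdf00004d0000520000ac00c024, nat_lit 0xe700001a0000b8008028, nat_lit 0xe700004300003c0000d801002e, nat_lit 0xeb00009d0000a2008012, nat_lit 0xf30000220000b000802c, nat_lit 0xfb000053000005000045010024, nat_lit 0x10300005f00006800802c, nat_lit 0x10700002e0000f8000030, nat_lit 0x10b0000710000c5004014, nat_lit 0x10b000063000009000051010024, nat_lit 0x10f00006700006c008030, nat_lit 0x10f0000dd0001030001080000e2006032, nat_lit 0x1130000ed0000f2004014, nat_lit 0x1170000810000b30000b0000091002032, nat_lit 0x12300006f000074008030]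
noncomputable def sf13_0_S1 : List ℕ := [nat_lit 0x1270000890000bb0000b80000c9002032, nat_lit 0x12b00008d0000f9000030, nat_lit 0x12f00007f00008800401e, nat_lit 0x12f00007f0000150000d000c02a, nat_lit 0x13300008300008c004020, nat_lit 0x13700008700008c004022, nat_lit 0x13b00010900010e008028, nat_lit 0x13b0000870000800000a901002a, nat_lit 0x13f00008b00004100006e010024, nat_lit 0x14300008f0000980000590000b5006032, nat_lit 0x14700004e0000e4000030, nat_lit 0x14b00005e0000ec004028, nat_lit 0x14b00005e00004b0000480000bd014032, nat_lit 0x14f0000af0000b4008030, nat_lit 0x14f00007a000110000030, nat_lit 0x14f00009100009600014800012a000032, nat_lit 0x14f0000d50000f30000f80000e1006032, nat_lit 0x153000135000142004014, nat_lit 0x153000082000114004028, nat_lit 0x16b00009a0000d0004018, nat_lit 0x16f00009e0000f0004020, nat_lit 0x1730000a60000a100017000c024, nat_lit 0x1770000ba0000e9004020, nat_lit 0x1770000ba00009500016800c02e, nat_lit 0x17b0000db00003d00012c000106006032, nat_lit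 0x18b0000d2000100004020, nat_lit 0x18b0000d200006900012100c02e, nat_lit 0x18f000151000155008012, nat_lit 0x18f0000ef0000b1000125010024, nat_lit 0x19700016500016a00802c, nat_lit 0x1970000ff0000d100012d01002e, nat_lit 0x19f00014500015300015c00c024, nat_lit 0x1a30000ee00011c004018, nat_lit 0x1a30000f20000e100019c00c02a, nat_lit 0x1a70000ee00012000401a, nat_lit 0x1ab0000f60000f10001a800c024, nat_lit 0x1af00011b000120004022, nat_lit 0x1b300018100018600401c, nat_lit 0x1b300011b00011400014901002a, nat_lit 0x1b700011600014000801e, nat_lit 0x1bf00011e000174004022, nat_lit 0x1c3000136000158004018, nat_lit 0x1c700013600015c00401a, nat_lit 0x1cb00015700015c004022, nat_lit 0x1cf00015f000164004022, nat_lit 0x1d300016b000170004022, nat_lit 0x1d300014e0001190001c000c024, nat_lit 0x1d700017f0000df00003f00004c0000b10000cb00001600008c0001150001bc016034, nat_lit 0x1b600016f0000c30000c000016800015d00015a0000e60001800001d80001be0001bb020034, nat_lit 0x1b70001c10001ba000002, nat_lit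 0x1150001c10001b6000006, nat_lit 0x19d0001c60001a2000006, nat_lit 0x1120001ca000152000004, nat_lit 0x8c0001ca00016f000008, nat_lit 0x1760001ce00016d000004, nat_lit 0x1210001ce000173000008, nat_lit 0xf00001d1000133000008, nat_lit 0x7f0001d60000a2000002, nat_lit 0x200001d60000c3000010, nat_lit 0x1710001d900017a000008, nat_lit 0xa80001de0000ae000010, nat_lit 0x4c0001e200005a000010, nat_lit 0x5c0001e5000066000010, nat_lit 0x130001ea0000c0000006]
noncomputable def sf13_0_S2 : List ℕ := [nat_lit 0x1440001ee000132000010, nat_lit 0x9f0001f2000039000008, nat_lit 0x3f0001f600007d000006, nat_lit 0x530001fa000085000008, nat_lit 0x6b0001fe0000f9000010, nat_lit 0xda0002020000cd000008, nat_lit 0x20500009f000008, nat_lit 0x20a0000af00000a, nat_lit 0xe300020a000150000010, nat_lit 0x20e0000b700000a, nat_lit 0x113000212000161000002, nat_lit 0x2150000da000008, nat_lit 0x222000136000000, nat_lit 0x22200013e000004, nat_lit 0x1830002220001c4000006, nat_lit 0x1870002220001c8000008,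 nat_lit 0x22200013a00000a, nat_lit 0x22a00017b000010, nat_lit 0x23a0001a6000000, nat_lit 0x23e0001aa000000, nat_lit 0x1ae00015b0000b300002b00003000022500002600000d0000bc0001600001d0020034, nat_lit 0x1a70002410002350002320000b300002b0000300000bc0001600001d00002510001ae010034, nat_lit 0x24e00025500018a000000, nat_lit 0x17e00025500018d000002, nat_lit 0x15c0002550001a7000008, nat_lit 0x120000259000187000008, nat_lit 0x1a000025e0001ab000008, nat_lit 0x1530002620000f2000002, nat_lit 0x11b000266000184000006, nat_lit 0x6c0002660000e3000010, nat_lit 0x10800026a000246000010, nat_lit 0x19300026d000199000006, nat_lit 0x27200024a000000, nat_lit 0x27600021e00000a, nat_lit 0x3100027a0000c2000006, nat_lit 0x27e000196000000, nat_lit 0x21a00028a00022d000008, nat_lit 0x123000292000101000010, nat_lit 0x296000127000004, nat_lit 0x1930000f700002d00005f0002860000ac0000760000bc0001640001b10002510001cb00a034, nat_lit 0x28200029d00028e000000, nat_lit 0x11c0002a200019b000006, nat_lit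 0x6c0002a6000107000010, nat_lit 0x140002aa000032000006, nat_lit 0x170002ae000219000008, nat_lit 0x730002b2000124000010, nat_lit 0x2b60000fe000000, nat_lit 0x2b600029a000004, nat_lit 0x1af00011b00006b0000640000360000740002b90002bd0000890001640001b100025101a034, nat_lit 0x1910002c20001ae000006, nat_lit 0x1200002c600015b000008, nat_lit 0x6c0002ca0000b3000010, nat_lit 0x140002ce00002b000006, nat_lit 0x2d2000007000000]
noncomputable def sf13_0_S : List (List ℕ) := [sf13_0_S0, sf13_0_S1, sf13_0_S2]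
noncomputable def sf13_0_defs : List ℕ := [(nat_lit 0x4000160010001400800013005000130040001200100012005000100080000f0040000f0020000f0050000e0030000e0030000d0020000d0010000d0080000c0030000c0080000b0050000b0080000a0050000a0040000a008000090050000900400009008000080050000800300008002000080040000700300007002000070010000700800006003000060080000500500005008000040050000400400004002000040080000300500003004000030030000300800002005000020040000200300002002000020080000100500001004000010030000100200001001000010080000000500000004000000030000000200000001000000000000000000000),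
  (nat_lit 0x30005f0040005a004000570040005500400053003000530040004e0080004d0010004d005000460040004600400044004000430030004300400041003000410050003f0030003d0010003b0040003a00400038003000380080003700800036004000340040003100400030003000300040002f0040002e0030002e0040002c0030002c0010002c0080002b001000260080002400800023001000220050002100400021004000200030001f0080001d0020001c0080001b0040001a0030001a0020001a0010001a00800019001000180080001700500017)]
noncomputable def sf13_0_recs : List ℕ := [(nat_lit 0x1c00048080002f00045000003d00044010003d00043000001a00043040002400042000003700042050003d0004102000190004004000230003e020002b0003c02000160003a040003500039010002d00039010002a00037030002300036020001100035020002400034050002000032000001200032080001500031050001f00031000001600031010001600030020001200030000000d0003005000240002f010002b0002f000001d0002f050001c0002e04000280002d050001a0002c03000250002b00000190002b030000b0002a00000180002a01000290001e05000160002908000280001f020000c00028050001200026080002500020010000c00025010000a00024000000f00024000000e0002301000090002300000070001e050000f0001d04000150001b030000500018030000900017000001300017020000600015020000500014020000a00013010000600011010000b0001005000070000d00000060000c00000050000b00000040000a000000300009000000200008),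
  (nat_lit 0xff0002f00004ff0002800003ff0002500002ff0001500009ff0005200050ff0000c00000ff000160001fff0002000012ff0003100029ff0006300065ff0003000007ff0003b0004cff0005c0004fff0005b00022ff0006f0006dff0004d00074040006e00075010006f00074030005b00074030005800073030005600072000005600071000005500070030005c0006f030004f0006d03000540006c00000660006c03000470006b01000690006a000004700069050006600068000004600068010005600067040005200065020004f00065040005000063020005c00063050004f00062020003f0006201000450005e05000590005d02000420005d010005b0005c020003b0005b00000330005a050004400054000004100054010004100053020003800053050004300053000002c00053080003500052050003a0005205000380005101000320005004000290004f03000310004e01000330004e03000220004d02000220004c05000330004b01000210004b05000450004a080003900049),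
  (nat_lit 0xff0000100000ff0000a00004ff0002c0001aff0005600047ff000720006b020001c0001c000001c0001cff000480001cff0001b00005ff0000900000ff0001700004ff000410001aff0006600046ff0005500064020001c00048ff0004900048ff000390001b000006600064ff0002300009050000a00004000005500046ff0006c00064ff0003600017ff0000f00004ff0006000046ff0003d00054ff0004400041ff000380001aff000430002cff0006a00067ff0004700061ff0005600069080007300072000005600061000005500060080003600044050004300038ff0007100061ff0007000060020003800038000002c00038040002300039ff0005e00044050000b00014ff0005300038050000a0000f04000090001bff000390003eff000450001aff0002d00014ff0002b0000fff0001b00027ff0003500023)]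
noncomputable def sf13_0_T : List (List ℕ × ℕ) := [([0], (nat_lit 0x2d5))]
noncomputable def sf13_0_D : H26.Dag := ⟨[0,1,2,3,4,5,7,6,8], [[0,0],
  [1,1],
  [2,2],
  [3,3],
  [4,4],
  [5,5],
  [6,7],
  [7,6],
  [8,8],
  [2,1,2,1],
  [1,0,1,0],
  [2,0,2,0],
  [3,0,3,0],
  [4,0,4,0],
  [5,0,5,0],
  [3,1,3,1],
  [4,2,4,2],
  [4,3,4,3],
  [1,0,4,1,4],
  [2,0,3,2,3],
  [1,5,1,5],
  [5,1,3,5,3],
  [2,5,2,5],
  [5,2,4,5,4],
  [5,8,0,8],
  [2,5,8,5,1,8],
  [0,2,5,4,3,8,4,3,8,4,3,8]], [], sf13_0_defs, sf13_0_recs⟩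
theorem sf13_0_c : sf13_0_D.check sf13_0_S sf13_0_T = true := by decide +kernel
theorem sf13_0 {G : Type*} [Group G] {g : ℕ → G} (hR : Rels g sf13_r_R) {H : Subgroup G}
    (hH : ∀ k ∈ [], g k ∈ H) : evA g [0] ∈ H :=
  mem_dag (K := 9) (J := [0,1,2,3,4,5,6,7,8,9,10,11,12,13,14,15,16,17,18,19,20,21,22,23,32,34,35]) (D := sf13_0_D) (by decide +kernel) sf13_0_c (by decide +kernel) hR hH
theorem sf13 {G : Type*} [Group G] {z u v a b r y s : G}
    (t : TA z u v a b r)
    (n : NY z u v a b r y)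
    (w : RS0 z u v r y s)
    (e : (s * a * b) ^ 3 = z * v * r) :
    z = 1 :=
  mul_inv_eq_one.1 ((evA_eq_tm ((InvI.cons t.1 (InvI.cons t.2.1 (InvI.cons t.2.2.1 (InvI.cons t.2.2.2.1 (InvI.cons t.2.2.2.2.1 (InvI.cons t.2.2.2.2.2.1 (InvI.cons w.1 InvI.nil))))))) : InvI [z, u, v, a, b, r, y, s] [(nat_lit 0), (nat_lit 1), (nat_lit 2), (nat_lit 3), (nat_lit 4), (nat_lit 5), (nat_lit 7)]) [(.v (nat_lit 0)), (.v (nat_lit 1)), (.v (nat_lit 2)), (.v (nat_lit 3)), (.v (nat_lit 4)), (.v (nat_lit 5)), (.v (nat_lit 6)), (.inv (.v (nat_lit 6))), (.v (nat_lit 7))] [0] (.mul (.v (nat_lit 0)) (.inv .one)) (by decide +kernel)).symm.trans (Subgroup.mem_bot.1 (sf13_0 (sf13_r t n w e) (H := ⊥) (List.forall_mem_nil _))))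
noncomputable def sf14_r_R : List (List ℕ) := [[0,0],
  [1,1],
  [2,2],
  [3,3],
  [4,4],
  [5,5],
  [6,7],
  [7,6],
  [8,8],
  [2,1,2,1],
  [1,0,1,0],
  [2,0,2,0],
  [3,0,3,0],
  [4,0,4,0],
  [5,0,5,0],
  [3,1,3,1],
  [4,2,4,2],
  [4,3,4,3],
  [1,0,4,1,4],
  [2,0,3,2,3],
  [1,5,1,5],
  [5,1,3,5,3],
  [2,5,2,5],
  [5,2,4,5,4],
  [6,6,6],
  [5,7,5,6],
  [0,7,0,6],
  [2,7,1,6],
  [0,1,2,7,2,6],
  [4,7,3,6],
  [0,3,4,7,4,6],
  [6,8,6,8],
  [5,8,0,8],
  [0,1,2,5,8,5,2,1,0,8],
  [2,5,8,5,1,8],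
  [1,2,5,4,3,8,4,3,8,4,3,8]]
theorem sf14_r {G : Type*} [Group G] {z u v a b r y s : G}
    (t : TA z u v a b r)
    (n : NY z u v a b r y)
    (w : RS0 z u v r y s)
    (e : (s * a * b) ^ 3 = u * v * r) :
    Rels (nthG [z, u, v, a, b, r, y, y⁻¹, s]) sf14_r_R :=
  rels_of_eqs ((InvI.cons t.1 (InvI.cons t.2.1 (InvI.cons t.2.2.1 (InvI.cons t.2.2.2.1 (InvI.cons t.2.2.2.2.1 (InvI.cons t.2.2.2.2.2.1 (InvI.cons w.1 InvI.nil))))))) : InvI [z, u, v, a, b, r, y, s] [(nat_lit 0), (nat_lit 1), (nat_lit 2), (nat_lit 3), (nat_lit 4), (nat_lit 5), (nat_lit 7)])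
    (AllEq.append (show AllEq [z, u, v, a, b, r, y, s] [((.mul (.v (nat_lit 0)) (.v (nat_lit 0))), .one), ((.mul (.v (nat_lit 1)) (.v (nat_lit 1))), .one), ((.mul (.v (nat_lit 2)) (.v (nat_lit 2))), .one), ((.mul (.v (nat_lit 3)) (.v (nat_lit 3))), .one), ((.mul (.v (nat_lit 4)) (.v (nat_lit 4))), .one), ((.mul (.v (nat_lit 5)) (.v (nat_lit 5))), .one), ((.mul (.v (nat_lit 1)) (.v (nat_lit 2))), (.mul (.v (nat_lit 2)) (.v (nat_lit 1)))), ((.mul (.v (nat_lit 0)) (.v (nat_lit 1))), (.mul (.v (nat_lit 1)) (.v (nat_lit 0)))), ((.mul (.v (nat_lit 0)) (.v (nat_lit 2))), (.mul (.v (nat_lit 2)) (.v (nat_lit 0)))), ((.mul (.v (nat_lit 0)) (.v (nat_lit 3))), (.mul (.v (nat_lit 3)) (.v (nat_lit 0)))), ((.mul (.v (nat_lit 0)) (.v (nat_lit 4))), (.mul (.v (nat_lit 4)) (.v (nat_lit 0)))), ((.mul (.v (nat_lit 0)) (.v (nat_lit 5))), (.mul (.v (nat_lit 5)) (.v (nat_lit 0)))), ((.mul (.v (nat_lit 1)) (.v (nat_lit 3))), (.mul (.v (nat_lit 3)) (.v (nat_lit 1)))), ((.mul (.v (nat_lit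 2)) (.v (nat_lit 4))), (.mul (.v (nat_lit 4)) (.v (nat_lit 2)))), ((.mul (.v (nat_lit 3)) (.v (nat_lit 4))), (.mul (.v (nat_lit 4)) (.v (nat_lit 3)))), ((.mul (.mul (.v (nat_lit 4)) (.v (nat_lit 1))) (.v (nat_lit 4))), (.mul (.v (nat_lit 1)) (.v (nat_lit 0)))), ((.mul (.mul (.v (nat_lit 3)) (.v (nat_lit 2))) (.v (nat_lit 3))), (.mul (.v (nat_lit 2)) (.v (nat_lit 0)))), ((.mul (.v (nat_lit 5)) (.v (nat_lit 1))), (.mul (.v (nat_lit 1)) (.v (nat_lit 5)))), ((.mul (.mul (.v (nat_lit 3)) (.v (nat_lit 5))) (.v (nat_lit 3))), (.mul (.v (nat_lit 5)) (.v (nat_lit 1)))), ((.mul (.v (nat_lit 5)) (.v (nat_lit 2))), (.mul (.v (nat_lit 2)) (.v (nat_lit 5)))), ((.mul (.mul (.v (nat_lit 4)) (.v (nat_lit 5))) (.v (nat_lit 4))), (.mul (.v (nat_lit 5)) (.v (nat_lit 2))))] from t)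
    (AllEq.append (show AllEq [z, u, v, a, b, r, y, s] [((.pw (.v (nat_lit 6)) (nat_lit 3)), .one), ((.mul (.v (nat_lit 6)) (.v (nat_lit 5))), (.mul (.v (nat_lit 5)) (.v (nat_lit 6)))), ((.mul (.v (nat_lit 6)) (.v (nat_lit 0))), (.mul (.v (nat_lit 0)) (.v (nat_lit 6)))), ((.mul (.mul (.v (nat_lit 6)) (.v (nat_lit 1))) (.inv (.v (nat_lit 6)))), (.v (nat_lit 2))), ((.mul (.mul (.v (nat_lit 6)) (.v (nat_lit 2))) (.inv (.v (nat_lit 6)))), (.mul (.mul (.v (nat_lit 0)) (.v (nat_lit 1))) (.v (nat_lit 2)))), ((.mul (.mul (.v (nat_lit 6)) (.v (nat_lit 3))) (.inv (.v (nat_lit 6)))), (.v (nat_lit 4))), ((.mul (.mul (.v (nat_lit 6)) (.v (nat_lit 4))) (.inv (.v (nat_lit 6)))), (.mul (.mul (.v (nat_lit 0)) (.v (nat_lit 3))) (.v (nat_lit 4))))] from n)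
    (AllEq.append (show AllEq [z, u, v, a, b, r, y, s] [((.mul (.v (nat_lit 7)) (.v (nat_lit 7))), .one), ((.mul (.mul (.v (nat_lit 7)) (.v (nat_lit 6))) (.v (nat_lit 7))), (.inv (.v (nat_lit 6)))), ((.mul (.mul (.v (nat_lit 7)) (.v (nat_lit 0))) (.v (nat_lit 7))), (.v (nat_lit 5))), ((.mul (.mul (.v (nat_lit 7)) (.mul (.mul (.mul (.v (nat_lit 0)) (.v (nat_lit 1))) (.v (nat_lit 2))) (.v (nat_lit 5)))) (.v (nat_lit 7))), (.mul (.mul (.mul (.v (nat_lit 0)) (.v (nat_lit 1))) (.v (nat_lit 2))) (.v (nat_lit 5)))), ((.mul (.mul (.v (nat_lit 7)) (.mul (.v (nat_lit 1)) (.v (nat_lit 5)))) (.v (nat_lit 7))), (.mul (.v (nat_lit 2)) (.v (nat_lit 5))))] from w)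
    (show AllEq [z, u, v, a, b, r, y, s] [((.pw (.mul (.mul (.v (nat_lit 7)) (.v (nat_lit 3))) (.v (nat_lit 4))) (nat_lit 3)), (.mul (.mul (.v (nat_lit 1)) (.v (nat_lit 2))) (.v (nat_lit 5))))] from ⟨e, trivial⟩))))
    [(.v (nat_lit 0)), (.v (nat_lit 1)), (.v (nat_lit 2)), (.v (nat_lit 3)), (.v (nat_lit 4)), (.v (nat_lit 5)), (.v (nat_lit 6)), (.inv (.v (nat_lit 6))), (.v (nat_lit 7))] (by decide +kernel)
noncomputable def sf14_0_S0 : List ℕ := [nat_lit 0x2300000700000c004014, nat_lit 0x27000007000010004016, nat_lit 0x2b000007000014004018, nat_lit 0x2f00000700001800401a, nat_lit 0x3300000700001c00401c, nat_lit 0x37000007000020000038, nat_lit 0x3b00000b000010004012, nat_lit 0x4300000100002300003000c024, nat_lit 0x4700000b00001c008028, nat_lit 0x4f00000500002700002c00c026, nat_lit 0x5300000f000018004020, nat_lit 0x5700000f00001c00802c, nat_lit 0x5f000009000025004016, nat_lit 0x63000013000018004022, nat_lit 0x6700001300000c00004801002a, nat_lit 0x6f00000d00001d004014,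 nat_lit 0x7300001700001000005801002e, nat_lit 0x7b00002100003900401e, nat_lit 0x7b00002100004700004000c02a, nat_lit 0x7f00002d000041004020, nat_lit 0x7f00002d00005700005400c02e, nat_lit 0x8300001b000020008038, nat_lit 0x8f000023000028004012, nat_lit 0x8f00000200003c004016, nat_lit 0x93000002000040004018, nat_lit 0x9300002300002c00401e, nat_lit 0x9700000200004800401c, nat_lit 0x97000023000034008028, nat_lit 0x9b00000200004c000038, nat_lit 0x8300002100004700004c00007100003c, nat_lit 0x9f00000600005400401a, nat_lit 0xa300000600005800401c, nat_lit 0xa300002700003400802c, nat_lit 0x8700001500003700003400008101403c, nat_lit 0xa700000600005c000038, nat_lit 0xab00000a00006400401a, nat_lit 0xab00002b000030004022, nat_lit 0xaf00000a00006c000038, nat_lit 0xb300002f0000280000a401002e, nat_lit 0xb700000e000078000038, nat_lit 0xbb00001200007c004018, nat_lit 0xbb00006d00009700009400c02a, nat_lit 0xbf000081000099004020, nat_lit 0xbf0000810000a30000a000c02e, nat_lit 0xc3000033000038008038,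 nat_lit 0xc300006d00009700009c00007200003c, nat_lit 0xc30000810000a30000a800008a00603c, nat_lit 0xc70000b10000ba004014, nat_lit 0xc7000016000088004028, nat_lit 0xc700001600001f00001c00002d01403c, nat_lit 0xcb0000b10000b6004016, nat_lit 0xcf00001a00005000401e, nat_lit 0xcf00005d00008f00009400c026, nat_lit 0xd300003f000044004022, nat_lit 0xd30000610000660000ac00c024, nat_lit 0xdb00001e0000b4008028, nat_lit 0xe300006900006e0000c000c024, nat_lit 0xef00004f000054004022, nat_lit 0xf700002a000070008012, nat_lit 0xf7000053000005000059010024, nat_lit 0xff00007d0000820000bc00c026, nat_lit 0x1070000320000f000401a, nat_lit 0x10b00005f00006800802c, nat_lit 0x10f0000320000f4000038]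
noncomputable def sf14_0_S1 : List ℕ := [nat_lit 0x11300008d0000d9004014, nat_lit 0x11300003600007000801e, nat_lit 0x11700006300006000010c01002e, nat_lit 0x11f00003a0000e4004022, nat_lit 0x11f0000f900010b00010800c02e, nat_lit 0x12300006700006c008038, nat_lit 0x1230000f900010b0001100000fe00603c, nat_lit 0x12700011500011a004014, nat_lit 0x12f00006f000074008028, nat_lit 0x12f00010500011300011801002a, nat_lit 0x13300003e0000e0000038, nat_lit 0x13700012100012600401e, nat_lit 0x137000042000100008022, nat_lit 0x13700012100012f00010500c02a, nat_lit 0x13b000073000078008038, nat_lit 0x13b00012100012f00013400012a00003c, nat_lit 0x13f00009d0000b70000b40000a901403c, nat_lit 0x14300013900013e004016, nat_lit 0x14f00004a0000d8008038, nat_lit 0x14f00004600006700006c00009500003c, nat_lit 0x15300008b000055000076010026, nat_lit 0x15b00008b0000880000c101002a, nat_lit 0x15f00008f00009800802c, nat_lit 0xe700007100009b00009800015901403c, nat_lit 0x16300016000015d008038, nat_lit 0x16300005a0000a40000850000c100003c,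 nat_lit 0x1670000ad000141008038, nat_lit 0x16700007a0000fc000038, nat_lit 0x13b00004d0000520000fc00016d00603c, nat_lit 0x16f000096000128004028, nat_lit 0x16f00009600006b0000680000f901403c, nat_lit 0x1770000dd0000db0000e000012900003c, nat_lit 0x1770000a90000ae00016800016e00603c, nat_lit 0x17b00009e00014400402c, nat_lit 0x17b00009e00007700007400012100203c, nat_lit 0x1870000f1000131004020, nat_lit 0x1870000bb0000c0004022, nat_lit 0x1870000a200004600012000c024, nat_lit 0x18b0000ba00010400401e, nat_lit 0x18f0000ca0000ec004018, nat_lit 0x18f0000ca0000b500018c00c026, nat_lit 0x19700014900014e00017400c026, nat_lit 0x1a300016100016600015500c026, nat_lit 0x1a30000e700007100015100c02a, nat_lit 0x1b30000ea00013000018900018600603c, nat_lit 0x1b70001990001a1004012, nat_lit 0x1b70001030000bd000165010026, nat_lit 0x1bf0000f60001ac000038, nat_lit 0x1c3000102000194000038, nat_lit 0x1c700011700011c008038, nat_lit 0x1c700012d0001360001c40001c200003c, nat_lit 0x1cf0001120001c0008038,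 nat_lit 0x1d300011e0001b0004018, nat_lit 0x1d300012700012c00401e, nat_lit 0x1db00012b00012800017501002a, nat_lit 0x1df00013a00014c00401a, nat_lit 0x1e30001690001710001e000c024, nat_lit 0x1e70001460001a000401a, nat_lit 0x1eb00014700014c004022, nat_lit 0x1ef0001dd0001e1004014, nat_lit 0x1ef00014b000139000172010024, nat_lit 0x1f30001570001540001ad01002e, nat_lit 0x1f70001a90001f5004020, nat_lit 0x1ff00017f000184004022]
noncomputable def sf14_0_S2 : List ℕ := [nat_lit 0x2030001960001120001c00001be00003c, nat_lit 0x20300018e0001360001c40001c200603c, nat_lit 0x20b0001a60001fc004020, nat_lit 0x20f00019b0001a0004022, nat_lit 0x21300019f0001450001b1010024, nat_lit 0x2170001a700019d0001b5010024, nat_lit 0x21f0001d10001d60001d800c024, nat_lit 0x21f0001af0000f30000f00000e60000fc00018100017e00012a0001a000020d01a03e, nat_lit 0x1e30001420001910001870000a60000d10000ce0000f40001b000022000021e00020e01c03e, nat_lit 0x1e60002210001ed000000, nat_lit 0x2130002210001e2000002, nat_lit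 0x1a00002210001e3000008, nat_lit 0x1e80002260001f2000008, nat_lit 0x1e0000229000212000008, nat_lit 0xe000022e000142000010, nat_lit 0x18600023200016e00000a, nat_lit 0x13c0002360001b3000010, nat_lit 0x1d00023a0000e1000002, nat_lit 0xd600023a000191000006, nat_lit 0x4400023a0000bf000008, nat_lit 0xfc00023d00018a000010, nat_lit 0x410002420000ee000008, nat_lit 0x9200024600010d000006, nat_lit 0x300002460000e3000008, nat_lit 0x19300024a000204000010, nat_lit 0x4b00024e0000c4000010, nat_lit 0xe6000252000126000006, nat_lit 0xc6000256000164000010, nat_lit 0x16b00025a0001d0000010, nat_lit 0x25e00004700000a, nat_lit 0x262000206000002, nat_lit 0x1ca000262000202000004, nat_lit 0xe70002660000ba000002, nat_lit 0xf000026a00010a000008, nat_lit 0x15600026e0001b9000006, nat_lit 0x2720001ce000000, nat_lit 0x27d0001c6000000, nat_lit 0x27d0001ca000004, nat_lit 0x1030002810001a4000006, nat_lit 0xf3000286000179000010, nat_lit 0x1f700028a000215000008, nat_lit 0x1bb00029a0001f5000008,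 nat_lit 0x1af00029e0001d9000006, nat_lit 0x2a2000217000002, nat_lit 0x2a60001f9000004, nat_lit 0x2a60001f300000a, nat_lit 0x2aa0001db00000a, nat_lit 0x1cb00011b00003600001700002000008c0001580002b50002b20002ae00021c02803e, nat_lit 0x1be0002960002790001930000d600004300004c0000ec0001a800021c0002bd0001cb00c03e, nat_lit 0x2920002c100028d000000, nat_lit 0x16c0002c50001ab000010, nat_lit 0x910002ca0000e6000006, nat_lit 0xac0002ca0000ef000008, nat_lit 0x300002ce000053000008, nat_lit 0xaf0002d20000f4000010, nat_lit 0x2d600000f000004, nat_lit 0x1730002da0001b0000006, nat_lit 0x1fb0002e2000220000008, nat_lit 0x2e20002ba00000a, nat_lit 0x2e600021a000002, nat_lit 0x2e600021e000010, nat_lit 0x2070001930000d60000430002750002de00000c00004c0000ec0001a800021c0002bd01c03e, nat_lit 0x1cc0002f5000207000008, nat_lit 0x11c0002fa000193000010]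
noncomputable def sf14_0_S3 : List ℕ := [nat_lit 0x350002fe0000d6000006, nat_lit 0x640002fe0000d3000008, nat_lit 0x770003020000e0000010, nat_lit 0x6b0003060000d8000010, nat_lit 0x14700030a00019c000006, nat_lit 0x12b00030e000198000006, nat_lit 0x1eb000312000210000008, nat_lit 0x1d700031600020c000008, nat_lit 0x31a0002f1000010, nat_lit 0x31e00020a000004, nat_lit 0x3250001d70002e90001fc01202e, nat_lit 0x1fe0001830000b70000910000ab0000b00001740001fc0003290003250002ed00032102c03e, nat_lit 0x1e900032d0001fe000006, nat_lit 0x14c000332000183000008, nat_lit 0x780003360000b7000010, nat_lit 0x1800033a00002f000008, nat_lit 0x33e000007000000]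
noncomputable def sf14_0_S : List (List ℕ) := [sf14_0_S0, sf14_0_S1, sf14_0_S2, sf14_0_S3]
noncomputable def sf14_0_defs : List ℕ := [(nat_lit 0x3000150080001400100014008000130040001300300012001000120040001100800010005000100080000f0040000f0030000e0020000d0010000d0080000c0040000c0030000c0080000b0050000b0080000a0040000a008000090050000900400009008000080050000800300008002000080030000700100007008000060040000600300006008000050050000500100005008000040050000400400004002000040080000300500003004000030030000300800002005000020040000200300002002000020080000100500001004000010030000100200001001000010080000000500000004000000030000000200000001000000000000000000000),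
  (nat_lit 0x40005f0040005c00400056005000550010005200400051004000500040004f0040004e0050004a0040004a00300049008000470040004600800045008000440080004100400040002000400080003d0030003c0080003b0040003a003000390040003700300037003000350080003400300032003000300040002e0040002d0030002d0020002d0080002c0030002b0010002b0080002a0080002700800023005000230050002200400022002000220080001e0040001d0030001d0020001d0010001d0080001c0030001c0080001b0050001b0030001a0010001a008000190040001900800018005000180010001800800017005000170040001700300016),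
  (nat_lit 0x40006b00800069001000690010006700400066004000650040006400800061)]
noncomputable def sf14_0_recs : List ℕ := [(nat_lit 0x50003c00043020001900042000003b00041020002e0003f04000230003d020001b0003d03000140003b010002f00038010002c00036010002a00034030001000034020002400033010001300033000001200032080001500031050002100031000001600031010001600030020001200030000000d0003005000270002f020002c0002f05000240002e000001e0002e050001d0002d04000280002c050001a0002b030000b0002a00000180002a050001600029080002800021020000c00028000001500028000001400027020002600020050001200026010000c00025000001100025010000a00024000000f00024000000e0002301000090002300000070002005000140001f020001c0001f050000f0001e01000190001e04000150001c00000100001b030001100019030000500018000001300017020000600015020000500014020000a00013010000600011010000b0001001000030000e05000070000d00000060000c00000050000b00000040000a000000300009000000200008),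
  (nat_lit 0x3000600007f020007c0007d04000680007c04000590007b00000780007b03000520007a000006700079010007700078000005200077030005b00076010004a00074000006b00074000006f00073020006400071000004600071050006400070050006a0006f03000580006d01000630006d01000500006c050005400068020005600068020005c00065020006200063000003a00063010004000062010004700061030002f00061020004d00061080004b0005e05000500005e010003e0005d020004c0005d08000420005b05000490005b01000590004e050003e00059000004f00059020003100058000003900058080005700039020002500057030003100056030002600054020002b00053000003500053000003700050080002f0004f02000370004e000001d0004e05000440004d040003f0004d01000450004d05000370004c03000450004b010001c0004b000003c00049010003c00048000001a00048050004100047030003800047040004200045030001b00044000003400044),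
  (nat_lit 0xff0003400018ff0006400046ff000720008108000830007e01000750007e050004a0005cff000870007eff0006b0005c020000000001ff0003c0002bff0000300001ff000130000aff000140000bff0003b0002aff0005a0006aff000460006f030008600072050004a0006b05000550006e020007d0006e01000690007dff000760006bff0007c0006eff000850007dff0005b0003cff000680004002000640006a00000460006a000006f0005aff0006d00056ff0004200013ff0001600039ff0006a00071010006400064050000200001ff000730005aff0005800031ff000450003bff0003000012ff0008000064ff0001100001ff000470002aff0002300015ff0004b00014ff0000c00002ff0006100034ff000380000bff0003d0001cff0003e0005eff0002f00010ff0006c0004eff0005900050ff0004f00037ff0007700084ff0007b00079ff0006700078080008300087010007500087040006d00085040006c00084030006700083020007e00082010006400080020006a00080),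
  (nat_lit 0xff0000100000ff0000b00005ff0002d0001dff0006000052ff0007a0007f050007e0007e020007e00075080007e0007aff0008200075ff000830007aff000650004aff0006600051ff000350001aff000370001dff0000f00004ff0001000005)]
noncomputable def sf14_0_T : List (List ℕ × ℕ) := [([0], (nat_lit 0x341))]
noncomputable def sf14_0_D : H26.Dag := ⟨[0,1,2,3,4,5,7,6,8], [[0,0],
  [1,1],
  [2,2],
  [3,3],
  [4,4],
  [5,5],
  [6,7],
  [7,6],
  [8,8],
  [2,1,2,1],
  [1,0,1,0],
  [2,0,2,0],
  [3,0,3,0],
  [4,0,4,0],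
  [5,0,5,0],
  [3,1,3,1],
  [4,2,4,2],
  [4,3,4,3],
  [1,0,4,1,4],
  [2,0,3,2,3],
  [1,5,1,5],
  [5,1,3,5,3],
  [2,5,2,5],
  [5,2,4,5,4],
  [6,6,6],
  [0,1,2,7,2,6],
  [0,3,4,7,4,6],
  [6,8,6,8],
  [5,8,0,8],
  [0,1,2,5,8,5,2,1,0,8],
  [2,5,8,5,1,8],
  [1,2,5,4,3,8,4,3,8,4,3,8]], [], sf14_0_defs, sf14_0_recs⟩
theorem sf14_0_c : sf14_0_D.check sf14_0_S sf14_0_T = true := by decide +kernel
theorem sf14_0 {G : Type*} [Group G] {g : ℕ → G} (hR : Rels g sf14_r_R) {H : Subgroup G}
    (hH : ∀ k ∈ [], g k ∈ H) : evA g [0] ∈ H :=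
  mem_dag (K := 9) (J := [0,1,2,3,4,5,6,7,8,9,10,11,12,13,14,15,16,17,18,19,20,21,22,23,24,28,30,31,32,33,34,35]) (D := sf14_0_D) (by decide +kernel) sf14_0_c (by decide +kernel) hR hH
theorem sf14 {G : Type*} [Group G] {z u v a b r y s : G}
    (t : TA z u v a b r)
    (n : NY z u v a b r y)
    (w : RS0 z u v r y s)
    (e : (s * a * b) ^ 3 = u * v * r) :
    z = 1 :=
  mul_inv_eq_one.1 ((evA_eq_tm ((InvI.cons t.1 (InvI.cons t.2.1 (InvI.cons t.2.2.1 (InvI.cons t.2.2.2.1 (InvI.cons t.2.2.2.2.1 (InvI.cons t.2.2.2.2.2.1 (InvI.cons w.1 InvI.nil))))))) : InvI [z, u, v, a, b, r, y, s] [(nat_lit 0), (nat_lit 1), (nat_lit 2), (nat_lit 3), (nat_lit 4), (nat_lit 5), (nat_lit 7)]) [(.v (nat_lit 0)), (.v (nat_lit 1)), (.v (nat_lit 2)), (.v (nat_lit 3)), (.v (nat_lit 4)), (.v (nat_lit 5)), (.v (nat_lit 6)), (.inv (.v (nat_lit 6))), (.v (nat_lit 7))] [0] (.mul (.v (nat_lit 0)) (.inv .one)) (by decide +kernel)).symm.trans (Subgroup.mem_bot.1 (sf14_0 (sf14_r t n w e) (H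 := ⊥) (List.forall_mem_nil _))))
noncomputable def sf15_r_R : List (List ℕ) := [[0,0],
  [1,1],
  [2,2],
  [3,3],
  [4,4],
  [5,5],
  [6,7],
  [7,6],
  [8,8],
  [2,1,2,1],
  [1,0,1,0],
  [2,0,2,0],
  [3,0,3,0],
  [4,0,4,0],
  [5,0,5,0],
  [3,1,3,1],
  [4,2,4,2],
  [4,3,4,3],
  [1,0,4,1,4],
  [2,0,3,2,3],
  [1,5,1,5],
  [5,1,3,5,3],
  [2,5,2,5],
  [5,2,4,5,4],
  [6,6,6],
  [5,7,5,6],
  [0,7,0,6],
  [2,7,1,6],
  [0,1,2,7,2,6],
  [4,7,3,6],
  [0,3,4,7,4,6],
  [6,8,6,8],
  [5,8,0,8],
  [0,1,2,5,8,5,2,1,0,8],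
  [2,5,8,5,1,8],
  [0,1,2,5,4,3,8,4,3,8,4,3,8]]
theorem sf15_r {G : Type*} [Group G] {z u v a b r y s : G}
    (t : TA z u v a b r)
    (n : NY z u v a b r y)
    (w : RS0 z u v r y s)
    (e : (s * a * b) ^ 3 = z * u * v * r) :
    Rels (nthG [z, u, v, a, b, r, y, y⁻¹, s]) sf15_r_R :=
  rels_of_eqs ((InvI.cons t.1 (InvI.cons t.2.1 (InvI.cons t.2.2.1 (InvI.cons t.2.2.2.1 (InvI.cons t.2.2.2.2.1 (InvI.cons t.2.2.2.2.2.1 (InvI.cons w.1 InvI.nil))))))) : InvI [z, u, v, a, b, r, y, s] [(nat_lit 0), (nat_lit 1), (nat_lit 2), (nat_lit 3), (nat_lit 4), (nat_lit 5), (nat_lit 7)])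
    (AllEq.append (show AllEq [z, u, v, a, b, r, y, s] [((.mul (.v (nat_lit 0)) (.v (nat_lit 0))), .one), ((.mul (.v (nat_lit 1)) (.v (nat_lit 1))), .one), ((.mul (.v (nat_lit 2)) (.v (nat_lit 2))), .one), ((.mul (.v (nat_lit 3)) (.v (nat_lit 3))), .one), ((.mul (.v (nat_lit 4)) (.v (nat_lit 4))), .one), ((.mul (.v (nat_lit 5)) (.v (nat_lit 5))), .one), ((.mul (.v (nat_lit 1)) (.v (nat_lit 2))), (.mul (.v (nat_lit 2)) (.v (nat_lit 1)))), ((.mul (.v (nat_lit 0)) (.v (nat_lit 1))), (.mul (.v (nat_lit 1)) (.v (nat_lit 0)))), ((.mul (.v (nat_lit 0)) (.v (nat_lit 2))), (.mul (.v (nat_lit 2)) (.v (nat_lit 0)))), ((.mul (.v (nat_lit 0)) (.v (nat_lit 3))), (.mul (.v (nat_lit 3)) (.v (nat_lit 0)))), ((.mul (.v (nat_lit 0)) (.v (nat_lit 4))), (.mul (.v (nat_lit 4)) (.v (nat_lit 0)))), ((.mul (.v (nat_lit 0)) (.v (nat_lit 5))), (.mul (.v (nat_lit 5)) (.v (nat_lit 0)))), ((.mul (.v (nat_lit 1)) (.v (nat_lit 3))), (.mul (.v (nat_lit 3)) (.v (nat_lit 1)))), ((.mul (.v (nat_lit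 2)) (.v (nat_lit 4))), (.mul (.v (nat_lit 4)) (.v (nat_lit 2)))), ((.mul (.v (nat_lit 3)) (.v (nat_lit 4))), (.mul (.v (nat_lit 4)) (.v (nat_lit 3)))), ((.mul (.mul (.v (nat_lit 4)) (.v (nat_lit 1))) (.v (nat_lit 4))), (.mul (.v (nat_lit 1)) (.v (nat_lit 0)))), ((.mul (.mul (.v (nat_lit 3)) (.v (nat_lit 2))) (.v (nat_lit 3))), (.mul (.v (nat_lit 2)) (.v (nat_lit 0)))), ((.mul (.v (nat_lit 5)) (.v (nat_lit 1))), (.mul (.v (nat_lit 1)) (.v (nat_lit 5)))), ((.mul (.mul (.v (nat_lit 3)) (.v (nat_lit 5))) (.v (nat_lit 3))), (.mul (.v (nat_lit 5)) (.v (nat_lit 1)))), ((.mul (.v (nat_lit 5)) (.v (nat_lit 2))), (.mul (.v (nat_lit 2)) (.v (nat_lit 5)))), ((.mul (.mul (.v (nat_lit 4)) (.v (nat_lit 5))) (.v (nat_lit 4))), (.mul (.v (nat_lit 5)) (.v (nat_lit 2))))] from t)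
    (AllEq.append (show AllEq [z, u, v, a, b, r, y, s] [((.pw (.v (nat_lit 6)) (nat_lit 3)), .one), ((.mul (.v (nat_lit 6)) (.v (nat_lit 5))), (.mul (.v (nat_lit 5)) (.v (nat_lit 6)))), ((.mul (.v (nat_lit 6)) (.v (nat_lit 0))), (.mul (.v (nat_lit 0)) (.v (nat_lit 6)))), ((.mul (.mul (.v (nat_lit 6)) (.v (nat_lit 1))) (.inv (.v (nat_lit 6)))), (.v (nat_lit 2))), ((.mul (.mul (.v (nat_lit 6)) (.v (nat_lit 2))) (.inv (.v (nat_lit 6)))), (.mul (.mul (.v (nat_lit 0)) (.v (nat_lit 1))) (.v (nat_lit 2)))), ((.mul (.mul (.v (nat_lit 6)) (.v (nat_lit 3))) (.inv (.v (nat_lit 6)))), (.v (nat_lit 4))), ((.mul (.mul (.v (nat_lit 6)) (.v (nat_lit 4))) (.inv (.v (nat_lit 6)))), (.mul (.mul (.v (nat_lit 0)) (.v (nat_lit 3))) (.v (nat_lit 4))))] from n)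
    (AllEq.append (show AllEq [z, u, v, a, b, r, y, s] [((.mul (.v (nat_lit 7)) (.v (nat_lit 7))), .one), ((.mul (.mul (.v (nat_lit 7)) (.v (nat_lit 6))) (.v (nat_lit 7))), (.inv (.v (nat_lit 6)))), ((.mul (.mul (.v (nat_lit 7)) (.v (nat_lit 0))) (.v (nat_lit 7))), (.v (nat_lit 5))), ((.mul (.mul (.v (nat_lit 7)) (.mul (.mul (.mul (.v (nat_lit 0)) (.v (nat_lit 1))) (.v (nat_lit 2))) (.v (nat_lit 5)))) (.v (nat_lit 7))), (.mul (.mul (.mul (.v (nat_lit 0)) (.v (nat_lit 1))) (.v (nat_lit 2))) (.v (nat_lit 5)))), ((.mul (.mul (.v (nat_lit 7)) (.mul (.v (nat_lit 1)) (.v (nat_lit 5)))) (.v (nat_lit 7))), (.mul (.v (nat_lit 2)) (.v (nat_lit 5))))] from w)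
    (show AllEq [z, u, v, a, b, r, y, s] [((.pw (.mul (.mul (.v (nat_lit 7)) (.v (nat_lit 3))) (.v (nat_lit 4))) (nat_lit 3)), (.mul (.mul (.mul (.v (nat_lit 0)) (.v (nat_lit 1))) (.v (nat_lit 2))) (.v (nat_lit 5))))] from ⟨e, trivial⟩))))
    [(.v (nat_lit 0)), (.v (nat_lit 1)), (.v (nat_lit 2)), (.v (nat_lit 3)), (.v (nat_lit 4)), (.v (nat_lit 5)), (.v (nat_lit 6)), (.inv (.v (nat_lit 6))), (.v (nat_lit 7))] (by decide +kernel)
noncomputable def sf15_0_S0 : List ℕ := [nat_lit 0x2300000700000c004014, nat_lit 0x27000007000010004016, nat_lit 0x2b000007000014004018, nat_lit 0x2f00000700001800401a, nat_lit 0x3300000700001c00401c, nat_lit 0x37000007000020000038, nat_lit 0x3b00000b000010004012, nat_lit 0x3f00000b00001400401e, nat_lit 0x4300000100002300003000c024, nat_lit 0x4700000b00001c008028, nat_lit 0x4f00000500002700002c00c026, nat_lit 0x5300000f000018004020, nat_lit 0x5700000f00001c00802c, nat_lit 0x5f000009000029004016, nat_lit 0x63000013000018004022, nat_lit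 0x6700001300000c00004801002a, nat_lit 0x6f00000d000021004014, nat_lit 0x7300001700001000005801002e, nat_lit 0x7b00002500003d00401e, nat_lit 0x7f000031000045004020, nat_lit 0x8300001b000020008038, nat_lit 0x93000023000028004012, nat_lit 0x9300000200003c004016, nat_lit 0x97000002000040004018, nat_lit 0x9700002300002c00401e, nat_lit 0x9b000023000034008028, nat_lit 0x9f00000200004c000038, nat_lit 0x8300002500004700004c00006900003c, nat_lit 0xa300002700003400802c, nat_lit 0x8700001500003700003400007101403c, nat_lit 0xa70000a4000075008038, nat_lit 0xa700000600005c000038, nat_lit 0x8300003100005700005c00007d00603c, nat_lit 0xab00000a00006400401a, nat_lit 0xab00002b000030004022, nat_lit 0xaf00000a00006800401c, nat_lit 0xb300000a00006c000038, nat_lit 0xb700000e00007400401c, nat_lit 0xb700002f0000280000a401002e, nat_lit 0xbb00000e000078000038, nat_lit 0xbf000033000038008038, nat_lit 0xbf00006500009b0000a000006a00003c, nat_lit 0xbf0000710000a30000a800007e00603c, nat_lit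 0xc30000a10000aa004014, nat_lit 0xc70000a10000a6004016, nat_lit 0xd300001a000058008028, nat_lit 0xd300003b00004800802c, nat_lit 0xd700001e000060004012, nat_lit 0xd700003f000001000094010026, nat_lit 0xdb00003f000044004022, nat_lit 0xdb00005d0000620000ac00c024, nat_lit 0xe30000220000b8008028, nat_lit 0xeb0000a50000aa008012, nat_lit 0xef0000b10000c70000cc00c026, nat_lit 0xf300004f000054004022, nat_lit 0xf700002a0000b000802c, nat_lit 0xff00002e000070008012, nat_lit 0xff000053000005000055010024, nat_lit 0x10b0000ad0000c30000d000c024, nat_lit 0x10f0000360000f400401a, nat_lit 0x11300005f00006800802c, nat_lit 0x1170000360000fc000038, nat_lit 0x11b0000850000c9004014, nat_lit 0x11b00003a00007000801e]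
noncomputable def sf15_0_S1 : List ℕ := [nat_lit 0x11b000063000009000061010024, nat_lit 0x11f00006300006000011401002e, nat_lit 0x1270000f1000105004020, nat_lit 0x12b00006700006c008038, nat_lit 0x12b0000f10001130001180000f600603c, nat_lit 0x13700006f000074008028, nat_lit 0x1370000fd00011b00012001002a, nat_lit 0x13b0000420000e8000038, nat_lit 0x13f00011500011a00401e, nat_lit 0x13f000046000108008022, nat_lit 0x14b00007b000011000071010026, nat_lit 0x14f00007b000080004022, nat_lit 0x15300004e00007300007800009d00603c, nat_lit 0x15700005200008c004018, nat_lit 0x15b0000870000150000cc00c02a, nat_lit 0x16300008b00005100006e010026, nat_lit 0x16700008b000090004022, nat_lit 0x16b00005a0000d400401c, nat_lit 0x16b0000560000a4008028, nat_lit 0x16b00009300009c00802c, nat_lit 0x16b0000c10000be00011401002a, nat_lit 0x16b0000e50000e200013801002e, nat_lit 0xeb00006900009f00009c00014d01403c, nat_lit 0x16f00006a0000ec004028, nat_lit 0x16f00006a00004b0000480000b901403c, nat_lit 0x17700007a00015c004018,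 nat_lit 0x17700008100015800401e, nat_lit 0x17b00008a0000210000e401002a, nat_lit 0x17f000086000124000038, nat_lit 0x18300008e00004900015000c024, nat_lit 0x1830000dd0000f70000f400c02e, nat_lit 0x187000092000130004028, nat_lit 0x18700009200006b0000680000f101403c, nat_lit 0x18f0000cd00016d00401e, nat_lit 0x18f00009a000129008022, nat_lit 0x18f00009600004d00012d00c026, nat_lit 0x18f0000cd0000e30000c500c02a, nat_lit 0x1930000b70000bc008038, nat_lit 0x1930000cd0000e30000e800011d00003c, nat_lit 0x19700019500019a004016, nat_lit 0x19700009e00007700007400011500203c, nat_lit 0x19b0000cb0000d0004022, nat_lit 0x1a70000d600019c004020, nat_lit 0x1ab0000d600013900802c, nat_lit 0x1ab0000ef0000ec00015d01002a, nat_lit 0x1b700010b0000d100015d01002e, nat_lit 0x1bb0000ee0001b0000038, nat_lit 0x1c30000fa0001a0000038, nat_lit 0x1c700011f000124008038, nat_lit 0x1cb00017100017f00017c00018500203c, nat_lit 0x1cf00010a00011f00012400017100603c, nat_lit 0x1d300010e000134004018, nat_lit 0x1d30001120000f50001c000c02a,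 nat_lit 0x1d70001cd0001d200401c, nat_lit 0x1d700013300013000017d01002a, nat_lit 0x1db00012200011f00012400017100003c, nat_lit 0x1df000143000148004022, nat_lit 0x1e300017500017a0001b00001b900003c, nat_lit 0x1e300018d0001920001a00001bd00603c, nat_lit 0x1e700013600016800401a, nat_lit 0x1eb00015b000160004022, nat_lit 0x1eb00016500016a0001e800c024, nat_lit 0x1eb0001ad0001ab0001a800c02e, nat_lit 0x1ef000163000168004020]
noncomputable def sf15_0_S2 : List ℕ := [nat_lit 0x1ef00013e000174004022, nat_lit 0x1fb0001a90001f900802c, nat_lit 0x1fb0001a60000e90001b801002a, nat_lit 0x1fb00019b0000d50001ac01002e, nat_lit 0x1f30001ed0001f50002050001fb00019b0000cb0000370000300000890001800001f800603e, nat_lit 0x20e0001b200016200014500014a0000720000330000300000890001800001f80002110001f300e03e, nat_lit 0x1fe000215000206000004, nat_lit 0x14100021500020a000006, nat_lit 0x1f1000219000202000006, nat_lit 0x9000021e0001b6000008, nat_lit 0x160000222000173000008, nat_lit 0x1600022600015e00000a,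 nat_lit 0x20000226000162000010, nat_lit 0x7500022a00009f000010, nat_lit 0x3800022e00015a000010, nat_lit 0xb0002320000b6000002, nat_lit 0xf0002320000ba000004, nat_lit 0x97000235000129000006, nat_lit 0x2b00023a000152000006, nat_lit 0x2f00023a000156000008, nat_lit 0x3f00023e000108000006, nat_lit 0x4f00024200003d000006, nat_lit 0x102000246000189000008, nat_lit 0xab00024a000105000008, nat_lit 0xb300024a000181000010, nat_lit 0xbb00024e0001a1000010, nat_lit 0xdb000252000125000008, nat_lit 0xf3000256000128000008, nat_lit 0x25600006700000a, nat_lit 0xfb00025600012c000010, nat_lit 0x1c300025a0001c5000010, nat_lit 0x17f00025e0001c8000010, nat_lit 0x18b0002620001d9000006, nat_lit 0x26600019e000000, nat_lit 0x266000197000004, nat_lit 0x19f00026a0001dc000010, nat_lit 0x1af00026e0001d0000010, nat_lit 0x1b30002760001d4000006, nat_lit 0x27a0001cb000004, nat_lit 0x27e0001c2000000, nat_lit 0x2820001d6000000, nat_lit 0x28e0001de000004, nat_lit 0x2920001ca000002, nat_lit 0x2960001ce000000,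 nat_lit 0x1ea00029a0001710001f80002110001f300016700008b00001f00001800003900012400029d03203e, nat_lit 0x2aa0002b10001ea000002, nat_lit 0x2a60002b10001e6000004, nat_lit 0x1800002b10001e3000010, nat_lit 0x1b00002b60001c3000010, nat_lit 0x1a00002ba0001bb000010, nat_lit 0x890002be00012e000006, nat_lit 0xd90002c20000fe000006, nat_lit 0xf40002c2000102000008, nat_lit 0xdc0002c600010f000008, nat_lit 0xbb0002ca000154000010, nat_lit 0x1030002ce00013c000010, nat_lit 0x2d2000062000002, nat_lit 0x2d6000036000000, nat_lit 0xdf0002d6000118000010, nat_lit 0x2da000132000002, nat_lit 0x2de000285000000, nat_lit 0x1a30002ea0001c0000006, nat_lit 0x2f60002a1000000, nat_lit 0x1ff0001a30000df0002e60002e200002900027200006400003a0000780001480001e100e03e]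
noncomputable def sf15_0_S3 : List ℕ := [nat_lit 0x1b30000fb0000f40000da0001040002f20002ed00028900009e0001480001e10002fd0001ff01603e, nat_lit 0x2f90003010002ae000000, nat_lit 0x13400030500018b000006, nat_lit 0x6c00030a0000b3000010, nat_lit 0x1400030e00002b000006, nat_lit 0x312000007000000]
noncomputable def sf15_0_S : List (List ℕ) := [sf15_0_S0, sf15_0_S1, sf15_0_S2, sf15_0_S3]
noncomputable def sf15_0_defs : List ℕ := [(nat_lit 0x100014008000130050001300400013003000120010001200800010005000100080000f0040000f0020000f0050000e0040000d0030000d0020000d0010000d0080000c0080000b0050000b0080000a0050000a0040000a008000090050000900800008005000080030000800200008004000070030000700100007008000060040000600300006008000050050000500100005008000040050000400400004002000040080000300500003004000030030000300800002005000020040000200300002002000020080000100500001004000010030000100200001001000010080000000500000004000000030000000200000001000000000000000000000),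
  (nat_lit 0x400068005000660040005f0080005900400058004000560040005500800053004000500080004f0050004c0030004a008000490020004800800047008000460030004500800043005000420030003e0080003c0050003b0040003b0030003700800036004000320020002e0080002d0030002d0030002c0010002c0040002b0080002a0050002a0030002900400027001000270050002400400022002000220040002100300021003000200080001f0040001e0020001e0040001d0030001d0030001c0080001b0050001b0030001a0010001a0080001900400019008000180050001800100018008000170050001700400017004000160030001500800014)]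
noncomputable def sf15_0_recs : List ℕ := [(nat_lit 0x30001b00046000003600046050003e00045020001900044000003c0004301000330004204000240003f020001b0003f020002b0003d03000140003c02000320003b02000160003a010002d00038010002a0003603000100003603000240003501000170003502000110003401000150003400000120003100000160003001000160002f02000120002f000000d0002f050001d0002e04000280002d000001c0002d050001a0002c00000190002b030000b0002a00000180002a010002900020050001600029000002100029080002800021020000c00028020002700020050001200027010000c00026010000a00025000000f00025000000e00024010000900024000000700020020001c0001f01000190001e04000150001c00000100001b030001100019030000500018000001300017020000600015020000500014020000a00013010000600011010000b0001001000040000f01000030000e05000070000d00000060000c00000050000b00000040000a000000300009000000200008),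
  (nat_lit 0x2000590007b05000690007a01000790007a03000570007a000005900079010007000078020006e00078030005100077020005f00076030006100075000006f00075050006f00074000004c00074010005f00073080006300072000004800071050006700070050006b0006e040005b0006d030005b0006a02000560006a020006600069030003300066080004d00065000004e00065020004e00064000002e00064050003600063020005300063040005200063010005e00063080004400061050004b00061050003c0006001000530006005000480005f03000380005e01000550005d00000560005d08000340005b050003a0005b080005a0003a040004d0005a03000440005a02000260005a01000280005a00000340005a030002300059030002700058050003200056000002200055010002e00054030001f0005303000280005204000410004f01000470004f05000390004e03000470004d010001c0004d010003e0004a000001a0004a020004700049040004400047040002500046),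
  (nat_lit 0x8000770007f000006200068ff0006f00068000002e00040010002e0002eff000450003700000130000f010000a00013ff0004e00040ff000540002eff000170000fff0002500013ff0001b00014ff0001f0000bff0004300036ff000460003cff000530002aff0006e00067ff000700006bff0005f00078000004c0006c010005f0006b020005f00067000006f0006200000480005f020004800070ff000740006cff000730006bff0007600067020002e0002e000004e0002eff0007500062ff000710005fff0007200070ff0004a0003e050000400013ff000490003cff0004f00036ff000650002eff000610002cff000470002aff0006300046ff0001900013ff000410000fff0004d0000bff000440000aff0005200025ff0001100003ff0001500002ff0005a00001ff0000800028ff0003400000ff0003a0000dff0002700021ff0005b00007ff0005c00057ff0006d00023ff0007a0007bff000590007e030007d0007c040006a0007e030006d0007e020007a0007e030005c0007b),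
  (nat_lit 0xff0000100000ff0000a00004ff0002c0001aff0004c00062ff000680006c)]
noncomputable def sf15_0_T : List (List ℕ × ℕ) := [([0], (nat_lit 0x315))]
noncomputable def sf15_0_D : H26.Dag := ⟨[0,1,2,3,4,5,7,6,8], [[0,0],
  [1,1],
  [2,2],
  [3,3],
  [4,4],
  [5,5],
  [6,7],
  [7,6],
  [8,8],
  [2,1,2,1],
  [1,0,1,0],
  [2,0,2,0],
  [3,0,3,0],
  [4,0,4,0],
  [5,0,5,0],
  [3,1,3,1],
  [4,2,4,2],
  [4,3,4,3],
  [1,0,4,1,4],
  [2,0,3,2,3],
  [1,5,1,5],
  [5,1,3,5,3],
  [2,5,2,5],
  [5,2,4,5,4],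
  [6,6,6],
  [0,1,2,7,2,6],
  [0,3,4,7,4,6],
  [6,8,6,8],
  [5,8,0,8],
  [0,1,2,5,8,5,2,1,0,8],
  [2,5,8,5,1,8],
  [0,1,2,5,4,3,8,4,3,8,4,3,8]], [], sf15_0_defs, sf15_0_recs⟩
theorem sf15_0_c : sf15_0_D.check sf15_0_S sf15_0_T = true := by decide +kernel
theorem sf15_0 {G : Type*} [Group G] {g : ℕ → G} (hR : Rels g sf15_r_R) {H : Subgroup G}
    (hH : ∀ k ∈ [], g k ∈ H) : evA g [0] ∈ H :=
  mem_dag (K := 9) (J := [0,1,2,3,4,5,6,7,8,9,10,11,12,13,14,15,16,17,18,19,20,21,22,23,24,28,30,31,32,33,34,35]) (D := sf15_0_D) (by decide +kernel) sf15_0_c (by decide +kernel) hR hH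
theorem sf15 {G : Type*} [Group G] {z u v a b r y s : G}
    (t : TA z u v a b r)
    (n : NY z u v a b r y)
    (w : RS0 z u v r y s)
    (e : (s * a * b) ^ 3 = z * u * v * r) :
    z = 1 :=
  mul_inv_eq_one.1 ((evA_eq_tm ((InvI.cons t.1 (InvI.cons t.2.1 (InvI.cons t.2.2.1 (InvI.cons t.2.2.2.1 (InvI.cons t.2.2.2.2.1 (InvI.cons t.2.2.2.2.2.1 (InvI.cons w.1 InvI.nil))))))) : InvI [z, u, v, a, b, r, y, s] [(nat_lit 0), (nat_lit 1), (nat_lit 2), (nat_lit 3), (nat_lit 4), (nat_lit 5), (nat_lit 7)]) [(.v (nat_lit 0)), (.v (nat_lit 1)), (.v (nat_lit 2)), (.v (nat_lit 3)), (.v (nat_lit 4)), (.v (nat_lit 5)), (.v (nat_lit 6)), (.inv (.v (nat_lit 6))), (.v (nat_lit 7))] [0] (.mul (.v (nat_lit 0)) (.inv .one)) (by decide +kernel)).symm.trans (Subgroup.mem_bot.1 (sf15_0 (sf15_r t n w e) (H := ⊥) (List.forall_mem_nil _))))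
theorem sf_cases {G : Type*} [Group G] {z u v a b r y s : G}
    (t : TA z u v a b r)
    (n : NY z u v a b r y)
    (w : RS0 z u v r y s) (z1 : z ≠ 1)
    (hc : (s * a * b) ^ 3 = 1 ∨ (s * a * b) ^ 3 = z ∨ (s * a * b) ^ 3 = u ∨ (s * a * b) ^ 3 = v ∨ (s * a * b) ^ 3 = r ∨ (s * a * b) ^ 3 = z * u ∨ (s * a * b) ^ 3 = z * v ∨ (s * a * b) ^ 3 = z * r ∨ (s * a * b) ^ 3 = u * v ∨ (s * a * b) ^ 3 = u * r ∨ (s * a * b) ^ 3 = v * r ∨ (s * a * b) ^ 3 = z * u * v ∨ (s * a * b) ^ 3 = z * u * r ∨ (s * a * b) ^ 3 = z * v * r ∨ (s * a * b) ^ 3 = u * v * r ∨ (s * a * b) ^ 3 = z * u * v * r) :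
    (s * a * b) ^ 3 = 1 := by
  rcases hc with e | e | e | e | e | e | e | e | e | e | e | e | e | e | e | e
  exacts [e,
    (z1 (sf1 t n w e)).elim,
    (z1 (sf2 t n w e)).elim,
    (z1 (sf3 t n w e)).elim,
    (z1 (sf4 t n w e)).elim,
    (z1 (sf5 t n w e)).elim,
    (z1 (sf6 t n w e)).elim,
    (z1 (sf7 t n w e)).elim,
    (z1 (sf8 t n w e)).elim,
    (z1 (sf9 t n w e)).elim,
    (z1 (sf10 t n w e)).elim,
    (z1 (sf11 t n w e)).elim,
    (z1 (sf12 t n w e)).elim,
    (z1 (sf13 t n w e)).elim,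
    (z1 (sf14 t n w e)).elim,
    (z1 (sf15 t n w e)).elim]
noncomputable def NF_r_R : List (List ℕ) := [[0,0],
  [1,1],
  [2,2],
  [3,3],
  [4,4],
  [5,5],
  [6,7],
  [7,6],
  [8,8],
  [2,1,2,1],
  [1,0,1,0],
  [2,0,2,0],
  [3,0,3,0],
  [4,0,4,0],
  [5,0,5,0],
  [3,1,3,1],
  [4,2,4,2],
  [4,3,4,3],
  [1,0,4,1,4],
  [2,0,3,2,3],
  [1,5,1,5],
  [5,1,3,5,3],
  [2,5,2,5],
  [5,2,4,5,4],
  [6,6,6],
  [5,7,5,6],
  [0,7,0,6],
  [2,7,1,6],
  [0,1,2,7,2,6],
  [4,7,3,6],
  [0,3,4,7,4,6],
  [6,8,6,8],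
  [5,8,0,8],
  [0,1,2,5,8,5,2,1,0,8],
  [2,5,8,5,1,8],
  [4,3,8,4,3,8,4,3,8]]
theorem NF_r {G : Type*} [Group G] {z u v a b r y s : G}
    (t : TA z u v a b r)
    (n : NY z u v a b r y)
    (w : RS z u v a b r y s) :
    Rels (nthG [z, u, v, a, b, r, y, y⁻¹, s]) NF_r_R :=
  rels_of_eqs ((InvI.cons t.1 (InvI.cons t.2.1 (InvI.cons t.2.2.1 (InvI.cons t.2.2.2.1 (InvI.cons t.2.2.2.2.1 (InvI.cons t.2.2.2.2.2.1 (InvI.cons w.1 InvI.nil))))))) : InvI [z, u, v, a, b, r, y, s] [(nat_lit 0), (nat_lit 1), (nat_lit 2), (nat_lit 3), (nat_lit 4), (nat_lit 5), (nat_lit 7)])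
    (AllEq.append (show AllEq [z, u, v, a, b, r, y, s] [((.mul (.v (nat_lit 0)) (.v (nat_lit 0))), .one), ((.mul (.v (nat_lit 1)) (.v (nat_lit 1))), .one), ((.mul (.v (nat_lit 2)) (.v (nat_lit 2))), .one), ((.mul (.v (nat_lit 3)) (.v (nat_lit 3))), .one), ((.mul (.v (nat_lit 4)) (.v (nat_lit 4))), .one), ((.mul (.v (nat_lit 5)) (.v (nat_lit 5))), .one), ((.mul (.v (nat_lit 1)) (.v (nat_lit 2))), (.mul (.v (nat_lit 2)) (.v (nat_lit 1)))), ((.mul (.v (nat_lit 0)) (.v (nat_lit 1))), (.mul (.v (nat_lit 1)) (.v (nat_lit 0)))), ((.mul (.v (nat_lit 0)) (.v (nat_lit 2))), (.mul (.v (nat_lit 2)) (.v (nat_lit 0)))), ((.mul (.v (nat_lit 0)) (.v (nat_lit 3))), (.mul (.v (nat_lit 3)) (.v (nat_lit 0)))), ((.mul (.v (nat_lit 0)) (.v (nat_lit 4))), (.mul (.v (nat_lit 4)) (.v (nat_lit 0)))), ((.mul (.v (nat_lit 0)) (.v (nat_lit 5))), (.mul (.v (nat_lit 5)) (.v (nat_lit 0)))), ((.mul (.v (nat_lit 1)) (.v (nat_lit 3))), (.mul (.v (nat_lit 3)) (.v (nat_lit 1)))), ((.mul (.v (nat_lit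 2)) (.v (nat_lit 4))), (.mul (.v (nat_lit 4)) (.v (nat_lit 2)))), ((.mul (.v (nat_lit 3)) (.v (nat_lit 4))), (.mul (.v (nat_lit 4)) (.v (nat_lit 3)))), ((.mul (.mul (.v (nat_lit 4)) (.v (nat_lit 1))) (.v (nat_lit 4))), (.mul (.v (nat_lit 1)) (.v (nat_lit 0)))), ((.mul (.mul (.v (nat_lit 3)) (.v (nat_lit 2))) (.v (nat_lit 3))), (.mul (.v (nat_lit 2)) (.v (nat_lit 0)))), ((.mul (.v (nat_lit 5)) (.v (nat_lit 1))), (.mul (.v (nat_lit 1)) (.v (nat_lit 5)))), ((.mul (.mul (.v (nat_lit 3)) (.v (nat_lit 5))) (.v (nat_lit 3))), (.mul (.v (nat_lit 5)) (.v (nat_lit 1)))), ((.mul (.v (nat_lit 5)) (.v (nat_lit 2))), (.mul (.v (nat_lit 2)) (.v (nat_lit 5)))), ((.mul (.mul (.v (nat_lit 4)) (.v (nat_lit 5))) (.v (nat_lit 4))), (.mul (.v (nat_lit 5)) (.v (nat_lit 2))))] from t)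
    (AllEq.append (show AllEq [z, u, v, a, b, r, y, s] [((.pw (.v (nat_lit 6)) (nat_lit 3)), .one), ((.mul (.v (nat_lit 6)) (.v (nat_lit 5))), (.mul (.v (nat_lit 5)) (.v (nat_lit 6)))), ((.mul (.v (nat_lit 6)) (.v (nat_lit 0))), (.mul (.v (nat_lit 0)) (.v (nat_lit 6)))), ((.mul (.mul (.v (nat_lit 6)) (.v (nat_lit 1))) (.inv (.v (nat_lit 6)))), (.v (nat_lit 2))), ((.mul (.mul (.v (nat_lit 6)) (.v (nat_lit 2))) (.inv (.v (nat_lit 6)))), (.mul (.mul (.v (nat_lit 0)) (.v (nat_lit 1))) (.v (nat_lit 2)))), ((.mul (.mul (.v (nat_lit 6)) (.v (nat_lit 3))) (.inv (.v (nat_lit 6)))), (.v (nat_lit 4))), ((.mul (.mul (.v (nat_lit 6)) (.v (nat_lit 4))) (.inv (.v (nat_lit 6)))), (.mul (.mul (.v (nat_lit 0)) (.v (nat_lit 3))) (.v (nat_lit 4))))] from n)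
    (show AllEq [z, u, v, a, b, r, y, s] [((.mul (.v (nat_lit 7)) (.v (nat_lit 7))), .one), ((.mul (.mul (.v (nat_lit 7)) (.v (nat_lit 6))) (.v (nat_lit 7))), (.inv (.v (nat_lit 6)))), ((.mul (.mul (.v (nat_lit 7)) (.v (nat_lit 0))) (.v (nat_lit 7))), (.v (nat_lit 5))), ((.mul (.mul (.v (nat_lit 7)) (.mul (.mul (.mul (.v (nat_lit 0)) (.v (nat_lit 1))) (.v (nat_lit 2))) (.v (nat_lit 5)))) (.v (nat_lit 7))), (.mul (.mul (.mul (.v (nat_lit 0)) (.v (nat_lit 1))) (.v (nat_lit 2))) (.v (nat_lit 5)))), ((.mul (.mul (.v (nat_lit 7)) (.mul (.v (nat_lit 1)) (.v (nat_lit 5)))) (.v (nat_lit 7))), (.mul (.v (nat_lit 2)) (.v (nat_lit 5)))), ((.pw (.mul (.mul (.v (nat_lit 7)) (.v (nat_lit 3))) (.v (nat_lit 4))) (nat_lit 3)), .one)] from w)))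
    [(.v (nat_lit 0)), (.v (nat_lit 1)), (.v (nat_lit 2)), (.v (nat_lit 3)), (.v (nat_lit 4)), (.v (nat_lit 5)), (.v (nat_lit 6)), (.inv (.v (nat_lit 6))), (.v (nat_lit 7))] (by decide +kernel)
noncomputable abbrev NF_o : Ops := pops (nat_lit 27) (nat_lit 5) (nat_lit 31) (nat_lit 0x6b38bdab49ca307b9ac5a928398a418820)
noncomputable def NF_cs : List ℕ := [(nat_lit 0x69f19d6c7ba70bcb5cc80642a0c8532140), (nat_lit 0x6a2facee9b1f2ec416c68682918a41a140), (nat_lit 0x6ab38bf2ec2ee9b50ec906086988518940), (nat_lit 0x6a2fb5e67aa730c39ac58a41a14c322900), (nat_lit 0x6ad38e5e7c4af0ab5cc59523a094141880), (nat_lit 0x69b0950f64dd7873f208aa62a8c853202c), (nat_lit 0x6b17cdab47b6728ae0c4a9c43a06611420), (nat_lit 0x6af9c5ab48c1ed9a64c729663904828c20), (nat_lit 0x692b71eb47b6309de41c0324b18481958a)]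
noncomputable def NF_L : List (List ℕ) := [[(nat_lit 0x6b38bdab49ca307b9ac5a928398a418820), (nat_lit 0x69f19d6c7ba70bcb5cc80642a0c8532140), (nat_lit 0x6a2facee9b1f2ec416c68682918a41a140), (nat_lit 0x6ab38bf2ec2ee9b50ec906086988518940), (nat_lit 0x69b0950f64dd7873f208aa62a8c853202c), (nat_lit 0x692b71eb47b6309de41c0324b18481958a), (nat_lit 0x6b19b5e72ad1ed8ae0c728e848c8530820), (nat_lit 0x6ad7c65ed8c272a9e8c4a96270ca432020), (nat_lit 0x6af6ce2307b6b49a64c3a9c2598851a020), (nat_lit 0x696e3a653a55af86220c86c8b8c853094c), (nat_lit 0x69f3ac70bb1ee9cb5cc906838104829940), (nat_lit 0x68e95b9af84653a5aa0b8702c8ca43214c), (nat_lit 0x69b049e979596f76220c8aaa990662850c), (nat_lit 0x69d091e994c5736d6c0b97067a02a10c8c), (nat_lit 0x6a546c178764f64cee0aa9e888ca43082c), (nat_lit 0x69c74ae309cab47e5a1b02e5c19021918a)],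
  [(nat_lit 0x6b38bdab49ca307b9ac5a928398a418820), (nat_lit 0x6b17cdab47b6728ae0c4a9c43a06611420), (nat_lit 0x6af9c5ab48c1ed9a64c729663904828c20), (nat_lit 0x6ab7c3f348a66bb39ac812463a02a10ca0), (nat_lit 0x6ab9bc7149b9e9b2e0c919a83902a28860), (nat_lit 0x6ab8ccef47ae2eb264c6a2043982a19440), (nat_lit 0x6a99c4af5839abb266a8a1e63900c28c41), (nat_lit 0x6a98ccab75b5d09a6c87aa243980c19422), (nat_lit 0x6a95ba7195b9b07ca2499ac83a80c08865), (nat_lit 0x6a97cc3156a64eb2e2a79a643a00c11461)],
  [(nat_lit 0x6b38bdab49ca307b9ac5a928398a418820), (nat_lit 0x6b19acef4b49eb8b5cc8212a3906628440), (nat_lit 0x6b19bda9594daf82e2a731283906628801), (nat_lit 0x6b38ace97959d15c1e86b12a398a418402), (nat_lit 0x6b38a4af5b4e0e6c56a7a12c398a418041), (nat_lit 0x6b19a4ab79d96d73e088a92c3906628022)]]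
noncomputable def NF_WW : List (List (List ℕ)) := [[[],
  [(nat_lit 0)],
  [(nat_lit 1)],
  [(nat_lit 2)],
  [(nat_lit 5)],
  [(nat_lit 8)],
  [(nat_lit 0), (nat_lit 1)],
  [(nat_lit 0), (nat_lit 2)],
  [(nat_lit 1), (nat_lit 2)],
  [(nat_lit 1), (nat_lit 5)],
  [(nat_lit 1), (nat_lit 7)],
  [(nat_lit 2), (nat_lit 5)],
  [(nat_lit 5), (nat_lit 3)],
  [(nat_lit 5), (nat_lit 4)],
  [(nat_lit 1), (nat_lit 2), (nat_lit 5)],
  [(nat_lit 1), (nat_lit 2), (nat_lit 8)]],
  [[],
  [(nat_lit 6)],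
  [(nat_lit 7)],
  [(nat_lit 0), (nat_lit 4)],
  [(nat_lit 0), (nat_lit 4), (nat_lit 6)],
  [(nat_lit 0), (nat_lit 4), (nat_lit 7)],
  [(nat_lit 4), (nat_lit 5), (nat_lit 8)],
  [(nat_lit 4), (nat_lit 8), (nat_lit 3)],
  [(nat_lit 4), (nat_lit 8), (nat_lit 4)],
  [(nat_lit 4), (nat_lit 5), (nat_lit 6), (nat_lit 8)]],
  [[],
  [(nat_lit 0), (nat_lit 3)],
  [(nat_lit 0), (nat_lit 5), (nat_lit 6), (nat_lit 8)],
  [(nat_lit 0), (nat_lit 6), (nat_lit 8), (nat_lit 3)],
  [(nat_lit 3), (nat_lit 5), (nat_lit 6), (nat_lit 8)],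
  [(nat_lit 3), (nat_lit 6), (nat_lit 8), (nat_lit 3)]]]
noncomputable def NF_b3_S0 : List ℕ := [nat_lit 0x1300000700000c004008, nat_lit 0x1700000700001000400a, nat_lit 0x1b00000b000010004006, nat_lit 0x1f000013000018004006, nat_lit 0x1f00000200001c00400a]
noncomputable def NF_b3_S : List (List ℕ) := [NF_b3_S0]
noncomputable def NF_b3_defs : List ℕ := [(nat_lit 0x20000400200002002000010010000100200000001000000000000000000000)]
noncomputable def NF_b3_recs : List ℕ := [(nat_lit 0x600007010000500007010000300006000000300005000000200004)]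
noncomputable def NF_b3_L0 : List ℕ := [nat_lit 0x700000100000b00000200000f000003, nat_lit 0x8000000000013000004000017000005, nat_lit 0x200000400000c00000000001b000006, nat_lit 0x600000500000a000006000010000000, nat_lit 0x100000200001400000100001f000007, nat_lit 0x500000300000e000007000018000001, nat_lit 0x1200000700000900000300001c000002, nat_lit 0x1100000600000d000005000020000004]
noncomputable def NF_b3_L : List (List ℕ) := [NF_b3_L0]
noncomputable def NF_b3_V : List ℕ := [(nat_lit 0x700000006000000050000000400000003000000020000000100000000)]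
noncomputable def NF_b3_D : H26.Dag := ⟨[], [[0,0],
  [1,1],
  [2,2],
  [2,1,2,1],
  [1,0,1,0],
  [2,0,2,0]], [], NF_b3_defs, NF_b3_recs⟩
theorem NF_b3_c : NF_b3_D.checkTab NF_b3_S 8 3 NF_b3_V NF_b3_L = true := by decide +kernel
theorem NF_b3 : Bound NF_r_R 3 8 :=
  bound_dag (Bound.zero NF_r_R) (K := 3) (J := [0,1,2,9,10,11]) (by decide +kernel) NF_b3_c (by decide +kernel)
noncomputable def NF_b5_S0 : List ℕ := [nat_lit 0x1, nat_lit 0x1, nat_lit 0x1, nat_lit 0x700000100000800400a, nat_lit 0x700000500000800400e, nat_lit 0x700000100000900000800c016, nat_lit 0xb00000100000c00400c, nat_lit 0xb00000900000c004010, nat_lit 0xb00000100000500000c00c014, nat_lit 0xf00000d00001000400c, nat_lit 0xf000015000010004010, nat_lit 0xf00000700000c004012, nat_lit 0xf00000d00001100001000c014]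
noncomputable def NF_b5_S : List (List ℕ) := [NF_b5_S0]
noncomputable def NF_b5_defs : List ℕ := [(nat_lit 0x400001004000000030000000000000)]
noncomputable def NF_b5_recs : List ℕ := [(nat_lit 0x10000300003030000200003020000300003000000300003010000200002020000200002000000200002020000100001010000100001000000100001020000000000010000000000000000000000)]
noncomputable def NF_b5_L0 : List ℕ := [nat_lit 0x100000000000500000000000900000000000700000100000b000002, nat_lit 0xd00000100001100000100001500000100000800000000000f000003, nat_lit 0x1900000200002100000200001d00000200002e00000300000c000000, nat_lit 0x2500000300003100000300002900000300002d000002000010000001]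
noncomputable def NF_b5_L : List (List ℕ) := [NF_b5_L0]
noncomputable def NF_b5_V : List ℕ := [(nat_lit 0x3000000020000000100000000)]
noncomputable def NF_b5_D : H26.Dag := ⟨[], [[0,0],
  [1,1],
  [2,2],
  [3,3],
  [4,4],
  [3,0,3,0],
  [4,0,4,0],
  [3,1,3,1],
  [4,2,4,2],
  [4,3,4,3],
  [1,0,4,1,4],
  [2,0,3,2,3]], [0,1,2], NF_b5_defs, NF_b5_recs⟩
theorem NF_b5_c : NF_b5_D.checkTab NF_b5_S 4 5 NF_b5_V NF_b5_L = true := by decide +kernel
theorem NF_b5 : Bound NF_r_R 5 32 :=
  bound_dag NF_b3 (K := 5) (J := [0,1,2,3,4,12,13,15,16,17,18,19]) (by decide +kernel) NF_b5_c (by decide +kernel)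
noncomputable def NF_b6_S0 : List ℕ := [nat_lit 0x1, nat_lit 0x1, nat_lit 0x1, nat_lit 0x1, nat_lit 0x1, nat_lit 0x700000100000800400c, nat_lit 0x700000500000800800e, nat_lit 0x7000009000008008012, nat_lit 0x1900000700000d000008008010, nat_lit 0x1d000007000011000008008014]
noncomputable def NF_b6_S : List (List ℕ) := [NF_b6_S0]
noncomputable def NF_b6_defs : List ℕ := [(nat_lit 0x50000000000000)]
noncomputable def NF_b6_recs : List ℕ := [(nat_lit 0x40000100001030000100001020000100001010000100001000000100001040000000000030000000000020000000000010000000000000000000000)]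
noncomputable def NF_b6_L0 : List ℕ := [nat_lit 0x100000000000500000000000900000000000d000000000011000000000007000001, nat_lit 0x1500000100001900000100001d000001000021000001000025000001000008000000]
noncomputable def NF_b6_L : List (List ℕ) := [NF_b6_L0]
noncomputable def NF_b6_V : List ℕ := [(nat_lit 0x100000000)]
noncomputable def NF_b6_D : H26.Dag := ⟨[], [[0,0],
  [1,1],
  [2,2],
  [3,3],
  [4,4],
  [5,5],
  [5,0,5,0],
  [1,5,1,5],
  [5,1,3,5,3],
  [2,5,2,5],
  [5,2,4,5,4]], [0,1,2,3,4], NF_b6_defs, NF_b6_recs⟩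
theorem NF_b6_c : NF_b6_D.checkTab NF_b6_S 2 6 NF_b6_V NF_b6_L = true := by decide +kernel
theorem NF_b6 : Bound NF_r_R 6 64 :=
  bound_dag NF_b5 (K := 6) (J := [0,1,2,3,4,5,14,20,21,22,23]) (by decide +kernel) NF_b6_c (by decide +kernel)
noncomputable def NF_b8_S0 : List ℕ := [nat_lit 0x1, nat_lit 0x1, nat_lit 0x1, nat_lit 0x1, nat_lit 0x1, nat_lit 0x1, nat_lit 0x7000015000008000012, nat_lit 0x7000001000008000014, nat_lit 0x7000005000008000016, nat_lit 0x700000d00000800001a, nat_lit 0x1d000007000009000008000021004018, nat_lit 0x1d00000700001100000800002500401c, nat_lit 0xb000008006010, nat_lit 0xb00001500000c008012, nat_lit 0xb00000100000c008014, nat_lit 0xb00000900000c008016, nat_lit 0xb00001100000c00801a, nat_lit 0xb00000900000500000100000c010018, nat_lit 0xb00001100000d00000100000c01001c]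
noncomputable def NF_b8_S : List (List ℕ) := [NF_b8_S0]
noncomputable def NF_b8_defs : List ℕ := [(nat_lit 0x7000000060000000000000)]
noncomputable def NF_b8_recs : List ℕ := [(nat_lit 0x40000200002020000200002030000200002010000200002000000200002050000200002070000100002030000100001010000100001040000100001020000100001000000100001050000100001050000000000040000000000030000000000020000000000010000000000000000000000)]
noncomputable def NF_b8_L0 : List ℕ := [nat_lit 0x100000000000500000000000900000000000d00000000001100000000001500000000000700000100000b000002, nat_lit 0x1d00000100002900000100002100000100002d000001000025000001000019000001000032000002000008000000, nat_lit 0x3900000200003d00000200004500000200004100000200004900000200003500000200000c000000000031000001]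
noncomputable def NF_b8_L : List (List ℕ) := [NF_b8_L0]
noncomputable def NF_b8_V : List ℕ := [(nat_lit 0x20000000100000000)]
noncomputable def NF_b8_D : H26.Dag := ⟨[0,1,2,3,4,5,7,6], [[0,0],
  [1,1],
  [2,2],
  [3,3],
  [4,4],
  [5,5],
  [6,7],
  [7,6],
  [6,6,6],
  [5,7,5,6],
  [0,7,0,6],
  [2,7,1,6],
  [0,1,2,7,2,6],
  [4,7,3,6],
  [0,3,4,7,4,6]], [0,1,2,3,4,5], NF_b8_defs, NF_b8_recs⟩
theorem NF_b8_c : NF_b8_D.checkTab NF_b8_S 3 8 NF_b8_V NF_b8_L = true := by decide +kernel
theorem NF_b8 : Bound NF_r_R 8 192 :=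
  bound_dag NF_b6 (K := 8) (J := [0,1,2,3,4,5,6,7,24,25,26,27,28,29,30]) (by decide +kernel) NF_b8_c (by decide +kernel)
noncomputable def NF_b9_S0 : List ℕ := [nat_lit 0x1, nat_lit 0x1, nat_lit 0x1, nat_lit 0x1, nat_lit 0x1, nat_lit 0x1, nat_lit 0x1, nat_lit 0x7000019000008008028, nat_lit 0x700001500000800802a, nat_lit 0x700000100000800002a, nat_lit 0x2500000700001500000900000801002c, nat_lit 0x700000500001500000800002500002c, nat_lit 0xb00002100000c004012, nat_lit 0xb00002900000c004016, nat_lit 0xb00002100002d00000c00c01e, nat_lit 0xb00002900002500000c00c020, nat_lit 0xf000021000010004014, nat_lit 0xf00002d000010004018, nat_lit 0xf00001d00000c004024, nat_lit 0xf00002100002900001000c01c, nat_lit 0xf00002d00002500001000c022, nat_lit 0x13000031000014004014, nat_lit 0x13000039000014004018, nat_lit 0x1300000b00001000401a, nat_lit 0x1300003100003500001400c01c, nat_lit 0x1300003900003d00001400c022, nat_lit 0x1300000b00002100001d00001000c026, nat_lit 0x1300004900000f00000c000031014026,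 nat_lit 0x1300000b00000700001100000d00000800001000005d00e02e, nat_lit 0x6d00007100006a00c028]
noncomputable def NF_b9_S : List (List ℕ) := [NF_b9_S0]
noncomputable def NF_b9_defs : List ℕ := [(nat_lit 0x40000200400001003000010080000000000000)]
noncomputable def NF_b9_recs : List ℕ := [(nat_lit 0x80000300002080000400004060000200004070000300004050000400004010000400004030000300004020000400004000000400004050000300003010000300003070000200003020000300003000000300003050000200002020000200002010000200002000000200002020000100001010000100001050000100001000000100001060000100001060000000000050000000000040000000000030000000000020000000000010000000000000000000000)]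
noncomputable def NF_b9_L0 : List ℕ := [nat_lit 0x100000000000500000000000900000000000d00000000001100000000001500000000001900000000001a000000000007000001, nat_lit 0x2100000100002900000100002d00000100000b00000200000f00000300002500000100001d00000100001e000001000008000000, nat_lit 0x3100000200003500000200003900000200000c00000100001300000400003d00000200004a00000300006e000004000075000003, nat_lit 0x4100000300004d00000300004500000300005e00000400001000000100005100000300006a000004000049000002000076000002, nat_lit 0x5500000400006100000400005900000400005d00000300001400000200006500000400006d000002000069000003000071000004]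
noncomputable def NF_b9_L : List (List ℕ) := [NF_b9_L0]
noncomputable def NF_b9_V : List ℕ := [(nat_lit 0x400000003000000020000000100000000)]
noncomputable def NF_b9_D : H26.Dag := ⟨[0,1,2,3,4,5,7,6,8], [[0,0],
  [1,1],
  [2,2],
  [3,3],
  [4,4],
  [5,5],
  [6,7],
  [7,6],
  [8,8],
  [3,0,3,0],
  [4,0,4,0],
  [3,1,3,1],
  [4,2,4,2],
  [4,3,4,3],
  [1,0,4,1,4],
  [2,0,3,2,3],
  [5,1,3,5,3],
  [5,2,4,5,4],
  [4,7,3,6],
  [0,3,4,7,4,6],
  [6,8,6,8],
  [5,8,0,8],
  [2,5,8,5,1,8],
  [4,3,8,4,3,8,4,3,8]], [0,1,2,3,4,5,6,7], NF_b9_defs, NF_b9_recs⟩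
theorem NF_b9_c : NF_b9_D.checkTab NF_b9_S 5 9 NF_b9_V NF_b9_L = true := by decide +kernel
theorem NF_b9 : Bound NF_r_R 9 960 :=
  bound_dag NF_b8 (K := 9) (J := [0,1,2,3,4,5,6,7,8,12,13,15,16,17,18,19,21,23,29,30,31,32,34,35]) (by decide +kernel) NF_b9_c (by decide +kernel)
theorem NF_P : PModel (nat_lit 27) (nat_lit 5) (nat_lit 31) (nat_lit 0x6b38bdab49ca307b9ac5a928398a418820) NF_cs NF_r_R NF_L 960 :=
  ⟨PkOK.of (by decide +kernel), by decide +kernel, by decide +kernel, NF_b9, ⟨NF_WW, by decide +kernel⟩,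
    ⟨fun c => Nat.mod c (nat_lit 131449), by decide +kernel⟩⟩
noncomputable def NF_soc_t0 : ST := (.node (nat_lit 232761) (.node (nat_lit 119789) (.node (nat_lit 60013) (.node (nat_lit 27898) (.node (nat_lit 14537) (.node (nat_lit 6617) (.node (nat_lit 2626) (.node (nat_lit 476) (.node (nat_lit 84) (.leaf (nat_lit 497)) (.node (nat_lit 86) (.leaf (nat_lit 48)) (.leaf (nat_lit 288)))) (.node (nat_lit 2097) (.node (nat_lit 1569) (.leaf (nat_lit 8)) (.leaf (nat_lit 944))) (.node (nat_lit 2603) (.leaf (nat_lit 2)) (.leaf (nat_lit 370))))) (.node (nat_lit 4186) (.node (nat_lit 3508) (.leaf (nat_lit 8)) (.node (nat_lit 4160) (.leaf (nat_lit 786)) (.leaf (nat_lit 400)))) (.node (nat_lit 5987) (.node (nat_lit 5657) (.leaf (nat_lit 7)) (.leaf (nat_lit 292))) (.node (nat_lit 6580) (.leaf (nat_lit 48)) (.leaf (nat_lit 674)))))) (.node (nat_lit 9768) (.node (nat_lit 7544) (.node (nat_lit 7192) (.leaf (nat_lit 8)) (.node (nat_lit 7295) (.leaf (nat_lit 672)) (.leaf (nat_lit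 946)))) (.node (nat_lit 8784) (.node (nat_lit 8119) (.leaf (nat_lit 160)) (.leaf (nat_lit 768))) (.node (nat_lit 9021) (.leaf (nat_lit 8)) (.leaf (nat_lit 26))))) (.node (nat_lit 10799) (.node (nat_lit 9974) (.leaf (nat_lit 3)) (.node (nat_lit 10007) (.leaf (nat_lit 2)) (.leaf (nat_lit 160)))) (.node (nat_lit 12897) (.node (nat_lit 11182) (.leaf (nat_lit 688)) (.leaf (nat_lit 3))) (.node (nat_lit 14006) (.leaf (nat_lit 2)) (.leaf (nat_lit 788))))))) (.node (nat_lit 18676) (.node (nat_lit 16228) (.node (nat_lit 15649) (.node (nat_lit 14973) (.leaf (nat_lit 160)) (.node (nat_lit 15536) (.leaf (nat_lit 48)) (.leaf (nat_lit 931)))) (.node (nat_lit 16019) (.node (nat_lit 15758) (.leaf (nat_lit 7)) (.leaf (nat_lit 160))) (.node (nat_lit 16083) (.leaf (nat_lit 3)) (.leaf (nat_lit 307))))) (.node (nat_lit 17061) (.node (nat_lit 16413) (.leaf (nat_lit 402)) (.node (nat_lit 16583) (.leaf (nat_lit 650)) (.leaf (nat_lit 546)))) (.node (nat_lit 17876) (.node (nat_lit 17119)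 (.leaf (nat_lit 2)) (.leaf (nat_lit 946))) (.node (nat_lit 18275) (.leaf (nat_lit 944)) (.leaf (nat_lit 2)))))) (.node (nat_lit 21588) (.node (nat_lit 20765) (.node (nat_lit 20178) (.leaf (nat_lit 402)) (.node (nat_lit 20275) (.leaf (nat_lit 546)) (.leaf (nat_lit 945)))) (.node (nat_lit 21065) (.node (nat_lit 21051) (.leaf (nat_lit 7)) (.leaf (nat_lit 160))) (.node (nat_lit 21066) (.leaf (nat_lit 7)) (.leaf (nat_lit 0))))) (.node (nat_lit 24557) (.node (nat_lit 22919) (.node (nat_lit 21932) (.leaf (nat_lit 2)) (.leaf (nat_lit 768))) (.node (nat_lit 24325) (.leaf (nat_lit 2)) (.leaf (nat_lit 498)))) (.node (nat_lit 26807) (.node (nat_lit 26692) (.leaf (nat_lit 8)) (.leaf (nat_lit 48))) (.node (nat_lit 27119) (.leaf (nat_lit 497)) (.leaf (nat_lit 3)))))))) (.node (nat_lit 43937) (.node (nat_lit 34068) (.node (nat_lit 30777) (.node (nat_lit 29676) (.node (nat_lit 28104) (.leaf (nat_lit 292)) (.node (nat_lit 29277) (.leaf (nat_lit 770)) (.leaf (nat_lit 656))))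 (.node (nat_lit 30464) (.node (nat_lit 29824) (.leaf (nat_lit 26)) (.leaf (nat_lit 48))) (.node (nat_lit 30612) (.leaf (nat_lit 3)) (.leaf (nat_lit 530))))) (.node (nat_lit 31742) (.node (nat_lit 31187) (.leaf (nat_lit 2)) (.node (nat_lit 31203) (.leaf (nat_lit 160)) (.leaf (nat_lit 8)))) (.node (nat_lit 33587) (.node (nat_lit 32169) (.leaf (nat_lit 656)) (.leaf (nat_lit 650))) (.node (nat_lit 34013) (.leaf (nat_lit 400)) (.leaf (nat_lit 2)))))) (.node (nat_lit 38157) (.node (nat_lit 36009) (.node (nat_lit 34113) (.leaf (nat_lit 544)) (.node (nat_lit 35942) (.leaf (nat_lit 498)) (.leaf (nat_lit 288)))) (.node (nat_lit 37212) (.node (nat_lit 36547) (.leaf (nat_lit 26)) (.leaf (nat_lit 288))) (.node (nat_lit 37848) (.leaf (nat_lit 660)) (.leaf (nat_lit 292))))) (.node (nat_lit 42531) (.node (nat_lit 40879) (.node (nat_lit 39065) (.leaf (nat_lit 3)) (.leaf (nat_lit 640))) (.node (nat_lit 41895) (.leaf (nat_lit 8)) (.leaf (nat_lit 788)))) (.node (nat_lit 42874)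 (.node (nat_lit 42721) (.leaf (nat_lit 650)) (.leaf (nat_lit 768))) (.node (nat_lit 43507) (.leaf (nat_lit 786)) (.leaf (nat_lit 8))))))) (.node (nat_lit 51909) (.node (nat_lit 50120) (.node (nat_lit 46273) (.node (nat_lit 43947) (.leaf (nat_lit 48)) (.node (nat_lit 45734) (.leaf (nat_lit 530)) (.leaf (nat_lit 544)))) (.node (nat_lit 48235) (.node (nat_lit 46772) (.leaf (nat_lit 402)) (.leaf (nat_lit 7))) (.node (nat_lit 49500) (.leaf (nat_lit 2)) (.leaf (nat_lit 96))))) (.node (nat_lit 50429) (.node (nat_lit 50198) (.leaf (nat_lit 656)) (.node (nat_lit 50360) (.leaf (nat_lit 788)) (.leaf (nat_lit 658)))) (.node (nat_lit 51247) (.node (nat_lit 50739) (.leaf (nat_lit 2)) (.leaf (nat_lit 946))) (.node (nat_lit 51575) (.leaf (nat_lit 689)) (.leaf (nat_lit 2)))))) (.node (nat_lit 55459) (.node (nat_lit 53072) (.node (nat_lit 52138) (.leaf (nat_lit 689)) (.node (nat_lit 52963) (.leaf (nat_lit 3)) (.leaf (nat_lit 48)))) (.node (nat_lit 55037) (.node (nat_lit 53785)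 (.leaf (nat_lit 160)) (.leaf (nat_lit 304))) (.node (nat_lit 55206) (.leaf (nat_lit 3)) (.leaf (nat_lit 672))))) (.node (nat_lit 57795) (.node (nat_lit 57020) (.node (nat_lit 55999) (.leaf (nat_lit 402)) (.leaf (nat_lit 7))) (.node (nat_lit 57263) (.leaf (nat_lit 768)) (.leaf (nat_lit 2)))) (.node (nat_lit 58108) (.node (nat_lit 57918) (.leaf (nat_lit 8)) (.leaf (nat_lit 48))) (.node (nat_lit 59957) (.leaf (nat_lit 160)) (.leaf (nat_lit 2))))))))) (.node (nat_lit 90541) (.node (nat_lit 75153) (.node (nat_lit 70791) (.node (nat_lit 65500) (.node (nat_lit 60579) (.node (nat_lit 60270) (.leaf (nat_lit 786)) (.node (nat_lit 60477) (.leaf (nat_lit 736)) (.leaf (nat_lit 2)))) (.node (nat_lit 64152) (.node (nat_lit 61998) (.leaf (nat_lit 290)) (.leaf (nat_lit 288))) (.node (nat_lit 65346) (.leaf (nat_lit 160)) (.leaf (nat_lit 288))))) (.node (nat_lit 66878) (.node (nat_lit 66225) (.leaf (nat_lit 2)) (.node (nat_lit 66777) (.leaf (nat_lit 689)) (.leaf (nat_lit 546))))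 (.node (nat_lit 69122) (.node (nat_lit 67405) (.leaf (nat_lit 544)) (.leaf (nat_lit 2))) (.node (nat_lit 69551) (.leaf (nat_lit 7)) (.leaf (nat_lit 2)))))) (.node (nat_lit 72944) (.node (nat_lit 71285) (.node (nat_lit 70849) (.leaf (nat_lit 544)) (.node (nat_lit 71178) (.leaf (nat_lit 160)) (.leaf (nat_lit 672)))) (.node (nat_lit 71761) (.node (nat_lit 71315) (.leaf (nat_lit 144)) (.leaf (nat_lit 290))) (.node (nat_lit 72176) (.leaf (nat_lit 2)) (.leaf (nat_lit 709))))) (.node (nat_lit 74061) (.node (nat_lit 73007) (.leaf (nat_lit 546)) (.node (nat_lit 73885) (.leaf (nat_lit 2)) (.leaf (nat_lit 3)))) (.node (nat_lit 74951) (.node (nat_lit 74173) (.leaf (nat_lit 402)) (.leaf (nat_lit 770))) (.node (nat_lit 75088) (.leaf (nat_lit 160)) (.leaf (nat_lit 305))))))) (.node (nat_lit 84803) (.node (nat_lit 78776) (.node (nat_lit 76576) (.node (nat_lit 75608) (.leaf (nat_lit 288)) (.node (nat_lit 76033) (.leaf (nat_lit 880)) (.leaf (nat_lit 276)))) (.node (nat_lit 76793)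 (.node (nat_lit 76691) (.leaf (nat_lit 772)) (.leaf (nat_lit 26))) (.node (nat_lit 77668) (.leaf (nat_lit 772)) (.leaf (nat_lit 3))))) (.node (nat_lit 81456) (.node (nat_lit 79275) (.leaf (nat_lit 26)) (.node (nat_lit 80993) (.leaf (nat_lit 402)) (.leaf (nat_lit 8)))) (.node (nat_lit 83859) (.node (nat_lit 82900) (.leaf (nat_lit 304)) (.leaf (nat_lit 3))) (.node (nat_lit 84202) (.leaf (nat_lit 768)) (.leaf (nat_lit 740)))))) (.node (nat_lit 87363) (.node (nat_lit 85162) (.node (nat_lit 84942) (.leaf (nat_lit 7)) (.node (nat_lit 85005) (.leaf (nat_lit 658)) (.leaf (nat_lit 160)))) (.node (nat_lit 85625) (.node (nat_lit 85179) (.leaf (nat_lit 145)) (.leaf (nat_lit 402))) (.node (nat_lit 86835) (.leaf (nat_lit 674)) (.leaf (nat_lit 768))))) (.node (nat_lit 89169) (.node (nat_lit 89032) (.node (nat_lit 88591) (.leaf (nat_lit 288)) (.leaf (nat_lit 948))) (.node (nat_lit 89069) (.leaf (nat_lit 944)) (.leaf (nat_lit 772)))) (.node (nat_lit 90131) (.node (nat_lit 90097)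 (.leaf (nat_lit 736)) (.leaf (nat_lit 770))) (.node (nat_lit 90403) (.leaf (nat_lit 2)) (.leaf (nat_lit 26)))))))) (.node (nat_lit 105057) (.node (nat_lit 98133) (.node (nat_lit 96157) (.node (nat_lit 94162) (.node (nat_lit 91984) (.leaf (nat_lit 400)) (.node (nat_lit 92007) (.leaf (nat_lit 26)) (.leaf (nat_lit 290)))) (.node (nat_lit 95963) (.node (nat_lit 94598) (.leaf (nat_lit 276)) (.leaf (nat_lit 674))) (.node (nat_lit 96051) (.leaf (nat_lit 784)) (.leaf (nat_lit 656))))) (.node (nat_lit 97193) (.node (nat_lit 96860) (.leaf (nat_lit 8)) (.node (nat_lit 96906) (.leaf (nat_lit 402)) (.leaf (nat_lit 786)))) (.node (nat_lit 97917) (.node (nat_lit 97559) (.leaf (nat_lit 48)) (.leaf (nat_lit 656))) (.node (nat_lit 98005) (.leaf (nat_lit 785)) (.leaf (nat_lit 948)))))) (.node (nat_lit 101782) (.node (nat_lit 99943) (.node (nat_lit 98303) (.leaf (nat_lit 709)) (.node (nat_lit 98420) (.leaf (nat_lit 2)) (.leaf (nat_lit 948)))) (.node (nat_lit 101258) (.node (nat_lit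 100697) (.leaf (nat_lit 3)) (.leaf (nat_lit 848))) (.node (nat_lit 101547) (.leaf (nat_lit 400)) (.leaf (nat_lit 848))))) (.node (nat_lit 103205) (.node (nat_lit 102728) (.node (nat_lit 102263) (.leaf (nat_lit 674)) (.leaf (nat_lit 656))) (.node (nat_lit 102903) (.leaf (nat_lit 770)) (.leaf (nat_lit 658)))) (.node (nat_lit 104477) (.node (nat_lit 103801) (.leaf (nat_lit 944)) (.leaf (nat_lit 48))) (.node (nat_lit 104931) (.leaf (nat_lit 8)) (.leaf (nat_lit 453))))))) (.node (nat_lit 113018) (.node (nat_lit 110059) (.node (nat_lit 107940) (.node (nat_lit 105335) (.leaf (nat_lit 400)) (.node (nat_lit 106642) (.leaf (nat_lit 7)) (.leaf (nat_lit 786)))) (.node (nat_lit 109039) (.node (nat_lit 108415) (.leaf (nat_lit 772)) (.leaf (nat_lit 672))) (.node (nat_lit 109307) (.leaf (nat_lit 674)) (.leaf (nat_lit 7))))) (.node (nat_lit 111100) (.node (nat_lit 110785) (.leaf (nat_lit 640)) (.node (nat_lit 110842) (.leaf (nat_lit 948)) (.leaf (nat_lit 292)))) (.node (nat_lit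 111829) (.node (nat_lit 111448) (.leaf (nat_lit 7)) (.leaf (nat_lit 849))) (.node (nat_lit 112827) (.leaf (nat_lit 3)) (.leaf (nat_lit 160)))))) (.node (nat_lit 115983) (.node (nat_lit 115257) (.node (nat_lit 113349) (.leaf (nat_lit 290)) (.node (nat_lit 114726) (.leaf (nat_lit 160)) (.leaf (nat_lit 400)))) (.node (nat_lit 115792) (.node (nat_lit 115600) (.leaf (nat_lit 2)) (.leaf (nat_lit 658))) (.node (nat_lit 115886) (.leaf (nat_lit 304)) (.leaf (nat_lit 786))))) (.node (nat_lit 117927) (.node (nat_lit 116697) (.node (nat_lit 116284) (.leaf (nat_lit 0)) (.leaf (nat_lit 160))) (.node (nat_lit 117402) (.leaf (nat_lit 2)) (.leaf (nat_lit 674)))) (.node (nat_lit 118886) (.node (nat_lit 118290) (.leaf (nat_lit 770)) (.leaf (nat_lit 544))) (.node (nat_lit 119253) (.leaf (nat_lit 650)) (.leaf (nat_lit 292)))))))))) (.node (nat_lit 169988) (.node (nat_lit 144885) (.node (nat_lit 131900) (.node (nat_lit 124379) (.node (nat_lit 122937) (.node (nat_lit 120648) (.node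 (nat_lit 120391) (.leaf (nat_lit 26)) (.node (nat_lit 120631) (.leaf (nat_lit 3)) (.leaf (nat_lit 453)))) (.node (nat_lit 121517) (.node (nat_lit 120762) (.leaf (nat_lit 7)) (.leaf (nat_lit 709))) (.node (nat_lit 122739) (.leaf (nat_lit 48)) (.leaf (nat_lit 402))))) (.node (nat_lit 123741) (.node (nat_lit 123067) (.leaf (nat_lit 160)) (.node (nat_lit 123739) (.leaf (nat_lit 709)) (.leaf (nat_lit 48)))) (.node (nat_lit 123940) (.node (nat_lit 123743) (.leaf (nat_lit 852)) (.leaf (nat_lit 788))) (.node (nat_lit 124131) (.leaf (nat_lit 544)) (.leaf (nat_lit 147)))))) (.node (nat_lit 128274) (.node (nat_lit 125866) (.node (nat_lit 124927) (.leaf (nat_lit 650)) (.node (nat_lit 125591) (.leaf (nat_lit 160)) (.leaf (nat_lit 2)))) (.node (nat_lit 127754) (.node (nat_lit 126973) (.leaf (nat_lit 370)) (.leaf (nat_lit 672))) (.node (nat_lit 128229) (.leaf (nat_lit 402)) (.leaf (nat_lit 292))))) (.node (nat_lit 130410) (.node (nat_lit 128504) (.leaf (nat_lit 453)) (.node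 (nat_lit 129676) (.leaf (nat_lit 7)) (.leaf (nat_lit 784)))) (.node (nat_lit 130620) (.node (nat_lit 130569) (.leaf (nat_lit 402)) (.leaf (nat_lit 944))) (.node (nat_lit 131409) (.leaf (nat_lit 7)) (.leaf (nat_lit 160))))))) (.node (nat_lit 137472) (.node (nat_lit 133387) (.node (nat_lit 132334) (.node (nat_lit 132167) (.leaf (nat_lit 8)) (.node (nat_lit 132214) (.leaf (nat_lit 292)) (.leaf (nat_lit 160)))) (.node (nat_lit 132865) (.node (nat_lit 132537) (.leaf (nat_lit 292)) (.leaf (nat_lit 144))) (.node (nat_lit 133206) (.leaf (nat_lit 3)) (.leaf (nat_lit 658))))) (.node (nat_lit 133773) (.node (nat_lit 133484) (.leaf (nat_lit 7)) (.node (nat_lit 133628) (.leaf (nat_lit 3)) (.leaf (nat_lit 26)))) (.node (nat_lit 136308) (.node (nat_lit 134676) (.leaf (nat_lit 656)) (.leaf (nat_lit 8))) (.node (nat_lit 137061) (.leaf (nat_lit 2)) (.leaf (nat_lit 7)))))) (.node (nat_lit 142100) (.node (nat_lit 139581) (.node (nat_lit 138171) (.leaf (nat_lit 48)) (.node (nat_lit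 138413) (.leaf (nat_lit 160)) (.leaf (nat_lit 7)))) (.node (nat_lit 140861) (.node (nat_lit 140844) (.leaf (nat_lit 948)) (.leaf (nat_lit 2))) (.node (nat_lit 141334) (.leaf (nat_lit 784)) (.leaf (nat_lit 0))))) (.node (nat_lit 143484) (.node (nat_lit 143019) (.node (nat_lit 142940) (.leaf (nat_lit 272)) (.leaf (nat_lit 944))) (.node (nat_lit 143141) (.leaf (nat_lit 26)) (.leaf (nat_lit 788)))) (.node (nat_lit 143957) (.node (nat_lit 143512) (.leaf (nat_lit 656)) (.leaf (nat_lit 881))) (.node (nat_lit 144283) (.leaf (nat_lit 320)) (.leaf (nat_lit 768)))))))) (.node (nat_lit 159013) (.node (nat_lit 150580) (.node (nat_lit 148422) (.node (nat_lit 147635) (.node (nat_lit 145047) (.leaf (nat_lit 772)) (.node (nat_lit 145099) (.leaf (nat_lit 0)) (.leaf (nat_lit 160)))) (.node (nat_lit 148215) (.node (nat_lit 147701) (.leaf (nat_lit 2)) (.leaf (nat_lit 544))) (.node (nat_lit 148378) (.leaf (nat_lit 658)) (.leaf (nat_lit 288))))) (.node (nat_lit 149385) (.node (nat_lit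 148590) (.leaf (nat_lit 880)) (.node (nat_lit 149145) (.leaf (nat_lit 2)) (.leaf (nat_lit 546)))) (.node (nat_lit 149598) (.node (nat_lit 149557) (.leaf (nat_lit 160)) (.leaf (nat_lit 788))) (.node (nat_lit 150181) (.leaf (nat_lit 786)) (.leaf (nat_lit 770)))))) (.node (nat_lit 154024) (.node (nat_lit 152679) (.node (nat_lit 151289) (.leaf (nat_lit 160)) (.node (nat_lit 152572) (.leaf (nat_lit 672)) (.leaf (nat_lit 784)))) (.node (nat_lit 153749) (.node (nat_lit 153506) (.leaf (nat_lit 768)) (.leaf (nat_lit 544))) (.node (nat_lit 153845) (.leaf (nat_lit 48)) (.leaf (nat_lit 2))))) (.node (nat_lit 156690) (.node (nat_lit 156619) (.node (nat_lit 154091) (.leaf (nat_lit 3)) (.leaf (nat_lit 453))) (.node (nat_lit 156635) (.leaf (nat_lit 288)) (.leaf (nat_lit 772)))) (.node (nat_lit 157406) (.node (nat_lit 157101) (.leaf (nat_lit 656)) (.leaf (nat_lit 272))) (.node (nat_lit 157941) (.leaf (nat_lit 688)) (.leaf (nat_lit 0))))))) (.node (nat_lit 163036) (.node (nat_lit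 160245) (.node (nat_lit 159297) (.node (nat_lit 159141) (.leaf (nat_lit 272)) (.node (nat_lit 159180) (.leaf (nat_lit 288)) (.leaf (nat_lit 948)))) (.node (nat_lit 159427) (.node (nat_lit 159378) (.leaf (nat_lit 546)) (.leaf (nat_lit 7))) (.node (nat_lit 159818) (.leaf (nat_lit 658)) (.leaf (nat_lit 785))))) (.node (nat_lit 161233) (.node (nat_lit 160550) (.leaf (nat_lit 705)) (.node (nat_lit 160641) (.leaf (nat_lit 544)) (.leaf (nat_lit 704)))) (.node (nat_lit 161274) (.node (nat_lit 161251) (.leaf (nat_lit 272)) (.leaf (nat_lit 2))) (.node (nat_lit 161771) (.leaf (nat_lit 0)) (.leaf (nat_lit 705)))))) (.node (nat_lit 167104) (.node (nat_lit 164136) (.node (nat_lit 163097) (.leaf (nat_lit 2)) (.node (nat_lit 163538) (.leaf (nat_lit 768)) (.leaf (nat_lit 48)))) (.node (nat_lit 165766) (.node (nat_lit 165263) (.leaf (nat_lit 944)) (.leaf (nat_lit 48))) (.node (nat_lit 166874) (.leaf (nat_lit 7)) (.leaf (nat_lit 290))))) (.node (nat_lit 169073) (.node (nat_lit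 168550) (.node (nat_lit 167876) (.leaf (nat_lit 402)) (.leaf (nat_lit 48))) (.node (nat_lit 168724) (.leaf (nat_lit 288)) (.leaf (nat_lit 656)))) (.node (nat_lit 169803) (.node (nat_lit 169736) (.leaf (nat_lit 650)) (.leaf (nat_lit 26))) (.node (nat_lit 169941) (.leaf (nat_lit 160)) (.leaf (nat_lit 3))))))))) (.node (nat_lit 204190) (.node (nat_lit 189236) (.node (nat_lit 177503) (.node (nat_lit 173151) (.node (nat_lit 172127) (.node (nat_lit 171635) (.leaf (nat_lit 8)) (.node (nat_lit 171855) (.leaf (nat_lit 709)) (.leaf (nat_lit 944)))) (.node (nat_lit 172418) (.node (nat_lit 172314) (.leaf (nat_lit 3)) (.leaf (nat_lit 2))) (.node (nat_lit 172425) (.leaf (nat_lit 8)) (.leaf (nat_lit 849))))) (.node (nat_lit 176016) (.node (nat_lit 174281) (.leaf (nat_lit 160)) (.node (nat_lit 174797) (.leaf (nat_lit 26)) (.leaf (nat_lit 3)))) (.node (nat_lit 176758) (.node (nat_lit 176556) (.leaf (nat_lit 945)) (.leaf (nat_lit 786))) (.node (nat_lit 177164) (.leaf (nat_lit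 160)) (.leaf (nat_lit 8)))))) (.node (nat_lit 184919) (.node (nat_lit 178928) (.node (nat_lit 177816) (.leaf (nat_lit 768)) (.node (nat_lit 177934) (.leaf (nat_lit 400)) (.leaf (nat_lit 513)))) (.node (nat_lit 182031) (.node (nat_lit 180030) (.leaf (nat_lit 849)) (.leaf (nat_lit 2))) (.node (nat_lit 182985) (.leaf (nat_lit 944)) (.leaf (nat_lit 160))))) (.node (nat_lit 187602) (.node (nat_lit 185192) (.leaf (nat_lit 304)) (.node (nat_lit 186466) (.leaf (nat_lit 144)) (.leaf (nat_lit 672)))) (.node (nat_lit 188152) (.node (nat_lit 187617) (.leaf (nat_lit 546)) (.leaf (nat_lit 851))) (.node (nat_lit 188311) (.leaf (nat_lit 849)) (.leaf (nat_lit 3))))))) (.node (nat_lit 199159) (.node (nat_lit 194561) (.node (nat_lit 191421) (.node (nat_lit 190575) (.leaf (nat_lit 772)) (.node (nat_lit 190809) (.leaf (nat_lit 640)) (.leaf (nat_lit 660)))) (.node (nat_lit 192445) (.node (nat_lit 192017) (.leaf (nat_lit 3)) (.leaf (nat_lit 272))) (.node (nat_lit 193801) (.leaf (nat_lit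 2)) (.leaf (nat_lit 276))))) (.node (nat_lit 195496) (.node (nat_lit 194825) (.leaf (nat_lit 931)) (.node (nat_lit 195073) (.leaf (nat_lit 786)) (.leaf (nat_lit 709)))) (.node (nat_lit 197493) (.node (nat_lit 196244) (.leaf (nat_lit 530)) (.leaf (nat_lit 672))) (.node (nat_lit 198932) (.leaf (nat_lit 546)) (.leaf (nat_lit 770)))))) (.node (nat_lit 200956) (.node (nat_lit 200057) (.node (nat_lit 199842) (.leaf (nat_lit 7)) (.node (nat_lit 199935) (.leaf (nat_lit 544)) (.leaf (nat_lit 2)))) (.node (nat_lit 200522) (.node (nat_lit 200387) (.leaf (nat_lit 772)) (.leaf (nat_lit 160))) (.node (nat_lit 200685) (.leaf (nat_lit 3)) (.leaf (nat_lit 453))))) (.node (nat_lit 202101) (.node (nat_lit 201992) (.node (nat_lit 200991) (.leaf (nat_lit 946)) (.leaf (nat_lit 8))) (.node (nat_lit 202060) (.leaf (nat_lit 672)) (.leaf (nat_lit 2)))) (.node (nat_lit 202317) (.node (nat_lit 202112) (.leaf (nat_lit 288)) (.leaf (nat_lit 48))) (.node (nat_lit 202707) (.leaf (nat_lit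 786)) (.leaf (nat_lit 658)))))))) (.node (nat_lit 219323) (.node (nat_lit 211049) (.node (nat_lit 208034) (.node (nat_lit 205476) (.node (nat_lit 204833) (.leaf (nat_lit 292)) (.node (nat_lit 204928) (.leaf (nat_lit 7)) (.leaf (nat_lit 784)))) (.node (nat_lit 206059) (.node (nat_lit 205860) (.leaf (nat_lit 772)) (.leaf (nat_lit 736))) (.node (nat_lit 206119) (.leaf (nat_lit 658)) (.leaf (nat_lit 786))))) (.node (nat_lit 208885) (.node (nat_lit 208058) (.leaf (nat_lit 848)) (.node (nat_lit 208305) (.leaf (nat_lit 160)) (.leaf (nat_lit 7)))) (.node (nat_lit 208996) (.node (nat_lit 208949) (.leaf (nat_lit 705)) (.leaf (nat_lit 849))) (.node (nat_lit 210200) (.leaf (nat_lit 944)) (.leaf (nat_lit 400)))))) (.node (nat_lit 215686) (.node (nat_lit 213512) (.node (nat_lit 212327) (.leaf (nat_lit 8)) (.node (nat_lit 212559) (.leaf (nat_lit 290)) (.leaf (nat_lit 946)))) (.node (nat_lit 214089) (.node (nat_lit 213986) (.leaf (nat_lit 784)) (.leaf (nat_lit 0))) (.node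 (nat_lit 215384) (.leaf (nat_lit 788)) (.leaf (nat_lit 290))))) (.node (nat_lit 217683) (.node (nat_lit 217045) (.node (nat_lit 216388) (.leaf (nat_lit 849)) (.leaf (nat_lit 3))) (.node (nat_lit 217573) (.leaf (nat_lit 674)) (.leaf (nat_lit 544)))) (.node (nat_lit 217931) (.node (nat_lit 217787) (.leaf (nat_lit 145)) (.leaf (nat_lit 768))) (.node (nat_lit 217958) (.leaf (nat_lit 658)) (.leaf (nat_lit 256))))))) (.node (nat_lit 225796) (.node (nat_lit 220769) (.node (nat_lit 219803) (.node (nat_lit 219387) (.leaf (nat_lit 546)) (.node (nat_lit 219663) (.leaf (nat_lit 8)) (.leaf (nat_lit 160)))) (.node (nat_lit 220119) (.node (nat_lit 220028) (.leaf (nat_lit 307)) (.leaf (nat_lit 3))) (.node (nat_lit 220363) (.leaf (nat_lit 272)) (.leaf (nat_lit 784))))) (.node (nat_lit 223813) (.node (nat_lit 222978) (.leaf (nat_lit 292)) (.node (nat_lit 223237) (.leaf (nat_lit 2)) (.leaf (nat_lit 948)))) (.node (nat_lit 224190) (.node (nat_lit 224034) (.leaf (nat_lit 147))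 (.leaf (nat_lit 2))) (.node (nat_lit 225133) (.leaf (nat_lit 160)) (.leaf (nat_lit 320)))))) (.node (nat_lit 228870) (.node (nat_lit 227025) (.node (nat_lit 225935) (.leaf (nat_lit 656)) (.node (nat_lit 226023) (.leaf (nat_lit 26)) (.leaf (nat_lit 3)))) (.node (nat_lit 227885) (.node (nat_lit 227828) (.leaf (nat_lit 26)) (.leaf (nat_lit 788))) (.node (nat_lit 228624) (.leaf (nat_lit 948)) (.leaf (nat_lit 400))))) (.node (nat_lit 230567) (.node (nat_lit 230209) (.node (nat_lit 229625) (.leaf (nat_lit 48)) (.leaf (nat_lit 772))) (.node (nat_lit 230297) (.leaf (nat_lit 453)) (.leaf (nat_lit 2)))) (.node (nat_lit 232583) (.node (nat_lit 230672) (.leaf (nat_lit 3)) (.leaf (nat_lit 48))) (.node (nat_lit 232652) (.leaf (nat_lit 2)) (.leaf (nat_lit 48))))))))))) (.node (nat_lit 338931) (.node (nat_lit 282300) (.node (nat_lit 259334) (.node (nat_lit 248994) (.node (nat_lit 240748) (.node (nat_lit 236959) (.node (nat_lit 235259) (.node (nat_lit 233099) (.leaf (nat_lit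 8)) (.node (nat_lit 235009) (.leaf (nat_lit 881)) (.leaf (nat_lit 2)))) (.node (nat_lit 236131) (.node (nat_lit 235553) (.leaf (nat_lit 736)) (.leaf (nat_lit 48))) (.node (nat_lit 236419) (.leaf (nat_lit 3)) (.leaf (nat_lit 946))))) (.node (nat_lit 238293) (.node (nat_lit 237193) (.leaf (nat_lit 544)) (.node (nat_lit 237893) (.leaf (nat_lit 772)) (.leaf (nat_lit 789)))) (.node (nat_lit 238874) (.node (nat_lit 238790) (.leaf (nat_lit 400)) (.leaf (nat_lit 6))) (.node (nat_lit 239891) (.leaf (nat_lit 8)) (.leaf (nat_lit 852)))))) (.node (nat_lit 242945) (.node (nat_lit 241721) (.node (nat_lit 240951) (.leaf (nat_lit 656)) (.node (nat_lit 241703) (.leaf (nat_lit 546)) (.leaf (nat_lit 784)))) (.node (nat_lit 242441) (.node (nat_lit 242212) (.leaf (nat_lit 400)) (.leaf (nat_lit 544))) (.node (nat_lit 242463) (.leaf (nat_lit 453)) (.leaf (nat_lit 48))))) (.node (nat_lit 246145) (.node (nat_lit 245009) (.leaf (nat_lit 3)) (.node (nat_lit 245949) (.leaf (nat_lit 768))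 (.leaf (nat_lit 400)))) (.node (nat_lit 248481) (.node (nat_lit 246355) (.leaf (nat_lit 704)) (.leaf (nat_lit 650))) (.node (nat_lit 248931) (.leaf (nat_lit 290)) (.leaf (nat_lit 0))))))) (.node (nat_lit 253407) (.node (nat_lit 251253) (.node (nat_lit 249896) (.node (nat_lit 249202) (.leaf (nat_lit 3)) (.node (nat_lit 249830) (.leaf (nat_lit 688)) (.leaf (nat_lit 770)))) (.node (nat_lit 250520) (.node (nat_lit 250052) (.leaf (nat_lit 2)) (.leaf (nat_lit 8))) (.node (nat_lit 250779) (.leaf (nat_lit 772)) (.leaf (nat_lit 709))))) (.node (nat_lit 252133) (.node (nat_lit 251437) (.leaf (nat_lit 3)) (.node (nat_lit 252123) (.leaf (nat_lit 658)) (.leaf (nat_lit 3)))) (.node (nat_lit 252915) (.node (nat_lit 252681) (.leaf (nat_lit 650)) (.leaf (nat_lit 160))) (.node (nat_lit 253381) (.leaf (nat_lit 948)) (.leaf (nat_lit 688)))))) (.node (nat_lit 256744) (.node (nat_lit 255016) (.node (nat_lit 254739) (.leaf (nat_lit 788)) (.node (nat_lit 254970) (.leaf (nat_lit 709))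 (.leaf (nat_lit 497)))) (.node (nat_lit 256127) (.node (nat_lit 255177) (.leaf (nat_lit 288)) (.leaf (nat_lit 400))) (.node (nat_lit 256454) (.leaf (nat_lit 881)) (.leaf (nat_lit 2))))) (.node (nat_lit 257699) (.node (nat_lit 257441) (.node (nat_lit 257184) (.leaf (nat_lit 48)) (.leaf (nat_lit 3))) (.node (nat_lit 257685) (.leaf (nat_lit 784)) (.leaf (nat_lit 96)))) (.node (nat_lit 258341) (.node (nat_lit 257838) (.leaf (nat_lit 0)) (.leaf (nat_lit 160))) (.node (nat_lit 258526) (.leaf (nat_lit 0)) (.leaf (nat_lit 640)))))))) (.node (nat_lit 273537) (.node (nat_lit 264265) (.node (nat_lit 261341) (.node (nat_lit 260301) (.node (nat_lit 259832) (.leaf (nat_lit 2)) (.node (nat_lit 260220) (.leaf (nat_lit 674)) (.leaf (nat_lit 400)))) (.node (nat_lit 260511) (.node (nat_lit 260504) (.leaf (nat_lit 292)) (.leaf (nat_lit 2))) (.node (nat_lit 260966) (.leaf (nat_lit 8)) (.leaf (nat_lit 3))))) (.node (nat_lit 262640) (.node (nat_lit 261592) (.leaf (nat_lit 8)) (.node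 (nat_lit 262639) (.leaf (nat_lit 2)) (.leaf (nat_lit 768)))) (.node (nat_lit 263427) (.node (nat_lit 263226) (.leaf (nat_lit 660)) (.leaf (nat_lit 640))) (.node (nat_lit 263867) (.leaf (nat_lit 48)) (.leaf (nat_lit 8)))))) (.node (nat_lit 269136) (.node (nat_lit 266105) (.node (nat_lit 264420) (.leaf (nat_lit 26)) (.node (nat_lit 265662) (.leaf (nat_lit 656)) (.leaf (nat_lit 453)))) (.node (nat_lit 268202) (.node (nat_lit 268155) (.leaf (nat_lit 3)) (.leaf (nat_lit 0))) (.node (nat_lit 269022) (.leaf (nat_lit 931)) (.leaf (nat_lit 709))))) (.node (nat_lit 270791) (.node (nat_lit 270415) (.node (nat_lit 269649) (.leaf (nat_lit 292)) (.leaf (nat_lit 709))) (.node (nat_lit 270478) (.leaf (nat_lit 305)) (.leaf (nat_lit 160)))) (.node (nat_lit 272068) (.node (nat_lit 271141) (.leaf (nat_lit 674)) (.leaf (nat_lit 2))) (.node (nat_lit 273326) (.leaf (nat_lit 881)) (.leaf (nat_lit 3))))))) (.node (nat_lit 278303) (.node (nat_lit 275399) (.node (nat_lit 274664) (.node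 (nat_lit 273668) (.leaf (nat_lit 7)) (.node (nat_lit 274260) (.leaf (nat_lit 402)) (.leaf (nat_lit 2)))) (.node (nat_lit 275184) (.node (nat_lit 274839) (.leaf (nat_lit 160)) (.leaf (nat_lit 784))) (.node (nat_lit 275185) (.leaf (nat_lit 945)) (.leaf (nat_lit 768))))) (.node (nat_lit 277423) (.node (nat_lit 276185) (.leaf (nat_lit 288)) (.node (nat_lit 276558) (.leaf (nat_lit 26)) (.leaf (nat_lit 709)))) (.node (nat_lit 278121) (.node (nat_lit 277579) (.leaf (nat_lit 2)) (.leaf (nat_lit 786))) (.node (nat_lit 278212) (.leaf (nat_lit 948)) (.leaf (nat_lit 3)))))) (.node (nat_lit 280178) (.node (nat_lit 279010) (.node (nat_lit 278377) (.leaf (nat_lit 689)) (.node (nat_lit 278741) (.leaf (nat_lit 3)) (.leaf (nat_lit 2)))) (.node (nat_lit 279653) (.node (nat_lit 279244) (.leaf (nat_lit 944)) (.leaf (nat_lit 881))) (.node (nat_lit 280177) (.leaf (nat_lit 2)) (.leaf (nat_lit 8))))) (.node (nat_lit 280993) (.node (nat_lit 280860) (.node (nat_lit 280396) (.leaf (nat_lit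 0)) (.leaf (nat_lit 160))) (.node (nat_lit 280957) (.leaf (nat_lit 7)) (.leaf (nat_lit 2)))) (.node (nat_lit 281284) (.node (nat_lit 280999) (.leaf (nat_lit 946)) (.leaf (nat_lit 546))) (.node (nat_lit 281924) (.leaf (nat_lit 944)) (.leaf (nat_lit 772))))))))) (.node (nat_lit 311205) (.node (nat_lit 293819) (.node (nat_lit 287112) (.node (nat_lit 284071) (.node (nat_lit 283067) (.node (nat_lit 282345) (.leaf (nat_lit 7)) (.node (nat_lit 282708) (.leaf (nat_lit 3)) (.leaf (nat_lit 656)))) (.node (nat_lit 283796) (.node (nat_lit 283314) (.leaf (nat_lit 160)) (.leaf (nat_lit 2))) (.node (nat_lit 284028) (.leaf (nat_lit 453)) (.leaf (nat_lit 948))))) (.node (nat_lit 286108) (.node (nat_lit 284586) (.leaf (nat_lit 788)) (.node (nat_lit 285334) (.leaf (nat_lit 772)) (.leaf (nat_lit 288)))) (.node (nat_lit 286420) (.node (nat_lit 286246) (.leaf (nat_lit 400)) (.leaf (nat_lit 784))) (.node (nat_lit 286498) (.leaf (nat_lit 656)) (.leaf (nat_lit 400)))))) (.node (nat_lit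 291241) (.node (nat_lit 289560) (.node (nat_lit 287472) (.leaf (nat_lit 144)) (.node (nat_lit 288043) (.leaf (nat_lit 290)) (.leaf (nat_lit 784)))) (.node (nat_lit 290573) (.node (nat_lit 290448) (.leaf (nat_lit 48)) (.leaf (nat_lit 2))) (.node (nat_lit 291183) (.leaf (nat_lit 288)) (.leaf (nat_lit 26))))) (.node (nat_lit 293511) (.node (nat_lit 291261) (.leaf (nat_lit 288)) (.node (nat_lit 291696) (.leaf (nat_lit 48)) (.leaf (nat_lit 0)))) (.node (nat_lit 293669) (.node (nat_lit 293620) (.leaf (nat_lit 8)) (.leaf (nat_lit 7))) (.node (nat_lit 293688) (.leaf (nat_lit 709)) (.leaf (nat_lit 785))))))) (.node (nat_lit 304399) (.node (nat_lit 300916) (.node (nat_lit 297547) (.node (nat_lit 294024) (.leaf (nat_lit 3)) (.node (nat_lit 295341) (.leaf (nat_lit 788)) (.leaf (nat_lit 945)))) (.node (nat_lit 298633) (.node (nat_lit 297909) (.leaf (nat_lit 2)) (.leaf (nat_lit 848))) (.node (nat_lit 300838) (.leaf (nat_lit 656)) (.leaf (nat_lit 3))))) (.node (nat_lit 302566)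 (.node (nat_lit 300955) (.leaf (nat_lit 674)) (.node (nat_lit 300956) (.leaf (nat_lit 2)) (.leaf (nat_lit 3)))) (.node (nat_lit 304001) (.node (nat_lit 303370) (.leaf (nat_lit 320)) (.leaf (nat_lit 709))) (.node (nat_lit 304298) (.leaf (nat_lit 772)) (.leaf (nat_lit 546)))))) (.node (nat_lit 307706) (.node (nat_lit 305766) (.node (nat_lit 305054) (.leaf (nat_lit 26)) (.node (nat_lit 305336) (.leaf (nat_lit 784)) (.leaf (nat_lit 881)))) (.node (nat_lit 306163) (.node (nat_lit 305812) (.leaf (nat_lit 658)) (.leaf (nat_lit 160))) (.node (nat_lit 306479) (.leaf (nat_lit 497)) (.leaf (nat_lit 305))))) (.node (nat_lit 308919) (.node (nat_lit 308767) (.node (nat_lit 307817) (.leaf (nat_lit 26)) (.leaf (nat_lit 48))) (.node (nat_lit 308773) (.leaf (nat_lit 3)) (.leaf (nat_lit 705)))) (.node (nat_lit 310551) (.node (nat_lit 309934) (.leaf (nat_lit 2)) (.leaf (nat_lit 8))) (.node (nat_lit 310871) (.leaf (nat_lit 2)) (.leaf (nat_lit 160)))))))) (.node (nat_lit 325411)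 (.node (nat_lit 318352) (.node (nat_lit 314881) (.node (nat_lit 313747) (.node (nat_lit 312162) (.leaf (nat_lit 320)) (.node (nat_lit 313212) (.leaf (nat_lit 290)) (.leaf (nat_lit 851)))) (.node (nat_lit 314174) (.node (nat_lit 314005) (.leaf (nat_lit 96)) (.leaf (nat_lit 7))) (.node (nat_lit 314354) (.leaf (nat_lit 3)) (.leaf (nat_lit 48))))) (.node (nat_lit 316698) (.node (nat_lit 315119) (.leaf (nat_lit 7)) (.node (nat_lit 316317) (.leaf (nat_lit 402)) (.leaf (nat_lit 768)))) (.node (nat_lit 317607) (.node (nat_lit 317028) (.leaf (nat_lit 290)) (.leaf (nat_lit 48))) (.node (nat_lit 317887) (.leaf (nat_lit 160)) (.leaf (nat_lit 48)))))) (.node (nat_lit 321574) (.node (nat_lit 320321) (.node (nat_lit 318555) (.leaf (nat_lit 26)) (.node (nat_lit 318673) (.leaf (nat_lit 849)) (.leaf (nat_lit 650)))) (.node (nat_lit 321009) (.node (nat_lit 320571) (.leaf (nat_lit 946)) (.leaf (nat_lit 160))) (.node (nat_lit 321023) (.leaf (nat_lit 674)) (.leaf (nat_lit 672)))))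 (.node (nat_lit 322811) (.node (nat_lit 322368) (.node (nat_lit 321957) (.leaf (nat_lit 3)) (.leaf (nat_lit 2))) (.node (nat_lit 322445) (.leaf (nat_lit 400)) (.leaf (nat_lit 3)))) (.node (nat_lit 323915) (.node (nat_lit 323672) (.leaf (nat_lit 26)) (.leaf (nat_lit 672))) (.node (nat_lit 324620) (.leaf (nat_lit 453)) (.leaf (nat_lit 3))))))) (.node (nat_lit 333372) (.node (nat_lit 329283) (.node (nat_lit 326798) (.node (nat_lit 325792) (.leaf (nat_lit 736)) (.node (nat_lit 326583) (.leaf (nat_lit 160)) (.leaf (nat_lit 8)))) (.node (nat_lit 327104) (.node (nat_lit 326911) (.leaf (nat_lit 402)) (.leaf (nat_lit 3))) (.node (nat_lit 329181) (.leaf (nat_lit 650)) (.leaf (nat_lit 2))))) (.node (nat_lit 331755) (.node (nat_lit 329990) (.leaf (nat_lit 288)) (.node (nat_lit 331714) (.leaf (nat_lit 3)) (.leaf (nat_lit 656)))) (.node (nat_lit 333095) (.node (nat_lit 331841) (.leaf (nat_lit 26)) (.leaf (nat_lit 292))) (.node (nat_lit 333345) (.leaf (nat_lit 3)) (.leaf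 (nat_lit 48)))))) (.node (nat_lit 335815) (.node (nat_lit 334280) (.node (nat_lit 334156) (.leaf (nat_lit 3)) (.node (nat_lit 334188) (.leaf (nat_lit 7)) (.leaf (nat_lit 788)))) (.node (nat_lit 334778) (.node (nat_lit 334369) (.leaf (nat_lit 7)) (.leaf (nat_lit 3))) (.node (nat_lit 335693) (.leaf (nat_lit 370)) (.leaf (nat_lit 2))))) (.node (nat_lit 337787) (.node (nat_lit 336343) (.node (nat_lit 336025) (.leaf (nat_lit 944)) (.leaf (nat_lit 946))) (.node (nat_lit 336652) (.leaf (nat_lit 48)) (.leaf (nat_lit 160)))) (.node (nat_lit 338103) (.node (nat_lit 337972) (.leaf (nat_lit 784)) (.leaf (nat_lit 0))) (.node (nat_lit 338930) (.leaf (nat_lit 26)) (.leaf (nat_lit 290)))))))))) (.node (nat_lit 386295) (.node (nat_lit 359887) (.node (nat_lit 349498) (.node (nat_lit 343789) (.node (nat_lit 341632) (.node (nat_lit 340698) (.node (nat_lit 338947) (.leaf (nat_lit 26)) (.node (nat_lit 340483) (.leaf (nat_lit 770)) (.leaf (nat_lit 3)))) (.node (nat_lit 341517) (.node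 (nat_lit 341292) (.leaf (nat_lit 8)) (.leaf (nat_lit 48))) (.node (nat_lit 341558) (.leaf (nat_lit 786)) (.leaf (nat_lit 48))))) (.node (nat_lit 343124) (.node (nat_lit 341673) (.leaf (nat_lit 292)) (.node (nat_lit 342086) (.leaf (nat_lit 160)) (.leaf (nat_lit 400)))) (.node (nat_lit 343434) (.node (nat_lit 343210) (.leaf (nat_lit 530)) (.leaf (nat_lit 768))) (.node (nat_lit 343624) (.leaf (nat_lit 3)) (.leaf (nat_lit 546)))))) (.node (nat_lit 347492) (.node (nat_lit 345280) (.node (nat_lit 344112) (.leaf (nat_lit 2)) (.node (nat_lit 344223) (.leaf (nat_lit 672)) (.leaf (nat_lit 498)))) (.node (nat_lit 345973) (.node (nat_lit 345305) (.leaf (nat_lit 2)) (.leaf (nat_lit 948))) (.node (nat_lit 346956) (.leaf (nat_lit 288)) (.leaf (nat_lit 3))))) (.node (nat_lit 348269) (.node (nat_lit 347499) (.leaf (nat_lit 48)) (.node (nat_lit 347999) (.leaf (nat_lit 8)) (.leaf (nat_lit 658)))) (.node (nat_lit 348957) (.node (nat_lit 348905) (.leaf (nat_lit 0)) (.leaf (nat_lit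 944))) (.node (nat_lit 348990) (.leaf (nat_lit 160)) (.leaf (nat_lit 3))))))) (.node (nat_lit 356142) (.node (nat_lit 353571) (.node (nat_lit 351791) (.node (nat_lit 351252) (.leaf (nat_lit 8)) (.node (nat_lit 351467) (.leaf (nat_lit 674)) (.leaf (nat_lit 709)))) (.node (nat_lit 352574) (.node (nat_lit 352089) (.leaf (nat_lit 770)) (.leaf (nat_lit 160))) (.node (nat_lit 353465) (.leaf (nat_lit 2)) (.leaf (nat_lit 8))))) (.node (nat_lit 354746) (.node (nat_lit 354379) (.leaf (nat_lit 48)) (.node (nat_lit 354464) (.leaf (nat_lit 650)) (.leaf (nat_lit 3)))) (.node (nat_lit 354843) (.node (nat_lit 354749) (.leaf (nat_lit 276)) (.leaf (nat_lit 8))) (.node (nat_lit 355632) (.leaf (nat_lit 786)) (.leaf (nat_lit 2)))))) (.node (nat_lit 357475) (.node (nat_lit 357014) (.node (nat_lit 356763) (.leaf (nat_lit 7)) (.node (nat_lit 356975) (.leaf (nat_lit 290)) (.leaf (nat_lit 658)))) (.node (nat_lit 357392) (.node (nat_lit 357043) (.leaf (nat_lit 544)) (.leaf (nat_lit 2)))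 (.node (nat_lit 357418) (.leaf (nat_lit 3)) (.leaf (nat_lit 48))))) (.node (nat_lit 358584) (.node (nat_lit 357873) (.node (nat_lit 357561) (.leaf (nat_lit 948)) (.leaf (nat_lit 26))) (.node (nat_lit 358532) (.leaf (nat_lit 160)) (.leaf (nat_lit 784)))) (.node (nat_lit 359002) (.node (nat_lit 358877) (.leaf (nat_lit 672)) (.leaf (nat_lit 736))) (.node (nat_lit 359592) (.leaf (nat_lit 8)) (.leaf (nat_lit 2)))))))) (.node (nat_lit 374951) (.node (nat_lit 364428) (.node (nat_lit 363349) (.node (nat_lit 361615) (.node (nat_lit 359957) (.leaf (nat_lit 650)) (.node (nat_lit 360733) (.leaf (nat_lit 544)) (.leaf (nat_lit 785)))) (.node (nat_lit 362216) (.node (nat_lit 361763) (.leaf (nat_lit 290)) (.leaf (nat_lit 674))) (.node (nat_lit 362903) (.leaf (nat_lit 7)) (.leaf (nat_lit 26))))) (.node (nat_lit 364064) (.node (nat_lit 363618) (.leaf (nat_lit 2)) (.node (nat_lit 363799) (.leaf (nat_lit 160)) (.leaf (nat_lit 2)))) (.node (nat_lit 364236) (.node (nat_lit 364094)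 (.leaf (nat_lit 7)) (.leaf (nat_lit 160))) (.node (nat_lit 364362) (.leaf (nat_lit 7)) (.leaf (nat_lit 770)))))) (.node (nat_lit 366643) (.node (nat_lit 365320) (.node (nat_lit 364705) (.leaf (nat_lit 48)) (.node (nat_lit 365160) (.leaf (nat_lit 2)) (.leaf (nat_lit 160)))) (.node (nat_lit 366584) (.node (nat_lit 366558) (.leaf (nat_lit 656)) (.leaf (nat_lit 709))) (.node (nat_lit 366585) (.leaf (nat_lit 7)) (.leaf (nat_lit 931))))) (.node (nat_lit 369406) (.node (nat_lit 367797) (.node (nat_lit 367736) (.leaf (nat_lit 2)) (.leaf (nat_lit 160))) (.node (nat_lit 369297) (.leaf (nat_lit 48)) (.leaf (nat_lit 946)))) (.node (nat_lit 374101) (.node (nat_lit 373223) (.leaf (nat_lit 544)) (.leaf (nat_lit 160))) (.node (nat_lit 374289) (.leaf (nat_lit 2)) (.leaf (nat_lit 160))))))) (.node (nat_lit 381006) (.node (nat_lit 377175) (.node (nat_lit 375244) (.node (nat_lit 374975) (.leaf (nat_lit 513)) (.node (nat_lit 374996) (.leaf (nat_lit 48)) (.leaf (nat_lit 946))))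 (.node (nat_lit 376808) (.node (nat_lit 376568) (.leaf (nat_lit 292)) (.leaf (nat_lit 656))) (.node (nat_lit 376865) (.leaf (nat_lit 772)) (.leaf (nat_lit 26))))) (.node (nat_lit 378180) (.node (nat_lit 377195) (.leaf (nat_lit 3)) (.node (nat_lit 377249) (.leaf (nat_lit 48)) (.leaf (nat_lit 6)))) (.node (nat_lit 380081) (.node (nat_lit 379068) (.leaf (nat_lit 48)) (.leaf (nat_lit 290))) (.node (nat_lit 380111) (.leaf (nat_lit 650)) (.leaf (nat_lit 48)))))) (.node (nat_lit 383217) (.node (nat_lit 381793) (.node (nat_lit 381064) (.leaf (nat_lit 402)) (.node (nat_lit 381256) (.leaf (nat_lit 3)) (.leaf (nat_lit 689)))) (.node (nat_lit 382101) (.node (nat_lit 381952) (.leaf (nat_lit 2)) (.leaf (nat_lit 513))) (.node (nat_lit 382561) (.leaf (nat_lit 880)) (.leaf (nat_lit 674))))) (.node (nat_lit 383953) (.node (nat_lit 383425) (.node (nat_lit 383366) (.leaf (nat_lit 3)) (.leaf (nat_lit 705))) (.node (nat_lit 383541) (.leaf (nat_lit 26)) (.leaf (nat_lit 160)))) (.node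 (nat_lit 384787) (.node (nat_lit 384679) (.leaf (nat_lit 656)) (.leaf (nat_lit 546))) (.node (nat_lit 385377) (.leaf (nat_lit 770)) (.leaf (nat_lit 3))))))))) (.node (nat_lit 411026) (.node (nat_lit 399469) (.node (nat_lit 392737) (.node (nat_lit 388794) (.node (nat_lit 387159) (.node (nat_lit 386606) (.leaf (nat_lit 945)) (.node (nat_lit 387020) (.leaf (nat_lit 650)) (.leaf (nat_lit 788)))) (.node (nat_lit 387377) (.node (nat_lit 387374) (.leaf (nat_lit 7)) (.leaf (nat_lit 160))) (.node (nat_lit 388054) (.leaf (nat_lit 946)) (.leaf (nat_lit 145))))) (.node (nat_lit 390193) (.node (nat_lit 389262) (.leaf (nat_lit 305)) (.node (nat_lit 389865) (.leaf (nat_lit 3)) (.leaf (nat_lit 288)))) (.node (nat_lit 391550) (.node (nat_lit 391298) (.leaf (nat_lit 3)) (.leaf (nat_lit 8))) (.node (nat_lit 392137) (.leaf (nat_lit 788)) (.leaf (nat_lit 705)))))) (.node (nat_lit 397773) (.node (nat_lit 395314) (.node (nat_lit 393908) (.leaf (nat_lit 768)) (.node (nat_lit 394979)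 (.leaf (nat_lit 650)) (.leaf (nat_lit 770)))) (.node (nat_lit 396000) (.node (nat_lit 395674) (.leaf (nat_lit 3)) (.leaf (nat_lit 513))) (.node (nat_lit 397014) (.leaf (nat_lit 7)) (.leaf (nat_lit 3))))) (.node (nat_lit 398564) (.node (nat_lit 398330) (.leaf (nat_lit 290)) (.node (nat_lit 398361) (.leaf (nat_lit 48)) (.leaf (nat_lit 0)))) (.node (nat_lit 398748) (.node (nat_lit 398708) (.leaf (nat_lit 672)) (.leaf (nat_lit 0))) (.node (nat_lit 399188) (.leaf (nat_lit 2)) (.leaf (nat_lit 786))))))) (.node (nat_lit 404404) (.node (nat_lit 402045) (.node (nat_lit 400590) (.node (nat_lit 399916) (.leaf (nat_lit 160)) (.node (nat_lit 400187) (.leaf (nat_lit 3)) (.leaf (nat_lit 2)))) (.node (nat_lit 401227) (.node (nat_lit 400888) (.leaf (nat_lit 768)) (.leaf (nat_lit 946))) (.node (nat_lit 401569) (.leaf (nat_lit 3)) (.leaf (nat_lit 453))))) (.node (nat_lit 402747) (.node (nat_lit 402270) (.leaf (nat_lit 2)) (.node (nat_lit 402610) (.leaf (nat_lit 453)) (.leaf (nat_lit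 2)))) (.node (nat_lit 403504) (.node (nat_lit 402971) (.leaf (nat_lit 48)) (.leaf (nat_lit 453))) (.node (nat_lit 403748) (.leaf (nat_lit 788)) (.leaf (nat_lit 945)))))) (.node (nat_lit 408716) (.node (nat_lit 406825) (.node (nat_lit 405281) (.leaf (nat_lit 160)) (.node (nat_lit 405979) (.leaf (nat_lit 3)) (.leaf (nat_lit 400)))) (.node (nat_lit 407705) (.node (nat_lit 406944) (.leaf (nat_lit 3)) (.leaf (nat_lit 2))) (.node (nat_lit 408602) (.leaf (nat_lit 784)) (.leaf (nat_lit 948))))) (.node (nat_lit 408969) (.node (nat_lit 408814) (.node (nat_lit 408719) (.leaf (nat_lit 498)) (.leaf (nat_lit 788))) (.node (nat_lit 408925) (.leaf (nat_lit 8)) (.leaf (nat_lit 544)))) (.node (nat_lit 410398) (.node (nat_lit 409604) (.leaf (nat_lit 3)) (.leaf (nat_lit 944))) (.node (nat_lit 410582) (.leaf (nat_lit 709)) (.leaf (nat_lit 292)))))))) (.node (nat_lit 421494) (.node (nat_lit 417034) (.node (nat_lit 412556) (.node (nat_lit 411942) (.node (nat_lit 411318) (.leaf (nat_lit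 2)) (.node (nat_lit 411534) (.leaf (nat_lit 946)) (.leaf (nat_lit 453)))) (.node (nat_lit 412162) (.node (nat_lit 411972) (.leaf (nat_lit 3)) (.leaf (nat_lit 2))) (.node (nat_lit 412412) (.leaf (nat_lit 789)) (.leaf (nat_lit 3))))) (.node (nat_lit 414457) (.node (nat_lit 413894) (.leaf (nat_lit 658)) (.node (nat_lit 414335) (.leaf (nat_lit 160)) (.leaf (nat_lit 544)))) (.node (nat_lit 416280) (.node (nat_lit 414810) (.leaf (nat_lit 672)) (.leaf (nat_lit 2))) (.node (nat_lit 416945) (.leaf (nat_lit 740)) (.leaf (nat_lit 689)))))) (.node (nat_lit 419568) (.node (nat_lit 417855) (.node (nat_lit 417061) (.leaf (nat_lit 48)) (.node (nat_lit 417776) (.leaf (nat_lit 7)) (.leaf (nat_lit 770)))) (.node (nat_lit 419018) (.node (nat_lit 418898) (.leaf (nat_lit 704)) (.leaf (nat_lit 674))) (.node (nat_lit 419080) (.leaf (nat_lit 160)) (.leaf (nat_lit 768))))) (.node (nat_lit 420502) (.node (nat_lit 419822) (.node (nat_lit 419582) (.leaf (nat_lit 3)) (.leaf (nat_lit 658)))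 (.node (nat_lit 420086) (.leaf (nat_lit 48)) (.leaf (nat_lit 8)))) (.node (nat_lit 420863) (.node (nat_lit 420601) (.leaf (nat_lit 948)) (.leaf (nat_lit 546))) (.node (nat_lit 421228) (.leaf (nat_lit 849)) (.leaf (nat_lit 2))))))) (.node (nat_lit 426176) (.node (nat_lit 423836) (.node (nat_lit 422625) (.node (nat_lit 422431) (.leaf (nat_lit 704)) (.node (nat_lit 422593) (.leaf (nat_lit 2)) (.leaf (nat_lit 948)))) (.node (nat_lit 423324) (.node (nat_lit 423097) (.leaf (nat_lit 3)) (.leaf (nat_lit 145))) (.node (nat_lit 423387) (.leaf (nat_lit 944)) (.leaf (nat_lit 320))))) (.node (nat_lit 424318) (.node (nat_lit 423877) (.leaf (nat_lit 544)) (.node (nat_lit 424272) (.leaf (nat_lit 650)) (.leaf (nat_lit 3)))) (.node (nat_lit 424649) (.node (nat_lit 424349) (.leaf (nat_lit 48)) (.leaf (nat_lit 160))) (.node (nat_lit 425092) (.leaf (nat_lit 946)) (.leaf (nat_lit 880)))))) (.node (nat_lit 427368) (.node (nat_lit 426304) (.node (nat_lit 426212) (.leaf (nat_lit 945))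 (.node (nat_lit 426230) (.leaf (nat_lit 160)) (.leaf (nat_lit 546)))) (.node (nat_lit 427002) (.node (nat_lit 426492) (.leaf (nat_lit 8)) (.leaf (nat_lit 26))) (.node (nat_lit 427140) (.leaf (nat_lit 660)) (.leaf (nat_lit 945))))) (.node (nat_lit 429109) (.node (nat_lit 427932) (.node (nat_lit 427371) (.leaf (nat_lit 2)) (.leaf (nat_lit 160))) (.node (nat_lit 428632) (.leaf (nat_lit 370)) (.leaf (nat_lit 2)))) (.node (nat_lit 430496) (.node (nat_lit 430435) (.leaf (nat_lit 674)) (.leaf (nat_lit 3))) (.node (nat_lit 430658) (.leaf (nat_lit 400)) (.leaf (nat_lit 8))))))))))))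
noncomputable def NF_soc_t1 : ST := (.node (nat_lit 33491) (.node (nat_lit 15931) (.node (nat_lit 6787) (.node (nat_lit 2517) (.node (nat_lit 1215) (.node (nat_lit 452) (.node (nat_lit 261) (.node (nat_lit 248) (.leaf (nat_lit 160)) (.node (nat_lit 252) (.leaf (nat_lit 480)) (.leaf (nat_lit 336)))) (.node (nat_lit 356) (.node (nat_lit 331) (.leaf (nat_lit 160)) (.leaf (nat_lit 320))) (.node (nat_lit 382) (.leaf (nat_lit 160)) (.leaf (nat_lit 320))))) (.node (nat_lit 922) (.node (nat_lit 684) (.leaf (nat_lit 160)) (.node (nat_lit 760) (.leaf (nat_lit 336)) (.leaf (nat_lit 48)))) (.node (nat_lit 1130) (.node (nat_lit 947) (.leaf (nat_lit 800)) (.leaf (nat_lit 160))) (.node (nat_lit 1180) (.leaf (nat_lit 0)) (.leaf (nat_lit 160)))))) (.node (nat_lit 1503) (.node (nat_lit 1282) (.node (nat_lit 1240) (.leaf (nat_lit 480)) (.node (nat_lit 1267) (.leaf (nat_lit 160)) (.leaf (nat_lit 480)))) (.node (nat_lit 1488) (.node (nat_lit 1433) (.leaf (nat_lit 160)) (.leaf (nat_lit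 320))) (.node (nat_lit 1498) (.leaf (nat_lit 160)) (.leaf (nat_lit 480))))) (.node (nat_lit 1954) (.node (nat_lit 1517) (.leaf (nat_lit 800)) (.node (nat_lit 1683) (.leaf (nat_lit 160)) (.leaf (nat_lit 480)))) (.node (nat_lit 2249) (.node (nat_lit 2240) (.leaf (nat_lit 160)) (.leaf (nat_lit 320))) (.node (nat_lit 2486) (.leaf (nat_lit 160)) (.leaf (nat_lit 320))))))) (.node (nat_lit 4564) (.node (nat_lit 3449) (.node (nat_lit 3013) (.node (nat_lit 2760) (.leaf (nat_lit 160)) (.node (nat_lit 2847) (.leaf (nat_lit 480)) (.leaf (nat_lit 160)))) (.node (nat_lit 3267) (.node (nat_lit 3025) (.leaf (nat_lit 320)) (.leaf (nat_lit 160))) (.node (nat_lit 3277) (.leaf (nat_lit 320)) (.leaf (nat_lit 480))))) (.node (nat_lit 4042) (.node (nat_lit 3979) (.leaf (nat_lit 160)) (.node (nat_lit 3992) (.leaf (nat_lit 320)) (.leaf (nat_lit 480)))) (.node (nat_lit 4301) (.node (nat_lit 4173) (.leaf (nat_lit 160)) (.leaf (nat_lit 480))) (.node (nat_lit 4456) (.leaf (nat_lit 160))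 (.leaf (nat_lit 176)))))) (.node (nat_lit 6220) (.node (nat_lit 5584) (.node (nat_lit 4605) (.leaf (nat_lit 320)) (.node (nat_lit 5426) (.leaf (nat_lit 160)) (.leaf (nat_lit 336)))) (.node (nat_lit 5921) (.node (nat_lit 5893) (.leaf (nat_lit 160)) (.leaf (nat_lit 336))) (.node (nat_lit 6204) (.leaf (nat_lit 800)) (.leaf (nat_lit 160))))) (.node (nat_lit 6448) (.node (nat_lit 6237) (.leaf (nat_lit 320)) (.node (nat_lit 6381) (.leaf (nat_lit 160)) (.leaf (nat_lit 48)))) (.node (nat_lit 6522) (.node (nat_lit 6482) (.leaf (nat_lit 480)) (.leaf (nat_lit 160))) (.node (nat_lit 6577) (.leaf (nat_lit 320)) (.leaf (nat_lit 160)))))))) (.node (nat_lit 10573) (.node (nat_lit 9020) (.node (nat_lit 8083) (.node (nat_lit 7515) (.node (nat_lit 6793) (.leaf (nat_lit 336)) (.node (nat_lit 7229) (.leaf (nat_lit 160)) (.leaf (nat_lit 320)))) (.node (nat_lit 7657) (.node (nat_lit 7651) (.leaf (nat_lit 160)) (.leaf (nat_lit 480))) (.node (nat_lit 7847) (.leaf (nat_lit 320)) (.leaf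 (nat_lit 160))))) (.node (nat_lit 8886) (.node (nat_lit 8205) (.leaf (nat_lit 176)) (.node (nat_lit 8236) (.leaf (nat_lit 320)) (.leaf (nat_lit 160)))) (.node (nat_lit 8937) (.node (nat_lit 8911) (.leaf (nat_lit 640)) (.leaf (nat_lit 160))) (.node (nat_lit 8975) (.leaf (nat_lit 320)) (.leaf (nat_lit 480)))))) (.node (nat_lit 9629) (.node (nat_lit 9158) (.node (nat_lit 9044) (.leaf (nat_lit 160)) (.node (nat_lit 9130) (.leaf (nat_lit 176)) (.leaf (nat_lit 160)))) (.node (nat_lit 9561) (.node (nat_lit 9185) (.leaf (nat_lit 320)) (.leaf (nat_lit 160))) (.node (nat_lit 9574) (.leaf (nat_lit 48)) (.leaf (nat_lit 160))))) (.node (nat_lit 10107) (.node (nat_lit 9728) (.leaf (nat_lit 480)) (.node (nat_lit 10101) (.leaf (nat_lit 160)) (.leaf (nat_lit 320)))) (.node (nat_lit 10432) (.node (nat_lit 10341) (.leaf (nat_lit 160)) (.leaf (nat_lit 336))) (.node (nat_lit 10448) (.leaf (nat_lit 480)) (.leaf (nat_lit 320))))))) (.node (nat_lit 13036) (.node (nat_lit 11352) (.node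 (nat_lit 10937) (.node (nat_lit 10597) (.leaf (nat_lit 160)) (.node (nat_lit 10608) (.leaf (nat_lit 320)) (.leaf (nat_lit 160)))) (.node (nat_lit 11153) (.node (nat_lit 11133) (.leaf (nat_lit 480)) (.leaf (nat_lit 160))) (.node (nat_lit 11164) (.leaf (nat_lit 336)) (.leaf (nat_lit 160))))) (.node (nat_lit 12115) (.node (nat_lit 11461) (.leaf (nat_lit 320)) (.node (nat_lit 12049) (.leaf (nat_lit 160)) (.leaf (nat_lit 480)))) (.node (nat_lit 12400) (.node (nat_lit 12379) (.leaf (nat_lit 160)) (.leaf (nat_lit 16))) (.node (nat_lit 12799) (.leaf (nat_lit 160)) (.leaf (nat_lit 480)))))) (.node (nat_lit 14173) (.node (nat_lit 13275) (.node (nat_lit 13066) (.leaf (nat_lit 160)) (.node (nat_lit 13141) (.leaf (nat_lit 480)) (.leaf (nat_lit 160)))) (.node (nat_lit 13758) (.node (nat_lit 13390) (.leaf (nat_lit 320)) (.leaf (nat_lit 160))) (.node (nat_lit 13804) (.leaf (nat_lit 320)) (.leaf (nat_lit 160))))) (.node (nat_lit 15514) (.node (nat_lit 15114) (.node (nat_lit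 14192) (.leaf (nat_lit 176)) (.leaf (nat_lit 160))) (.node (nat_lit 15180) (.leaf (nat_lit 320)) (.leaf (nat_lit 160)))) (.node (nat_lit 15779) (.node (nat_lit 15678) (.leaf (nat_lit 48)) (.leaf (nat_lit 160))) (.node (nat_lit 15893) (.leaf (nat_lit 320)) (.leaf (nat_lit 160))))))))) (.node (nat_lit 24248) (.node (nat_lit 20714) (.node (nat_lit 18145) (.node (nat_lit 17458) (.node (nat_lit 16193) (.node (nat_lit 16044) (.leaf (nat_lit 320)) (.node (nat_lit 16182) (.leaf (nat_lit 160)) (.leaf (nat_lit 320)))) (.node (nat_lit 16880) (.node (nat_lit 16752) (.leaf (nat_lit 160)) (.leaf (nat_lit 480))) (.node (nat_lit 17451) (.leaf (nat_lit 160)) (.leaf (nat_lit 176))))) (.node (nat_lit 17947) (.node (nat_lit 17548) (.leaf (nat_lit 800)) (.node (nat_lit 17848) (.leaf (nat_lit 160)) (.leaf (nat_lit 320)))) (.node (nat_lit 18008) (.node (nat_lit 18001) (.leaf (nat_lit 160)) (.leaf (nat_lit 48))) (.node (nat_lit 18062) (.leaf (nat_lit 160)) (.leaf (nat_lit 320))))))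 (.node (nat_lit 19055) (.node (nat_lit 18519) (.node (nat_lit 18316) (.leaf (nat_lit 160)) (.node (nat_lit 18469) (.leaf (nat_lit 320)) (.leaf (nat_lit 160)))) (.node (nat_lit 18660) (.node (nat_lit 18539) (.leaf (nat_lit 320)) (.leaf (nat_lit 160))) (.node (nat_lit 18776) (.leaf (nat_lit 480)) (.leaf (nat_lit 336))))) (.node (nat_lit 19332) (.node (nat_lit 19277) (.leaf (nat_lit 160)) (.node (nat_lit 19295) (.leaf (nat_lit 640)) (.leaf (nat_lit 160)))) (.node (nat_lit 20374) (.node (nat_lit 19389) (.leaf (nat_lit 480)) (.leaf (nat_lit 160))) (.node (nat_lit 20417) (.leaf (nat_lit 176)) (.leaf (nat_lit 160))))))) (.node (nat_lit 22136) (.node (nat_lit 21241) (.node (nat_lit 20829) (.node (nat_lit 20743) (.leaf (nat_lit 320)) (.node (nat_lit 20763) (.leaf (nat_lit 160)) (.leaf (nat_lit 480)))) (.node (nat_lit 20883) (.node (nat_lit 20850) (.leaf (nat_lit 160)) (.leaf (nat_lit 176))) (.node (nat_lit 21178) (.leaf (nat_lit 160)) (.leaf (nat_lit 320))))) (.node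 (nat_lit 21831) (.node (nat_lit 21513) (.leaf (nat_lit 160)) (.node (nat_lit 21636) (.leaf (nat_lit 0)) (.leaf (nat_lit 160)))) (.node (nat_lit 21965) (.node (nat_lit 21926) (.leaf (nat_lit 320)) (.leaf (nat_lit 176))) (.node (nat_lit 22101) (.leaf (nat_lit 160)) (.leaf (nat_lit 320)))))) (.node (nat_lit 23537) (.node (nat_lit 23302) (.node (nat_lit 22505) (.leaf (nat_lit 160)) (.node (nat_lit 22810) (.leaf (nat_lit 336)) (.leaf (nat_lit 160)))) (.node (nat_lit 23449) (.node (nat_lit 23347) (.leaf (nat_lit 16)) (.leaf (nat_lit 320))) (.node (nat_lit 23533) (.leaf (nat_lit 160)) (.leaf (nat_lit 176))))) (.node (nat_lit 23932) (.node (nat_lit 23709) (.node (nat_lit 23576) (.leaf (nat_lit 480)) (.leaf (nat_lit 160))) (.node (nat_lit 23821) (.leaf (nat_lit 48)) (.leaf (nat_lit 160)))) (.node (nat_lit 24027) (.node (nat_lit 23982) (.leaf (nat_lit 480)) (.leaf (nat_lit 160))) (.node (nat_lit 24239) (.leaf (nat_lit 480)) (.leaf (nat_lit 160)))))))) (.node (nat_lit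 29548) (.node (nat_lit 27463) (.node (nat_lit 25833) (.node (nat_lit 24555) (.node (nat_lit 24327) (.leaf (nat_lit 336)) (.node (nat_lit 24466) (.leaf (nat_lit 160)) (.leaf (nat_lit 320)))) (.node (nat_lit 24758) (.node (nat_lit 24743) (.leaf (nat_lit 160)) (.leaf (nat_lit 480))) (.node (nat_lit 25710) (.leaf (nat_lit 160)) (.leaf (nat_lit 320))))) (.node (nat_lit 26996) (.node (nat_lit 26190) (.leaf (nat_lit 160)) (.node (nat_lit 26263) (.leaf (nat_lit 336)) (.leaf (nat_lit 160)))) (.node (nat_lit 27367) (.node (nat_lit 27113) (.leaf (nat_lit 800)) (.leaf (nat_lit 160))) (.node (nat_lit 27387) (.leaf (nat_lit 480)) (.leaf (nat_lit 336)))))) (.node (nat_lit 28273) (.node (nat_lit 27615) (.node (nat_lit 27465) (.leaf (nat_lit 320)) (.node (nat_lit 27484) (.leaf (nat_lit 480)) (.leaf (nat_lit 160)))) (.node (nat_lit 27908) (.node (nat_lit 27840) (.leaf (nat_lit 480)) (.leaf (nat_lit 336))) (.node (nat_lit 28217) (.leaf (nat_lit 320)) (.leaf (nat_lit 336)))))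 (.node (nat_lit 28909) (.node (nat_lit 28658) (.leaf (nat_lit 160)) (.node (nat_lit 28764) (.leaf (nat_lit 336)) (.leaf (nat_lit 176)))) (.node (nat_lit 29094) (.node (nat_lit 29007) (.leaf (nat_lit 160)) (.leaf (nat_lit 320))) (.node (nat_lit 29542) (.leaf (nat_lit 160)) (.leaf (nat_lit 320))))))) (.node (nat_lit 31014) (.node (nat_lit 30442) (.node (nat_lit 29852) (.node (nat_lit 29642) (.leaf (nat_lit 640)) (.node (nat_lit 29711) (.leaf (nat_lit 480)) (.leaf (nat_lit 160)))) (.node (nat_lit 30029) (.node (nat_lit 29870) (.leaf (nat_lit 480)) (.leaf (nat_lit 160))) (.node (nat_lit 30076) (.leaf (nat_lit 480)) (.leaf (nat_lit 160))))) (.node (nat_lit 30576) (.node (nat_lit 30492) (.leaf (nat_lit 336)) (.node (nat_lit 30512) (.leaf (nat_lit 160)) (.leaf (nat_lit 320)))) (.node (nat_lit 30817) (.node (nat_lit 30708) (.leaf (nat_lit 480)) (.leaf (nat_lit 160))) (.node (nat_lit 30825) (.leaf (nat_lit 320)) (.leaf (nat_lit 160)))))) (.node (nat_lit 32360) (.node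 (nat_lit 31489) (.node (nat_lit 31201) (.leaf (nat_lit 480)) (.node (nat_lit 31411) (.leaf (nat_lit 160)) (.leaf (nat_lit 336)))) (.node (nat_lit 31797) (.node (nat_lit 31720) (.leaf (nat_lit 160)) (.leaf (nat_lit 800))) (.node (nat_lit 31806) (.leaf (nat_lit 480)) (.leaf (nat_lit 160))))) (.node (nat_lit 32963) (.node (nat_lit 32716) (.node (nat_lit 32391) (.leaf (nat_lit 320)) (.leaf (nat_lit 160))) (.node (nat_lit 32769) (.leaf (nat_lit 320)) (.leaf (nat_lit 160)))) (.node (nat_lit 33340) (.node (nat_lit 33042) (.leaf (nat_lit 320)) (.leaf (nat_lit 160))) (.node (nat_lit 33482) (.leaf (nat_lit 480)) (.leaf (nat_lit 160)))))))))) (.node (nat_lit 46870) (.node (nat_lit 40826) (.node (nat_lit 37255) (.node (nat_lit 35133) (.node (nat_lit 34023) (.node (nat_lit 33649) (.node (nat_lit 33505) (.leaf (nat_lit 480)) (.node (nat_lit 33578) (.leaf (nat_lit 160)) (.leaf (nat_lit 336)))) (.node (nat_lit 33970) (.node (nat_lit 33874) (.leaf (nat_lit 160)) (.leaf (nat_lit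 320))) (.node (nat_lit 34011) (.leaf (nat_lit 160)) (.leaf (nat_lit 480))))) (.node (nat_lit 34405) (.node (nat_lit 34060) (.leaf (nat_lit 0)) (.node (nat_lit 34205) (.leaf (nat_lit 160)) (.leaf (nat_lit 320)))) (.node (nat_lit 34967) (.node (nat_lit 34786) (.leaf (nat_lit 160)) (.leaf (nat_lit 320))) (.node (nat_lit 35111) (.leaf (nat_lit 160)) (.leaf (nat_lit 320)))))) (.node (nat_lit 36221) (.node (nat_lit 35728) (.node (nat_lit 35271) (.leaf (nat_lit 160)) (.node (nat_lit 35347) (.leaf (nat_lit 480)) (.leaf (nat_lit 160)))) (.node (nat_lit 35946) (.node (nat_lit 35819) (.leaf (nat_lit 320)) (.leaf (nat_lit 160))) (.node (nat_lit 36070) (.leaf (nat_lit 320)) (.leaf (nat_lit 160))))) (.node (nat_lit 36981) (.node (nat_lit 36252) (.leaf (nat_lit 640)) (.node (nat_lit 36769) (.leaf (nat_lit 160)) (.leaf (nat_lit 320)))) (.node (nat_lit 37171) (.node (nat_lit 37148) (.leaf (nat_lit 480)) (.leaf (nat_lit 16))) (.node (nat_lit 37245) (.leaf (nat_lit 160)) (.leaf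 (nat_lit 48))))))) (.node (nat_lit 38685) (.node (nat_lit 38102) (.node (nat_lit 37428) (.node (nat_lit 37330) (.leaf (nat_lit 160)) (.node (nat_lit 37377) (.leaf (nat_lit 480)) (.leaf (nat_lit 320)))) (.node (nat_lit 37856) (.node (nat_lit 37553) (.leaf (nat_lit 0)) (.leaf (nat_lit 160))) (.node (nat_lit 37943) (.leaf (nat_lit 320)) (.leaf (nat_lit 160))))) (.node (nat_lit 38224) (.node (nat_lit 38208) (.leaf (nat_lit 336)) (.node (nat_lit 38215) (.leaf (nat_lit 160)) (.leaf (nat_lit 48)))) (.node (nat_lit 38298) (.node (nat_lit 38284) (.leaf (nat_lit 320)) (.leaf (nat_lit 160))) (.node (nat_lit 38306) (.leaf (nat_lit 480)) (.leaf (nat_lit 160)))))) (.node (nat_lit 39457) (.node (nat_lit 39006) (.node (nat_lit 38796) (.leaf (nat_lit 320)) (.node (nat_lit 38874) (.leaf (nat_lit 160)) (.leaf (nat_lit 320)))) (.node (nat_lit 39414) (.node (nat_lit 39301) (.leaf (nat_lit 160)) (.leaf (nat_lit 336))) (.node (nat_lit 39440) (.leaf (nat_lit 160)) (.leaf (nat_lit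 16))))) (.node (nat_lit 39996) (.node (nat_lit 39694) (.node (nat_lit 39536) (.leaf (nat_lit 160)) (.leaf (nat_lit 48))) (.node (nat_lit 39730) (.leaf (nat_lit 320)) (.leaf (nat_lit 336)))) (.node (nat_lit 40585) (.node (nat_lit 40553) (.leaf (nat_lit 160)) (.leaf (nat_lit 480))) (.node (nat_lit 40802) (.leaf (nat_lit 160)) (.leaf (nat_lit 320)))))))) (.node (nat_lit 43200) (.node (nat_lit 42222) (.node (nat_lit 41948) (.node (nat_lit 41718) (.node (nat_lit 41178) (.leaf (nat_lit 160)) (.node (nat_lit 41265) (.leaf (nat_lit 480)) (.leaf (nat_lit 160)))) (.node (nat_lit 41849) (.node (nat_lit 41781) (.leaf (nat_lit 320)) (.leaf (nat_lit 480))) (.node (nat_lit 41913) (.leaf (nat_lit 160)) (.leaf (nat_lit 320))))) (.node (nat_lit 42144) (.node (nat_lit 41991) (.leaf (nat_lit 176)) (.node (nat_lit 42081) (.leaf (nat_lit 320)) (.leaf (nat_lit 160)))) (.node (nat_lit 42202) (.node (nat_lit 42172) (.leaf (nat_lit 480)) (.leaf (nat_lit 320))) (.node (nat_lit 42221)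 (.leaf (nat_lit 160)) (.leaf (nat_lit 320)))))) (.node (nat_lit 42641) (.node (nat_lit 42445) (.node (nat_lit 42381) (.leaf (nat_lit 480)) (.node (nat_lit 42387) (.leaf (nat_lit 160)) (.leaf (nat_lit 336)))) (.node (nat_lit 42491) (.node (nat_lit 42485) (.leaf (nat_lit 160)) (.leaf (nat_lit 320))) (.node (nat_lit 42561) (.leaf (nat_lit 160)) (.leaf (nat_lit 336))))) (.node (nat_lit 42949) (.node (nat_lit 42822) (.leaf (nat_lit 160)) (.node (nat_lit 42841) (.leaf (nat_lit 320)) (.leaf (nat_lit 480)))) (.node (nat_lit 42977) (.node (nat_lit 42951) (.leaf (nat_lit 160)) (.leaf (nat_lit 320))) (.node (nat_lit 43150) (.leaf (nat_lit 160)) (.leaf (nat_lit 320))))))) (.node (nat_lit 44900) (.node (nat_lit 43962) (.node (nat_lit 43331) (.node (nat_lit 43243) (.leaf (nat_lit 160)) (.node (nat_lit 43275) (.leaf (nat_lit 480)) (.leaf (nat_lit 320)))) (.node (nat_lit 43568) (.node (nat_lit 43515) (.leaf (nat_lit 160)) (.leaf (nat_lit 48))) (.node (nat_lit 43955) (.leaf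 (nat_lit 160)) (.leaf (nat_lit 320))))) (.node (nat_lit 44291) (.node (nat_lit 44135) (.leaf (nat_lit 160)) (.node (nat_lit 44188) (.leaf (nat_lit 480)) (.leaf (nat_lit 160)))) (.node (nat_lit 44451) (.node (nat_lit 44375) (.leaf (nat_lit 48)) (.leaf (nat_lit 160))) (.node (nat_lit 44456) (.leaf (nat_lit 640)) (.leaf (nat_lit 160)))))) (.node (nat_lit 46264) (.node (nat_lit 45011) (.node (nat_lit 44914) (.leaf (nat_lit 336)) (.node (nat_lit 45009) (.leaf (nat_lit 160)) (.leaf (nat_lit 480)))) (.node (nat_lit 46189) (.node (nat_lit 46030) (.leaf (nat_lit 160)) (.leaf (nat_lit 320))) (.node (nat_lit 46239) (.leaf (nat_lit 480)) (.leaf (nat_lit 160))))) (.node (nat_lit 46658) (.node (nat_lit 46405) (.node (nat_lit 46303) (.leaf (nat_lit 480)) (.leaf (nat_lit 160))) (.node (nat_lit 46590) (.leaf (nat_lit 320)) (.leaf (nat_lit 160)))) (.node (nat_lit 46844) (.node (nat_lit 46660) (.leaf (nat_lit 48)) (.leaf (nat_lit 640))) (.node (nat_lit 46846) (.leaf (nat_lit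 160)) (.leaf (nat_lit 16))))))))) (.node (nat_lit 55144) (.node (nat_lit 51125) (.node (nat_lit 48863) (.node (nat_lit 47756) (.node (nat_lit 47260) (.node (nat_lit 47040) (.leaf (nat_lit 160)) (.node (nat_lit 47182) (.leaf (nat_lit 320)) (.leaf (nat_lit 160)))) (.node (nat_lit 47537) (.node (nat_lit 47321) (.leaf (nat_lit 480)) (.leaf (nat_lit 160))) (.node (nat_lit 47550) (.leaf (nat_lit 480)) (.leaf (nat_lit 160))))) (.node (nat_lit 48162) (.node (nat_lit 47777) (.leaf (nat_lit 320)) (.node (nat_lit 48055) (.leaf (nat_lit 160)) (.leaf (nat_lit 336)))) (.node (nat_lit 48717) (.node (nat_lit 48584) (.leaf (nat_lit 160)) (.leaf (nat_lit 320))) (.node (nat_lit 48799) (.leaf (nat_lit 160)) (.leaf (nat_lit 48)))))) (.node (nat_lit 49610) (.node (nat_lit 49274) (.node (nat_lit 49208) (.leaf (nat_lit 160)) (.node (nat_lit 49253) (.leaf (nat_lit 480)) (.leaf (nat_lit 160)))) (.node (nat_lit 49459) (.node (nat_lit 49296) (.leaf (nat_lit 480)) (.leaf (nat_lit 160)))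 (.node (nat_lit 49497) (.leaf (nat_lit 320)) (.leaf (nat_lit 160))))) (.node (nat_lit 50103) (.node (nat_lit 49622) (.leaf (nat_lit 176)) (.node (nat_lit 49939) (.leaf (nat_lit 160)) (.leaf (nat_lit 320)))) (.node (nat_lit 51059) (.node (nat_lit 51015) (.leaf (nat_lit 160)) (.leaf (nat_lit 320))) (.node (nat_lit 51108) (.leaf (nat_lit 160)) (.leaf (nat_lit 320))))))) (.node (nat_lit 53158) (.node (nat_lit 51841) (.node (nat_lit 51557) (.node (nat_lit 51257) (.leaf (nat_lit 160)) (.node (nat_lit 51286) (.leaf (nat_lit 336)) (.leaf (nat_lit 160)))) (.node (nat_lit 51690) (.node (nat_lit 51665) (.leaf (nat_lit 320)) (.leaf (nat_lit 480))) (.node (nat_lit 51816) (.leaf (nat_lit 160)) (.leaf (nat_lit 320))))) (.node (nat_lit 52812) (.node (nat_lit 52440) (.leaf (nat_lit 160)) (.node (nat_lit 52501) (.leaf (nat_lit 176)) (.leaf (nat_lit 160)))) (.node (nat_lit 52883) (.node (nat_lit 52841) (.leaf (nat_lit 800)) (.leaf (nat_lit 160))) (.node (nat_lit 52949) (.leaf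 (nat_lit 176)) (.leaf (nat_lit 336)))))) (.node (nat_lit 54408) (.node (nat_lit 54185) (.node (nat_lit 53532) (.leaf (nat_lit 160)) (.node (nat_lit 53624) (.leaf (nat_lit 320)) (.leaf (nat_lit 160)))) (.node (nat_lit 54309) (.node (nat_lit 54259) (.leaf (nat_lit 480)) (.leaf (nat_lit 160))) (.node (nat_lit 54384) (.leaf (nat_lit 480)) (.leaf (nat_lit 48))))) (.node (nat_lit 54593) (.node (nat_lit 54488) (.node (nat_lit 54476) (.leaf (nat_lit 160)) (.leaf (nat_lit 320))) (.node (nat_lit 54511) (.leaf (nat_lit 160)) (.leaf (nat_lit 320)))) (.node (nat_lit 55102) (.node (nat_lit 55055) (.leaf (nat_lit 160)) (.leaf (nat_lit 320))) (.node (nat_lit 55140) (.leaf (nat_lit 160)) (.leaf (nat_lit 320)))))))) (.node (nat_lit 59066) (.node (nat_lit 57111) (.node (nat_lit 55850) (.node (nat_lit 55338) (.node (nat_lit 55251) (.leaf (nat_lit 16)) (.node (nat_lit 55283) (.leaf (nat_lit 160)) (.leaf (nat_lit 480)))) (.node (nat_lit 55801) (.node (nat_lit 55765) (.leaf (nat_lit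 160)) (.leaf (nat_lit 320))) (.node (nat_lit 55815) (.leaf (nat_lit 336)) (.leaf (nat_lit 160))))) (.node (nat_lit 56406) (.node (nat_lit 55989) (.leaf (nat_lit 176)) (.node (nat_lit 56403) (.leaf (nat_lit 160)) (.leaf (nat_lit 320)))) (.node (nat_lit 56972) (.node (nat_lit 56961) (.leaf (nat_lit 160)) (.leaf (nat_lit 336))) (.node (nat_lit 57004) (.leaf (nat_lit 160)) (.leaf (nat_lit 336)))))) (.node (nat_lit 57590) (.node (nat_lit 57276) (.node (nat_lit 57152) (.leaf (nat_lit 160)) (.node (nat_lit 57164) (.leaf (nat_lit 320)) (.leaf (nat_lit 160)))) (.node (nat_lit 57417) (.node (nat_lit 57351) (.leaf (nat_lit 336)) (.leaf (nat_lit 48))) (.node (nat_lit 57580) (.leaf (nat_lit 160)) (.leaf (nat_lit 0))))) (.node (nat_lit 58342) (.node (nat_lit 58132) (.leaf (nat_lit 160)) (.node (nat_lit 58134) (.leaf (nat_lit 480)) (.leaf (nat_lit 160)))) (.node (nat_lit 58550) (.node (nat_lit 58352) (.leaf (nat_lit 640)) (.leaf (nat_lit 160))) (.node (nat_lit 58603) (.leaf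 (nat_lit 480)) (.leaf (nat_lit 160))))))) (.node (nat_lit 61384) (.node (nat_lit 60486) (.node (nat_lit 59759) (.node (nat_lit 59289) (.leaf (nat_lit 320)) (.node (nat_lit 59426) (.leaf (nat_lit 160)) (.leaf (nat_lit 320)))) (.node (nat_lit 60396) (.node (nat_lit 60393) (.leaf (nat_lit 160)) (.leaf (nat_lit 320))) (.node (nat_lit 60439) (.leaf (nat_lit 160)) (.leaf (nat_lit 320))))) (.node (nat_lit 60799) (.node (nat_lit 60569) (.leaf (nat_lit 160)) (.node (nat_lit 60644) (.leaf (nat_lit 320)) (.leaf (nat_lit 160)))) (.node (nat_lit 60969) (.node (nat_lit 60897) (.leaf (nat_lit 480)) (.leaf (nat_lit 160))) (.node (nat_lit 61004) (.leaf (nat_lit 800)) (.leaf (nat_lit 160)))))) (.node (nat_lit 62541) (.node (nat_lit 61545) (.node (nat_lit 61386) (.leaf (nat_lit 640)) (.node (nat_lit 61429) (.leaf (nat_lit 160)) (.leaf (nat_lit 480)))) (.node (nat_lit 62326) (.node (nat_lit 62320) (.leaf (nat_lit 160)) (.leaf (nat_lit 320))) (.node (nat_lit 62426) (.leaf (nat_lit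 160)) (.leaf (nat_lit 320))))) (.node (nat_lit 63490) (.node (nat_lit 63324) (.node (nat_lit 63122) (.leaf (nat_lit 160)) (.leaf (nat_lit 480))) (.node (nat_lit 63472) (.leaf (nat_lit 320)) (.leaf (nat_lit 336)))) (.node (nat_lit 63820) (.node (nat_lit 63565) (.leaf (nat_lit 160)) (.leaf (nat_lit 320))) (.node (nat_lit 64090) (.leaf (nat_lit 160)) (.leaf (nat_lit 480)))))))))))
noncomputable def NF_soc_F : Fm := (.all NF_L (.or (.qf (.eq (.v (nat_lit 0)) .one)) (.exF NF_L (fun cs => NF_soc_t1.find (Nat.mod (nth (nat_lit 0) cs (nat_lit 0)) (nat_lit 64161))) (.exF NF_L (fun cs => NF_soc_t0.find (Nat.mod (Nat.add (nth (nat_lit 0) cs (nat_lit 0)) (Nat.mul (nat_lit 7919) (nth (nat_lit 0) cs (nat_lit 1)))) (nat_lit 430789))) (.qf (.or (.eq (.mul (.mul (.v (nat_lit 0)) (.v (nat_lit 2))) (.inv (.v (nat_lit 0)))) (.v (nat_lit 3))) (.or (.eq (.mul (.mul (.v (nat_lit 0)) (.v (nat_lit 2))) (.inv (.v (nat_lit 0)))) (.v (nat_lit 3))) (.or (.eq (.mul (.mul (.v (nat_lit 0))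 (.mul (.mul (.mul (.v (nat_lit 2)) (.v (nat_lit 1))) (.inv (.v (nat_lit 2)))) (.inv (.v (nat_lit 1))))) (.inv (.v (nat_lit 0)))) (.v (nat_lit 3))) (.or (.eq (.mul (.mul (.v (nat_lit 0)) (.mul (.mul (.mul (.v (nat_lit 2)) (.v (nat_lit 1))) (.inv (.v (nat_lit 2)))) (.inv (.v (nat_lit 1))))) (.inv (.v (nat_lit 0)))) (.v (nat_lit 3))) (.or (.eq (.mul (.mul (.mul (.mul (.mul (.mul (.v (nat_lit 2)) (.v (nat_lit 1))) (.inv (.v (nat_lit 2)))) (.inv (.v (nat_lit 1)))) (.v (nat_lit 0))) (.inv (.mul (.mul (.mul (.v (nat_lit 2)) (.v (nat_lit 1))) (.inv (.v (nat_lit 2)))) (.inv (.v (nat_lit 1)))))) (.inv (.v (nat_lit 0)))) (.v (nat_lit 3))) (.eq (.mul (.mul (.mul (.mul (.mul (.mul (.v (nat_lit 2)) (.v (nat_lit 1))) (.inv (.v (nat_lit 2)))) (.inv (.v (nat_lit 1)))) (.v (nat_lit 0))) (.inv (.mul (.mul (.mul (.v (nat_lit 2)) (.v (nat_lit 1))) (.inv (.v (nat_lit 2)))) (.inv (.v (nat_lit 1)))))) (.inv (.v (nat_lit 0)))) (.v (nat_lit 3)))))))))))))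
theorem NF_soc_chk : Fm.chk NF_o NF_soc_F NF_cs = true := by decide +kernel
theorem NF_soc {G : Type*} [Group G] {R : ℕ → G → Prop} {z u v a b r y Y_ s : G} {H : Subgroup G}
    (M : Mdl NF_o NF_cs NF_L R [z, u, v, a, b, r, y, Y_, s] H) :
    ∀ y_ ∈ H, y_ = 1 ∨ (∃ q_ ∈ H, ∃ k_ ∈ H, k_ * y_ * k_⁻¹ = z ∨ k_ * y_ * k_⁻¹ = z ∨ k_ * ⁅y_, q_⁆ * k_⁻¹ = z ∨ k_ * ⁅y_, q_⁆ * k_⁻¹ = z ∨ ⁅⁅y_, q_⁆, k_⁆ = z ∨ ⁅⁅y_, q_⁆, k_⁆ = z) :=
  have h : ∀ y_, InL NF_o R NF_L y_ → y_ = 1 ∨ (Good NF_o R NF_L → prods NF_o NF_L NF_o.one ≠ [] → ∃ q_, InL NF_o R NF_L q_ ∧ (Good NF_o R NF_L → prods NF_o NF_L NF_o.one ≠ [] → ∃ k_, InL NF_o R NF_L k_ ∧ (k_ * y_ * k_⁻¹ = z ∨ k_ * y_ * k_⁻¹ = z ∨ k_ * ⁅y_, q_⁆ * k_⁻¹ = z ∨ k_ * ⁅y_, q_⁆ * k_⁻¹ = z ∨ ⁅⁅y_, q_⁆, k_⁆ = z ∨ ⁅⁅y_, q_⁆, k_⁆ = z))) :=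
    Fm.sound M.μ NF_soc_F NF_soc_chk M.reps
  (fun y_ h0 => (Or.imp (fun h1 => h1) (fun h1 => (Exists.imp (fun q_ h2 => ⟨M.H.iff.1 h2.1, (Exists.imp (fun k_ h3 => ⟨M.H.iff.1 h3.1, h3.2⟩) (h2.2 M.H.good M.H.ne))⟩) (h1 M.H.good M.H.ne))) (h y_ (M.H.iff.2 h0))))
theorem NF_mdl {G : Type*} [Group G] {z u v a b r y s : G}
    (t : TA z u v a b r)
    (n : NY z u v a b r y)
    (w : RS z u v a b r y s)
    (n1 : z ≠ 1) :
    ∃ R, Mdl NF_o NF_cs NF_L R [z, u, v, a, b, r, y, y⁻¹, s] (sp [z, u, v, a, b, r, y, y⁻¹, s]) ∧ #(sp [z, u, v, a, b, r, y, y⁻¹, s]) = 960 :=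
  mdl_of NF_P rfl (NF_r t n w) (.v (nat_lit 0)) (.v (nat_lit 0)) n1 n1 
    fun _ ms _ M hl => match ms, M, (hl : ms.length = 9) with
      | [_, _, _, _, _, _, _, _, _], M, _ => NF_soc M
noncomputable def NF_lE : List ℕ := [(nat_lit 0x69f19d6c7ba70bcb5cc80642a0c8532140), (nat_lit 0x69b0950f64dd7873f208aa62a8c853202c), (nat_lit 0x696e3a653a55af86220c86c8b8c853094c), (nat_lit 0x68e95b9af84653a5aa0b8702c8ca43214c), (nat_lit 0x692772e116be9595e60b0722c18851a14c)]
noncomputable def NF_inv_t0 : ST := (.node (nat_lit 987) (.node (nat_lit 508) (.node (nat_lit 313) (.node (nat_lit 186) (.node (nat_lit 134) (.node (nat_lit 62) (.leaf (nat_lit 100)) (.leaf (nat_lit 260))) (.node (nat_lit 182) (.leaf (nat_lit 672)) (.leaf (nat_lit 4)))) (.node (nat_lit 288) (.node (nat_lit 188) (.leaf (nat_lit 836)) (.leaf (nat_lit 0))) (.node (nat_lit 295) (.leaf (nat_lit 132)) (.leaf (nat_lit 660))))) (.node (nat_lit 410) (.node (nat_lit 390) (.node (nat_lit 372) (.leaf (nat_lit 612))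 (.leaf (nat_lit 740))) (.node (nat_lit 400) (.leaf (nat_lit 820)) (.leaf (nat_lit 644)))) (.node (nat_lit 467) (.node (nat_lit 459) (.leaf (nat_lit 340)) (.leaf (nat_lit 196))) (.node (nat_lit 476) (.leaf (nat_lit 356)) (.node (nat_lit 490) (.leaf (nat_lit 816)) (.leaf (nat_lit 320))))))) (.node (nat_lit 813) (.node (nat_lit 620) (.node (nat_lit 514) (.node (nat_lit 512) (.leaf (nat_lit 48)) (.leaf (nat_lit 579))) (.node (nat_lit 591) (.leaf (nat_lit 0)) (.leaf (nat_lit 676)))) (.node (nat_lit 744) (.node (nat_lit 727) (.leaf (nat_lit 256)) (.leaf (nat_lit 19))) (.node (nat_lit 753) (.leaf (nat_lit 20)) (.node (nat_lit 765) (.leaf (nat_lit 640)) (.leaf (nat_lit 419)))))) (.node (nat_lit 899) (.node (nat_lit 865) (.node (nat_lit 845) (.leaf (nat_lit 292)) (.leaf (nat_lit 180))) (.node (nat_lit 883) (.leaf (nat_lit 656)) (.leaf (nat_lit 259)))) (.node (nat_lit 926) (.node (nat_lit 907) (.leaf (nat_lit 739)) (.leaf (nat_lit 496))) (.node (nat_lit 946) (.leaf (nat_lit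 323)) (.node (nat_lit 984) (.leaf (nat_lit 96)) (.leaf (nat_lit 16)))))))) (.node (nat_lit 1549) (.node (nat_lit 1312) (.node (nat_lit 1069) (.node (nat_lit 1036) (.node (nat_lit 988) (.leaf (nat_lit 320)) (.leaf (nat_lit 643))) (.node (nat_lit 1060) (.leaf (nat_lit 900)) (.leaf (nat_lit 372)))) (.node (nat_lit 1213) (.node (nat_lit 1091) (.leaf (nat_lit 675)) (.leaf (nat_lit 416))) (.node (nat_lit 1238) (.leaf (nat_lit 500)) (.leaf (nat_lit 932))))) (.node (nat_lit 1432) (.node (nat_lit 1374) (.node (nat_lit 1339) (.leaf (nat_lit 656)) (.leaf (nat_lit 52))) (.node (nat_lit 1422) (.leaf (nat_lit 99)) (.leaf (nat_lit 736)))) (.node (nat_lit 1443) (.node (nat_lit 1439) (.leaf (nat_lit 324)) (.leaf (nat_lit 36))) (.node (nat_lit 1519) (.leaf (nat_lit 32)) (.node (nat_lit 1534) (.leaf (nat_lit 516)) (.leaf (nat_lit 3))))))) (.node (nat_lit 1700) (.node (nat_lit 1644) (.node (nat_lit 1563) (.node (nat_lit 1557) (.leaf (nat_lit 16)) (.leaf (nat_lit 452))) (.node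 (nat_lit 1579) (.leaf (nat_lit 692)) (.leaf (nat_lit 580)))) (.node (nat_lit 1647) (.node (nat_lit 1646) (.leaf (nat_lit 339)) (.leaf (nat_lit 576))) (.node (nat_lit 1665) (.leaf (nat_lit 336)) (.node (nat_lit 1669) (.leaf (nat_lit 420)) (.leaf (nat_lit 35)))))) (.node (nat_lit 1817) (.node (nat_lit 1795) (.node (nat_lit 1733) (.leaf (nat_lit 896)) (.leaf (nat_lit 336))) (.node (nat_lit 1815) (.leaf (nat_lit 176)) (.leaf (nat_lit 899)))) (.node (nat_lit 1835) (.node (nat_lit 1818) (.leaf (nat_lit 355)) (.leaf (nat_lit 352))) (.node (nat_lit 1863) (.leaf (nat_lit 659)) (.node (nat_lit 1868) (.leaf (nat_lit 772)) (.leaf (nat_lit 640)))))))))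
noncomputable def NF_inv_F : Fm := (.all NF_L (.imp (.eq (.mul (.v (nat_lit 0)) (.v (nat_lit 0))) .one) (.and (.qf (.or (.eq (.mul (.v (nat_lit 0)) (.v (nat_lit 1))) (.mul (.v (nat_lit 1)) (.v (nat_lit 0)))) (.or (.eq (.mul (.v (nat_lit 0)) (.v (nat_lit 6))) (.mul (.v (nat_lit 6)) (.v (nat_lit 0)))) (.or (.eq (.mul (.v (nat_lit 0)) (.mul (.v (nat_lit 2)) (.v (nat_lit 6)))) (.mul (.mul (.v (nat_lit 2)) (.v (nat_lit 6))) (.v (nat_lit 0)))) (.or (.eq (.mul (.v (nat_lit 0)) (.mul (.v (nat_lit 3)) (.v (nat_lit 6)))) (.mul (.mul (.v (nat_lit 3)) (.v (nat_lit 6))) (.v (nat_lit 0)))) (.eq (.mul (.v (nat_lit 0)) (.mul (.mul (.mul (.v (nat_lit 1)) (.v (nat_lit 2))) (.v (nat_lit 3))) (.v (nat_lit 6)))) (.mul (.mul (.mul (.mul (.v (nat_lit 1)) (.v (nat_lit 2))) (.v (nat_lit 3))) (.v (nat_lit 6))) (.v (nat_lit 0))))))))) (.or (.qf (.or (.eq (.v (nat_lit 0)) (.v (nat_lit 1))) (.or (.eq (.v (nat_lit 0)) (.v (nat_lit 6))) (.or (.eq (.v (nat_lit 0)) (.mul (.v (nat_lit 2)) (.v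 (nat_lit 6)))) (.or (.eq (.v (nat_lit 0)) (.mul (.v (nat_lit 3)) (.v (nat_lit 6)))) (.eq (.v (nat_lit 0)) (.mul (.mul (.mul (.v (nat_lit 1)) (.v (nat_lit 2))) (.v (nat_lit 3))) (.v (nat_lit 6))))))))) (.or (.qf (.eq (.v (nat_lit 0)) .one)) (.exF NF_L (fun cs => NF_inv_t0.find (Nat.mod (nth (nat_lit 0) cs (nat_lit 0)) (nat_lit 1923))) (.qf (.or (.eq (.mul (.mul (.v (nat_lit 0)) (.v (nat_lit 1))) (.inv (.v (nat_lit 0)))) (.v (nat_lit 3))) (.eq (.mul (.mul (.v (nat_lit 0)) (.v (nat_lit 1))) (.inv (.v (nat_lit 0)))) (.v (nat_lit 5)))))))))))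
theorem NF_inv_chk : Fm.chk NF_o NF_inv_F NF_cs = true := by decide +kernel
theorem NF_inv {G : Type*} [Group G] {R : ℕ → G → Prop} {z u v a b r y s : G} {H : Subgroup G}
    (M : Mdl NF_o NF_cs NF_L R [z, u, v, a, b, r, y, y⁻¹, s] H) :
    ∀ c ∈ H, c * c = 1 → (c * z = z * c ∨ c * r = r * c ∨ c * (u * r) = u * r * c ∨ c * (v * r) = v * r * c ∨ c * (z * u * v * r) = z * u * v * r * c) ∧ ((c = z ∨ c = r ∨ c = u * r ∨ c = v * r ∨ c = z * u * v * r) ∨ c = 1 ∨ (∃ h ∈ H, h * c * h⁻¹ = u ∨ h * c * h⁻¹ = a)) :=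
  have h : ∀ c, InL NF_o R NF_L c → c * c = 1 → (c * z = z * c ∨ c * r = r * c ∨ c * (u * r) = u * r * c ∨ c * (v * r) = v * r * c ∨ c * (z * u * v * r) = z * u * v * r * c) ∧ ((c = z ∨ c = r ∨ c = u * r ∨ c = v * r ∨ c = z * u * v * r) ∨ c = 1 ∨ (Good NF_o R NF_L → prods NF_o NF_L NF_o.one ≠ [] → ∃ h, InL NF_o R NF_L h ∧ (h * c * h⁻¹ = u ∨ h * c * h⁻¹ = a))) :=
    Fm.sound M.μ NF_inv_F NF_inv_chk M.reps
  (fun c h0 => (fun h1 => (And.imp (fun h2 => h2) (fun h2 => (Or.imp (fun h3 => h3) (fun h3 => (Or.imp (fun h4 => h4) (fun h4 => (Exists.imp (fun h h5 => ⟨M.H.iff.1 h5.1, h5.2⟩) (h4 M.H.good M.H.ne))) h3)) h2)) ((h c (M.H.iff.2 h0)) h1))))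
noncomputable def NF_E_F : Fm := (.qf (.and (.eq (.mul (.v (nat_lit 0)) (.v (nat_lit 5))) (.mul (.v (nat_lit 5)) (.v (nat_lit 0)))) (.and (.eq (.mul (.v (nat_lit 0)) (.mul (.v (nat_lit 1)) (.v (nat_lit 5)))) (.mul (.mul (.v (nat_lit 1)) (.v (nat_lit 5))) (.v (nat_lit 0)))) (.and (.eq (.mul (.v (nat_lit 0)) (.mul (.v (nat_lit 2)) (.v (nat_lit 5)))) (.mul (.mul (.v (nat_lit 2)) (.v (nat_lit 5))) (.v (nat_lit 0)))) (.and (.eq (.mul (.v (nat_lit 0)) (.mul (.mul (.mul (.v (nat_lit 0)) (.v (nat_lit 1))) (.v (nat_lit 2))) (.v (nat_lit 5)))) (.mul (.mul (.mul (.mul (.v (nat_lit 0)) (.v (nat_lit 1))) (.v (nat_lit 2))) (.v (nat_lit 5))) (.v (nat_lit 0)))) (.and (.eq (.mul (.v (nat_lit 5)) (.mul (.v (nat_lit 1)) (.v (nat_lit 5)))) (.mul (.mul (.v (nat_lit 1)) (.v (nat_lit 5))) (.v (nat_lit 5)))) (.and (.eq (.mul (.v (nat_lit 5)) (.mul (.v (nat_lit 2)) (.v (nat_lit 5)))) (.mul (.mul (.v (nat_lit 2)) (.v (nat_lit 5))) (.v (nat_lit 5)))) (.and (.eq (.mul (.v (nat_lit 5))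 (.mul (.mul (.mul (.v (nat_lit 0)) (.v (nat_lit 1))) (.v (nat_lit 2))) (.v (nat_lit 5)))) (.mul (.mul (.mul (.mul (.v (nat_lit 0)) (.v (nat_lit 1))) (.v (nat_lit 2))) (.v (nat_lit 5))) (.v (nat_lit 5)))) (.and (.eq (.mul (.mul (.v (nat_lit 1)) (.v (nat_lit 5))) (.mul (.v (nat_lit 2)) (.v (nat_lit 5)))) (.mul (.mul (.v (nat_lit 2)) (.v (nat_lit 5))) (.mul (.v (nat_lit 1)) (.v (nat_lit 5))))) (.and (.eq (.mul (.mul (.v (nat_lit 1)) (.v (nat_lit 5))) (.mul (.mul (.mul (.v (nat_lit 0)) (.v (nat_lit 1))) (.v (nat_lit 2))) (.v (nat_lit 5)))) (.mul (.mul (.mul (.mul (.v (nat_lit 0)) (.v (nat_lit 1))) (.v (nat_lit 2))) (.v (nat_lit 5))) (.mul (.v (nat_lit 1)) (.v (nat_lit 5))))) (.eq (.mul (.mul (.v (nat_lit 2)) (.v (nat_lit 5))) (.mul (.mul (.mul (.v (nat_lit 0)) (.v (nat_lit 1))) (.v (nat_lit 2))) (.v (nat_lit 5)))) (.mul (.mul (.mul (.mul (.v (nat_lit 0)) (.v (nat_lit 1))) (.v (nat_lit 2))) (.v (nat_lit 5))) (.mul (.v (nat_lit 2)) (.v (nat_lit 5)))))))))))))))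
theorem NF_E_chk : Fm.chk NF_o NF_E_F NF_cs = true := by decide +kernel
theorem NF_E {G : Type*} [Group G] {R : ℕ → G → Prop} {z u v a b r y s : G} {H : Subgroup G}
    (M : Mdl NF_o NF_cs NF_L R [z, u, v, a, b, r, y, y⁻¹, s] H) :
    z * r = r * z ∧ z * (u * r) = u * r * z ∧ z * (v * r) = v * r * z ∧ z * (z * u * v * r) = z * u * v * r * z ∧ r * (u * r) = u * r * r ∧ r * (v * r) = v * r * r ∧ r * (z * u * v * r) = z * u * v * r * r ∧ u * r * (v * r) = v * r * (u * r) ∧ u * r * (z * u * v * r) = z * u * v * r * (u * r) ∧ v * r * (z * u * v * r) = z * u * v * r * (v * r) :=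
  Fm.sound M.μ NF_E_F NF_E_chk M.reps
noncomputable def NF_e_F : Fm := (.qf (.and (.eq (.mul (.mul (.mul (.mul (.mul (.v (nat_lit 4)) (.v (nat_lit 7))) (.v (nat_lit 8))) (.v (nat_lit 4))) (.v (nat_lit 0))) (.inv (.mul (.mul (.mul (.v (nat_lit 4)) (.v (nat_lit 7))) (.v (nat_lit 8))) (.v (nat_lit 4))))) (.mul (.v (nat_lit 2)) (.v (nat_lit 5)))) (.and (.eq (.mul (.mul (.mul (.mul (.mul (.v (nat_lit 4)) (.v (nat_lit 7))) (.v (nat_lit 8))) (.v (nat_lit 4))) (.v (nat_lit 1))) (.inv (.mul (.mul (.mul (.v (nat_lit 4)) (.v (nat_lit 7))) (.v (nat_lit 8))) (.v (nat_lit 4))))) (.v (nat_lit 1))) (.and (.eq (.mul (.mul (.mul (.mul (.mul (.v (nat_lit 6)) (.v (nat_lit 8))) (.v (nat_lit 3))) (.v (nat_lit 8))) (.v (nat_lit 0))) (.inv (.mul (.mul (.mul (.v (nat_lit 6)) (.v (nat_lit 8))) (.v (nat_lit 3))) (.v (nat_lit 8))))) (.mul (.mul (.mul (.v (nat_lit 0)) (.v (nat_lit 1))) (.v (nat_lit 2))) (.v (nat_lit 5)))) (.and (.eq (.mul (.mul (.mul (.mul (.mul (.v (nat_lit 6)) (.v (nat_lit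 8))) (.v (nat_lit 3))) (.v (nat_lit 8))) (.v (nat_lit 1))) (.inv (.mul (.mul (.mul (.v (nat_lit 6)) (.v (nat_lit 8))) (.v (nat_lit 3))) (.v (nat_lit 8))))) (.v (nat_lit 1))) (.and (.eq (.mul (.mul (.mul (.v (nat_lit 4)) (.v (nat_lit 8))) (.v (nat_lit 5))) (.inv (.mul (.v (nat_lit 4)) (.v (nat_lit 8))))) (.v (nat_lit 0))) (.and (.eq (.mul (.mul (.mul (.v (nat_lit 4)) (.v (nat_lit 8))) (.v (nat_lit 1))) (.inv (.mul (.v (nat_lit 4)) (.v (nat_lit 8))))) (.mul (.v (nat_lit 0)) (.v (nat_lit 5)))) (.and (.eq (.mul (.mul (.mul (.v (nat_lit 8)) (.v (nat_lit 4))) (.mul (.v (nat_lit 5)) (.v (nat_lit 0)))) (.inv (.mul (.v (nat_lit 8)) (.v (nat_lit 4))))) (.v (nat_lit 1))) (.and (.eq (.mul (.mul (.v (nat_lit 0)) (.mul (.v (nat_lit 2)) (.v (nat_lit 5)))) (.mul (.mul (.mul (.v (nat_lit 0)) (.v (nat_lit 1))) (.v (nat_lit 2))) (.v (nat_lit 5)))) (.v (nat_lit 1))) (.and (.eq (.mul (.mul (.v (nat_lit 3)) (.mul (.v (nat_lit 5)) (.v (nat_lit 1)))) (.inv (.v (nat_lit 3)))) (.v (nat_lit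 5))) (.and (.eq (.mul (.mul (.v (nat_lit 3)) (.v (nat_lit 1))) (.inv (.v (nat_lit 3)))) (.v (nat_lit 1))) (.eq (.mul (.mul (.v (nat_lit 8)) (.v (nat_lit 5))) (.inv (.v (nat_lit 8)))) (.v (nat_lit 0))))))))))))))
theorem NF_e_chk : Fm.chk NF_o NF_e_F NF_cs = true := by decide +kernel
theorem NF_e {G : Type*} [Group G] {R : ℕ → G → Prop} {z u v a b r y s : G} {H : Subgroup G}
    (M : Mdl NF_o NF_cs NF_L R [z, u, v, a, b, r, y, y⁻¹, s] H) :
    b * y⁻¹ * s * b * z * (b * y⁻¹ * s * b)⁻¹ = v * r ∧ b * y⁻¹ * s * b * u * (b * y⁻¹ * s * b)⁻¹ = u ∧ y * s * a * s * z * (y * s * a * s)⁻¹ = z * u * v * r ∧ y * s * a * s * u * (y * s * a * s)⁻¹ = u ∧ b * s * r * (b * s)⁻¹ = z ∧ b * s * u * (b * s)⁻¹ = z * r ∧ s * b * (r * z) * (s * b)⁻¹ = u ∧ z * (v * r) * (z * u * v * r) = u ∧ a * (r * u) * a⁻¹ = r ∧ a * u * a⁻¹ = u ∧ s * r * s⁻¹ = z :=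
  Fm.sound M.μ NF_e_F NF_e_chk M.reps

end H10.X
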