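import Cfsg.Agent.H10.X4g

/-! Generated: the central product of two copies of SL2(3). -/

set_option maxRecDepth 100000
set_option maxHeartbeats 4000000
set_option linter.unusedVariables false

open Subgroup
open scoped commutatorElement
namespace H10.X
open H0 H0.PM H16 H19

def KY {G : Type*} [Group G] (z u v x y : G) : Prop :=
  y ^ 3 = 1 ∧
  y * x = x * y ∧
  y * z = z * y ∧
  y * u * y⁻¹ = v ∧
  y * v * y⁻¹ = z * u * v ∧ True
def S2 {G : Type*} [Group G] (z c d e f : G) : Prop :=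
  z * z = 1 ∧
  c ^ 3 = 1 ∧
  c * d * c = d * c * d ∧
  (c * d) ^ 3 = z ∧
  e ^ 3 = 1 ∧
  e * f * e = f * e * f ∧
  (e * f) ^ 3 = z ∧
  c * e = e * c ∧
  c * f = f * c ∧
  d * e = e * d ∧
  d * f = f * d ∧ True
noncomputable def KS_r_R : List (List ℕ) := [[0,0],
  [1,2],
  [2,1],
  [3,4],
  [4,3],
  [5,6],
  [6,5],
  [7,8],
  [8,7],
  [1,1,1],
  [4,2,4,1,3,1],
  [0,3,1,3,1,3,1],
  [5,5,5],
  [8,6,8,5,7,5],
  [0,7,5,7,5,7,5],
  [6,2,5,1],
  [8,2,7,1],
  [6,4,5,3],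
  [8,4,7,3]]
theorem KS_r {G : Type*} [Group G] {z c d e f : G}
    (h : S2 z c d e f) :
    Rels (nthG [z, c, c⁻¹, d, d⁻¹, e, e⁻¹, f, f⁻¹]) KS_r_R :=
  rels_of_eqs ((InvI.cons h.1 InvI.nil) : InvI [z, c, d, e, f] [(nat_lit 0)])
    (show AllEq [z, c, d, e, f] [((.mul (.v (nat_lit 0)) (.v (nat_lit 0))), .one), ((.pw (.v (nat_lit 1)) (nat_lit 3)), .one), ((.mul (.mul (.v (nat_lit 1)) (.v (nat_lit 2))) (.v (nat_lit 1))), (.mul (.mul (.v (nat_lit 2)) (.v (nat_lit 1))) (.v (nat_lit 2)))), ((.pw (.mul (.v (nat_lit 1)) (.v (nat_lit 2))) (nat_lit 3)), (.v (nat_lit 0))), ((.pw (.v (nat_lit 3)) (nat_lit 3)), .one), ((.mul (.mul (.v (nat_lit 3)) (.v (nat_lit 4))) (.v (nat_lit 3))), (.mul (.mul (.v (nat_lit 4)) (.v (nat_lit 3))) (.v (nat_lit 4)))), ((.pw (.mul (.v (nat_lit 3)) (.v (nat_lit 4))) (nat_lit 3)), (.v (nat_lit 0))), ((.mul (.v (nat_lit 1)) (.v (nat_lit 3))), (.mul (.v (nat_lit 3)) (.v (nat_lit 1)))),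 ((.mul (.v (nat_lit 1)) (.v (nat_lit 4))), (.mul (.v (nat_lit 4)) (.v (nat_lit 1)))), ((.mul (.v (nat_lit 2)) (.v (nat_lit 3))), (.mul (.v (nat_lit 3)) (.v (nat_lit 2)))), ((.mul (.v (nat_lit 2)) (.v (nat_lit 4))), (.mul (.v (nat_lit 4)) (.v (nat_lit 2))))] from h)
    [(.v (nat_lit 0)), (.v (nat_lit 1)), (.inv (.v (nat_lit 1))), (.v (nat_lit 2)), (.inv (.v (nat_lit 2))), (.v (nat_lit 3)), (.inv (.v (nat_lit 3))), (.v (nat_lit 4)), (.inv (.v (nat_lit 4)))] (by decide +kernel)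
noncomputable abbrev KS_o : Ops := pops (nat_lit 24) (nat_lit 5) (nat_lit 31) (nat_lit 0xbdab49ca307b9ac5a928398a418820)
noncomputable def KS_cs : List ℕ := [(nat_lit 0xb5e72ad2115a9287b9ac20c4731401), (nat_lit 0x620a1102f6351f11c970ab4f3491ca), (nat_lit 0x8c0ee22988684d7480762bea25ce92), (nat_lit 0x30c220169245aa765e645aa0f745a9), (nat_lit 0x539b14c04520c2b3980f65e48b52b3), (nat_lit 0x8c1a7491887143750816351e392eb3), (nat_lit 0x6202600ef62beb112e70a1dd2229a9), (nat_lit 0x538e92340188d92819142dea2b4d6f), (nat_lit 0x30ca8131eb05a4d0de89aa8f371211)]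
noncomputable def KS_L : List (List ℕ) := [[(nat_lit 0xbdab49ca307b9ac5a928398a418820), (nat_lit 0xb5e72ad2115a9287b9ac20c4731401), (nat_lit 0x620a1102f6351f11c970ab4f3491ca), (nat_lit 0x8c0ee22988684d7480762bea25ce92), (nat_lit 0x30c220169245aa765e645aa0f745a9), (nat_lit 0x539b14c04520c2b3980f65e48b52b3), (nat_lit 0x538e92340188d92819142dea2b4d6f), (nat_lit 0x30ca8131eb05a4d0de89aa8f371211), (nat_lit 0x43040286d71c970351f19a49569d4e), (nat_lit 0x8448a3b90c48076684d712e657d654), (nat_lit 0x1980508a5465e6445aa77ba2b5412d), (nat_lit 0x729306c4a23980f20c2b45a8cbca75), (nat_lit 0x7288d3a4208191488d9215a65bd5eb), (nat_lit 0x1984c2a16f0de8905a4d9b89551e30), (nat_lit 0x3920d8a4c350914715920d5609bed7), (nat_lit 0x5be55a4d4ebc482b40e56858902066), (nat_lit 0xbd9f55ce30a1dcc91148684c900ca2), (nat_lit 0xa49767dce4ab5469a5c38203160045), (nat_lit 0x620c518af60d69104e507b9ab524e4), (nat_lit 0xbda8f92e30ab4ec9a4887142a100c3),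 (nat_lit 0x7aeb69dda994146a45c3380a40890c), (nat_lit 0xbd9737d52da38e5928828183118188), (nat_lit 0x21e2983466715925091404de1aaef6), (nat_lit 0x43062316d704e500d6915a92f73487)],
  [(nat_lit 0xbdab49ca307b9ac5a928398a418820), (nat_lit 0xa4aab9bce4b41a6bc5235090e2b020), (nat_lit 0x5beb79d94e911a2a1d258b07041820), (nat_lit 0x5bef4b492d9b883aa8e6889902a020), (nat_lit 0xa4af5b4e307b4825a4e5520ce60c20), (nat_lit 0x5be9594ce4b35ccba54888c5031420)],
  [(nat_lit 0xbdab49ca307b9ac5a928398a418820), (nat_lit 0xaceebb3d4e94088a44ec48cad30820)]]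
noncomputable def KS_WW : List (List (List ℕ)) := [[[],
  [(nat_lit 0)],
  [(nat_lit 1)],
  [(nat_lit 2)],
  [(nat_lit 3)],
  [(nat_lit 4)],
  [(nat_lit 7)],
  [(nat_lit 8)],
  [(nat_lit 0), (nat_lit 1)],
  [(nat_lit 0), (nat_lit 2)],
  [(nat_lit 0), (nat_lit 3)],
  [(nat_lit 0), (nat_lit 4)],
  [(nat_lit 0), (nat_lit 7)],
  [(nat_lit 0), (nat_lit 8)],
  [(nat_lit 1), (nat_lit 3)],
  [(nat_lit 1), (nat_lit 4)],
  [(nat_lit 1), (nat_lit 5)],
  [(nat_lit 2), (nat_lit 3)],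
  [(nat_lit 2), (nat_lit 5)],
  [(nat_lit 2), (nat_lit 6)],
  [(nat_lit 2), (nat_lit 8)],
  [(nat_lit 3), (nat_lit 7)],
  [(nat_lit 0), (nat_lit 1), (nat_lit 3)],
  [(nat_lit 0), (nat_lit 2), (nat_lit 5)]],
  [[],
  [(nat_lit 3), (nat_lit 5)],
  [(nat_lit 4), (nat_lit 6)],
  [(nat_lit 0), (nat_lit 1), (nat_lit 6), (nat_lit 8)],
  [(nat_lit 0), (nat_lit 3), (nat_lit 1), (nat_lit 8)],
  [(nat_lit 1), (nat_lit 3), (nat_lit 1), (nat_lit 6), (nat_lit 7)]],
  [[],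
  [(nat_lit 2), (nat_lit 3), (nat_lit 5), (nat_lit 8)]]]
noncomputable def KS_b5_S0 : List ℕ := [nat_lit 0xb00000700800a, nat_lit 0x1b00001700001300000f00000101000c, nat_lit 0x2700002300001f00000100000500001b00c00e, nat_lit 0x3300002f00000700001000001400800c, nat_lit 0x3300002f00000c00000500001b00000900e00c, nat_lit 0x11000033000002, nat_lit 0x1100000e000008, nat_lit 0x1500002700400a, nat_lit 0x3b00003700000700001000001400001800800e, nat_lit 0x1b00002100800a, nat_lit 0x2400002800000a00002100003b00c00c, nat_lit 0x4700004300000b00003000001500001a00800e, nat_lit 0x1400002d00800a, nat_lit 0x3c00002200001700002d00004700c00c, nat_lit 0x2400002800001a00002d00004700a00c, nat_lit 0x5300004f00001400001800002100800c, nat_lit 0x2b00000100000500002600003d00005300200c, nat_lit 0x42000054000004, nat_lit 0x4200004f000006, nat_lit 0x3600004800003100004900004600800c, nat_lit 0x4d00003600004800002e00001900001601a00e, nat_lit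 0x5700001400001800002100003b00002900400e, nat_lit 0x5f00005b00002d00004700003500004e00800e, nat_lit 0x4600005900800a, nat_lit 0x5600002a00004e00005900005f00a00c, nat_lit 0x4b00004400003500004e00005900005f00800e, nat_lit 0x6600006000005a00003e00002500e00c, nat_lit 0x5600002a00003c00002500006900c00c, nat_lit 0x2800000a00001c00006900006d00e00c, nat_lit 0x3100004900004600003e00002500006900000e, nat_lit 0x4600003e00002500006900006d00007100000e, nat_lit 0x5d00002b00000100000500001b00000900000e, nat_lit 0x6300002100003b00002900005500006200400e, nat_lit 0x3f00000c00004c00006600008101200c, nat_lit 0x8600008200006100007100001d00e00c, nat_lit 0x2500006900006d00007100001d00008900000e, nat_lit 0x8500003f00000700002c00005e00000c, nat_lit 0x6700001b00000900002700002300003a00400e, nat_lit 0x8200006100005600003a00009500c00c, nat_lit 0x8a00001e00002300003a00009500a00c, nat_lit 0x9d00008a00001500001a00002d00800c]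
noncomputable def KS_b5_S : List (List ℕ) := [KS_b5_S0]
noncomputable def KS_b5_defs : List ℕ := [(nat_lit 0x6000000050030001600000004000000030020001300400003003000020030001000000002003000010030000d000000010020000b004000010030000000100008003000070000000000100005004000040020000300400000001000010010000000000000)]
noncomputable def KS_b5_recs : List ℕ := [(nat_lit 0x4000110001902000190000f010001900018030001000019040001700018000000f0000e030000b0000f01000180000f03000160001800000090001700000080000a00000120001103000150000801000120001503000060001201000160001202000160001501000170000a010001400017030000700015000000b0001404000140000d03000030000a02000140000aff000130000a040000e0001402000100000701000100000d010001100003010000400011010000d00007010000e0000601000050000e01000080000b040000400009010000b00009ff000090000c04000040000c030000500009030000200006010000000002)]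
noncomputable def KS_b5_L0 : List ℕ := [nat_lit 0x1f00000100000700000200000200000300002b00000400000f000005, nat_lit 0x20000000000029000006000039000007000023000008000056000009, nat_lit 0x3700000600000b00000300000800000000003f00000a00002f00000b, nat_lit 0x4300000700000100000000000c00000200004b00000c00000600000d, nat_lit 0x7900000800005d00000e00004500000f00004900000500002c000000, nat_lit 0x5700000900003100001000001300001100001000000000004a000004, nat_lit 0x3800000200003500000700002a00000100003b00001200004d00000f, nat_lit 0x4400000300003a000001000036000006000047000010000096000013, nat_lit 0x7a00000400002700001400001e00000b000071000009000024000001, nat_lit 0x5800000500006d00000c000061000015000055000001000072000008, nat_lit 0x8e00001200008500001600009d00001300008900000b000040000002, nat_lit 0x5200000f00001d00000800001600001400003000000200008a00000a, nat_lit 0x7600001000006500001500006e00000900006900000d00004c000003,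 nat_lit 0x6700001300002500001200001c00001700000500000300006a00000c, nat_lit 0x7d00001400005900000f00005e000004000092000016000060000015, nat_lit 0x5100000b00004600000400005a00000e00004e00000600003d000012, nat_lit 0x7500000c00002d0000110000320000050000a2000013000048000007, nat_lit 0x5b00001500001400000500002e00001000001a000014000017000017, nat_lit 0x8d00000a00002100001700002600000d00003e00000f00003c000006, nat_lit 0x6800000d00009e00000a00009a0000160000950000070000a1000010, nat_lit 0x7e00000e00001500000b000028000008000009000017000019000011, nat_lit 0x5c00001100006200000900006600000c00005f00000e000082000016, nat_lit 0x6400001700009900001300008600000a00008100001500009100000e, nat_lit 0x6300001600001b00000d00002200001200001800001100000a000014]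
noncomputable def KS_b5_L : List (List ℕ) := [KS_b5_L0]
noncomputable def KS_b5_V : List ℕ := [(nat_lit 0x5000000180000001600000009000000190000000e0000000400000011000000140000001700000006000000120000000b0000000f0000001500000008000000100000000d000000030000000a00000002000000010000000700000000)]
noncomputable def KS_b5_D : H26.Dag := ⟨[0,2,1,4,3], [[0,0],
  [1,2],
  [2,1],
  [3,4],
  [4,3],
  [1,1,1],
  [4,2,4,1,3,1],
  [0,3,1,3,1,3,1]], [], KS_b5_defs, KS_b5_recs⟩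
theorem KS_b5_c : KS_b5_D.checkTab KS_b5_S 24 5 KS_b5_V KS_b5_L = true := by decide +kernel
theorem KS_b5 : Bound KS_r_R 5 24 :=
  bound_dag (Bound.zero KS_r_R) (K := 5) (J := [0,1,2,3,4,9,10,11]) (by decide +kernel) KS_b5_c (by decide +kernel)
noncomputable def KS_b9_S0 : List ℕ := [nat_lit 0x1, nat_lit 0x1, nat_lit 0x1, nat_lit 0xb000007008014, nat_lit 0xe00000500000d00401a, nat_lit 0xe00000900000d00401e, nat_lit 0xc00001500000b00a01e, nat_lit 0x1500001100001500001100001500001101a012, nat_lit 0xc00001100000b00a01a, nat_lit 0x21000019000021000019000021000019000012, nat_lit 0x1b00001700001300000f00000d010016, nat_lit 0x2a00001200002900401c, nat_lit 0x2a000016000029004020, nat_lit 0x1c00003100001b00a01e, nat_lit 0x3100002d00003100002d00003100002d01a012, nat_lit 0x18000035000017002020, nat_lit 0x1400003d00001300c01e, nat_lit 0x1c00002d00001b00a01a, nat_lit 0x1800004500001700201c, nat_lit 0x45000035000045000035000045000035000012,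 nat_lit 0x1400004900001300c01a, nat_lit 0x3d00004900003d00004900003d00004901a012, nat_lit 0x51000041000051000041000051000041000012, nat_lit 0x2300001f00000100000d00002900001b00c018, nat_lit 0x5e00004500005d00401c, nat_lit 0x5e00003500005d004020, nat_lit 0x2300001f00000d00002900001b00005d000018, nat_lit 0x2400006500002300a01e, nat_lit 0x2400006100002300a01a, nat_lit 0x7100006d00007100006d00007100006d000012, nat_lit 0x2b000027000007000010000014008016, nat_lit 0x7a00004900007900c01c, nat_lit 0x7a00003d00007900c020, nat_lit 0x2c00008100002b00201e, nat_lit 0x2c00007d00002b00201a, nat_lit 0x8500008900008500008900008500008901a012, nat_lit 0x2b00002700000c00002900001b00005d00e016, nat_lit 0x9100002b00000a, nat_lit 0x9100007a000010, nat_lit 0x95000023004014, nat_lit 0x2f000025000007000010000014000018008018, nat_lit 0x1b0000a1008014, nat_lit 0xa20000450000a100401a, nat_lit 0xa20000350000a100401e, nat_lit 0xad0000a90000ad0000a90000ad0000a901a012,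 nat_lit 0xa500002a00000e00002000009d010016, nat_lit 0x9d0000b50000a2000017000013016016, nat_lit 0x3300001d00000b00002800009500009a008018, nat_lit 0x140000bd008014, nat_lit 0xbe00004a0000bd00401a, nat_lit 0xbe00003e0000bd00401e, nat_lit 0xa60000b600009500009a0000bd008016, nat_lit 0xcd0000a60000b600009e0000ba0000c201a018]
noncomputable def KS_b9_S : List (List ℕ) := [KS_b9_S0]
noncomputable def KS_b9_defs : List ℕ := [(nat_lit 0x700002007000010060000900800001005000070070000000500005008000040060000300800000005000010050000000000000)]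
noncomputable def KS_b9_recs : List ℕ := [(nat_lit 0xc0000c080000c00006040000c0000c020000c0000c050000c0000305000040000c07000030000707000090000b000000b0000b040000b0000b020000b0000b050000b0000605000050000b050000700009080000400008050000900008ff000080000a000000900009020000900009040000900009030000a0000a010000a0000a08000040000a000000700007010000700007030000700007000000800008040000800008020000800008070000500008000000300003000000400004010000300003000000500005020000400004010000500005030000300003040000400004000000600006030000500005040000600006020000600006070000200006000000100001010000100001000000200002030000100001040000200002020000200002050000000002030000000000010000000000000000000000)]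
noncomputable def KS_b9_L0 : List ℕ := [nat_lit 0x100000000000500000000000600000000000900000000000a00000000000700000100000e00000200001f00000300000f000004, nat_lit 0x2500000100002100000100002200000100001900000100001a00000100000b00000200000800000000002f000005000027000006, nat_lit 0x1d00000200001200000200001100000200001600000200001500000200000d00000000000c00000100003300000700002a000008, nat_lit 0x7500000300007100000300007200000300006d00000300006e00000300002300000900009e0000060000b9000004000020000000, nat_lit 0x590000040000510000040000520000040000410000040000420000040000c100000700001300000a0000100000000000ba000003, nat_lit 0xb10000050000aa0000050000a90000050000ae0000050000ad0000050000a100000b0000a60000080000b5000006000030000001, nat_lit 0x8d00000600008a00000600008900000600008600000600008500000600009d0000030000960000090000280000010000b6000005, nat_lit 0xd10000070000c60000070000c50000070000ca0000070000c90000070000bd00000a0000c20000040000ce000008000034000002,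 nat_lit 0x3900000800002e00000800002d0000080000320000080000310000080000a500000500001c00000b0000290000020000cd000007, nat_lit 0x6900000900006200000900006100000900006600000900006500000900009500000600002400000300005d00000b00009900000a, nat_lit 0x5500000a00004a00000a00004900000a00003e00000a00003d00000a0000140000040000be00000700009a00000900001700000b, nat_lit 0x4d00000b00004500000b00004600000b00003500000b00003600000b00001b0000080000a200000500001800000a00005e000009]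
noncomputable def KS_b9_L : List (List ℕ) := [KS_b9_L0]
noncomputable def KS_b9_V : List ℕ := [(nat_lit 0x50000000400000008000000060000000c000000090000000b0000000300000007000000020000000100000000)]
noncomputable def KS_b9_D : H26.Dag := ⟨[0,2,1,4,3,6,5,8,7], [[0,0],
  [1,2],
  [2,1],
  [3,4],
  [4,3],
  [5,6],
  [6,5],
  [7,8],
  [8,7],
  [0,3,1,3,1,3,1],
  [5,5,5],
  [8,6,8,5,7,5],
  [0,7,5,7,5,7,5],
  [6,2,5,1],
  [8,2,7,1],
  [6,4,5,3],
  [8,4,7,3]], [0,1,2,3,4], KS_b9_defs, KS_b9_recs⟩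
theorem KS_b9_c : KS_b9_D.checkTab KS_b9_S 12 9 KS_b9_V KS_b9_L = true := by decide +kernel
theorem KS_b9 : Bound KS_r_R 9 288 :=
  bound_dag KS_b5 (K := 9) (J := [0,1,2,3,4,5,6,7,8,11,12,13,14,15,16,17,18]) (by decide +kernel) KS_b9_c (by decide +kernel)
theorem KS_P : PModel (nat_lit 24) (nat_lit 5) (nat_lit 31) (nat_lit 0xbdab49ca307b9ac5a928398a418820) KS_cs KS_r_R KS_L 288 :=
  ⟨PkOK.of (by decide +kernel), by decide +kernel, by decide +kernel, KS_b9, ⟨KS_WW, by decide +kernel⟩,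
    ⟨fun c => Nat.mod c (nat_lit 8376), by decide +kernel⟩⟩
noncomputable def KS_soc_t0 : ST := (.node (nat_lit 6080) (.node (nat_lit 2581) (.node (nat_lit 1676) (.node (nat_lit 990) (.node (nat_lit 691) (.node (nat_lit 459) (.node (nat_lit 72) (.leaf (nat_lit 120)) (.node (nat_lit 415) (.leaf (nat_lit 144)) (.leaf (nat_lit 15)))) (.node (nat_lit 571) (.leaf (nat_lit 120)) (.node (nat_lit 654) (.leaf (nat_lit 144)) (.leaf (nat_lit 120))))) (.node (nat_lit 875) (.node (nat_lit 753) (.leaf (nat_lit 144)) (.node (nat_lit 864) (.leaf (nat_lit 120)) (.leaf (nat_lit 144)))) (.node (nat_lit 897) (.leaf (nat_lit 15)) (.node (nat_lit 905) (.leaf (nat_lit 120)) (.leaf (nat_lit 144)))))) (.node (nat_lit 1390) (.node (nat_lit 1222) (.node (nat_lit 1020) (.leaf (nat_lit 0)) (.node (nat_lit 1058) (.leaf (nat_lit 120)) (.leaf (nat_lit 144)))) (.node (nat_lit 1237) (.leaf (nat_lit 15)) (.node (nat_lit 1362) (.leaf (nat_lit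 120)) (.leaf (nat_lit 144))))) (.node (nat_lit 1560) (.node (nat_lit 1409) (.leaf (nat_lit 15)) (.node (nat_lit 1464) (.leaf (nat_lit 120)) (.leaf (nat_lit 64)))) (.node (nat_lit 1567) (.leaf (nat_lit 15)) (.node (nat_lit 1651) (.leaf (nat_lit 144)) (.leaf (nat_lit 0))))))) (.node (nat_lit 2342) (.node (nat_lit 1830) (.node (nat_lit 1795) (.node (nat_lit 1725) (.leaf (nat_lit 144)) (.node (nat_lit 1772) (.leaf (nat_lit 15)) (.leaf (nat_lit 0)))) (.node (nat_lit 1822) (.leaf (nat_lit 120)) (.node (nat_lit 1823) (.leaf (nat_lit 144)) (.leaf (nat_lit 15))))) (.node (nat_lit 2170) (.node (nat_lit 2110) (.leaf (nat_lit 144)) (.node (nat_lit 2162) (.leaf (nat_lit 120)) (.leaf (nat_lit 144)))) (.node (nat_lit 2251) (.leaf (nat_lit 64)) (.node (nat_lit 2340) (.leaf (nat_lit 144)) (.leaf (nat_lit 120)))))) (.node (nat_lit 2463) (.node (nat_lit 2417) (.node (nat_lit 2343) (.leaf (nat_lit 0)) (.node (nat_lit 2392)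 (.leaf (nat_lit 15)) (.leaf (nat_lit 144)))) (.node (nat_lit 2443) (.leaf (nat_lit 0)) (.node (nat_lit 2461) (.leaf (nat_lit 144)) (.leaf (nat_lit 120))))) (.node (nat_lit 2516) (.node (nat_lit 2496) (.leaf (nat_lit 144)) (.node (nat_lit 2513) (.leaf (nat_lit 0)) (.leaf (nat_lit 120)))) (.node (nat_lit 2558) (.node (nat_lit 2545) (.leaf (nat_lit 144)) (.leaf (nat_lit 0))) (.node (nat_lit 2563) (.leaf (nat_lit 120)) (.leaf (nat_lit 144)))))))) (.node (nat_lit 4514) (.node (nat_lit 3478) (.node (nat_lit 3021) (.node (nat_lit 2938) (.node (nat_lit 2674) (.leaf (nat_lit 0)) (.node (nat_lit 2879) (.leaf (nat_lit 144)) (.leaf (nat_lit 15)))) (.node (nat_lit 2980) (.leaf (nat_lit 144)) (.node (nat_lit 3000) (.leaf (nat_lit 15)) (.leaf (nat_lit 120))))) (.node (nat_lit 3226) (.node (nat_lit 3073) (.leaf (nat_lit 144)) (.node (nat_lit 3118) (.leaf (nat_lit 120)) (.leaf (nat_lit 144)))) (.node (nat_lit 3237) (.leaf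 (nat_lit 15)) (.node (nat_lit 3280) (.leaf (nat_lit 144)) (.leaf (nat_lit 64)))))) (.node (nat_lit 3901) (.node (nat_lit 3735) (.node (nat_lit 3616) (.leaf (nat_lit 144)) (.node (nat_lit 3650) (.leaf (nat_lit 120)) (.leaf (nat_lit 144)))) (.node (nat_lit 3814) (.leaf (nat_lit 64)) (.node (nat_lit 3884) (.leaf (nat_lit 144)) (.leaf (nat_lit 64))))) (.node (nat_lit 4225) (.node (nat_lit 4036) (.leaf (nat_lit 144)) (.node (nat_lit 4111) (.leaf (nat_lit 64)) (.leaf (nat_lit 144)))) (.node (nat_lit 4394) (.node (nat_lit 4271) (.leaf (nat_lit 15)) (.leaf (nat_lit 144))) (.node (nat_lit 4507) (.leaf (nat_lit 0)) (.leaf (nat_lit 144))))))) (.node (nat_lit 5166) (.node (nat_lit 4760) (.node (nat_lit 4558) (.node (nat_lit 4554) (.leaf (nat_lit 64)) (.node (nat_lit 4557) (.leaf (nat_lit 120)) (.leaf (nat_lit 64)))) (.node (nat_lit 4616) (.leaf (nat_lit 144)) (.node (nat_lit 4647) (.leaf (nat_lit 64)) (.leaf (nat_lit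 144))))) (.node (nat_lit 5083) (.node (nat_lit 4873) (.leaf (nat_lit 120)) (.node (nat_lit 5039) (.leaf (nat_lit 144)) (.leaf (nat_lit 120)))) (.node (nat_lit 5090) (.leaf (nat_lit 144)) (.node (nat_lit 5126) (.leaf (nat_lit 15)) (.leaf (nat_lit 144)))))) (.node (nat_lit 5664) (.node (nat_lit 5437) (.node (nat_lit 5206) (.leaf (nat_lit 0)) (.node (nat_lit 5383) (.leaf (nat_lit 64)) (.leaf (nat_lit 120)))) (.node (nat_lit 5618) (.leaf (nat_lit 144)) (.node (nat_lit 5662) (.leaf (nat_lit 120)) (.leaf (nat_lit 64))))) (.node (nat_lit 5771) (.node (nat_lit 5727) (.leaf (nat_lit 0)) (.node (nat_lit 5750) (.leaf (nat_lit 120)) (.leaf (nat_lit 15)))) (.node (nat_lit 5991) (.node (nat_lit 5954) (.leaf (nat_lit 120)) (.leaf (nat_lit 144))) (.node (nat_lit 6058) (.leaf (nat_lit 120)) (.leaf (nat_lit 144))))))))) (.node (nat_lit 9577) (.node (nat_lit 7593) (.node (nat_lit 7102) (.node (nat_lit 6522) (.node (nat_lit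 6316) (.node (nat_lit 6148) (.leaf (nat_lit 15)) (.node (nat_lit 6183) (.leaf (nat_lit 144)) (.leaf (nat_lit 64)))) (.node (nat_lit 6401) (.leaf (nat_lit 144)) (.node (nat_lit 6509) (.leaf (nat_lit 120)) (.leaf (nat_lit 64))))) (.node (nat_lit 6896) (.node (nat_lit 6631) (.leaf (nat_lit 15)) (.node (nat_lit 6694) (.leaf (nat_lit 64)) (.leaf (nat_lit 15)))) (.node (nat_lit 6986) (.leaf (nat_lit 120)) (.node (nat_lit 6988) (.leaf (nat_lit 144)) (.leaf (nat_lit 120)))))) (.node (nat_lit 7345) (.node (nat_lit 7223) (.node (nat_lit 7111) (.leaf (nat_lit 144)) (.node (nat_lit 7180) (.leaf (nat_lit 64)) (.leaf (nat_lit 0)))) (.node (nat_lit 7238) (.leaf (nat_lit 144)) (.node (nat_lit 7263) (.leaf (nat_lit 120)) (.leaf (nat_lit 144))))) (.node (nat_lit 7528) (.node (nat_lit 7346) (.leaf (nat_lit 64)) (.node (nat_lit 7508) (.leaf (nat_lit 144)) (.leaf (nat_lit 64)))) (.node (nat_lit 7583) (.node (nat_lit 7552)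 (.leaf (nat_lit 120)) (.leaf (nat_lit 15))) (.node (nat_lit 7584) (.leaf (nat_lit 144)) (.leaf (nat_lit 120))))))) (.node (nat_lit 8541) (.node (nat_lit 8158) (.node (nat_lit 7980) (.node (nat_lit 7701) (.leaf (nat_lit 144)) (.node (nat_lit 7976) (.leaf (nat_lit 120)) (.leaf (nat_lit 15)))) (.node (nat_lit 8038) (.leaf (nat_lit 144)) (.node (nat_lit 8064) (.leaf (nat_lit 15)) (.leaf (nat_lit 144))))) (.node (nat_lit 8343) (.node (nat_lit 8312) (.leaf (nat_lit 120)) (.node (nat_lit 8341) (.leaf (nat_lit 64)) (.leaf (nat_lit 144)))) (.node (nat_lit 8399) (.leaf (nat_lit 64)) (.node (nat_lit 8478) (.leaf (nat_lit 144)) (.leaf (nat_lit 64)))))) (.node (nat_lit 9071) (.node (nat_lit 8816) (.node (nat_lit 8593) (.leaf (nat_lit 144)) (.node (nat_lit 8813) (.leaf (nat_lit 15)) (.leaf (nat_lit 144)))) (.node (nat_lit 8844) (.leaf (nat_lit 120)) (.node (nat_lit 9058) (.leaf (nat_lit 144)) (.leaf (nat_lit 0)))))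 (.node (nat_lit 9365) (.node (nat_lit 9145) (.leaf (nat_lit 144)) (.node (nat_lit 9239) (.leaf (nat_lit 64)) (.leaf (nat_lit 144)))) (.node (nat_lit 9419) (.node (nat_lit 9372) (.leaf (nat_lit 64)) (.leaf (nat_lit 120))) (.node (nat_lit 9492) (.leaf (nat_lit 64)) (.leaf (nat_lit 144)))))))) (.node (nat_lit 11442) (.node (nat_lit 10366) (.node (nat_lit 9975) (.node (nat_lit 9834) (.node (nat_lit 9677) (.leaf (nat_lit 0)) (.node (nat_lit 9770) (.leaf (nat_lit 120)) (.leaf (nat_lit 64)))) (.node (nat_lit 9918) (.leaf (nat_lit 144)) (.node (nat_lit 9940) (.leaf (nat_lit 120)) (.leaf (nat_lit 15))))) (.node (nat_lit 10142) (.node (nat_lit 9999) (.leaf (nat_lit 144)) (.node (nat_lit 10038) (.leaf (nat_lit 120)) (.leaf (nat_lit 144)))) (.node (nat_lit 10152) (.leaf (nat_lit 120)) (.node (nat_lit 10339) (.leaf (nat_lit 144)) (.leaf (nat_lit 120)))))) (.node (nat_lit 10920) (.node (nat_lit 10667) (.node (nat_lit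 10422) (.leaf (nat_lit 144)) (.node (nat_lit 10483) (.leaf (nat_lit 120)) (.leaf (nat_lit 144)))) (.node (nat_lit 10718) (.leaf (nat_lit 120)) (.node (nat_lit 10872) (.leaf (nat_lit 15)) (.leaf (nat_lit 144))))) (.node (nat_lit 11184) (.node (nat_lit 10941) (.leaf (nat_lit 15)) (.node (nat_lit 11159) (.leaf (nat_lit 144)) (.leaf (nat_lit 120)))) (.node (nat_lit 11318) (.node (nat_lit 11272) (.leaf (nat_lit 144)) (.leaf (nat_lit 120))) (.node (nat_lit 11337) (.leaf (nat_lit 15)) (.leaf (nat_lit 144))))))) (.node (nat_lit 12300) (.node (nat_lit 11725) (.node (nat_lit 11649) (.node (nat_lit 11517) (.leaf (nat_lit 120)) (.node (nat_lit 11637) (.leaf (nat_lit 144)) (.leaf (nat_lit 15)))) (.node (nat_lit 11674) (.leaf (nat_lit 120)) (.node (nat_lit 11691) (.leaf (nat_lit 15)) (.leaf (nat_lit 120))))) (.node (nat_lit 11906) (.node (nat_lit 11745) (.leaf (nat_lit 15)) (.node (nat_lit 11746) (.leaf (nat_lit 144))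 (.leaf (nat_lit 15)))) (.node (nat_lit 11997) (.leaf (nat_lit 120)) (.node (nat_lit 12252) (.leaf (nat_lit 144)) (.leaf (nat_lit 64)))))) (.node (nat_lit 12420) (.node (nat_lit 12385) (.node (nat_lit 12329) (.leaf (nat_lit 120)) (.node (nat_lit 12357) (.leaf (nat_lit 144)) (.leaf (nat_lit 64)))) (.node (nat_lit 12388) (.leaf (nat_lit 144)) (.node (nat_lit 12392) (.leaf (nat_lit 15)) (.leaf (nat_lit 144))))) (.node (nat_lit 12536) (.node (nat_lit 12431) (.leaf (nat_lit 120)) (.node (nat_lit 12502) (.leaf (nat_lit 64)) (.leaf (nat_lit 120)))) (.node (nat_lit 12864) (.node (nat_lit 12549) (.leaf (nat_lit 64)) (.leaf (nat_lit 144))) (.node (nat_lit 12896) (.leaf (nat_lit 120)) (.leaf (nat_lit 0))))))))))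
noncomputable def KS_soc_t1 : ST := (.node (nat_lit 529) (.node (nat_lit 129) (.node (nat_lit 79) (.node (nat_lit 9) (.leaf (nat_lit 0)) (.node (nat_lit 76) (.leaf (nat_lit 144)) (.leaf (nat_lit 24)))) (.node (nat_lit 114) (.leaf (nat_lit 144)) (.node (nat_lit 121) (.leaf (nat_lit 24)) (.leaf (nat_lit 144))))) (.node (nat_lit 305) (.node (nat_lit 139) (.leaf (nat_lit 24)) (.node (nat_lit 297) (.leaf (nat_lit 144)) (.leaf (nat_lit 24)))) (.node (nat_lit 354) (.node (nat_lit 344) (.leaf (nat_lit 144)) (.leaf (nat_lit 24))) (.node (nat_lit 527) (.leaf (nat_lit 144)) (.leaf (nat_lit 24)))))) (.node (nat_lit 623) (.node (nat_lit 592) (.node (nat_lit 589) (.leaf (nat_lit 144)) (.node (nat_lit 590) (.leaf (nat_lit 24)) (.leaf (nat_lit 144)))) (.node (nat_lit 593) (.leaf (nat_lit 24)) (.node (nat_lit 608) (.leaf (nat_lit 144)) (.leaf (nat_lit 24))))) (.node (nat_lit 823) (.node (nat_lit 714) (.leaf (nat_lit 144))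 (.node (nat_lit 718) (.leaf (nat_lit 24)) (.leaf (nat_lit 144)))) (.node (nat_lit 913) (.node (nat_lit 824) (.leaf (nat_lit 24)) (.leaf (nat_lit 144))) (.node (nat_lit 914) (.leaf (nat_lit 24)) (.leaf (nat_lit 144)))))))
noncomputable def KS_soc_F : Fm := (.all KS_L (.or (.qf (.eq (.v (nat_lit 0)) .one)) (.exF KS_L (fun cs => KS_soc_t1.find (Nat.mod (nth (nat_lit 0) cs (nat_lit 0)) (nat_lit 1113))) (.exF KS_L (fun cs => KS_soc_t0.find (Nat.mod (Nat.add (nth (nat_lit 0) cs (nat_lit 0)) (Nat.mul (nat_lit 7919) (nth (nat_lit 0) cs (nat_lit 1)))) (nat_lit 12917))) (.qf (.or (.eq (.mul (.mul (.v (nat_lit 0)) (.v (nat_lit 2))) (.inv (.v (nat_lit 0)))) (.v (nat_lit 3))) (.or (.eq (.mul (.mul (.v (nat_lit 0)) (.v (nat_lit 2))) (.inv (.v (nat_lit 0)))) (.v (nat_lit 3))) (.or (.eq (.mul (.mul (.v (nat_lit 0)) (.mul (.mul (.mul (.v (nat_lit 2)) (.v (nat_lit 1))) (.inv (.v (nat_lit 2)))) (.inv (.v (nat_lit 1)))))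 (.inv (.v (nat_lit 0)))) (.v (nat_lit 3))) (.or (.eq (.mul (.mul (.v (nat_lit 0)) (.mul (.mul (.mul (.v (nat_lit 2)) (.v (nat_lit 1))) (.inv (.v (nat_lit 2)))) (.inv (.v (nat_lit 1))))) (.inv (.v (nat_lit 0)))) (.v (nat_lit 3))) (.or (.eq (.mul (.mul (.mul (.mul (.mul (.mul (.v (nat_lit 2)) (.v (nat_lit 1))) (.inv (.v (nat_lit 2)))) (.inv (.v (nat_lit 1)))) (.v (nat_lit 0))) (.inv (.mul (.mul (.mul (.v (nat_lit 2)) (.v (nat_lit 1))) (.inv (.v (nat_lit 2)))) (.inv (.v (nat_lit 1)))))) (.inv (.v (nat_lit 0)))) (.v (nat_lit 3))) (.eq (.mul (.mul (.mul (.mul (.mul (.mul (.v (nat_lit 2)) (.v (nat_lit 1))) (.inv (.v (nat_lit 2)))) (.inv (.v (nat_lit 1)))) (.v (nat_lit 0))) (.inv (.mul (.mul (.mul (.v (nat_lit 2)) (.v (nat_lit 1))) (.inv (.v (nat_lit 2)))) (.inv (.v (nat_lit 1)))))) (.inv (.v (nat_lit 0)))) (.v (nat_lit 3)))))))))))))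
theorem KS_soc_chk : Fm.chk KS_o KS_soc_F KS_cs = true := by decide +kernel
theorem KS_soc {G : Type*} [Group G] {R : ℕ → G → Prop} {z c C_ d D_ e E_ f F_ : G} {H : Subgroup G}
    (M : Mdl KS_o KS_cs KS_L R [z, c, C_, d, D_, e, E_, f, F_] H) :
    ∀ y_ ∈ H, y_ = 1 ∨ (∃ q_ ∈ H, ∃ k_ ∈ H, k_ * y_ * k_⁻¹ = z ∨ k_ * y_ * k_⁻¹ = z ∨ k_ * ⁅y_, q_⁆ * k_⁻¹ = z ∨ k_ * ⁅y_, q_⁆ * k_⁻¹ = z ∨ ⁅⁅y_, q_⁆, k_⁆ = z ∨ ⁅⁅y_, q_⁆, k_⁆ = z) :=
  have h : ∀ y_, InL KS_o R KS_L y_ → y_ = 1 ∨ (Good KS_o R KS_L → prods KS_o KS_L KS_o.one ≠ [] → ∃ q_, InL KS_o R KS_L q_ ∧ (Good KS_o R KS_L → prods KS_o KS_L KS_o.one ≠ [] → ∃ k_, InL KS_o R KS_L k_ ∧ (k_ * y_ * k_⁻¹ = z ∨ k_ * y_ * k_⁻¹ = z ∨ k_ * ⁅y_, q_⁆ * k_⁻¹ = z ∨ k_ * ⁅y_, q_⁆ * k_⁻¹ = z ∨ ⁅⁅y_, q_⁆, k_⁆ = z ∨ ⁅⁅y_, q_⁆, k_⁆ = z))) :=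
    Fm.sound M.μ KS_soc_F KS_soc_chk M.reps
  (fun y_ h0 => (Or.imp (fun h1 => h1) (fun h1 => (Exists.imp (fun q_ h2 => ⟨M.H.iff.1 h2.1, (Exists.imp (fun k_ h3 => ⟨M.H.iff.1 h3.1, h3.2⟩) (h2.2 M.H.good M.H.ne))⟩) (h1 M.H.good M.H.ne))) (h y_ (M.H.iff.2 h0))))
theorem KS_mdl {G : Type*} [Group G] {z c d e f : G}
    (h : S2 z c d e f)
    (n1 : z ≠ 1) :
    ∃ R, Mdl KS_o KS_cs KS_L R [z, c, c⁻¹, d, d⁻¹, e, e⁻¹, f, f⁻¹] (sp [z, c, c⁻¹, d, d⁻¹, e, e⁻¹, f, f⁻¹]) ∧ #(sp [z, c, c⁻¹, d, d⁻¹, e, e⁻¹, f, f⁻¹]) = 288 :=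
  mdl_of KS_P rfl (KS_r h) (.v (nat_lit 0)) (.v (nat_lit 0)) n1 n1 
    fun _ ms _ M hl => match ms, M, (hl : ms.length = 9) with
      | [_, _, _, _, _, _, _, _, _], M, _ => KS_soc M
noncomputable def KS_lQ : List ℕ := [(nat_lit 0xbdab49ca307b9ac5a928398a418820), (nat_lit 0xb5e72ad2115a9287b9ac20c4731401), (nat_lit 0xbdab29d14e5c0e67c4836b029400a2), (nat_lit 0x9d6cfbadcaa44ec940886984919401), (nat_lit 0xbda74ac92d59e05792227058a020c3), (nat_lit 0x951f65dda9a9e2c9920870caa30801), (nat_lit 0xb5e74ac9ca7c4835c0e64a00d60445), (nat_lit 0xaceebb3d4e94088a44ec48cad30820), (nat_lit 0xb5eb29d1a97922259e055010e0b066), (nat_lit 0xa49777d92d99208a9e2c5184e19420), (nat_lit 0x9d6cbbbe11929a6a39233b00440445), (nat_lit 0xbda72ad0877b5c15a540814d110d88), (nat_lit 0x951f75d8879a5c3ab5468b010404a2), (nat_lit 0xacecbbbce4a25c5935428051103066), (nat_lit 0x5be9594ce4b35ccba54888c5031420), (nat_lit 0x9d6efb2c8793542a25c5881900a0c3),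 (nat_lit 0x951767de119b925aa9a2381840a066), (nat_lit 0xa49767dce4ab5469a5c38203160045), (nat_lit 0xaceefb2e30a3923929a622027600a2), (nat_lit 0xb5eb49c8e45a5407b5c1888702990c), (nat_lit 0x7ae53a5487ba548b35cc818b118801), (nat_lit 0xa49f75da30aa9a29b92520507030c3), (nat_lit 0xacecfbada991201a1e207146a1190c), (nat_lit 0x5be939552db9223b1e067302a40045), (nat_lit 0x9d6ebb3d2da1e2091201508ce28d88), (nat_lit 0x951777d94eac4e09c0814946d11988), (nat_lit 0x7ae93955cab40e5bc4824810d0b0c3), (nat_lit 0x7ae55a4da9b1e06b92235200e604a2), (nat_lit 0x5be55a4d4ebc482b40e56858902066), (nat_lit 0xa49f65ddca9c081ac4e0688c928d0c), (nat_lit 0x7ae9594e30ba920b39a1394c410d0c), (nat_lit 0x5be53a5611b39a1ba9202086729988)]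
noncomputable def KS_lQ_W : List (List ℕ) := [[],
  [(nat_lit 0)],
  [(nat_lit 1)],
  [(nat_lit 2)],
  [(nat_lit 3)],
  [(nat_lit 4)],
  [(nat_lit 0), (nat_lit 1)],
  [(nat_lit 0), (nat_lit 2)],
  [(nat_lit 0), (nat_lit 3)],
  [(nat_lit 0), (nat_lit 4)],
  [(nat_lit 1), (nat_lit 2)],
  [(nat_lit 1), (nat_lit 3)],
  [(nat_lit 1), (nat_lit 4)],
  [(nat_lit 2), (nat_lit 3)],
  [(nat_lit 2), (nat_lit 4)],
  [(nat_lit 3), (nat_lit 2)],
  [(nat_lit 3), (nat_lit 4)],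
  [(nat_lit 4), (nat_lit 1)],
  [(nat_lit 0), (nat_lit 1), (nat_lit 2)],
  [(nat_lit 0), (nat_lit 1), (nat_lit 3)],
  [(nat_lit 0), (nat_lit 2), (nat_lit 4)],
  [(nat_lit 0), (nat_lit 3), (nat_lit 4)],
  [(nat_lit 1), (nat_lit 2), (nat_lit 3)],
  [(nat_lit 1), (nat_lit 2), (nat_lit 4)],
  [(nat_lit 1), (nat_lit 3), (nat_lit 2)],
  [(nat_lit 1), (nat_lit 3), (nat_lit 4)],
  [(nat_lit 2), (nat_lit 3), (nat_lit 4)],
  [(nat_lit 2), (nat_lit 4), (nat_lit 1)],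
  [(nat_lit 3), (nat_lit 2), (nat_lit 4)],
  [(nat_lit 3), (nat_lit 4), (nat_lit 1)],
  [(nat_lit 1), (nat_lit 2), (nat_lit 3), (nat_lit 4)],
  [(nat_lit 1), (nat_lit 3), (nat_lit 2), (nat_lit 4)]]
noncomputable def KS_lQ_h (c : ℕ) : ℕ := Nat.mod c (nat_lit 147)
theorem KS_lQ_E {G : Type*} [Group G] {R : ℕ → G → Prop} {z c d e f : G} {H : Subgroup G}
    (M : Mdl KS_o KS_cs KS_L R [z, c, c⁻¹, d, d⁻¹, e, e⁻¹, f, f⁻¹] H) :
    EnumS R KS_lQ (sp [z, e * f * e * c * d * c, e⁻¹ * f * d * c⁻¹, f * e⁻¹ * d * c⁻¹, e⁻¹ * f⁻¹ * e⁻¹ * d⁻¹ * c]) :=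
  enumS_sp M.μ.1 (M.reps.tms M.μ.1 [(.v (nat_lit 0)), (.mul (.mul (.mul (.mul (.mul (.v (nat_lit 5)) (.v (nat_lit 7))) (.v (nat_lit 5))) (.v (nat_lit 1))) (.v (nat_lit 3))) (.v (nat_lit 1))), (.mul (.mul (.mul (.v (nat_lit 6)) (.v (nat_lit 7))) (.v (nat_lit 3))) (.v (nat_lit 2))), (.mul (.mul (.mul (.v (nat_lit 7)) (.v (nat_lit 6))) (.v (nat_lit 3))) (.v (nat_lit 2))), (.mul (.mul (.mul (.mul (.v (nat_lit 6)) (.v (nat_lit 8))) (.v (nat_lit 6))) (.v (nat_lit 4))) (.v (nat_lit 1)))] (cs' := [(nat_lit 0xb5e72ad2115a9287b9ac20c4731401), (nat_lit 0xbdab29d14e5c0e67c4836b029400a2), (nat_lit 0x9d6cfbadcaa44ec940886984919401), (nat_lit 0xbda74ac92d59e05792227058a020c3), (nat_lit 0x951f65dda9a9e2c9920870caa30801)]) (by decide +kernel))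
    (Ws := KS_lQ_W) (by decide +kernel) (by decide +kernel)
theorem KS_lQ_c {G : Type*} [Group G] {R : ℕ → G → Prop} {z c d e f : G} {H : Subgroup G}
    (M : Mdl KS_o KS_cs KS_L R [z, c, c⁻¹, d, d⁻¹, e, e⁻¹, f, f⁻¹] H) :
    #(sp [z, e * f * e * c * d * c, e⁻¹ * f * d * c⁻¹, f * e⁻¹ * d * c⁻¹, e⁻¹ * f⁻¹ * e⁻¹ * d⁻¹ * c]) = 32 :=
  (KS_lQ_E M).card M.μ (h := KS_lQ_h) (by decide +kernel)
noncomputable def KS_q_f_F : Fm := (.qf (.and (.eq (.mul (.v (nat_lit 0)) (.v (nat_lit 0))) .one) (.and (.eq (.mul (.mul (.mul (.mul (.mul (.mul (.v (nat_lit 5)) (.v (nat_lit 7))) (.v (nat_lit 5))) (.v (nat_lit 1))) (.v (nat_lit 3))) (.v (nat_lit 1))) (.mul (.mul (.mul (.mul (.mul (.v (nat_lit 5)) (.v (nat_lit 7))) (.v (nat_lit 5))) (.v (nat_lit 1))) (.v (nat_lit 3))) (.v (nat_lit 1)))) .one) (.and (.eq (.mul (.mul (.mul (.mul (.v (nat_lit 6)) (.v (nat_lit 7))) (.v (nat_lit 3))) (.v (nat_lit 2))) (.mul (.mul (.mul (.v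 (nat_lit 6)) (.v (nat_lit 7))) (.v (nat_lit 3))) (.v (nat_lit 2)))) .one) (.and (.eq (.mul (.mul (.mul (.mul (.v (nat_lit 7)) (.v (nat_lit 6))) (.v (nat_lit 3))) (.v (nat_lit 2))) (.mul (.mul (.mul (.v (nat_lit 7)) (.v (nat_lit 6))) (.v (nat_lit 3))) (.v (nat_lit 2)))) .one) (.and (.eq (.mul (.mul (.mul (.mul (.mul (.v (nat_lit 6)) (.v (nat_lit 8))) (.v (nat_lit 6))) (.v (nat_lit 4))) (.v (nat_lit 1))) (.mul (.mul (.mul (.mul (.v (nat_lit 6)) (.v (nat_lit 8))) (.v (nat_lit 6))) (.v (nat_lit 4))) (.v (nat_lit 1)))) .one) (.and (.eq (.pw (.mul (.v (nat_lit 2)) (.v (nat_lit 6))) (nat_lit 3)) .one) (.and (.eq (.mul (.mul (.mul (.v (nat_lit 2)) (.v (nat_lit 6))) (.mul (.mul (.mul (.mul (.mul (.v (nat_lit 5)) (.v (nat_lit 7))) (.v (nat_lit 5))) (.v (nat_lit 1))) (.v (nat_lit 3))) (.v (nat_lit 1)))) (.inv (.mul (.v (nat_lit 2)) (.v (nat_lit 6))))) (.mul (.mul (.mul (.v (nat_lit 7)) (.v (nat_lit 6))) (.v (nat_lit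 3))) (.v (nat_lit 2)))) (.and (.eq (.mul (.mul (.mul (.v (nat_lit 2)) (.v (nat_lit 6))) (.mul (.mul (.mul (.v (nat_lit 6)) (.v (nat_lit 7))) (.v (nat_lit 3))) (.v (nat_lit 2)))) (.inv (.mul (.v (nat_lit 2)) (.v (nat_lit 6))))) (.mul (.mul (.mul (.mul (.v (nat_lit 6)) (.v (nat_lit 8))) (.v (nat_lit 6))) (.v (nat_lit 4))) (.v (nat_lit 1)))) (.and (.eq (.pw (.mul (.mul (.mul (.mul (.mul (.mul (.v (nat_lit 5)) (.v (nat_lit 7))) (.v (nat_lit 5))) (.v (nat_lit 1))) (.v (nat_lit 3))) (.v (nat_lit 1))) (.mul (.v (nat_lit 2)) (.v (nat_lit 6)))) (nat_lit 3)) .one) (.and (.eq (.pw (.mul (.mul (.mul (.mul (.v (nat_lit 6)) (.v (nat_lit 7))) (.v (nat_lit 3))) (.v (nat_lit 2))) (.mul (.v (nat_lit 2)) (.v (nat_lit 6)))) (nat_lit 3)) .one) (.and (.eq (.mul (.mul (.mul (.mul (.mul (.mul (.v (nat_lit 5)) (.v (nat_lit 7))) (.v (nat_lit 5))) (.v (nat_lit 1))) (.v (nat_lit 3))) (.v (nat_lit 1))) (.mul (.mul (.mul (.v (nat_lit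 6)) (.v (nat_lit 7))) (.v (nat_lit 3))) (.v (nat_lit 2)))) (.mul (.mul (.mul (.mul (.v (nat_lit 6)) (.v (nat_lit 7))) (.v (nat_lit 3))) (.v (nat_lit 2))) (.mul (.mul (.mul (.mul (.mul (.v (nat_lit 5)) (.v (nat_lit 7))) (.v (nat_lit 5))) (.v (nat_lit 1))) (.v (nat_lit 3))) (.v (nat_lit 1))))) (.and (.eq (.mul (.mul (.mul (.mul (.mul (.mul (.mul (.mul (.v (nat_lit 5)) (.v (nat_lit 7))) (.v (nat_lit 5))) (.v (nat_lit 1))) (.v (nat_lit 3))) (.v (nat_lit 1))) (.mul (.mul (.mul (.mul (.v (nat_lit 6)) (.v (nat_lit 8))) (.v (nat_lit 6))) (.v (nat_lit 4))) (.v (nat_lit 1)))) (.inv (.mul (.mul (.mul (.mul (.mul (.v (nat_lit 5)) (.v (nat_lit 7))) (.v (nat_lit 5))) (.v (nat_lit 1))) (.v (nat_lit 3))) (.v (nat_lit 1))))) (.inv (.mul (.mul (.mul (.mul (.v (nat_lit 6)) (.v (nat_lit 8))) (.v (nat_lit 6))) (.v (nat_lit 4))) (.v (nat_lit 1))))) (.v (nat_lit 0))) (.and (.eq (.mul (.v (nat_lit 0)) (.mul (.v (nat_lit 2))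 (.v (nat_lit 6)))) (.mul (.mul (.v (nat_lit 2)) (.v (nat_lit 6))) (.v (nat_lit 0)))) (.and (.eq (.mul (.v (nat_lit 0)) (.mul (.mul (.mul (.mul (.mul (.v (nat_lit 5)) (.v (nat_lit 7))) (.v (nat_lit 5))) (.v (nat_lit 1))) (.v (nat_lit 3))) (.v (nat_lit 1)))) (.mul (.mul (.mul (.mul (.mul (.mul (.v (nat_lit 5)) (.v (nat_lit 7))) (.v (nat_lit 5))) (.v (nat_lit 1))) (.v (nat_lit 3))) (.v (nat_lit 1))) (.v (nat_lit 0)))) (.eq (.mul (.v (nat_lit 0)) (.mul (.mul (.mul (.v (nat_lit 6)) (.v (nat_lit 7))) (.v (nat_lit 3))) (.v (nat_lit 2)))) (.mul (.mul (.mul (.mul (.v (nat_lit 6)) (.v (nat_lit 7))) (.v (nat_lit 3))) (.v (nat_lit 2))) (.v (nat_lit 0)))))))))))))))))))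
theorem KS_q_f_chk : Fm.chk KS_o KS_q_f_F KS_cs = true := by decide +kernel
theorem KS_q_f {G : Type*} [Group G] {R : ℕ → G → Prop} {z c d e f : G} {H : Subgroup G}
    (M : Mdl KS_o KS_cs KS_L R [z, c, c⁻¹, d, d⁻¹, e, e⁻¹, f, f⁻¹] H) :
    z * z = 1 ∧ e * f * e * c * d * c * (e * f * e * c * d * c) = 1 ∧ e⁻¹ * f * d * c⁻¹ * (e⁻¹ * f * d * c⁻¹) = 1 ∧ f * e⁻¹ * d * c⁻¹ * (f * e⁻¹ * d * c⁻¹) = 1 ∧ e⁻¹ * f⁻¹ * e⁻¹ * d⁻¹ * c * (e⁻¹ * f⁻¹ * e⁻¹ * d⁻¹ * c) = 1 ∧ (c⁻¹ * e⁻¹) ^ 3 = 1 ∧ c⁻¹ * e⁻¹ * (e * f * e * c * d * c) * (c⁻¹ * e⁻¹)⁻¹ = f * e⁻¹ * d * c⁻¹ ∧ c⁻¹ * e⁻¹ * (e⁻¹ * f * d * c⁻¹) * (c⁻¹ * e⁻¹)⁻¹ = e⁻¹ * f⁻¹ * e⁻¹ * d⁻¹ * c ∧ (e * f * e * c * d * c * (c⁻¹ * e⁻¹)) ^ 3 = 1 ∧ (e⁻¹ * f * d * c⁻¹ * (c⁻¹ * e⁻¹)) ^ 3 = 1 ∧ e * f * e * c * d * c * (e⁻¹ * f * d * c⁻¹) = e⁻¹ * f * d * c⁻¹ * (e * f * e * c * d * c) ∧ ⁅e * f * e * c * d * c, e⁻¹ * f⁻¹ * e⁻¹ * d⁻¹ * c⁆ = z ∧ z * (c⁻¹ * e⁻¹) = c⁻¹ * e⁻¹ * z ∧ z *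 (e * f * e * c * d * c) = e * f * e * c * d * c * z ∧ z * (e⁻¹ * f * d * c⁻¹) = e⁻¹ * f * d * c⁻¹ * z :=
  Fm.sound M.μ KS_q_f_F KS_q_f_chk M.reps
theorem KS_q {G : Type*} [Group G] {R : ℕ → G → Prop} {z c d e f : G} {H : Subgroup G}
    (M : Mdl KS_o KS_cs KS_L R [z, c, c⁻¹, d, d⁻¹, e, e⁻¹, f, f⁻¹] H) :
    Q3 z (e * f * e * c * d * c) (e⁻¹ * f * d * c⁻¹) (f * e⁻¹ * d * c⁻¹) (e⁻¹ * f⁻¹ * e⁻¹ * d⁻¹ * c) (c⁻¹ * e⁻¹) :=
  have h := KS_q_f M
  ⟨h.1, h.2.1, h.2.2.1, h.2.2.2.1, h.2.2.2.2.1, h.2.2.2.2.2.1, h.2.2.2.2.2.2.1, h.2.2.2.2.2.2.2.1, h.2.2.2.2.2.2.2.2.1, h.2.2.2.2.2.2.2.2.2.1, h.2.2.2.2.2.2.2.2.2.2.1, h.2.2.2.2.2.2.2.2.2.2.2.1, h.2.2.2.2.2.2.2.2.2.2.2.2.1, h.2.2.2.2.2.2.2.2.2.2.2.2.2.1, h.2.2.2.2.2.2.2.2.2.2.2.2.2.2, trivial⟩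
noncomputable def KS_k_f_F : Fm := (.qf (.and (.eq (.pw (.mul (.v (nat_lit 2)) (.v (nat_lit 5))) (nat_lit 3)) .one) (.and (.eq (.mul (.mul (.v (nat_lit 2)) (.v (nat_lit 5))) (.mul (.v (nat_lit 2)) (.v (nat_lit 6)))) (.mul (.mul (.v (nat_lit 2)) (.v (nat_lit 6))) (.mul (.v (nat_lit 2)) (.v (nat_lit 5))))) (.and (.eq (.mul (.mul (.v (nat_lit 2)) (.v (nat_lit 5))) (.v (nat_lit 0))) (.mul (.v (nat_lit 0)) (.mul (.v (nat_lit 2)) (.v (nat_lit 5))))) (.and (.eq (.mul (.mul (.mul (.v (nat_lit 2)) (.v (nat_lit 5))) (.mul (.mul (.mul (.mul (.mul (.v (nat_lit 5)) (.v (nat_lit 7))) (.v (nat_lit 5))) (.v (nat_lit 1))) (.v (nat_lit 3))) (.v (nat_lit 1)))) (.inv (.mul (.v (nat_lit 2)) (.v (nat_lit 5))))) (.mul (.mul (.mul (.v (nat_lit 6)) (.v (nat_lit 7))) (.v (nat_lit 3))) (.v (nat_lit 2)))) (.eq (.mul (.mul (.mul (.v (nat_lit 2)) (.v (nat_lit 5))) (.mul (.mul (.mul (.v (nat_lit 6)) (.v (nat_lit 7))) (.v (nat_lit 3)))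 (.v (nat_lit 2)))) (.inv (.mul (.v (nat_lit 2)) (.v (nat_lit 5))))) (.mul (.mul (.v (nat_lit 0)) (.mul (.mul (.mul (.mul (.mul (.v (nat_lit 5)) (.v (nat_lit 7))) (.v (nat_lit 5))) (.v (nat_lit 1))) (.v (nat_lit 3))) (.v (nat_lit 1)))) (.mul (.mul (.mul (.v (nat_lit 6)) (.v (nat_lit 7))) (.v (nat_lit 3))) (.v (nat_lit 2))))))))))
theorem KS_k_f_chk : Fm.chk KS_o KS_k_f_F KS_cs = true := by decide +kernel
theorem KS_k_f {G : Type*} [Group G] {R : ℕ → G → Prop} {z c d e f : G} {H : Subgroup G}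
    (M : Mdl KS_o KS_cs KS_L R [z, c, c⁻¹, d, d⁻¹, e, e⁻¹, f, f⁻¹] H) :
    (c⁻¹ * e) ^ 3 = 1 ∧ c⁻¹ * e * (c⁻¹ * e⁻¹) = c⁻¹ * e⁻¹ * (c⁻¹ * e) ∧ c⁻¹ * e * z = z * (c⁻¹ * e) ∧ c⁻¹ * e * (e * f * e * c * d * c) * (c⁻¹ * e)⁻¹ = e⁻¹ * f * d * c⁻¹ ∧ c⁻¹ * e * (e⁻¹ * f * d * c⁻¹) * (c⁻¹ * e)⁻¹ = z * (e * f * e * c * d * c) * (e⁻¹ * f * d * c⁻¹) :=
  Fm.sound M.μ KS_k_f_F KS_k_f_chk M.reps
theorem KS_k {G : Type*} [Group G] {R : ℕ → G → Prop} {z c d e f : G} {H : Subgroup G}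
    (M : Mdl KS_o KS_cs KS_L R [z, c, c⁻¹, d, d⁻¹, e, e⁻¹, f, f⁻¹] H) :
    KY z (e * f * e * c * d * c) (e⁻¹ * f * d * c⁻¹) (c⁻¹ * e⁻¹) (c⁻¹ * e) :=
  have h := KS_k_f M
  ⟨h.1, h.2.1, h.2.2.1, h.2.2.2.1, h.2.2.2.2, trivial⟩
noncomputable def KS_nQ_F : Fm := (.all KS_L (.allS KS_lQ (.qf (.mem (.mul (.mul (.v (nat_lit 1)) (.v (nat_lit 0))) (.inv (.v (nat_lit 1)))) KS_lQ))))
theorem KS_nQ_chk : Fm.chk KS_o KS_nQ_F KS_cs = true := by decide +kernel
theorem KS_nQ {G : Type*} [Group G] {R : ℕ → G → Prop} {z c d e f : G} {H : Subgroup G}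
    (M : Mdl KS_o KS_cs KS_L R [z, c, c⁻¹, d, d⁻¹, e, e⁻¹, f, f⁻¹] H) :
    ∀ g ∈ H, ∀ t ∈ sp [z, e * f * e * c * d * c, e⁻¹ * f * d * c⁻¹, f * e⁻¹ * d * c⁻¹, e⁻¹ * f⁻¹ * e⁻¹ * d⁻¹ * c], g * t * g⁻¹ ∈ sp [z, e * f * e * c * d * c, e⁻¹ * f * d * c⁻¹, f * e⁻¹ * d * c⁻¹, e⁻¹ * f⁻¹ * e⁻¹ * d⁻¹ * c] :=
  have h : ∀ g, InL KS_o R KS_L g → ∀ t, InS R KS_lQ t → InS R KS_lQ (g * t * g⁻¹) :=
    Fm.sound M.μ KS_nQ_F KS_nQ_chk M.reps
  (fun g h0 => (fun t h1 => ((KS_lQ_E M).iff.1 ((h g (M.H.iff.2 h0)) t ((KS_lQ_E M).iff.2 h1)))))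
noncomputable def KS_le_t0 : ST := (.node (nat_lit 130) (.node (nat_lit 78) (.node (nat_lit 36) (.node (nat_lit 17) (.node (nat_lit 1) (.leaf (nat_lit 236)) (.leaf (nat_lit 1))) (.node (nat_lit 20) (.leaf (nat_lit 161)) (.leaf (nat_lit 144)))) (.node (nat_lit 68) (.node (nat_lit 64) (.leaf (nat_lit 213)) (.leaf (nat_lit 120))) (.node (nat_lit 74) (.leaf (nat_lit 261)) (.leaf (nat_lit 64))))) (.node (nat_lit 98) (.node (nat_lit 96) (.node (nat_lit 88) (.leaf (nat_lit 159)) (.leaf (nat_lit 92))) (.node (nat_lit 97) (.leaf (nat_lit 117)) (.leaf (nat_lit 17)))) (.node (nat_lit 107) (.node (nat_lit 99) (.leaf (nat_lit 256)) (.leaf (nat_lit 91))) (.node (nat_lit 123) (.leaf (nat_lit 235)) (.leaf (nat_lit 43)))))) (.node (nat_lit 166) (.node (nat_lit 149) (.node (nat_lit 136) (.node (nat_lit 135) (.leaf (nat_lit 279)) (.leaf (nat_lit 187))) (.node (nat_lit 137) (.leaf (nat_lit 188)) (.leaf (nat_lit 281)))) (.node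 (nat_lit 162) (.node (nat_lit 161) (.leaf (nat_lit 121)) (.leaf (nat_lit 145))) (.node (nat_lit 164) (.leaf (nat_lit 135)) (.leaf (nat_lit 69))))) (.node (nat_lit 200) (.node (nat_lit 184) (.node (nat_lit 173) (.leaf (nat_lit 15)) (.leaf (nat_lit 137))) (.node (nat_lit 194) (.leaf (nat_lit 264)) (.leaf (nat_lit 208)))) (.node (nat_lit 220) (.node (nat_lit 209) (.leaf (nat_lit 0)) (.leaf (nat_lit 265))) (.node (nat_lit 222) (.leaf (nat_lit 44)) (.leaf (nat_lit 112)))))))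
noncomputable def KS_le_F : Fm := (.allS KS_lQ (.exF KS_L (fun cs => KS_le_t0.find (Nat.mod (nth (nat_lit 0) cs (nat_lit 0)) (nat_lit 236))) (.qf (.eq (.v (nat_lit 0)) (.v (nat_lit 1))))))
theorem KS_le_chk : Fm.chk KS_o KS_le_F KS_cs = true := by decide +kernel
theorem KS_le {G : Type*} [Group G] {R : ℕ → G → Prop} {z c d e f : G} {H : Subgroup G}
    (M : Mdl KS_o KS_cs KS_L R [z, c, c⁻¹, d, d⁻¹, e, e⁻¹, f, f⁻¹] H) :
    ∀ t ∈ sp [z, e * f * e * c * d * c, e⁻¹ * f * d * c⁻¹, f * e⁻¹ * d * c⁻¹, e⁻¹ * f⁻¹ * e⁻¹ * d⁻¹ * c], ∃ g ∈ H, g = t :=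
  have h : ∀ t, InS R KS_lQ t → (Good KS_o R KS_L → prods KS_o KS_L KS_o.one ≠ [] → ∃ g, InL KS_o R KS_L g ∧ g = t) :=
    Fm.sound M.μ KS_le_F KS_le_chk M.reps
  (fun t h0 => (Exists.imp (fun g h1 => ⟨M.H.iff.1 h1.1, h1.2⟩) ((h t ((KS_lQ_E M).iff.2 h0)) M.H.good M.H.ne)))
noncomputable def KS_cls_t0 : ST := (.node (nat_lit 30) (.node (nat_lit 22) (.node (nat_lit 13) (.node (nat_lit 10) (.leaf (nat_lit 24)) (.leaf (nat_lit 120))) (.node (nat_lit 21) (.leaf (nat_lit 51)) (.leaf (nat_lit 26)))) (.node (nat_lit 25) (.node (nat_lit 24) (.leaf (nat_lit 74)) (.leaf (nat_lit 5))) (.node (nat_lit 28) (.leaf (nat_lit 29)) (.node (nat_lit 29) (.leaf (nat_lit 50)) (.leaf (nat_lit 0)))))) (.node (nat_lit 46) (.node (nat_lit 41) (.node (nat_lit 38) (.leaf (nat_lit 27)) (.leaf (nat_lit 48))) (.node (nat_lit 44) (.leaf (nat_lit 194)) (.leaf (nat_lit 3)))) (.node (nat_lit 57) (.node (nat_lit 47) (.leaf (nat_lit 168))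 (.leaf (nat_lit 53))) (.node (nat_lit 58) (.leaf (nat_lit 192)) (.node (nat_lit 60) (.leaf (nat_lit 2)) (.leaf (nat_lit 146)))))))
noncomputable def KS_cls_F : Fm := (.allS KS_lQ (.imp (.eq (.mul (.v (nat_lit 0)) (.v (nat_lit 0))) .one) (.or (.qf (.eq (.v (nat_lit 0)) .one)) (.or (.qf (.eq (.v (nat_lit 0)) (.v (nat_lit 1)))) (.exF KS_L (fun cs => KS_cls_t0.find (Nat.mod (nth (nat_lit 0) cs (nat_lit 0)) (nat_lit 63))) (.qf (.eq (.mul (.mul (.v (nat_lit 0)) (.v (nat_lit 1))) (.inv (.v (nat_lit 0)))) (.mul (.mul (.mul (.mul (.mul (.v (nat_lit 7)) (.v (nat_lit 9))) (.v (nat_lit 7))) (.v (nat_lit 3))) (.v (nat_lit 5))) (.v (nat_lit 3))))))))))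
theorem KS_cls_chk : Fm.chk KS_o KS_cls_F KS_cs = true := by decide +kernel
theorem KS_cls {G : Type*} [Group G] {R : ℕ → G → Prop} {z c d e f : G} {H : Subgroup G}
    (M : Mdl KS_o KS_cs KS_L R [z, c, c⁻¹, d, d⁻¹, e, e⁻¹, f, f⁻¹] H) :
    ∀ t ∈ sp [z, e * f * e * c * d * c, e⁻¹ * f * d * c⁻¹, f * e⁻¹ * d * c⁻¹, e⁻¹ * f⁻¹ * e⁻¹ * d⁻¹ * c], t * t = 1 → t = 1 ∨ t = z ∨ (∃ g ∈ H, g * t * g⁻¹ = e * f * e * c * d * c) :=
  have h : ∀ t, InS R KS_lQ t → t * t = 1 → t = 1 ∨ t = z ∨ (Good KS_o R KS_L → prods KS_o KS_L KS_o.one ≠ [] → ∃ g, InL KS_o R KS_L g ∧ g * t * g⁻¹ = e * f * e * c * d * c) :=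
    Fm.sound M.μ KS_cls_F KS_cls_chk M.reps
  (fun t h0 => (fun h1 => (Or.imp (fun h2 => h2) (fun h2 => (Or.imp (fun h3 => h3) (fun h3 => (Exists.imp (fun g h4 => ⟨M.H.iff.1 h4.1, h4.2⟩) (h3 M.H.good M.H.ne))) h2)) ((h t ((KS_lQ_E M).iff.2 h0)) h1))))
noncomputable def KS_e_F : Fm := (.qf (.and (.eq (.mul (.mul (.v (nat_lit 2)) (.v (nat_lit 6))) (.mul (.v (nat_lit 2)) (.v (nat_lit 5)))) (.v (nat_lit 1))) (.eq (.mul (.mul (.v (nat_lit 2)) (.v (nat_lit 6))) (.inv (.mul (.v (nat_lit 2)) (.v (nat_lit 5))))) (.v (nat_lit 5)))))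
theorem KS_e_chk : Fm.chk KS_o KS_e_F KS_cs = true := by decide +kernel
theorem KS_e {G : Type*} [Group G] {R : ℕ → G → Prop} {z c d e f : G} {H : Subgroup G}
    (M : Mdl KS_o KS_cs KS_L R [z, c, c⁻¹, d, d⁻¹, e, e⁻¹, f, f⁻¹] H) :
    c⁻¹ * e⁻¹ * (c⁻¹ * e) = c ∧ c⁻¹ * e⁻¹ * (c⁻¹ * e)⁻¹ = e :=
  Fm.sound M.μ KS_e_F KS_e_chk M.reps

end H10.X
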