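import Cfsg.Agent.H10.XD2g

/-! Generated: the involution centralizer of type U4(3). -/

set_option maxRecDepth 100000
set_option maxHeartbeats 4000000
set_option linter.unusedVariables false

open Subgroup
open scoped commutatorElement
namespace H10.X
open H0 H0.PM H16 H19

noncomputable def HU_r_R : List (List ℕ) := [[0,0],
  [1,1],
  [2,2],
  [3,3],
  [4,4],
  [5,5],
  [6,6],
  [7,8],
  [8,7],
  [9,10],
  [10,9],
  [7,7,7],
  [3,8,1,7],
  [4,8,2,7],
  [7,1,7,1,7,1],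
  [7,2,7,2,7,2],
  [2,1,2,1],
  [0,4,1,4,1],
  [8,0,7,0],
  [1,0,1,0],
  [2,0,2,0],
  [9,9,9],
  [8,10,7,9],
  [0,10,0,9],
  [2,10,1,9],
  [0,1,2,10,2,9],
  [3,0,3,0],
  [4,0,4,0],
  [3,1,3,1],
  [4,2,4,2],
  [4,3,4,3],
  [1,0,4,1,4],
  [2,0,3,2,3],
  [5,0,5,0],
  [6,0,6,0],
  [1,5,1,5],
  [2,5,2,5],
  [5,1,3,5,3],
  [5,2,4,5,4],
  [1,6,1,6],
  [3,6,3,6],
  [0,1,2,6,2,6],
  [0,3,4,6,4,6],
  [6,0,5,6,5],
  [7,5,7,5],
  [10,5,9,5],
  [8,6,7,6],
  [9,6,9,6]]
theorem HU_r {G : Type*} [Group G] {z u v a b r s x y : G}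
    (h : Q3 z u v a b x)
    (k : KY z u v x y)
    (q : QT z u v a b)
    (t : TU z u v a b r s)
    (l : XU r s x y) :
    Rels (nthG [z, u, v, a, b, r, s, x, x⁻¹, y, y⁻¹]) HU_r_R :=
  rels_of_eqs ((InvI.cons h.1 (InvI.cons h.2.1 (InvI.cons h.2.2.1 (InvI.cons h.2.2.2.1 (InvI.cons h.2.2.2.2.1 (InvI.cons t.1 (InvI.cons t.2.1 InvI.nil))))))) : InvI [z, u, v, a, b, r, s, x, y] [(nat_lit 0), (nat_lit 1), (nat_lit 2), (nat_lit 3), (nat_lit 4), (nat_lit 5), (nat_lit 6)])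
    (AllEq.append (show AllEq [z, u, v, a, b, r, s, x, y] [((.mul (.v (nat_lit 0)) (.v (nat_lit 0))), .one), ((.mul (.v (nat_lit 1)) (.v (nat_lit 1))), .one), ((.mul (.v (nat_lit 2)) (.v (nat_lit 2))), .one), ((.mul (.v (nat_lit 3)) (.v (nat_lit 3))), .one), ((.mul (.v (nat_lit 4)) (.v (nat_lit 4))), .one), ((.pw (.v (nat_lit 7)) (nat_lit 3)), .one), ((.mul (.mul (.v (nat_lit 7)) (.v (nat_lit 1))) (.inv (.v (nat_lit 7)))), (.v (nat_lit 3))), ((.mul (.mul (.v (nat_lit 7)) (.v (nat_lit 2))) (.inv (.v (nat_lit 7)))), (.v (nat_lit 4))), ((.pw (.mul (.v (nat_lit 1)) (.v (nat_lit 7))) (nat_lit 3)), .one), ((.pw (.mul (.v (nat_lit 2)) (.v (nat_lit 7))) (nat_lit 3)), .one), ((.mul (.v (nat_lit 1)) (.v (nat_lit 2))), (.mul (.v (nat_lit 2)) (.v (nat_lit 1)))), ((.mul (.mul (.mul (.v (nat_lit 1)) (.v (nat_lit 4))) (.inv (.v (nat_lit 1)))) (.inv (.v (nat_lit 4)))), (.v (nat_lit 0))), ((.mul (.v (nat_lit 0)) (.v (nat_lit 7))), (.mul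 (.v (nat_lit 7)) (.v (nat_lit 0)))), ((.mul (.v (nat_lit 0)) (.v (nat_lit 1))), (.mul (.v (nat_lit 1)) (.v (nat_lit 0)))), ((.mul (.v (nat_lit 0)) (.v (nat_lit 2))), (.mul (.v (nat_lit 2)) (.v (nat_lit 0))))] from h)
    (AllEq.append (show AllEq [z, u, v, a, b, r, s, x, y] [((.pw (.v (nat_lit 8)) (nat_lit 3)), .one), ((.mul (.v (nat_lit 8)) (.v (nat_lit 7))), (.mul (.v (nat_lit 7)) (.v (nat_lit 8)))), ((.mul (.v (nat_lit 8)) (.v (nat_lit 0))), (.mul (.v (nat_lit 0)) (.v (nat_lit 8)))), ((.mul (.mul (.v (nat_lit 8)) (.v (nat_lit 1))) (.inv (.v (nat_lit 8)))), (.v (nat_lit 2))), ((.mul (.mul (.v (nat_lit 8)) (.v (nat_lit 2))) (.inv (.v (nat_lit 8)))), (.mul (.mul (.v (nat_lit 0)) (.v (nat_lit 1))) (.v (nat_lit 2))))] from k)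
    (AllEq.append (show AllEq [z, u, v, a, b, r, s, x, y] [((.mul (.v (nat_lit 0)) (.v (nat_lit 0))), .one), ((.mul (.v (nat_lit 1)) (.v (nat_lit 1))), .one), ((.mul (.v (nat_lit 2)) (.v (nat_lit 2))), .one), ((.mul (.v (nat_lit 3)) (.v (nat_lit 3))), .one), ((.mul (.v (nat_lit 4)) (.v (nat_lit 4))), .one), ((.mul (.v (nat_lit 1)) (.v (nat_lit 2))), (.mul (.v (nat_lit 2)) (.v (nat_lit 1)))), ((.mul (.v (nat_lit 0)) (.v (nat_lit 1))), (.mul (.v (nat_lit 1)) (.v (nat_lit 0)))), ((.mul (.v (nat_lit 0)) (.v (nat_lit 2))), (.mul (.v (nat_lit 2)) (.v (nat_lit 0)))), ((.mul (.v (nat_lit 0)) (.v (nat_lit 3))), (.mul (.v (nat_lit 3)) (.v (nat_lit 0)))), ((.mul (.v (nat_lit 0)) (.v (nat_lit 4))), (.mul (.v (nat_lit 4)) (.v (nat_lit 0)))), ((.mul (.v (nat_lit 1)) (.v (nat_lit 3))), (.mul (.v (nat_lit 3)) (.v (nat_lit 1)))), ((.mul (.v (nat_lit 2)) (.v (nat_lit 4))), (.mul (.v (nat_lit 4)) (.v (nat_lit 2)))), ((.mul (.v (nat_lit 3))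 (.v (nat_lit 4))), (.mul (.v (nat_lit 4)) (.v (nat_lit 3)))), ((.mul (.mul (.v (nat_lit 4)) (.v (nat_lit 1))) (.v (nat_lit 4))), (.mul (.v (nat_lit 1)) (.v (nat_lit 0)))), ((.mul (.mul (.v (nat_lit 3)) (.v (nat_lit 2))) (.v (nat_lit 3))), (.mul (.v (nat_lit 2)) (.v (nat_lit 0))))] from q)
    (AllEq.append (show AllEq [z, u, v, a, b, r, s, x, y] [((.mul (.v (nat_lit 5)) (.v (nat_lit 5))), .one), ((.mul (.v (nat_lit 6)) (.v (nat_lit 6))), .one), ((.mul (.v (nat_lit 0)) (.v (nat_lit 5))), (.mul (.v (nat_lit 5)) (.v (nat_lit 0)))), ((.mul (.v (nat_lit 0)) (.v (nat_lit 6))), (.mul (.v (nat_lit 6)) (.v (nat_lit 0)))), ((.mul (.v (nat_lit 5)) (.v (nat_lit 1))), (.mul (.v (nat_lit 1)) (.v (nat_lit 5)))), ((.mul (.v (nat_lit 5)) (.v (nat_lit 2))), (.mul (.v (nat_lit 2)) (.v (nat_lit 5)))), ((.mul (.mul (.v (nat_lit 3)) (.v (nat_lit 5))) (.v (nat_lit 3))), (.mul (.v (nat_lit 5)) (.v (nat_lit 1)))), ((.mul (.mul (.v (nat_lit 4))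 (.v (nat_lit 5))) (.v (nat_lit 4))), (.mul (.v (nat_lit 5)) (.v (nat_lit 2)))), ((.mul (.v (nat_lit 6)) (.v (nat_lit 1))), (.mul (.v (nat_lit 1)) (.v (nat_lit 6)))), ((.mul (.v (nat_lit 6)) (.v (nat_lit 3))), (.mul (.v (nat_lit 3)) (.v (nat_lit 6)))), ((.mul (.mul (.v (nat_lit 6)) (.v (nat_lit 2))) (.v (nat_lit 6))), (.mul (.mul (.v (nat_lit 0)) (.v (nat_lit 1))) (.v (nat_lit 2)))), ((.mul (.mul (.v (nat_lit 6)) (.v (nat_lit 4))) (.v (nat_lit 6))), (.mul (.mul (.v (nat_lit 0)) (.v (nat_lit 3))) (.v (nat_lit 4)))), ((.mul (.mul (.v (nat_lit 5)) (.v (nat_lit 6))) (.v (nat_lit 5))), (.mul (.v (nat_lit 6)) (.v (nat_lit 0))))] from t)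
    (show AllEq [z, u, v, a, b, r, s, x, y] [((.mul (.mul (.v (nat_lit 5)) (.v (nat_lit 7))) (.inv (.v (nat_lit 5)))), (.inv (.v (nat_lit 7)))), ((.mul (.mul (.v (nat_lit 5)) (.v (nat_lit 8))) (.inv (.v (nat_lit 5)))), (.v (nat_lit 8))), ((.mul (.mul (.v (nat_lit 6)) (.v (nat_lit 7))) (.inv (.v (nat_lit 6)))), (.v (nat_lit 7))), ((.mul (.mul (.v (nat_lit 6)) (.v (nat_lit 8))) (.inv (.v (nat_lit 6)))), (.inv (.v (nat_lit 8))))] from l)))))
    [(.v (nat_lit 0)), (.v (nat_lit 1)), (.v (nat_lit 2)), (.v (nat_lit 3)), (.v (nat_lit 4)), (.v (nat_lit 5)), (.v (nat_lit 6)), (.v (nat_lit 7)), (.inv (.v (nat_lit 7))), (.v (nat_lit 8)), (.inv (.v (nat_lit 8)))] (by decide +kernel)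
noncomputable abbrev HU_o : Ops := pops (nat_lit 48) (nat_lit 6) (nat_lit 63) (nat_lit 0xbeeb6caeaa689e69648e28607de75c6da6585d65544d24503ce34c2ca2481c61440c2040)
noncomputable def HU_cs : List ℕ := [(nat_lit 0xb2baafbad8e279d85ca6895b6a79a481f59549960f31738b51129340d1440c22481c6001), (nat_lit 0xa689638a1bee655b57b2ba946966123df9dd91e9a015c3906d12892cd3080c64c41c2040), (nat_lit 0xa68aa38adbee598864b2b95b45955c80e7a65e774f4d27c451a1cc20324b341150280182), (nat_lit 0x9e691e75c655bee5ed5984936acaea31fa62963a0582144b24e29b40d3c81c25040c6040), (nat_lit 0x9e6a9e76d598bee95c65585b42cae480b8e85e989431211f3c819368224e04d15100a1c3), (nat_lit 0x8e89698a1b2e7a6b64beba8f46775c50e5985d955b3127d081a0d32c7148282244346001), (nat_lit 0xb60bea6ec954913a6784f8ee35c31eaca5c96521689961c68837dd09a60145054038b204), (nat_lit 0x9e691e75cbeea68b65b2ba934238a130b6585d65605127d16da18f382248347144283040), (nat_lit 0xa689638a19e6bee92d79d71446caea3ce6585d655381241f30b1db68324818d14408a040),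 (nat_lit 0x35fb8a6ab1d1190a260ce8afb422ddb2a0486001299d59648e181e71b6575135923cc245), (nat_lit 0x82d7dba9a5254e44503e138db8c70b2ab257205487184a260e2bc276c058a670158de656)]
noncomputable def HU_L : List (List ℕ) := [[(nat_lit 0xbeeb6caeaa689e69648e28607de75c6da6585d65544d24503ce34c2ca2481c61440c2040), (nat_lit 0xb2baafbad8e279d85ca6895b6a79a481f59549960f31738b51129340d1440c22481c6001), (nat_lit 0xa68aa38adbee598864b2b95b45955c80e7a65e774f4d27c451a1cc20324b341150280182), (nat_lit 0x9e6a9e76d598bee95c65585b42cae480b8e85e989431211f3c819368224e04d15100a1c3), (nat_lit 0xb60bea6ec954913a6784f8ee35c31eaca5c96521689961c68837dd09a60145054038b204), (nat_lit 0x35fb8a6ab1d1190a260ce8afb422ddb2a0486001299d59648e181e71b6575135923cc245), (nat_lit 0x82d7dba9a5254e44503e138db8c70b2ab257205487184a260e2bc276c058a670158de656), (nat_lit 0x8e2b69a2ab2b65595cbee8603966246d19dd49e9943176883df0d310715028024b341086), (nat_lit 0x79db679aa655b2b8645989602efb9c6d0a624a3a0f4d721a50408c7c615100a24e04d0c7),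 (nat_lit 0xa9bb2d82f84f70c8de954a6b2a44e7b8d4855972627590c2a076a619f54038b601450108), (nat_lit 0x29aacd7ee0ce08b89d1d1a2ca86426bed00454122379885ca656e79205923cc657513149), (nat_lit 0x6ea6a0b5f3e131c38b52544aad391036e1521095c308889d1e8b069af0158de058a67599), (nat_lit 0x598b5956a9e6a6885c79d9601238a46c8b2e5efacf31241150b05338025a18715f08334a), (nat_lit 0x954b213efb604898e7a9ba6b1d715eb83713664322996340a0a45d04e6027c854668440b), (nat_lit 0x1d1ac33ae35f0088a629aa2c94111dbe10906062e39d5b52a6a51e5cf65c8095a46c54cc), (nat_lit 0x52568f85f82d1573906ea44aa0948b362324213703184b951eba4262305dbd9026b169de), (nat_lit 0x7a68677656588e8b5c595a944298a43cbbee5ecadb4d211180808c38615a00325f04728d), (nat_lit 0x913b1c32f489b60a5e5c58eb1aa6e7b828546653e875600d88142628b60321f54711a44e), (nat_lit 0x190ac22ee00835fa1d0448ac90a6a6bdc0d16073a97954ad8d74e7a8c6612605a515b50f), (nat_lit 0x4e468c71f15782d44b25238a99ba9035d3e521484708456e0d89c6ade06266f0285aca63),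 (nat_lit 0xa9ba6d82384f913bd6954b281dc3198835c979216e627341aca45500e9867c47426882d0), (nat_lit 0xa9b9ed81e95470c5af84f6661a44ec7425c98d2158ba904d54042b28ba0711f88321a391), (nat_lit 0xbaf36bb0aa299a71c68a30df81d78269b61905559140051338fb4b32a20996410585c5d2), (nat_lit 0x7cd81a29b4474065133833edbcb08caac201244025905a67863b9c7ab5d9a2649689d615), (nat_lit 0x29aa0d7e20ce190b951d1ae99422d88e104874012f666b57b2a51648f9e480579c6c9313), (nat_lit 0x29a98d7dd1d108b56e0ce62790642b79c048880119be85ed5924eca8ca651608e125b3d4), (nat_lit 0x6ea460b4e3e14e47c4525687a0c7080e22572c548d050b982aba405631a6bd609db197a7), (nat_lit 0x6ea420b4b52531c11f3e120699391a09d25738548135162e0159caade1e85af0e266c8e9), (nat_lit 0xaec2aebcd8a375e0c2a291da6e69c67e055601864e2c13cc454a904ed10585c209964497), (nat_lit 0x68a6df3603832c23cc44752ab10193b6f1001480617098de969ae49ee49689d5d9a26558), (nat_lit 0x489bd716c9139548de70ca6e0213e7ac1aa066d6e2756187a022260c460a41154d2ce7da),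 (nat_lit 0x8b8112b1901d189d08ba2f4833a6b1729f60d6a3795925a5c26784566a4d45ad30f81b), (nat_lit 0x1577c949a4e452538b31c44d54f8502986ed220a830849a81dd64689606b9e902e7a3bec), (nat_lit 0xa292a28cdbaf5590c6aec1da5185827cf76706678e40080545b94b26120cb57113a9291c), (nat_lit 0x4476ce0e07cd1013d368a52aa4800cb632c62500a1905bd696ca1c6625deb984a7ad599d), (nat_lit 0x7138e43295c9854bde485b281a53e7882b6066a6eb996007b812dd0d054a10e60d21169f), (nat_lit 0x908862e80480d1b9d004ae99073a68dc35f60a6ac9d54a5bd731e8535aa14f66d2546e0), (nat_lit 0x3243937112573e57cb1526879948500dd82d21ba8a1845683587828a702b5a306e669b2f), (nat_lit 0x9a729d78d559baf1c26160da4ebb067cc8a90688d12c01603899106dc20f5ed1144aa961), (nat_lit 0x4066cb0a01017cd50c2003ea9da293b5e3872510e57055af8599a4b1d5e362e4a956ba22), (nat_lit 0xaec1eebc38a39a7340a2929151d78138f61909559f20680969b944161413b522cca97724), (nat_lit 0x68a51f34f3834068054476e5a4b08986320130402d5d3bd9aaca125a2927b9571ead8766),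 (nat_lit 0xaec1aebc2a2975e00d8a30504e69ca2cc6190d55887c726010591a6dc4544ad38f5ea865), (nat_lit 0x68a4df34c4472c21603832649d019b71e2013c4017b5466f4969aab1d96956e86362b8a8), (nat_lit 0x55935858a9a7a290c275e1df1628c6689aef06eb0e2c04d444c5d03d221b925120721b6a), (nat_lit 0x10180801b4064473cc2c252d58e0d3a9968d25f2a17059e995e6248d55ec9a84af762bab), (nat_lit 0x7670e67876198a93425562914e88c638cbaf06bb1a4001547c970b3e411b4a12205e5aad), (nat_lit 0x2c63d009420138780c1006e59d10d385e7cd25a2aa9055a9b5975c8e64ac5625ef628aee)],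
  [(nat_lit 0xbeeb6caeaa689e69648e28607de75c6da6585d65544d24503ce34c2ca2481c61440c2040), (nat_lit 0xa689638a1bee655b57b2ba946966123df9dd91e9a015c3906d12892cd3080c64c41c2040), (nat_lit 0x9e691e75c655bee5ed5984936acaea31fa62963a0582144b24e29b40d3c81c25040c6040), (nat_lit 0xa62863a25beb9dda9cb2eb5439e9a43d16554966204d768b6df1cc403244346148282040), (nat_lit 0x6555d66129e6a6892579d7057e38a125abebb6cb9352a38b31134f40a6c80c28041c6040), (nat_lit 0xbebaacbada626588528e89604565576ce9e671e7541647cb3da0c94073042864c8342040), (nat_lit 0x9dd71e9a4658a624a15955d3463a2530ebeeaacac552d69025f0cf2c76c4342808286040), (nat_lit 0x6584965579ddbeb72a7a69053acbad251a688638938257d031a1db2c33c4282508346040)],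
  [(nat_lit 0xbeeb6caeaa689e69648e28607de75c6da6585d65544d24503ce34c2ca2481c61440c2040), (nat_lit 0x9e691e75cbeea68b65b2ba934238a130b6585d65605127d16da18f382248347144283040), (nat_lit 0xa689638a19e6bee92d79d71446caea3ce6585d655381241f30b1db68324818d14408a040)]]
noncomputable def HU_WW : List (List (List ℕ)) := [[[],
  [(nat_lit 0)],
  [(nat_lit 2)],
  [(nat_lit 4)],
  [(nat_lit 6)],
  [(nat_lit 9)],
  [(nat_lit 10)],
  [(nat_lit 0), (nat_lit 2)],
  [(nat_lit 0), (nat_lit 4)],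
  [(nat_lit 0), (nat_lit 6)],
  [(nat_lit 0), (nat_lit 9)],
  [(nat_lit 0), (nat_lit 10)],
  [(nat_lit 2), (nat_lit 4)],
  [(nat_lit 2), (nat_lit 6)],
  [(nat_lit 2), (nat_lit 9)],
  [(nat_lit 2), (nat_lit 10)],
  [(nat_lit 4), (nat_lit 5)],
  [(nat_lit 4), (nat_lit 6)],
  [(nat_lit 4), (nat_lit 9)],
  [(nat_lit 4), (nat_lit 10)],
  [(nat_lit 6), (nat_lit 2)],
  [(nat_lit 6), (nat_lit 4)],
  [(nat_lit 6), (nat_lit 9)],
  [(nat_lit 6), (nat_lit 10)],
  [(nat_lit 9), (nat_lit 1)],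
  [(nat_lit 9), (nat_lit 3)],
  [(nat_lit 10), (nat_lit 2)],
  [(nat_lit 10), (nat_lit 4)],
  [(nat_lit 0), (nat_lit 6), (nat_lit 9)],
  [(nat_lit 0), (nat_lit 6), (nat_lit 10)],
  [(nat_lit 2), (nat_lit 4), (nat_lit 6)],
  [(nat_lit 2), (nat_lit 4), (nat_lit 9)],
  [(nat_lit 2), (nat_lit 4), (nat_lit 10)],
  [(nat_lit 2), (nat_lit 6), (nat_lit 9)],
  [(nat_lit 2), (nat_lit 6), (nat_lit 10)],
  [(nat_lit 4), (nat_lit 5), (nat_lit 6)],
  [(nat_lit 4), (nat_lit 5), (nat_lit 9)],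
  [(nat_lit 4), (nat_lit 5), (nat_lit 10)],
  [(nat_lit 4), (nat_lit 6), (nat_lit 9)],
  [(nat_lit 4), (nat_lit 6), (nat_lit 10)],
  [(nat_lit 6), (nat_lit 2), (nat_lit 9)],
  [(nat_lit 6), (nat_lit 2), (nat_lit 10)],
  [(nat_lit 6), (nat_lit 4), (nat_lit 9)],
  [(nat_lit 6), (nat_lit 4), (nat_lit 10)],
  [(nat_lit 2), (nat_lit 4), (nat_lit 6), (nat_lit 9)],
  [(nat_lit 2), (nat_lit 4), (nat_lit 6), (nat_lit 10)],
  [(nat_lit 4), (nat_lit 5), (nat_lit 6), (nat_lit 9)],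
  [(nat_lit 4), (nat_lit 5), (nat_lit 6), (nat_lit 10)]],
  [[],
  [(nat_lit 1)],
  [(nat_lit 3)],
  [(nat_lit 0), (nat_lit 5)],
  [(nat_lit 1), (nat_lit 3)],
  [(nat_lit 0), (nat_lit 1), (nat_lit 5)],
  [(nat_lit 0), (nat_lit 3), (nat_lit 5)],
  [(nat_lit 0), (nat_lit 5), (nat_lit 3)]],
  [[],
  [(nat_lit 7)],
  [(nat_lit 8)]]]
noncomputable def HU_b3_S0 : List ℕ := [nat_lit 0x1300000700000c004008, nat_lit 0x1700000700001000400a, nat_lit 0x1b00000b000010004006, nat_lit 0x1f000013000018004006, nat_lit 0x1f00000200001c00400a]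
noncomputable def HU_b3_S : List (List ℕ) := [HU_b3_S0]
noncomputable def HU_b3_defs : List ℕ := [(nat_lit 0x20000400200002002000010010000100200000001000000000000000000000)]
noncomputable def HU_b3_recs : List ℕ := [(nat_lit 0x600007010000500007010000300006000000300005000000200004)]
noncomputable def HU_b3_L0 : List ℕ := [nat_lit 0x700000100000b00000200000f000003, nat_lit 0x8000000000013000004000017000005, nat_lit 0x200000400000c00000000001b000006, nat_lit 0x600000500000a000006000010000000, nat_lit 0x100000200001400000100001f000007, nat_lit 0x500000300000e000007000018000001, nat_lit 0x1200000700000900000300001c000002, nat_lit 0x1100000600000d000005000020000004]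
noncomputable def HU_b3_L : List (List ℕ) := [HU_b3_L0]
noncomputable def HU_b3_V : List ℕ := [(nat_lit 0x700000006000000050000000400000003000000020000000100000000)]
noncomputable def HU_b3_D : H26.Dag := ⟨[], [[0,0],
  [1,1],
  [2,2],
  [2,1,2,1],
  [1,0,1,0],
  [2,0,2,0]], [], HU_b3_defs, HU_b3_recs⟩
theorem HU_b3_c : HU_b3_D.checkTab HU_b3_S 8 3 HU_b3_V HU_b3_L = true := by decide +kernel
theorem HU_b3 : Bound HU_r_R 3 8 :=
  bound_dag (Bound.zero HU_r_R) (K := 3) (J := [0,1,2,16,19,20]) (by decide +kernel) HU_b3_c (by decide +kernel)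
noncomputable def HU_b5_S0 : List ℕ := [nat_lit 0x1, nat_lit 0x1, nat_lit 0x1, nat_lit 0x700000100000800400c, nat_lit 0x7000005000008004010, nat_lit 0x700000100000900000800c016, nat_lit 0xb00000100000c00400e, nat_lit 0xb00000900000c004012, nat_lit 0xb00000100000500000c00800a, nat_lit 0xf00000d00001000400e, nat_lit 0xf000015000010004012, nat_lit 0xf00000700000c004014, nat_lit 0xf00000d00001100001000800a]
noncomputable def HU_b5_S : List (List ℕ) := [HU_b5_S0]
noncomputable def HU_b5_defs : List ℕ := [(nat_lit 0x400001004000000030000000000000)]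
noncomputable def HU_b5_recs : List ℕ := [(nat_lit 0x10000300003030000200003020000300003000000300003010000200002020000200002000000200002020000100001010000100001000000100001020000000000010000000000000000000000)]
noncomputable def HU_b5_L0 : List ℕ := [nat_lit 0x100000000000500000000000900000000000700000100000b000002, nat_lit 0xd00000100001100000100001500000100000800000000000f000003, nat_lit 0x1900000200002100000200001d00000200002e00000300000c000000, nat_lit 0x2500000300003100000300002900000300002d000002000010000001]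
noncomputable def HU_b5_L : List (List ℕ) := [HU_b5_L0]
noncomputable def HU_b5_V : List ℕ := [(nat_lit 0x3000000020000000100000000)]
noncomputable def HU_b5_D : H26.Dag := ⟨[], [[0,0],
  [1,1],
  [2,2],
  [3,3],
  [4,4],
  [0,4,1,4,1],
  [3,0,3,0],
  [4,0,4,0],
  [3,1,3,1],
  [4,2,4,2],
  [4,3,4,3],
  [2,0,3,2,3]], [0,1,2], HU_b5_defs, HU_b5_recs⟩
theorem HU_b5_c : HU_b5_D.checkTab HU_b5_S 4 5 HU_b5_V HU_b5_L = true := by decide +kernel
theorem HU_b5 : Bound HU_r_R 5 32 :=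
  bound_dag HU_b3 (K := 5) (J := [0,1,2,3,4,17,26,27,28,29,30,32]) (by decide +kernel) HU_b5_c (by decide +kernel)
noncomputable def HU_b7_S0 : List ℕ := [nat_lit 0x1, nat_lit 0x1, nat_lit 0x1, nat_lit 0x1, nat_lit 0x1, nat_lit 0x700000100000800400e, nat_lit 0x7000005000008008012, nat_lit 0x7000009000008008014, nat_lit 0x1900000700000d000008008016, nat_lit 0x1d000007000011000008008018, nat_lit 0xb00000100000c004010, nat_lit 0xb00000500000c00801a, nat_lit 0xb00000d00000c00801c, nat_lit 0xb00000900000500000100000c01001e, nat_lit 0xb00001100000d00000100000c010020, nat_lit 0xf000015000010004010, nat_lit 0xf00001900001000801a, nat_lit 0xf00002100001000801c, nat_lit 0x3d00000f00000700000c008022, nat_lit 0xf00001d00001900001500001001001e, nat_lit 0xf000025000021000015000010010020]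
noncomputable def HU_b7_S : List (List ℕ) := [HU_b7_S0]
noncomputable def HU_b7_defs : List ℕ := [(nat_lit 0x600001006000000050000000000000)]
noncomputable def HU_b7_recs : List ℕ := [(nat_lit 0x40000300003020000300003050000200003030000300003010000300003000000300003040000200002020000200002030000200002010000200002000000200002040000100001030000100001020000100001010000100001000000100001040000000000030000000000020000000000010000000000000000000000)]
noncomputable def HU_b7_L0 : List ℕ := [nat_lit 0x100000000000500000000000900000000000d00000000001100000000000700000100000b000002, nat_lit 0x1500000100001900000100001d00000100002100000100002500000100000800000000000f000003, nat_lit 0x2900000200002d00000200003500000200003100000200003900000200004a00000300000c000000, nat_lit 0x3d00000300004100000300004d000003000045000003000051000003000049000002000010000001]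
noncomputable def HU_b7_L : List (List ℕ) := [HU_b7_L0]
noncomputable def HU_b7_V : List ℕ := [(nat_lit 0x3000000020000000100000000)]
noncomputable def HU_b7_D : H26.Dag := ⟨[], [[0,0],
  [1,1],
  [2,2],
  [3,3],
  [4,4],
  [5,5],
  [6,6],
  [5,0,5,0],
  [6,0,6,0],
  [1,5,1,5],
  [2,5,2,5],
  [5,1,3,5,3],
  [5,2,4,5,4],
  [1,6,1,6],
  [3,6,3,6],
  [0,1,2,6,2,6],
  [0,3,4,6,4,6],
  [6,0,5,6,5]], [0,1,2,3,4], HU_b7_defs, HU_b7_recs⟩
theorem HU_b7_c : HU_b7_D.checkTab HU_b7_S 4 7 HU_b7_V HU_b7_L = true := by decide +kernel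
theorem HU_b7 : Bound HU_r_R 7 128 :=
  bound_dag HU_b5 (K := 7) (J := [0,1,2,3,4,5,6,33,34,35,36,37,38,39,40,41,42,43]) (by decide +kernel) HU_b7_c (by decide +kernel)
noncomputable def HU_b9_S0 : List ℕ := [nat_lit 0x1, nat_lit 0x1, nat_lit 0x1, nat_lit 0x1, nat_lit 0x1, nat_lit 0x1, nat_lit 0x1, nat_lit 0x7000005000008000014, nat_lit 0x7000009000008000016, nat_lit 0x700000100000800c01c, nat_lit 0x700001900000800c022, nat_lit 0xb000008006012, nat_lit 0xb00000d00000c008014, nat_lit 0xb00001100000c008016, nat_lit 0xb00000100000c00401c, nat_lit 0xb00001500000800a020, nat_lit 0xb00001900000c004022, nat_lit 0x2d00003100000b000005000008012018, nat_lit 0x2d00003500000b00000900000801201a, nat_lit 0x2e00004900002d000016, nat_lit 0x3900004100004d00004100004d00401e]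
noncomputable def HU_b9_S : List (List ℕ) := [HU_b9_S0]
noncomputable def HU_b9_defs : List ℕ := [(nat_lit 0x8000000070000000000000)]
noncomputable def HU_b9_recs : List ℕ := [(nat_lit 0x30000200002040000200002020000100001010000100001060000200002050000100002000000200002020000200002010000200002080000100002060000100001000000100001040000100001030000100001060000000000050000000000040000000000030000000000020000000000010000000000000000000000)]
noncomputable def HU_b9_L0 : List ℕ := [nat_lit 0x100000000000500000000000900000000000d00000000001100000000001500000000001900000000000700000100000b000002, nat_lit 0x2500000100004500000100004900000100001d00000100002100000100003e00000200002900000100002e000002000008000000, nat_lit 0x3900000200003100000200003500000200005100000200004d00000200003d00000100004100000200000c00000000002d000001]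
noncomputable def HU_b9_L : List (List ℕ) := [HU_b9_L0]
noncomputable def HU_b9_V : List ℕ := [(nat_lit 0x20000000100000000)]
noncomputable def HU_b9_D : H26.Dag := ⟨[0,1,2,3,4,5,6,8,7], [[0,0],
  [1,1],
  [2,2],
  [3,3],
  [4,4],
  [5,5],
  [6,6],
  [7,8],
  [8,7],
  [7,7,7],
  [3,8,1,7],
  [4,8,2,7],
  [7,1,7,1,7,1],
  [7,2,7,2,7,2],
  [8,0,7,0],
  [0,3,4,6,4,6],
  [7,5,7,5],
  [8,6,7,6]], [0,1,2,3,4,5,6], HU_b9_defs, HU_b9_recs⟩
theorem HU_b9_c : HU_b9_D.checkTab HU_b9_S 3 9 HU_b9_V HU_b9_L = true := by decide +kernel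
theorem HU_b9 : Bound HU_r_R 9 384 :=
  bound_dag HU_b7 (K := 9) (J := [0,1,2,3,4,5,6,7,8,11,12,13,14,15,18,42,44,46]) (by decide +kernel) HU_b9_c (by decide +kernel)
noncomputable def HU_b11_S0 : List ℕ := [nat_lit 0x1, nat_lit 0x1, nat_lit 0x1, nat_lit 0x1, nat_lit 0x1, nat_lit 0x1, nat_lit 0x1, nat_lit 0x1, nat_lit 0x700001d00000800001c, nat_lit 0x700000100000800001e, nat_lit 0x7000005000008000020, nat_lit 0x700001500000800c026, nat_lit 0x25000007000009000008000029004022, nat_lit 0x22000031000021000016, nat_lit 0x22000029000021000018, nat_lit 0xb00000800601a, nat_lit 0xb00001e00000c00801c, nat_lit 0xb00000100000c00801e, nat_lit 0xb00000900000c008020, nat_lit 0xb00001500000c004026, nat_lit 0xb00001900000800a028, nat_lit 0xb00000900000500000100000c010022, nat_lit 0x41000055000042000018, nat_lit 0x45000052000039000051000059004024]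
noncomputable def HU_b11_S : List (List ℕ) := [HU_b11_S0]
noncomputable def HU_b11_defs : List ℕ := [(nat_lit 0xa000000090000000000000)]
noncomputable def HU_b11_recs : List ℕ := [(nat_lit 0x300002000020400002000020200002000020600001000020500002000020100002000020000002000020700002000020a0000100002040000100001030000100001010000100001050000100001020000100001000000100001080000100001070000000000060000000000050000000000040000000000030000000000020000000000010000000000000000000000)]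
noncomputable def HU_b11_L0 : List ℕ := [nat_lit 0x100000000000500000000000900000000000d00000000001100000000001500000000001900000000001d00000000001e00000000000700000100000b000002, nat_lit 0x2500000100003100000100002900000100003500000100003900000100002d00000100005200000200002200000100002100000100003e000002000008000000, nat_lit 0x4500000200004900000200005500000200005d00000200005900000200004d00000200005100000100004100000200004200000200000c00000000003d000001]
noncomputable def HU_b11_L : List (List ℕ) := [HU_b11_L0]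
noncomputable def HU_b11_V : List ℕ := [(nat_lit 0x20000000100000000)]
noncomputable def HU_b11_D : H26.Dag := ⟨[0,1,2,3,4,5,6,8,7,10,9], [[0,0],
  [1,1],
  [2,2],
  [3,3],
  [4,4],
  [5,5],
  [6,6],
  [7,8],
  [8,7],
  [9,10],
  [10,9],
  [3,8,1,7],
  [4,8,2,7],
  [9,9,9],
  [8,10,7,9],
  [0,10,0,9],
  [2,10,1,9],
  [0,1,2,10,2,9],
  [0,3,4,6,4,6],
  [10,5,9,5],
  [9,6,9,6]], [0,1,2,3,4,5,6,7,8], HU_b11_defs, HU_b11_recs⟩
theorem HU_b11_c : HU_b11_D.checkTab HU_b11_S 3 11 HU_b11_V HU_b11_L = true := by decide +kernel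
theorem HU_b11 : Bound HU_r_R 11 1152 :=
  bound_dag HU_b9 (K := 11) (J := [0,1,2,3,4,5,6,7,8,9,10,12,13,21,22,23,24,25,42,45,47]) (by decide +kernel) HU_b11_c (by decide +kernel)
theorem HU_P : PModel (nat_lit 48) (nat_lit 6) (nat_lit 63) (nat_lit 0xbeeb6caeaa689e69648e28607de75c6da6585d65544d24503ce34c2ca2481c61440c2040) HU_cs HU_r_R HU_L 1152 :=
  ⟨PkOK.of (by decide +kernel), by decide +kernel, by decide +kernel, HU_b11, ⟨HU_WW, by decide +kernel⟩,
    ⟨fun c => Nat.mod c (nat_lit 203687), by decide +kernel⟩⟩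
noncomputable def HU_soc_t0 : ST := (.node (nat_lit 97084) (.node (nat_lit 45591) (.node (nat_lit 21863) (.node (nat_lit 11051) (.node (nat_lit 6219) (.node (nat_lit 3046) (.node (nat_lit 1734) (.node (nat_lit 289) (.node (nat_lit 179) (.leaf (nat_lit 48)) (.leaf (nat_lit 96))) (.node (nat_lit 449) (.leaf (nat_lit 0)) (.node (nat_lit 824) (.leaf (nat_lit 3)) (.leaf (nat_lit 48))))) (.node (nat_lit 2826) (.node (nat_lit 1737) (.leaf (nat_lit 96)) (.node (nat_lit 1985) (.leaf (nat_lit 2)) (.leaf (nat_lit 48)))) (.node (nat_lit 2918) (.leaf (nat_lit 2)) (.node (nat_lit 2971) (.leaf (nat_lit 48)) (.leaf (nat_lit 2)))))) (.node (nat_lit 5383) (.node (nat_lit 4564) (.node (nat_lit 3976) (.leaf (nat_lit 48)) (.node (nat_lit 4313) (.leaf (nat_lit 3)) (.leaf (nat_lit 48)))) (.node (nat_lit 4835) (.leaf (nat_lit 3)) (.node (nat_lit 5142) (.leaf (nat_lit 0)) (.leaf (nat_lit 48))))) (.node (nat_lit 5796) (.node (nat_lit 5430) (.leaf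 (nat_lit 3)) (.node (nat_lit 5629) (.leaf (nat_lit 48)) (.leaf (nat_lit 96)))) (.node (nat_lit 5949) (.leaf (nat_lit 48)) (.node (nat_lit 6034) (.leaf (nat_lit 3)) (.leaf (nat_lit 2))))))) (.node (nat_lit 8151) (.node (nat_lit 7111) (.node (nat_lit 6825) (.node (nat_lit 6798) (.leaf (nat_lit 48)) (.leaf (nat_lit 0))) (.node (nat_lit 7068) (.leaf (nat_lit 2)) (.node (nat_lit 7076) (.leaf (nat_lit 3)) (.leaf (nat_lit 48))))) (.node (nat_lit 8004) (.node (nat_lit 7163) (.leaf (nat_lit 3)) (.node (nat_lit 7290) (.leaf (nat_lit 48)) (.leaf (nat_lit 96)))) (.node (nat_lit 8075) (.leaf (nat_lit 48)) (.node (nat_lit 8084) (.leaf (nat_lit 2)) (.leaf (nat_lit 96)))))) (.node (nat_lit 9953) (.node (nat_lit 9406) (.node (nat_lit 8794) (.leaf (nat_lit 48)) (.node (nat_lit 8814) (.leaf (nat_lit 2)) (.leaf (nat_lit 48)))) (.node (nat_lit 9446) (.leaf (nat_lit 2)) (.node (nat_lit 9515) (.leaf (nat_lit 48)) (.leaf (nat_lit 2))))) (.node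 (nat_lit 10625) (.node (nat_lit 10169) (.leaf (nat_lit 48)) (.node (nat_lit 10600) (.leaf (nat_lit 2)) (.leaf (nat_lit 48)))) (.node (nat_lit 10895) (.leaf (nat_lit 96)) (.node (nat_lit 10920) (.leaf (nat_lit 48)) (.leaf (nat_lit 96)))))))) (.node (nat_lit 16801) (.node (nat_lit 13813) (.node (nat_lit 12261) (.node (nat_lit 11471) (.node (nat_lit 11238) (.leaf (nat_lit 48)) (.leaf (nat_lit 96))) (.node (nat_lit 11701) (.leaf (nat_lit 48)) (.node (nat_lit 11722) (.leaf (nat_lit 96)) (.leaf (nat_lit 3))))) (.node (nat_lit 12750) (.node (nat_lit 12317) (.leaf (nat_lit 48)) (.node (nat_lit 12466) (.leaf (nat_lit 2)) (.leaf (nat_lit 48)))) (.node (nat_lit 12889) (.leaf (nat_lit 0)) (.node (nat_lit 13643) (.leaf (nat_lit 48)) (.leaf (nat_lit 2)))))) (.node (nat_lit 14837) (.node (nat_lit 14576) (.node (nat_lit 13821) (.leaf (nat_lit 96)) (.node (nat_lit 13892) (.leaf (nat_lit 48)) (.leaf (nat_lit 96)))) (.node (nat_lit 14681)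 (.leaf (nat_lit 48)) (.node (nat_lit 14738) (.leaf (nat_lit 2)) (.leaf (nat_lit 96))))) (.node (nat_lit 15787) (.node (nat_lit 15273) (.leaf (nat_lit 48)) (.node (nat_lit 15480) (.leaf (nat_lit 96)) (.leaf (nat_lit 48)))) (.node (nat_lit 16202) (.leaf (nat_lit 2)) (.node (nat_lit 16751) (.leaf (nat_lit 48)) (.leaf (nat_lit 0))))))) (.node (nat_lit 19156) (.node (nat_lit 17507) (.node (nat_lit 17171) (.node (nat_lit 17093) (.leaf (nat_lit 96)) (.node (nat_lit 17119) (.leaf (nat_lit 48)) (.leaf (nat_lit 2)))) (.node (nat_lit 17297) (.leaf (nat_lit 96)) (.node (nat_lit 17469) (.leaf (nat_lit 48)) (.leaf (nat_lit 0))))) (.node (nat_lit 18372) (.node (nat_lit 18028) (.leaf (nat_lit 3)) (.node (nat_lit 18218) (.leaf (nat_lit 48)) (.leaf (nat_lit 2)))) (.node (nat_lit 18603) (.leaf (nat_lit 48)) (.node (nat_lit 18903) (.leaf (nat_lit 3)) (.leaf (nat_lit 48)))))) (.node (nat_lit 20700) (.node (nat_lit 19480) (.node (nat_lit 19278)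 (.leaf (nat_lit 2)) (.node (nat_lit 19394) (.leaf (nat_lit 96)) (.leaf (nat_lit 48)))) (.node (nat_lit 19496) (.leaf (nat_lit 2)) (.node (nat_lit 20270) (.leaf (nat_lit 48)) (.leaf (nat_lit 96))))) (.node (nat_lit 21507) (.node (nat_lit 20867) (.leaf (nat_lit 48)) (.node (nat_lit 21153) (.leaf (nat_lit 96)) (.leaf (nat_lit 48)))) (.node (nat_lit 21719) (.leaf (nat_lit 2)) (.node (nat_lit 21833) (.leaf (nat_lit 96)) (.leaf (nat_lit 2))))))))) (.node (nat_lit 35429) (.node (nat_lit 29520) (.node (nat_lit 25118) (.node (nat_lit 22435) (.node (nat_lit 22179) (.node (nat_lit 22040) (.leaf (nat_lit 96)) (.leaf (nat_lit 48))) (.node (nat_lit 22250) (.leaf (nat_lit 96)) (.node (nat_lit 22351) (.leaf (nat_lit 2)) (.leaf (nat_lit 48))))) (.node (nat_lit 24192) (.node (nat_lit 22532) (.leaf (nat_lit 3)) (.node (nat_lit 23535) (.leaf (nat_lit 48)) (.leaf (nat_lit 3)))) (.node (nat_lit 24652) (.leaf (nat_lit 96)) (.node (nat_lit 25092)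 (.leaf (nat_lit 48)) (.leaf (nat_lit 96)))))) (.node (nat_lit 28378) (.node (nat_lit 25508) (.node (nat_lit 25163) (.leaf (nat_lit 3)) (.node (nat_lit 25361) (.leaf (nat_lit 96)) (.leaf (nat_lit 2)))) (.node (nat_lit 25555) (.leaf (nat_lit 48)) (.node (nat_lit 25836) (.leaf (nat_lit 2)) (.leaf (nat_lit 48))))) (.node (nat_lit 29024) (.node (nat_lit 28450) (.leaf (nat_lit 96)) (.node (nat_lit 28466) (.leaf (nat_lit 48)) (.leaf (nat_lit 96)))) (.node (nat_lit 29032) (.leaf (nat_lit 48)) (.node (nat_lit 29224) (.leaf (nat_lit 2)) (.leaf (nat_lit 48))))))) (.node (nat_lit 32397) (.node (nat_lit 31328) (.node (nat_lit 30685) (.node (nat_lit 29558) (.leaf (nat_lit 2)) (.node (nat_lit 30648) (.leaf (nat_lit 48)) (.leaf (nat_lit 2)))) (.node (nat_lit 30938) (.leaf (nat_lit 48)) (.node (nat_lit 31103) (.leaf (nat_lit 96)) (.leaf (nat_lit 2))))) (.node (nat_lit 32093) (.node (nat_lit 31862) (.leaf (nat_lit 48)) (.node (nat_lit 31990)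 (.leaf (nat_lit 96)) (.leaf (nat_lit 48)))) (.node (nat_lit 32370) (.leaf (nat_lit 96)) (.node (nat_lit 32391) (.leaf (nat_lit 48)) (.leaf (nat_lit 3)))))) (.node (nat_lit 33421) (.node (nat_lit 32705) (.node (nat_lit 32506) (.leaf (nat_lit 96)) (.node (nat_lit 32673) (.leaf (nat_lit 2)) (.leaf (nat_lit 96)))) (.node (nat_lit 32803) (.leaf (nat_lit 3)) (.node (nat_lit 33013) (.leaf (nat_lit 48)) (.leaf (nat_lit 96))))) (.node (nat_lit 34966) (.node (nat_lit 34233) (.leaf (nat_lit 48)) (.node (nat_lit 34777) (.leaf (nat_lit 96)) (.leaf (nat_lit 48)))) (.node (nat_lit 35080) (.leaf (nat_lit 96)) (.node (nat_lit 35400) (.leaf (nat_lit 48)) (.leaf (nat_lit 96)))))))) (.node (nat_lit 39839) (.node (nat_lit 38053) (.node (nat_lit 36275) (.node (nat_lit 35789) (.node (nat_lit 35518) (.leaf (nat_lit 2)) (.leaf (nat_lit 48))) (.node (nat_lit 35934) (.leaf (nat_lit 2)) (.node (nat_lit 36000) (.leaf (nat_lit 3)) (.leaf (nat_lit 96)))))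 (.node (nat_lit 37564) (.node (nat_lit 36967) (.leaf (nat_lit 48)) (.node (nat_lit 37044) (.leaf (nat_lit 3)) (.leaf (nat_lit 48)))) (.node (nat_lit 37570) (.leaf (nat_lit 2)) (.node (nat_lit 37594) (.leaf (nat_lit 48)) (.leaf (nat_lit 96)))))) (.node (nat_lit 39382) (.node (nat_lit 38686) (.node (nat_lit 38385) (.leaf (nat_lit 2)) (.node (nat_lit 38524) (.leaf (nat_lit 48)) (.leaf (nat_lit 96)))) (.node (nat_lit 38908) (.leaf (nat_lit 3)) (.node (nat_lit 39118) (.leaf (nat_lit 96)) (.leaf (nat_lit 48))))) (.node (nat_lit 39534) (.node (nat_lit 39426) (.leaf (nat_lit 3)) (.node (nat_lit 39495) (.leaf (nat_lit 48)) (.leaf (nat_lit 3)))) (.node (nat_lit 39553) (.leaf (nat_lit 2)) (.node (nat_lit 39631) (.leaf (nat_lit 96)) (.leaf (nat_lit 0))))))) (.node (nat_lit 43173) (.node (nat_lit 42019) (.node (nat_lit 40808) (.node (nat_lit 40464) (.leaf (nat_lit 48)) (.node (nat_lit 40805) (.leaf (nat_lit 96)) (.leaf (nat_lit 2))))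 (.node (nat_lit 41363) (.leaf (nat_lit 48)) (.node (nat_lit 41782) (.leaf (nat_lit 2)) (.leaf (nat_lit 96))))) (.node (nat_lit 42911) (.node (nat_lit 42061) (.leaf (nat_lit 2)) (.node (nat_lit 42804) (.leaf (nat_lit 48)) (.leaf (nat_lit 96)))) (.node (nat_lit 42941) (.leaf (nat_lit 48)) (.node (nat_lit 43157) (.leaf (nat_lit 96)) (.leaf (nat_lit 2)))))) (.node (nat_lit 44479) (.node (nat_lit 43746) (.node (nat_lit 43590) (.leaf (nat_lit 48)) (.node (nat_lit 43629) (.leaf (nat_lit 96)) (.leaf (nat_lit 0)))) (.node (nat_lit 43839) (.leaf (nat_lit 2)) (.node (nat_lit 43972) (.leaf (nat_lit 48)) (.leaf (nat_lit 2))))) (.node (nat_lit 45248) (.node (nat_lit 44756) (.leaf (nat_lit 0)) (.node (nat_lit 44801) (.leaf (nat_lit 48)) (.leaf (nat_lit 2)))) (.node (nat_lit 45365) (.leaf (nat_lit 48)) (.node (nat_lit 45460) (.leaf (nat_lit 96)) (.leaf (nat_lit 3)))))))))) (.node (nat_lit 71929) (.node (nat_lit 58387) (.node (nat_lit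 50859) (.node (nat_lit 46853) (.node (nat_lit 46185) (.node (nat_lit 45782) (.node (nat_lit 45765) (.leaf (nat_lit 96)) (.leaf (nat_lit 48))) (.node (nat_lit 46170) (.leaf (nat_lit 0)) (.node (nat_lit 46179) (.leaf (nat_lit 3)) (.leaf (nat_lit 48))))) (.node (nat_lit 46644) (.node (nat_lit 46256) (.leaf (nat_lit 96)) (.node (nat_lit 46599) (.leaf (nat_lit 48)) (.leaf (nat_lit 96)))) (.node (nat_lit 46734) (.leaf (nat_lit 48)) (.node (nat_lit 46801) (.leaf (nat_lit 96)) (.leaf (nat_lit 48)))))) (.node (nat_lit 49698) (.node (nat_lit 48146) (.node (nat_lit 47051) (.leaf (nat_lit 96)) (.node (nat_lit 47611) (.leaf (nat_lit 48)) (.leaf (nat_lit 2)))) (.node (nat_lit 49526) (.leaf (nat_lit 48)) (.node (nat_lit 49695) (.leaf (nat_lit 2)) (.leaf (nat_lit 3))))) (.node (nat_lit 50306) (.node (nat_lit 50228) (.leaf (nat_lit 2)) (.node (nat_lit 50250) (.leaf (nat_lit 48)) (.leaf (nat_lit 0)))) (.node (nat_lit 50585) (.leaf (nat_lit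 48)) (.node (nat_lit 50834) (.leaf (nat_lit 2)) (.leaf (nat_lit 96))))))) (.node (nat_lit 54673) (.node (nat_lit 52902) (.node (nat_lit 52337) (.node (nat_lit 51122) (.leaf (nat_lit 48)) (.node (nat_lit 52100) (.leaf (nat_lit 0)) (.leaf (nat_lit 2)))) (.node (nat_lit 52768) (.leaf (nat_lit 96)) (.node (nat_lit 52895) (.leaf (nat_lit 48)) (.leaf (nat_lit 2))))) (.node (nat_lit 53683) (.node (nat_lit 53285) (.leaf (nat_lit 48)) (.node (nat_lit 53528) (.leaf (nat_lit 3)) (.leaf (nat_lit 96)))) (.node (nat_lit 54496) (.leaf (nat_lit 48)) (.node (nat_lit 54562) (.leaf (nat_lit 0)) (.leaf (nat_lit 2)))))) (.node (nat_lit 57428) (.node (nat_lit 55986) (.node (nat_lit 55026) (.leaf (nat_lit 48)) (.node (nat_lit 55291) (.leaf (nat_lit 96)) (.leaf (nat_lit 48)))) (.node (nat_lit 56237) (.leaf (nat_lit 2)) (.node (nat_lit 57125) (.leaf (nat_lit 48)) (.leaf (nat_lit 2))))) (.node (nat_lit 57826) (.node (nat_lit 57577) (.leaf (nat_lit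 96)) (.node (nat_lit 57708) (.leaf (nat_lit 2)) (.leaf (nat_lit 3)))) (.node (nat_lit 58008) (.leaf (nat_lit 96)) (.node (nat_lit 58308) (.leaf (nat_lit 48)) (.leaf (nat_lit 96)))))))) (.node (nat_lit 63945) (.node (nat_lit 61450) (.node (nat_lit 59713) (.node (nat_lit 59490) (.node (nat_lit 58793) (.leaf (nat_lit 48)) (.leaf (nat_lit 2))) (.node (nat_lit 59540) (.leaf (nat_lit 3)) (.node (nat_lit 59552) (.leaf (nat_lit 96)) (.leaf (nat_lit 48))))) (.node (nat_lit 60684) (.node (nat_lit 59787) (.leaf (nat_lit 96)) (.node (nat_lit 60424) (.leaf (nat_lit 48)) (.leaf (nat_lit 3)))) (.node (nat_lit 60712) (.leaf (nat_lit 48)) (.node (nat_lit 60991) (.leaf (nat_lit 96)) (.leaf (nat_lit 48)))))) (.node (nat_lit 62502) (.node (nat_lit 62173) (.node (nat_lit 61730) (.leaf (nat_lit 96)) (.node (nat_lit 61990) (.leaf (nat_lit 2)) (.leaf (nat_lit 96)))) (.node (nat_lit 62174) (.leaf (nat_lit 2)) (.node (nat_lit 62257) (.leaf (nat_lit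 96)) (.leaf (nat_lit 48))))) (.node (nat_lit 62865) (.node (nat_lit 62527) (.leaf (nat_lit 0)) (.node (nat_lit 62545) (.leaf (nat_lit 2)) (.leaf (nat_lit 96)))) (.node (nat_lit 63272) (.leaf (nat_lit 2)) (.node (nat_lit 63721) (.leaf (nat_lit 48)) (.leaf (nat_lit 2))))))) (.node (nat_lit 65761) (.node (nat_lit 65227) (.node (nat_lit 64670) (.node (nat_lit 64371) (.leaf (nat_lit 96)) (.node (nat_lit 64454) (.leaf (nat_lit 48)) (.leaf (nat_lit 3)))) (.node (nat_lit 64810) (.leaf (nat_lit 48)) (.node (nat_lit 65049) (.leaf (nat_lit 96)) (.leaf (nat_lit 3))))) (.node (nat_lit 65417) (.node (nat_lit 65375) (.leaf (nat_lit 48)) (.node (nat_lit 65376) (.leaf (nat_lit 2)) (.leaf (nat_lit 96)))) (.node (nat_lit 65424) (.leaf (nat_lit 48)) (.node (nat_lit 65510) (.leaf (nat_lit 96)) (.leaf (nat_lit 48)))))) (.node (nat_lit 69402) (.node (nat_lit 66767) (.node (nat_lit 66322) (.leaf (nat_lit 96)) (.node (nat_lit 66677) (.leaf (nat_lit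 48)) (.leaf (nat_lit 96)))) (.node (nat_lit 69046) (.leaf (nat_lit 48)) (.node (nat_lit 69075) (.leaf (nat_lit 2)) (.leaf (nat_lit 0))))) (.node (nat_lit 69909) (.node (nat_lit 69475) (.leaf (nat_lit 2)) (.node (nat_lit 69904) (.leaf (nat_lit 48)) (.leaf (nat_lit 96)))) (.node (nat_lit 70473) (.leaf (nat_lit 2)) (.node (nat_lit 71884) (.leaf (nat_lit 48)) (.leaf (nat_lit 96))))))))) (.node (nat_lit 82558) (.node (nat_lit 76668) (.node (nat_lit 74538) (.node (nat_lit 72507) (.node (nat_lit 72264) (.node (nat_lit 72191) (.leaf (nat_lit 48)) (.leaf (nat_lit 96))) (.node (nat_lit 72451) (.leaf (nat_lit 2)) (.node (nat_lit 72483) (.leaf (nat_lit 0)) (.leaf (nat_lit 48))))) (.node (nat_lit 72947) (.node (nat_lit 72707) (.leaf (nat_lit 96)) (.node (nat_lit 72910) (.leaf (nat_lit 2)) (.leaf (nat_lit 48)))) (.node (nat_lit 73052) (.leaf (nat_lit 96)) (.node (nat_lit 74262) (.leaf (nat_lit 48)) (.leaf (nat_lit 96)))))) (.node (nat_lit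 75307) (.node (nat_lit 74738) (.node (nat_lit 74629) (.leaf (nat_lit 48)) (.node (nat_lit 74640) (.leaf (nat_lit 3)) (.leaf (nat_lit 2)))) (.node (nat_lit 74762) (.leaf (nat_lit 96)) (.node (nat_lit 75100) (.leaf (nat_lit 3)) (.leaf (nat_lit 96))))) (.node (nat_lit 76145) (.node (nat_lit 75837) (.leaf (nat_lit 48)) (.node (nat_lit 76062) (.leaf (nat_lit 2)) (.leaf (nat_lit 48)))) (.node (nat_lit 76301) (.leaf (nat_lit 96)) (.node (nat_lit 76404) (.leaf (nat_lit 2)) (.leaf (nat_lit 3))))))) (.node (nat_lit 80556) (.node (nat_lit 78605) (.node (nat_lit 76926) (.node (nat_lit 76832) (.leaf (nat_lit 2)) (.node (nat_lit 76900) (.leaf (nat_lit 48)) (.leaf (nat_lit 96)))) (.node (nat_lit 77098) (.leaf (nat_lit 48)) (.node (nat_lit 77466) (.leaf (nat_lit 2)) (.leaf (nat_lit 48))))) (.node (nat_lit 79912) (.node (nat_lit 78995) (.leaf (nat_lit 2)) (.node (nat_lit 79856) (.leaf (nat_lit 48)) (.leaf (nat_lit 2)))) (.node (nat_lit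 80091) (.leaf (nat_lit 96)) (.node (nat_lit 80409) (.leaf (nat_lit 2)) (.leaf (nat_lit 48)))))) (.node (nat_lit 81600) (.node (nat_lit 80788) (.node (nat_lit 80612) (.leaf (nat_lit 3)) (.node (nat_lit 80776) (.leaf (nat_lit 96)) (.leaf (nat_lit 48)))) (.node (nat_lit 81333) (.leaf (nat_lit 96)) (.node (nat_lit 81503) (.leaf (nat_lit 0)) (.leaf (nat_lit 48))))) (.node (nat_lit 81971) (.node (nat_lit 81607) (.leaf (nat_lit 3)) (.node (nat_lit 81915) (.leaf (nat_lit 2)) (.leaf (nat_lit 0)))) (.node (nat_lit 82055) (.leaf (nat_lit 2)) (.node (nat_lit 82271) (.leaf (nat_lit 48)) (.leaf (nat_lit 96)))))))) (.node (nat_lit 90869) (.node (nat_lit 87453) (.node (nat_lit 84174) (.node (nat_lit 83075) (.node (nat_lit 82768) (.leaf (nat_lit 2)) (.leaf (nat_lit 96))) (.node (nat_lit 83344) (.leaf (nat_lit 2)) (.node (nat_lit 83869) (.leaf (nat_lit 0)) (.leaf (nat_lit 48))))) (.node (nat_lit 86139) (.node (nat_lit 84566) (.leaf (nat_lit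 3)) (.node (nat_lit 85325) (.leaf (nat_lit 48)) (.leaf (nat_lit 96)))) (.node (nat_lit 86167) (.leaf (nat_lit 2)) (.node (nat_lit 86242) (.leaf (nat_lit 96)) (.leaf (nat_lit 48)))))) (.node (nat_lit 89307) (.node (nat_lit 87822) (.node (nat_lit 87533) (.leaf (nat_lit 0)) (.node (nat_lit 87560) (.leaf (nat_lit 2)) (.leaf (nat_lit 48)))) (.node (nat_lit 88649) (.leaf (nat_lit 2)) (.node (nat_lit 89023) (.leaf (nat_lit 48)) (.leaf (nat_lit 2))))) (.node (nat_lit 89762) (.node (nat_lit 89518) (.leaf (nat_lit 96)) (.node (nat_lit 89632) (.leaf (nat_lit 48)) (.leaf (nat_lit 96)))) (.node (nat_lit 90170) (.leaf (nat_lit 48)) (.node (nat_lit 90595) (.leaf (nat_lit 3)) (.leaf (nat_lit 96))))))) (.node (nat_lit 94088) (.node (nat_lit 91793) (.node (nat_lit 90992) (.node (nat_lit 90911) (.leaf (nat_lit 0)) (.node (nat_lit 90942) (.leaf (nat_lit 48)) (.leaf (nat_lit 0)))) (.node (nat_lit 91062) (.leaf (nat_lit 96)) (.node (nat_lit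 91235) (.leaf (nat_lit 48)) (.leaf (nat_lit 96))))) (.node (nat_lit 93496) (.node (nat_lit 92931) (.leaf (nat_lit 48)) (.node (nat_lit 93086) (.leaf (nat_lit 96)) (.leaf (nat_lit 48)))) (.node (nat_lit 93531) (.leaf (nat_lit 2)) (.node (nat_lit 93842) (.leaf (nat_lit 48)) (.leaf (nat_lit 96)))))) (.node (nat_lit 95460) (.node (nat_lit 94770) (.node (nat_lit 94206) (.leaf (nat_lit 48)) (.node (nat_lit 94470) (.leaf (nat_lit 2)) (.leaf (nat_lit 48)))) (.node (nat_lit 94773) (.leaf (nat_lit 96)) (.node (nat_lit 94906) (.leaf (nat_lit 0)) (.leaf (nat_lit 96))))) (.node (nat_lit 96156) (.node (nat_lit 96012) (.leaf (nat_lit 48)) (.node (nat_lit 96024) (.leaf (nat_lit 2)) (.leaf (nat_lit 96)))) (.node (nat_lit 96506) (.leaf (nat_lit 48)) (.node (nat_lit 96948) (.leaf (nat_lit 96)) (.leaf (nat_lit 48))))))))))) (.node (nat_lit 140965) (.node (nat_lit 121230) (.node (nat_lit 107919) (.node (nat_lit 102491) (.node (nat_lit 99893)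 (.node (nat_lit 98332) (.node (nat_lit 97881) (.node (nat_lit 97559) (.leaf (nat_lit 96)) (.leaf (nat_lit 48))) (.node (nat_lit 98019) (.leaf (nat_lit 96)) (.node (nat_lit 98038) (.leaf (nat_lit 48)) (.leaf (nat_lit 96))))) (.node (nat_lit 99137) (.node (nat_lit 98717) (.leaf (nat_lit 2)) (.node (nat_lit 98936) (.leaf (nat_lit 48)) (.leaf (nat_lit 3)))) (.node (nat_lit 99494) (.leaf (nat_lit 96)) (.node (nat_lit 99775) (.leaf (nat_lit 2)) (.leaf (nat_lit 96)))))) (.node (nat_lit 101751) (.node (nat_lit 101098) (.node (nat_lit 100124) (.leaf (nat_lit 0)) (.node (nat_lit 100809) (.leaf (nat_lit 96)) (.leaf (nat_lit 48)))) (.node (nat_lit 101690) (.leaf (nat_lit 96)) (.node (nat_lit 101746) (.leaf (nat_lit 2)) (.leaf (nat_lit 96))))) (.node (nat_lit 102075) (.node (nat_lit 101839) (.leaf (nat_lit 2)) (.node (nat_lit 102040) (.leaf (nat_lit 48)) (.leaf (nat_lit 2)))) (.node (nat_lit 102241) (.leaf (nat_lit 48)) (.node (nat_lit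 102477) (.leaf (nat_lit 96)) (.leaf (nat_lit 2))))))) (.node (nat_lit 104985) (.node (nat_lit 103961) (.node (nat_lit 102871) (.node (nat_lit 102848) (.leaf (nat_lit 48)) (.leaf (nat_lit 96))) (.node (nat_lit 103714) (.leaf (nat_lit 48)) (.node (nat_lit 103765) (.leaf (nat_lit 2)) (.leaf (nat_lit 48))))) (.node (nat_lit 104542) (.node (nat_lit 104290) (.leaf (nat_lit 96)) (.node (nat_lit 104459) (.leaf (nat_lit 48)) (.leaf (nat_lit 96)))) (.node (nat_lit 104644) (.leaf (nat_lit 48)) (.node (nat_lit 104850) (.leaf (nat_lit 96)) (.leaf (nat_lit 48)))))) (.node (nat_lit 106626) (.node (nat_lit 105438) (.node (nat_lit 104998) (.leaf (nat_lit 3)) (.node (nat_lit 105068) (.leaf (nat_lit 48)) (.leaf (nat_lit 96)))) (.node (nat_lit 106286) (.leaf (nat_lit 48)) (.node (nat_lit 106357) (.leaf (nat_lit 3)) (.leaf (nat_lit 48))))) (.node (nat_lit 107063) (.node (nat_lit 106631) (.leaf (nat_lit 96)) (.node (nat_lit 106693) (.leaf (nat_lit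 48)) (.leaf (nat_lit 96)))) (.node (nat_lit 107072) (.leaf (nat_lit 3)) (.node (nat_lit 107142) (.leaf (nat_lit 2)) (.leaf (nat_lit 48)))))))) (.node (nat_lit 115229) (.node (nat_lit 111370) (.node (nat_lit 109064) (.node (nat_lit 108514) (.node (nat_lit 108018) (.leaf (nat_lit 2)) (.leaf (nat_lit 48))) (.node (nat_lit 108718) (.leaf (nat_lit 96)) (.node (nat_lit 108898) (.leaf (nat_lit 3)) (.leaf (nat_lit 2))))) (.node (nat_lit 110622) (.node (nat_lit 109220) (.leaf (nat_lit 48)) (.node (nat_lit 109331) (.leaf (nat_lit 96)) (.leaf (nat_lit 2)))) (.node (nat_lit 110826) (.leaf (nat_lit 48)) (.node (nat_lit 111167) (.leaf (nat_lit 96)) (.leaf (nat_lit 48)))))) (.node (nat_lit 112780) (.node (nat_lit 111705) (.node (nat_lit 111486) (.leaf (nat_lit 0)) (.node (nat_lit 111500) (.leaf (nat_lit 3)) (.leaf (nat_lit 48)))) (.node (nat_lit 111773) (.leaf (nat_lit 96)) (.node (nat_lit 111968) (.leaf (nat_lit 48)) (.leaf (nat_lit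 96))))) (.node (nat_lit 114211) (.node (nat_lit 113206) (.leaf (nat_lit 48)) (.node (nat_lit 113408) (.leaf (nat_lit 96)) (.leaf (nat_lit 48)))) (.node (nat_lit 114649) (.leaf (nat_lit 2)) (.node (nat_lit 114927) (.leaf (nat_lit 3)) (.leaf (nat_lit 2))))))) (.node (nat_lit 116989) (.node (nat_lit 116411) (.node (nat_lit 115692) (.node (nat_lit 115516) (.leaf (nat_lit 48)) (.node (nat_lit 115530) (.leaf (nat_lit 96)) (.leaf (nat_lit 48)))) (.node (nat_lit 116308) (.leaf (nat_lit 2)) (.node (nat_lit 116363) (.leaf (nat_lit 96)) (.leaf (nat_lit 0))))) (.node (nat_lit 116652) (.node (nat_lit 116609) (.leaf (nat_lit 3)) (.node (nat_lit 116625) (.leaf (nat_lit 2)) (.leaf (nat_lit 48)))) (.node (nat_lit 116689) (.leaf (nat_lit 96)) (.node (nat_lit 116701) (.leaf (nat_lit 48)) (.leaf (nat_lit 96)))))) (.node (nat_lit 117856) (.node (nat_lit 117731) (.node (nat_lit 117683) (.leaf (nat_lit 48)) (.node (nat_lit 117693) (.leaf (nat_lit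 96)) (.leaf (nat_lit 2)))) (.node (nat_lit 117759) (.leaf (nat_lit 96)) (.node (nat_lit 117772) (.leaf (nat_lit 2)) (.leaf (nat_lit 96))))) (.node (nat_lit 118853) (.node (nat_lit 118514) (.leaf (nat_lit 48)) (.node (nat_lit 118629) (.leaf (nat_lit 3)) (.leaf (nat_lit 2)))) (.node (nat_lit 120571) (.leaf (nat_lit 48)) (.node (nat_lit 121171) (.leaf (nat_lit 3)) (.leaf (nat_lit 96))))))))) (.node (nat_lit 129832) (.node (nat_lit 125938) (.node (nat_lit 122803) (.node (nat_lit 121889) (.node (nat_lit 121453) (.node (nat_lit 121237) (.leaf (nat_lit 48)) (.leaf (nat_lit 96))) (.node (nat_lit 121609) (.leaf (nat_lit 3)) (.node (nat_lit 121777) (.leaf (nat_lit 48)) (.leaf (nat_lit 2))))) (.node (nat_lit 122417) (.node (nat_lit 122043) (.leaf (nat_lit 48)) (.node (nat_lit 122107) (.leaf (nat_lit 2)) (.leaf (nat_lit 48)))) (.node (nat_lit 122739) (.leaf (nat_lit 2)) (.node (nat_lit 122789) (.leaf (nat_lit 48)) (.leaf (nat_lit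 0)))))) (.node (nat_lit 125398) (.node (nat_lit 124460) (.node (nat_lit 122954) (.leaf (nat_lit 48)) (.node (nat_lit 124394) (.leaf (nat_lit 2)) (.leaf (nat_lit 48)))) (.node (nat_lit 124534) (.leaf (nat_lit 2)) (.node (nat_lit 124746) (.leaf (nat_lit 96)) (.leaf (nat_lit 48))))) (.node (nat_lit 125627) (.node (nat_lit 125488) (.leaf (nat_lit 96)) (.node (nat_lit 125587) (.leaf (nat_lit 3)) (.leaf (nat_lit 96)))) (.node (nat_lit 125630) (.leaf (nat_lit 48)) (.node (nat_lit 125734) (.leaf (nat_lit 2)) (.leaf (nat_lit 48))))))) (.node (nat_lit 127879) (.node (nat_lit 126625) (.node (nat_lit 126357) (.node (nat_lit 125943) (.leaf (nat_lit 0)) (.node (nat_lit 126258) (.leaf (nat_lit 48)) (.leaf (nat_lit 96)))) (.node (nat_lit 126454) (.leaf (nat_lit 48)) (.node (nat_lit 126460) (.leaf (nat_lit 0)) (.leaf (nat_lit 2))))) (.node (nat_lit 127576) (.node (nat_lit 126729) (.leaf (nat_lit 48)) (.node (nat_lit 127496) (.leaf (nat_lit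 96)) (.leaf (nat_lit 2)))) (.node (nat_lit 127800) (.leaf (nat_lit 48)) (.node (nat_lit 127823) (.leaf (nat_lit 2)) (.leaf (nat_lit 96)))))) (.node (nat_lit 129069) (.node (nat_lit 128576) (.node (nat_lit 128013) (.leaf (nat_lit 48)) (.node (nat_lit 128093) (.leaf (nat_lit 3)) (.leaf (nat_lit 48)))) (.node (nat_lit 128578) (.leaf (nat_lit 2)) (.node (nat_lit 128622) (.leaf (nat_lit 48)) (.leaf (nat_lit 2))))) (.node (nat_lit 129343) (.node (nat_lit 129125) (.leaf (nat_lit 48)) (.node (nat_lit 129242) (.leaf (nat_lit 2)) (.leaf (nat_lit 48)))) (.node (nat_lit 129412) (.leaf (nat_lit 2)) (.node (nat_lit 129682) (.leaf (nat_lit 3)) (.leaf (nat_lit 0)))))))) (.node (nat_lit 133622) (.node (nat_lit 132322) (.node (nat_lit 130735) (.node (nat_lit 130031) (.node (nat_lit 129989) (.leaf (nat_lit 48)) (.leaf (nat_lit 96))) (.node (nat_lit 130086) (.leaf (nat_lit 48)) (.node (nat_lit 130139) (.leaf (nat_lit 3)) (.leaf (nat_lit 96)))))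 (.node (nat_lit 131904) (.node (nat_lit 131370) (.leaf (nat_lit 48)) (.node (nat_lit 131473) (.leaf (nat_lit 96)) (.leaf (nat_lit 48)))) (.node (nat_lit 131946) (.leaf (nat_lit 2)) (.node (nat_lit 132012) (.leaf (nat_lit 48)) (.leaf (nat_lit 0)))))) (.node (nat_lit 133287) (.node (nat_lit 132850) (.node (nat_lit 132581) (.leaf (nat_lit 48)) (.node (nat_lit 132799) (.leaf (nat_lit 2)) (.leaf (nat_lit 3)))) (.node (nat_lit 132963) (.leaf (nat_lit 96)) (.node (nat_lit 133105) (.leaf (nat_lit 2)) (.leaf (nat_lit 96))))) (.node (nat_lit 133488) (.node (nat_lit 133291) (.leaf (nat_lit 2)) (.node (nat_lit 133328) (.leaf (nat_lit 96)) (.leaf (nat_lit 2)))) (.node (nat_lit 133504) (.leaf (nat_lit 48)) (.node (nat_lit 133536) (.leaf (nat_lit 0)) (.leaf (nat_lit 96))))))) (.node (nat_lit 137232) (.node (nat_lit 134946) (.node (nat_lit 134001) (.node (nat_lit 133839) (.leaf (nat_lit 2)) (.node (nat_lit 133870) (.leaf (nat_lit 48))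 (.leaf (nat_lit 96)))) (.node (nat_lit 134293) (.leaf (nat_lit 48)) (.node (nat_lit 134604) (.leaf (nat_lit 96)) (.leaf (nat_lit 48))))) (.node (nat_lit 136256) (.node (nat_lit 135522) (.leaf (nat_lit 96)) (.node (nat_lit 135536) (.leaf (nat_lit 3)) (.leaf (nat_lit 48)))) (.node (nat_lit 136612) (.leaf (nat_lit 96)) (.node (nat_lit 137156) (.leaf (nat_lit 48)) (.leaf (nat_lit 96)))))) (.node (nat_lit 138589) (.node (nat_lit 138163) (.node (nat_lit 137391) (.leaf (nat_lit 48)) (.node (nat_lit 138124) (.leaf (nat_lit 96)) (.leaf (nat_lit 48)))) (.node (nat_lit 138265) (.leaf (nat_lit 96)) (.node (nat_lit 138345) (.leaf (nat_lit 48)) (.leaf (nat_lit 96))))) (.node (nat_lit 139808) (.node (nat_lit 138749) (.leaf (nat_lit 2)) (.node (nat_lit 138903) (.leaf (nat_lit 96)) (.leaf (nat_lit 48)))) (.node (nat_lit 139938) (.leaf (nat_lit 96)) (.node (nat_lit 140192) (.leaf (nat_lit 48)) (.leaf (nat_lit 2)))))))))) (.node (nat_lit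 168958) (.node (nat_lit 155531) (.node (nat_lit 147850) (.node (nat_lit 144364) (.node (nat_lit 141751) (.node (nat_lit 141021) (.node (nat_lit 141018) (.leaf (nat_lit 3)) (.leaf (nat_lit 48))) (.node (nat_lit 141408) (.leaf (nat_lit 2)) (.node (nat_lit 141491) (.leaf (nat_lit 48)) (.leaf (nat_lit 96))))) (.node (nat_lit 143344) (.node (nat_lit 141814) (.leaf (nat_lit 48)) (.node (nat_lit 142833) (.leaf (nat_lit 96)) (.leaf (nat_lit 48)))) (.node (nat_lit 143703) (.leaf (nat_lit 2)) (.node (nat_lit 144309) (.leaf (nat_lit 48)) (.leaf (nat_lit 96)))))) (.node (nat_lit 146260) (.node (nat_lit 145384) (.node (nat_lit 144831) (.leaf (nat_lit 48)) (.node (nat_lit 145021) (.leaf (nat_lit 96)) (.leaf (nat_lit 48)))) (.node (nat_lit 145502) (.leaf (nat_lit 2)) (.node (nat_lit 145933) (.leaf (nat_lit 96)) (.leaf (nat_lit 48))))) (.node (nat_lit 147358) (.node (nat_lit 146620) (.leaf (nat_lit 2)) (.node (nat_lit 147290) (.leaf (nat_lit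 48)) (.leaf (nat_lit 96)))) (.node (nat_lit 147432) (.leaf (nat_lit 2)) (.node (nat_lit 147745) (.leaf (nat_lit 48)) (.leaf (nat_lit 2))))))) (.node (nat_lit 152510) (.node (nat_lit 150311) (.node (nat_lit 148998) (.node (nat_lit 148721) (.leaf (nat_lit 96)) (.node (nat_lit 148842) (.leaf (nat_lit 3)) (.leaf (nat_lit 96)))) (.node (nat_lit 149277) (.leaf (nat_lit 48)) (.node (nat_lit 149565) (.leaf (nat_lit 96)) (.leaf (nat_lit 48))))) (.node (nat_lit 150477) (.node (nat_lit 150417) (.leaf (nat_lit 96)) (.node (nat_lit 150456) (.leaf (nat_lit 2)) (.leaf (nat_lit 48)))) (.node (nat_lit 151093) (.leaf (nat_lit 96)) (.node (nat_lit 151322) (.leaf (nat_lit 48)) (.leaf (nat_lit 96)))))) (.node (nat_lit 154294) (.node (nat_lit 153958) (.node (nat_lit 153090) (.leaf (nat_lit 48)) (.node (nat_lit 153519) (.leaf (nat_lit 2)) (.leaf (nat_lit 48)))) (.node (nat_lit 153972) (.leaf (nat_lit 96)) (.node (nat_lit 153978) (.leaf (nat_lit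 2)) (.leaf (nat_lit 48))))) (.node (nat_lit 155075) (.node (nat_lit 154507) (.leaf (nat_lit 2)) (.node (nat_lit 154968) (.leaf (nat_lit 48)) (.leaf (nat_lit 2)))) (.node (nat_lit 155124) (.leaf (nat_lit 96)) (.node (nat_lit 155193) (.leaf (nat_lit 48)) (.leaf (nat_lit 96)))))))) (.node (nat_lit 161019) (.node (nat_lit 158824) (.node (nat_lit 157372) (.node (nat_lit 155749) (.node (nat_lit 155745) (.leaf (nat_lit 48)) (.leaf (nat_lit 96))) (.node (nat_lit 155800) (.leaf (nat_lit 0)) (.node (nat_lit 157150) (.leaf (nat_lit 48)) (.leaf (nat_lit 96))))) (.node (nat_lit 158488) (.node (nat_lit 157524) (.leaf (nat_lit 48)) (.node (nat_lit 158043) (.leaf (nat_lit 2)) (.leaf (nat_lit 48)))) (.node (nat_lit 158668) (.leaf (nat_lit 2)) (.node (nat_lit 158691) (.leaf (nat_lit 48)) (.leaf (nat_lit 3)))))) (.node (nat_lit 159870) (.node (nat_lit 159388) (.node (nat_lit 158948) (.leaf (nat_lit 48)) (.node (nat_lit 159197) (.leaf (nat_lit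 96)) (.leaf (nat_lit 48)))) (.node (nat_lit 159751) (.leaf (nat_lit 96)) (.node (nat_lit 159818) (.leaf (nat_lit 48)) (.leaf (nat_lit 96))))) (.node (nat_lit 160626) (.node (nat_lit 160064) (.leaf (nat_lit 48)) (.node (nat_lit 160218) (.leaf (nat_lit 96)) (.leaf (nat_lit 48)))) (.node (nat_lit 161013) (.leaf (nat_lit 96)) (.node (nat_lit 161018) (.leaf (nat_lit 48)) (.leaf (nat_lit 96))))))) (.node (nat_lit 165592) (.node (nat_lit 162804) (.node (nat_lit 162435) (.node (nat_lit 161951) (.leaf (nat_lit 2)) (.node (nat_lit 162415) (.leaf (nat_lit 0)) (.leaf (nat_lit 2)))) (.node (nat_lit 162528) (.leaf (nat_lit 48)) (.node (nat_lit 162727) (.leaf (nat_lit 96)) (.leaf (nat_lit 3))))) (.node (nat_lit 164944) (.node (nat_lit 164145) (.leaf (nat_lit 48)) (.node (nat_lit 164285) (.leaf (nat_lit 2)) (.leaf (nat_lit 96)))) (.node (nat_lit 165378) (.leaf (nat_lit 48)) (.node (nat_lit 165515) (.leaf (nat_lit 96)) (.leaf (nat_lit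 48)))))) (.node (nat_lit 167554) (.node (nat_lit 167209) (.node (nat_lit 165963) (.leaf (nat_lit 96)) (.node (nat_lit 166460) (.leaf (nat_lit 2)) (.leaf (nat_lit 48)))) (.node (nat_lit 167307) (.leaf (nat_lit 96)) (.node (nat_lit 167471) (.leaf (nat_lit 48)) (.leaf (nat_lit 2))))) (.node (nat_lit 168462) (.node (nat_lit 167557) (.leaf (nat_lit 96)) (.node (nat_lit 167576) (.leaf (nat_lit 2)) (.leaf (nat_lit 48)))) (.node (nat_lit 168538) (.leaf (nat_lit 96)) (.node (nat_lit 168569) (.leaf (nat_lit 48)) (.leaf (nat_lit 2))))))))) (.node (nat_lit 181650) (.node (nat_lit 176056) (.node (nat_lit 171512) (.node (nat_lit 169568) (.node (nat_lit 169172) (.node (nat_lit 169021) (.leaf (nat_lit 3)) (.leaf (nat_lit 48))) (.node (nat_lit 169211) (.leaf (nat_lit 96)) (.node (nat_lit 169390) (.leaf (nat_lit 48)) (.leaf (nat_lit 96))))) (.node (nat_lit 170025) (.node (nat_lit 169767) (.leaf (nat_lit 2)) (.node (nat_lit 169942) (.leaf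 (nat_lit 48)) (.leaf (nat_lit 96)))) (.node (nat_lit 170303) (.leaf (nat_lit 48)) (.node (nat_lit 171343) (.leaf (nat_lit 2)) (.leaf (nat_lit 48)))))) (.node (nat_lit 173074) (.node (nat_lit 172195) (.node (nat_lit 171640) (.leaf (nat_lit 3)) (.node (nat_lit 171992) (.leaf (nat_lit 48)) (.leaf (nat_lit 2)))) (.node (nat_lit 172669) (.leaf (nat_lit 48)) (.node (nat_lit 173061) (.leaf (nat_lit 96)) (.leaf (nat_lit 48))))) (.node (nat_lit 174669) (.node (nat_lit 173610) (.leaf (nat_lit 96)) (.node (nat_lit 174186) (.leaf (nat_lit 2)) (.leaf (nat_lit 48)))) (.node (nat_lit 175177) (.leaf (nat_lit 96)) (.node (nat_lit 175694) (.leaf (nat_lit 48)) (.leaf (nat_lit 96))))))) (.node (nat_lit 178671) (.node (nat_lit 177746) (.node (nat_lit 177510) (.node (nat_lit 176930) (.leaf (nat_lit 48)) (.node (nat_lit 177470) (.leaf (nat_lit 96)) (.leaf (nat_lit 48)))) (.node (nat_lit 177618) (.leaf (nat_lit 0)) (.node (nat_lit 177707) (.leaf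 (nat_lit 48)) (.leaf (nat_lit 96))))) (.node (nat_lit 178439) (.node (nat_lit 177942) (.leaf (nat_lit 2)) (.node (nat_lit 178139) (.leaf (nat_lit 48)) (.leaf (nat_lit 96)))) (.node (nat_lit 178524) (.leaf (nat_lit 2)) (.node (nat_lit 178567) (.leaf (nat_lit 96)) (.leaf (nat_lit 2)))))) (.node (nat_lit 180306) (.node (nat_lit 179223) (.node (nat_lit 178836) (.leaf (nat_lit 48)) (.node (nat_lit 178925) (.leaf (nat_lit 96)) (.leaf (nat_lit 2)))) (.node (nat_lit 179360) (.leaf (nat_lit 96)) (.node (nat_lit 180193) (.leaf (nat_lit 48)) (.leaf (nat_lit 3))))) (.node (nat_lit 181022) (.node (nat_lit 180399) (.leaf (nat_lit 96)) (.node (nat_lit 180813) (.leaf (nat_lit 48)) (.leaf (nat_lit 96)))) (.node (nat_lit 181028) (.leaf (nat_lit 3)) (.node (nat_lit 181297) (.leaf (nat_lit 96)) (.leaf (nat_lit 2)))))))) (.node (nat_lit 188334) (.node (nat_lit 185093) (.node (nat_lit 182966) (.node (nat_lit 181823) (.node (nat_lit 181675)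 (.leaf (nat_lit 48)) (.leaf (nat_lit 2))) (.node (nat_lit 182187) (.leaf (nat_lit 48)) (.node (nat_lit 182322) (.leaf (nat_lit 96)) (.leaf (nat_lit 48))))) (.node (nat_lit 183934) (.node (nat_lit 183521) (.leaf (nat_lit 2)) (.node (nat_lit 183660) (.leaf (nat_lit 96)) (.leaf (nat_lit 48)))) (.node (nat_lit 184152) (.leaf (nat_lit 96)) (.node (nat_lit 184876) (.leaf (nat_lit 48)) (.leaf (nat_lit 2)))))) (.node (nat_lit 186394) (.node (nat_lit 185835) (.node (nat_lit 185531) (.leaf (nat_lit 48)) (.node (nat_lit 185705) (.leaf (nat_lit 96)) (.leaf (nat_lit 2)))) (.node (nat_lit 186081) (.leaf (nat_lit 48)) (.node (nat_lit 186328) (.leaf (nat_lit 2)) (.leaf (nat_lit 48))))) (.node (nat_lit 186729) (.node (nat_lit 186502) (.leaf (nat_lit 96)) (.node (nat_lit 186719) (.leaf (nat_lit 2)) (.leaf (nat_lit 48)))) (.node (nat_lit 186897) (.leaf (nat_lit 2)) (.node (nat_lit 187187) (.leaf (nat_lit 3)) (.leaf (nat_lit 48))))))) (.node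 (nat_lit 190325) (.node (nat_lit 189035) (.node (nat_lit 188583) (.node (nat_lit 188352) (.leaf (nat_lit 96)) (.node (nat_lit 188498) (.leaf (nat_lit 2)) (.leaf (nat_lit 48)))) (.node (nat_lit 188694) (.leaf (nat_lit 96)) (.node (nat_lit 188887) (.leaf (nat_lit 48)) (.leaf (nat_lit 96))))) (.node (nat_lit 189560) (.node (nat_lit 189494) (.leaf (nat_lit 2)) (.node (nat_lit 189515) (.leaf (nat_lit 48)) (.leaf (nat_lit 2)))) (.node (nat_lit 189604) (.leaf (nat_lit 48)) (.node (nat_lit 190210) (.leaf (nat_lit 96)) (.leaf (nat_lit 2)))))) (.node (nat_lit 191700) (.node (nat_lit 190662) (.node (nat_lit 190336) (.leaf (nat_lit 3)) (.node (nat_lit 190448) (.leaf (nat_lit 96)) (.leaf (nat_lit 48)))) (.node (nat_lit 190842) (.leaf (nat_lit 96)) (.node (nat_lit 191600) (.leaf (nat_lit 48)) (.leaf (nat_lit 2))))) (.node (nat_lit 192914) (.node (nat_lit 192607) (.leaf (nat_lit 48)) (.node (nat_lit 192715) (.leaf (nat_lit 2)) (.leaf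 (nat_lit 96)))) (.node (nat_lit 193191) (.leaf (nat_lit 3)) (.node (nat_lit 193279) (.leaf (nat_lit 48)) (.leaf (nat_lit 2))))))))))))
noncomputable def HU_soc_t1 : ST := (.node (nat_lit 61348) (.node (nat_lit 30481) (.node (nat_lit 15780) (.node (nat_lit 6336) (.node (nat_lit 3558) (.node (nat_lit 1872) (.node (nat_lit 1491) (.node (nat_lit 1001) (.node (nat_lit 769) (.leaf (nat_lit 384)) (.leaf (nat_lit 48))) (.node (nat_lit 1405) (.leaf (nat_lit 384)) (.leaf (nat_lit 48)))) (.node (nat_lit 1574) (.node (nat_lit 1545) (.leaf (nat_lit 384)) (.leaf (nat_lit 48))) (.node (nat_lit 1727) (.leaf (nat_lit 384)) (.node (nat_lit 1797) (.leaf (nat_lit 48)) (.leaf (nat_lit 384)))))) (.node (nat_lit 3246) (.node (nat_lit 2154) (.node (nat_lit 2069) (.leaf (nat_lit 48)) (.leaf (nat_lit 384))) (.node (nat_lit 2741) (.leaf (nat_lit 48)) (.node (nat_lit 2983) (.leaf (nat_lit 384)) (.leaf (nat_lit 48))))) (.node (nat_lit 3468) (.node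 (nat_lit 3249) (.leaf (nat_lit 384)) (.leaf (nat_lit 48))) (.node (nat_lit 3492) (.leaf (nat_lit 384)) (.node (nat_lit 3499) (.leaf (nat_lit 48)) (.leaf (nat_lit 384))))))) (.node (nat_lit 4522) (.node (nat_lit 4114) (.node (nat_lit 3952) (.node (nat_lit 3734) (.leaf (nat_lit 48)) (.leaf (nat_lit 96))) (.node (nat_lit 3962) (.leaf (nat_lit 48)) (.leaf (nat_lit 384)))) (.node (nat_lit 4266) (.node (nat_lit 4186) (.leaf (nat_lit 48)) (.leaf (nat_lit 384))) (.node (nat_lit 4429) (.leaf (nat_lit 48)) (.node (nat_lit 4500) (.leaf (nat_lit 384)) (.leaf (nat_lit 48)))))) (.node (nat_lit 5276) (.node (nat_lit 4817) (.node (nat_lit 4613) (.leaf (nat_lit 384)) (.leaf (nat_lit 48))) (.node (nat_lit 5153) (.leaf (nat_lit 384)) (.node (nat_lit 5204) (.leaf (nat_lit 48)) (.leaf (nat_lit 384))))) (.node (nat_lit 5376) (.node (nat_lit 5322) (.leaf (nat_lit 48)) (.leaf (nat_lit 96))) (.node (nat_lit 5451) (.leaf (nat_lit 48)) (.node (nat_lit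 6205) (.leaf (nat_lit 384)) (.leaf (nat_lit 48)))))))) (.node (nat_lit 10321) (.node (nat_lit 7664) (.node (nat_lit 6721) (.node (nat_lit 6526) (.node (nat_lit 6457) (.leaf (nat_lit 96)) (.leaf (nat_lit 384))) (.node (nat_lit 6643) (.leaf (nat_lit 48)) (.leaf (nat_lit 384)))) (.node (nat_lit 7212) (.node (nat_lit 7037) (.leaf (nat_lit 48)) (.leaf (nat_lit 384))) (.node (nat_lit 7552) (.leaf (nat_lit 48)) (.node (nat_lit 7652) (.leaf (nat_lit 384)) (.leaf (nat_lit 0)))))) (.node (nat_lit 9436) (.node (nat_lit 8126) (.node (nat_lit 7920) (.leaf (nat_lit 48)) (.leaf (nat_lit 384))) (.node (nat_lit 8221) (.leaf (nat_lit 48)) (.node (nat_lit 8228) (.leaf (nat_lit 384)) (.leaf (nat_lit 48))))) (.node (nat_lit 10058) (.node (nat_lit 9647) (.leaf (nat_lit 384)) (.leaf (nat_lit 48))) (.node (nat_lit 10141) (.leaf (nat_lit 384)) (.node (nat_lit 10224) (.leaf (nat_lit 48)) (.leaf (nat_lit 384))))))) (.node (nat_lit 13473) (.node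 (nat_lit 12263) (.node (nat_lit 11199) (.node (nat_lit 11189) (.leaf (nat_lit 48)) (.leaf (nat_lit 384))) (.node (nat_lit 11343) (.leaf (nat_lit 48)) (.node (nat_lit 12016) (.leaf (nat_lit 384)) (.leaf (nat_lit 48))))) (.node (nat_lit 13255) (.node (nat_lit 12529) (.leaf (nat_lit 384)) (.leaf (nat_lit 48))) (.node (nat_lit 13275) (.leaf (nat_lit 384)) (.node (nat_lit 13369) (.leaf (nat_lit 48)) (.leaf (nat_lit 384)))))) (.node (nat_lit 14389) (.node (nat_lit 13632) (.node (nat_lit 13497) (.leaf (nat_lit 48)) (.leaf (nat_lit 384))) (.node (nat_lit 13846) (.leaf (nat_lit 48)) (.node (nat_lit 13877) (.leaf (nat_lit 384)) (.leaf (nat_lit 48))))) (.node (nat_lit 14680) (.node (nat_lit 14600) (.leaf (nat_lit 384)) (.leaf (nat_lit 48))) (.node (nat_lit 15094) (.leaf (nat_lit 384)) (.node (nat_lit 15153) (.leaf (nat_lit 48)) (.leaf (nat_lit 384))))))))) (.node (nat_lit 22992) (.node (nat_lit 18630) (.node (nat_lit 16870) (.node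 (nat_lit 16036) (.node (nat_lit 15945) (.node (nat_lit 15857) (.leaf (nat_lit 48)) (.leaf (nat_lit 384))) (.node (nat_lit 15995) (.leaf (nat_lit 48)) (.leaf (nat_lit 384)))) (.node (nat_lit 16101) (.node (nat_lit 16039) (.leaf (nat_lit 96)) (.leaf (nat_lit 384))) (.node (nat_lit 16218) (.leaf (nat_lit 48)) (.node (nat_lit 16640) (.leaf (nat_lit 384)) (.leaf (nat_lit 48)))))) (.node (nat_lit 17806) (.node (nat_lit 17273) (.node (nat_lit 17131) (.leaf (nat_lit 384)) (.leaf (nat_lit 48))) (.node (nat_lit 17464) (.leaf (nat_lit 384)) (.node (nat_lit 17471) (.leaf (nat_lit 48)) (.leaf (nat_lit 384))))) (.node (nat_lit 18050) (.node (nat_lit 17984) (.leaf (nat_lit 48)) (.leaf (nat_lit 384))) (.node (nat_lit 18147) (.leaf (nat_lit 48)) (.node (nat_lit 18371) (.leaf (nat_lit 384)) (.leaf (nat_lit 48))))))) (.node (nat_lit 20210) (.node (nat_lit 19610) (.node (nat_lit 18915) (.node (nat_lit 18710) (.leaf (nat_lit 384)) (.leaf (nat_lit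 48))) (.node (nat_lit 19379) (.leaf (nat_lit 384)) (.leaf (nat_lit 48)))) (.node (nat_lit 19918) (.node (nat_lit 19871) (.leaf (nat_lit 384)) (.leaf (nat_lit 48))) (.node (nat_lit 20092) (.leaf (nat_lit 384)) (.node (nat_lit 20193) (.leaf (nat_lit 48)) (.leaf (nat_lit 384)))))) (.node (nat_lit 21127) (.node (nat_lit 20532) (.node (nat_lit 20466) (.leaf (nat_lit 48)) (.leaf (nat_lit 96))) (.node (nat_lit 20953) (.leaf (nat_lit 48)) (.node (nat_lit 21069) (.leaf (nat_lit 384)) (.leaf (nat_lit 96))))) (.node (nat_lit 21836) (.node (nat_lit 21409) (.leaf (nat_lit 384)) (.leaf (nat_lit 48))) (.node (nat_lit 21849) (.leaf (nat_lit 384)) (.node (nat_lit 22167) (.leaf (nat_lit 48)) (.leaf (nat_lit 384)))))))) (.node (nat_lit 26730) (.node (nat_lit 24437) (.node (nat_lit 23394) (.node (nat_lit 23278) (.node (nat_lit 23023) (.leaf (nat_lit 48)) (.leaf (nat_lit 384))) (.node (nat_lit 23281) (.leaf (nat_lit 48)) (.leaf (nat_lit 384))))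 (.node (nat_lit 24030) (.node (nat_lit 23727) (.leaf (nat_lit 48)) (.leaf (nat_lit 384))) (.node (nat_lit 24290) (.leaf (nat_lit 48)) (.node (nat_lit 24404) (.leaf (nat_lit 384)) (.leaf (nat_lit 48)))))) (.node (nat_lit 25896) (.node (nat_lit 24797) (.node (nat_lit 24607) (.leaf (nat_lit 384)) (.leaf (nat_lit 48))) (.node (nat_lit 24830) (.leaf (nat_lit 384)) (.node (nat_lit 25476) (.leaf (nat_lit 48)) (.leaf (nat_lit 384))))) (.node (nat_lit 26610) (.node (nat_lit 26038) (.leaf (nat_lit 48)) (.leaf (nat_lit 384))) (.node (nat_lit 26650) (.leaf (nat_lit 48)) (.node (nat_lit 26718) (.leaf (nat_lit 96)) (.leaf (nat_lit 48))))))) (.node (nat_lit 28688) (.node (nat_lit 27248) (.node (nat_lit 27031) (.node (nat_lit 26777) (.leaf (nat_lit 384)) (.leaf (nat_lit 48))) (.node (nat_lit 27101) (.leaf (nat_lit 384)) (.node (nat_lit 27187) (.leaf (nat_lit 48)) (.leaf (nat_lit 384))))) (.node (nat_lit 27597) (.node (nat_lit 27433) (.leaf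 (nat_lit 48)) (.leaf (nat_lit 384))) (.node (nat_lit 27808) (.leaf (nat_lit 96)) (.node (nat_lit 28469) (.leaf (nat_lit 48)) (.leaf (nat_lit 384)))))) (.node (nat_lit 29775) (.node (nat_lit 29517) (.node (nat_lit 28902) (.leaf (nat_lit 48)) (.leaf (nat_lit 384))) (.node (nat_lit 29642) (.leaf (nat_lit 48)) (.node (nat_lit 29735) (.leaf (nat_lit 384)) (.leaf (nat_lit 48))))) (.node (nat_lit 29895) (.node (nat_lit 29881) (.leaf (nat_lit 384)) (.leaf (nat_lit 48))) (.node (nat_lit 30030) (.leaf (nat_lit 384)) (.node (nat_lit 30480) (.leaf (nat_lit 48)) (.leaf (nat_lit 96)))))))))) (.node (nat_lit 46683) (.node (nat_lit 37102) (.node (nat_lit 33149) (.node (nat_lit 31985) (.node (nat_lit 30994) (.node (nat_lit 30809) (.node (nat_lit 30515) (.leaf (nat_lit 384)) (.leaf (nat_lit 48))) (.node (nat_lit 30877) (.leaf (nat_lit 384)) (.leaf (nat_lit 48)))) (.node (nat_lit 31292) (.node (nat_lit 31205) (.leaf (nat_lit 384)) (.leaf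 (nat_lit 48))) (.node (nat_lit 31518) (.leaf (nat_lit 384)) (.node (nat_lit 31570) (.leaf (nat_lit 48)) (.leaf (nat_lit 384)))))) (.node (nat_lit 32527) (.node (nat_lit 32085) (.node (nat_lit 32084) (.leaf (nat_lit 48)) (.leaf (nat_lit 384))) (.node (nat_lit 32275) (.leaf (nat_lit 48)) (.node (nat_lit 32304) (.leaf (nat_lit 384)) (.leaf (nat_lit 48))))) (.node (nat_lit 32777) (.node (nat_lit 32682) (.leaf (nat_lit 384)) (.leaf (nat_lit 48))) (.node (nat_lit 32805) (.leaf (nat_lit 96)) (.node (nat_lit 32990) (.leaf (nat_lit 384)) (.leaf (nat_lit 48))))))) (.node (nat_lit 35047) (.node (nat_lit 34176) (.node (nat_lit 33906) (.node (nat_lit 33383) (.leaf (nat_lit 384)) (.leaf (nat_lit 48))) (.node (nat_lit 34119) (.leaf (nat_lit 384)) (.leaf (nat_lit 48)))) (.node (nat_lit 34832) (.node (nat_lit 34809) (.leaf (nat_lit 384)) (.leaf (nat_lit 48))) (.node (nat_lit 34936) (.leaf (nat_lit 384)) (.node (nat_lit 34987) (.leaf (nat_lit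 48)) (.leaf (nat_lit 384)))))) (.node (nat_lit 36628) (.node (nat_lit 36074) (.node (nat_lit 35793) (.leaf (nat_lit 48)) (.leaf (nat_lit 384))) (.node (nat_lit 36231) (.leaf (nat_lit 48)) (.node (nat_lit 36502) (.leaf (nat_lit 384)) (.leaf (nat_lit 48))))) (.node (nat_lit 36851) (.node (nat_lit 36754) (.leaf (nat_lit 384)) (.leaf (nat_lit 48))) (.node (nat_lit 37044) (.leaf (nat_lit 384)) (.node (nat_lit 37091) (.leaf (nat_lit 48)) (.leaf (nat_lit 384)))))))) (.node (nat_lit 41301) (.node (nat_lit 38973) (.node (nat_lit 37973) (.node (nat_lit 37474) (.node (nat_lit 37113) (.leaf (nat_lit 48)) (.leaf (nat_lit 384))) (.node (nat_lit 37596) (.leaf (nat_lit 48)) (.leaf (nat_lit 384)))) (.node (nat_lit 38456) (.node (nat_lit 38262) (.leaf (nat_lit 48)) (.leaf (nat_lit 384))) (.node (nat_lit 38511) (.leaf (nat_lit 48)) (.node (nat_lit 38884) (.leaf (nat_lit 384)) (.leaf (nat_lit 48)))))) (.node (nat_lit 40455) (.node (nat_lit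 39282) (.node (nat_lit 39006) (.leaf (nat_lit 384)) (.leaf (nat_lit 48))) (.node (nat_lit 39385) (.leaf (nat_lit 384)) (.node (nat_lit 40446) (.leaf (nat_lit 48)) (.leaf (nat_lit 384))))) (.node (nat_lit 40902) (.node (nat_lit 40560) (.leaf (nat_lit 48)) (.leaf (nat_lit 384))) (.node (nat_lit 41114) (.leaf (nat_lit 96)) (.node (nat_lit 41298) (.leaf (nat_lit 384)) (.leaf (nat_lit 48))))))) (.node (nat_lit 44080) (.node (nat_lit 42790) (.node (nat_lit 41856) (.node (nat_lit 41405) (.leaf (nat_lit 384)) (.leaf (nat_lit 48))) (.node (nat_lit 41995) (.leaf (nat_lit 384)) (.node (nat_lit 42344) (.leaf (nat_lit 48)) (.leaf (nat_lit 384))))) (.node (nat_lit 43306) (.node (nat_lit 42939) (.leaf (nat_lit 48)) (.leaf (nat_lit 384))) (.node (nat_lit 43508) (.leaf (nat_lit 48)) (.node (nat_lit 43876) (.leaf (nat_lit 384)) (.leaf (nat_lit 96)))))) (.node (nat_lit 44958) (.node (nat_lit 44704) (.node (nat_lit 44561) (.leaf (nat_lit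 384)) (.leaf (nat_lit 48))) (.node (nat_lit 44719) (.leaf (nat_lit 384)) (.node (nat_lit 44947) (.leaf (nat_lit 48)) (.leaf (nat_lit 384))))) (.node (nat_lit 45115) (.node (nat_lit 45080) (.leaf (nat_lit 48)) (.leaf (nat_lit 384))) (.node (nat_lit 45426) (.leaf (nat_lit 48)) (.node (nat_lit 46135) (.leaf (nat_lit 384)) (.leaf (nat_lit 48))))))))) (.node (nat_lit 53292) (.node (nat_lit 49642) (.node (nat_lit 47906) (.node (nat_lit 47646) (.node (nat_lit 47229) (.node (nat_lit 47113) (.leaf (nat_lit 384)) (.leaf (nat_lit 48))) (.node (nat_lit 47533) (.leaf (nat_lit 384)) (.leaf (nat_lit 48)))) (.node (nat_lit 47794) (.node (nat_lit 47722) (.leaf (nat_lit 384)) (.leaf (nat_lit 48))) (.node (nat_lit 47899) (.leaf (nat_lit 384)) (.node (nat_lit 47905) (.leaf (nat_lit 48)) (.leaf (nat_lit 384)))))) (.node (nat_lit 48715) (.node (nat_lit 48341) (.node (nat_lit 48106) (.leaf (nat_lit 48)) (.leaf (nat_lit 384))) (.node (nat_lit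 48434) (.leaf (nat_lit 48)) (.node (nat_lit 48542) (.leaf (nat_lit 384)) (.leaf (nat_lit 48))))) (.node (nat_lit 48912) (.node (nat_lit 48736) (.leaf (nat_lit 384)) (.leaf (nat_lit 48))) (.node (nat_lit 49038) (.leaf (nat_lit 384)) (.node (nat_lit 49294) (.leaf (nat_lit 48)) (.leaf (nat_lit 384))))))) (.node (nat_lit 51508) (.node (nat_lit 50355) (.node (nat_lit 50252) (.node (nat_lit 49856) (.leaf (nat_lit 48)) (.leaf (nat_lit 384))) (.node (nat_lit 50305) (.leaf (nat_lit 48)) (.leaf (nat_lit 384)))) (.node (nat_lit 50992) (.node (nat_lit 50576) (.leaf (nat_lit 48)) (.leaf (nat_lit 384))) (.node (nat_lit 51028) (.leaf (nat_lit 48)) (.node (nat_lit 51463) (.leaf (nat_lit 384)) (.leaf (nat_lit 48)))))) (.node (nat_lit 52560) (.node (nat_lit 51946) (.node (nat_lit 51610) (.leaf (nat_lit 96)) (.leaf (nat_lit 384))) (.node (nat_lit 51986) (.leaf (nat_lit 48)) (.node (nat_lit 52398) (.leaf (nat_lit 384)) (.leaf (nat_lit 48)))))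 (.node (nat_lit 52585) (.node (nat_lit 52561) (.leaf (nat_lit 384)) (.leaf (nat_lit 48))) (.node (nat_lit 52766) (.leaf (nat_lit 384)) (.node (nat_lit 52808) (.leaf (nat_lit 48)) (.leaf (nat_lit 384)))))))) (.node (nat_lit 57035) (.node (nat_lit 54715) (.node (nat_lit 54332) (.node (nat_lit 53971) (.node (nat_lit 53561) (.leaf (nat_lit 48)) (.leaf (nat_lit 384))) (.node (nat_lit 54257) (.leaf (nat_lit 48)) (.leaf (nat_lit 384)))) (.node (nat_lit 54466) (.node (nat_lit 54441) (.leaf (nat_lit 48)) (.leaf (nat_lit 384))) (.node (nat_lit 54571) (.leaf (nat_lit 48)) (.node (nat_lit 54698) (.leaf (nat_lit 384)) (.leaf (nat_lit 48)))))) (.node (nat_lit 55945) (.node (nat_lit 55822) (.node (nat_lit 55693) (.leaf (nat_lit 384)) (.leaf (nat_lit 48))) (.node (nat_lit 55881) (.leaf (nat_lit 384)) (.node (nat_lit 55884) (.leaf (nat_lit 48)) (.leaf (nat_lit 384))))) (.node (nat_lit 56209) (.node (nat_lit 56175) (.leaf (nat_lit 48))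 (.leaf (nat_lit 384))) (.node (nat_lit 56422) (.leaf (nat_lit 48)) (.node (nat_lit 56780) (.leaf (nat_lit 384)) (.leaf (nat_lit 48))))))) (.node (nat_lit 59502) (.node (nat_lit 58408) (.node (nat_lit 57561) (.node (nat_lit 57382) (.leaf (nat_lit 384)) (.leaf (nat_lit 48))) (.node (nat_lit 57940) (.leaf (nat_lit 384)) (.node (nat_lit 58278) (.leaf (nat_lit 48)) (.leaf (nat_lit 384))))) (.node (nat_lit 58445) (.node (nat_lit 58415) (.leaf (nat_lit 48)) (.leaf (nat_lit 384))) (.node (nat_lit 59077) (.leaf (nat_lit 48)) (.node (nat_lit 59297) (.leaf (nat_lit 384)) (.leaf (nat_lit 48)))))) (.node (nat_lit 60560) (.node (nat_lit 59870) (.node (nat_lit 59565) (.leaf (nat_lit 384)) (.leaf (nat_lit 48))) (.node (nat_lit 60072) (.leaf (nat_lit 384)) (.node (nat_lit 60073) (.leaf (nat_lit 48)) (.leaf (nat_lit 384))))) (.node (nat_lit 61008) (.node (nat_lit 60679) (.leaf (nat_lit 48)) (.leaf (nat_lit 384))) (.node (nat_lit 61017)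 (.leaf (nat_lit 48)) (.node (nat_lit 61153) (.leaf (nat_lit 384)) (.leaf (nat_lit 48))))))))))) (.node (nat_lit 91792) (.node (nat_lit 78648) (.node (nat_lit 69717) (.node (nat_lit 65948) (.node (nat_lit 63010) (.node (nat_lit 61704) (.node (nat_lit 61567) (.node (nat_lit 61366) (.leaf (nat_lit 384)) (.leaf (nat_lit 48))) (.node (nat_lit 61698) (.leaf (nat_lit 384)) (.leaf (nat_lit 48)))) (.node (nat_lit 61997) (.node (nat_lit 61772) (.leaf (nat_lit 384)) (.leaf (nat_lit 48))) (.node (nat_lit 62666) (.leaf (nat_lit 384)) (.node (nat_lit 62789) (.leaf (nat_lit 48)) (.leaf (nat_lit 384)))))) (.node (nat_lit 64645) (.node (nat_lit 63705) (.node (nat_lit 63701) (.leaf (nat_lit 48)) (.leaf (nat_lit 384))) (.node (nat_lit 64176) (.leaf (nat_lit 48)) (.node (nat_lit 64385) (.leaf (nat_lit 384)) (.leaf (nat_lit 48))))) (.node (nat_lit 65263) (.node (nat_lit 64646) (.leaf (nat_lit 384)) (.leaf (nat_lit 48))) (.node (nat_lit 65521)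 (.leaf (nat_lit 384)) (.node (nat_lit 65549) (.leaf (nat_lit 48)) (.leaf (nat_lit 384))))))) (.node (nat_lit 68018) (.node (nat_lit 66745) (.node (nat_lit 66297) (.node (nat_lit 66167) (.leaf (nat_lit 48)) (.leaf (nat_lit 384))) (.node (nat_lit 66318) (.leaf (nat_lit 48)) (.leaf (nat_lit 384)))) (.node (nat_lit 67144) (.node (nat_lit 67026) (.leaf (nat_lit 48)) (.leaf (nat_lit 384))) (.node (nat_lit 67586) (.leaf (nat_lit 48)) (.node (nat_lit 67925) (.leaf (nat_lit 384)) (.leaf (nat_lit 48)))))) (.node (nat_lit 69255) (.node (nat_lit 68430) (.node (nat_lit 68045) (.leaf (nat_lit 384)) (.leaf (nat_lit 48))) (.node (nat_lit 68507) (.leaf (nat_lit 384)) (.node (nat_lit 69219) (.leaf (nat_lit 48)) (.leaf (nat_lit 384))))) (.node (nat_lit 69388) (.node (nat_lit 69273) (.leaf (nat_lit 48)) (.leaf (nat_lit 384))) (.node (nat_lit 69425) (.leaf (nat_lit 48)) (.node (nat_lit 69588) (.leaf (nat_lit 384)) (.leaf (nat_lit 48))))))))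 (.node (nat_lit 74063) (.node (nat_lit 71649) (.node (nat_lit 70626) (.node (nat_lit 69959) (.node (nat_lit 69761) (.leaf (nat_lit 384)) (.leaf (nat_lit 48))) (.node (nat_lit 69973) (.leaf (nat_lit 384)) (.leaf (nat_lit 48)))) (.node (nat_lit 70798) (.node (nat_lit 70769) (.leaf (nat_lit 384)) (.leaf (nat_lit 48))) (.node (nat_lit 71138) (.leaf (nat_lit 384)) (.node (nat_lit 71472) (.leaf (nat_lit 96)) (.leaf (nat_lit 384)))))) (.node (nat_lit 73170) (.node (nat_lit 72000) (.node (nat_lit 71716) (.leaf (nat_lit 48)) (.leaf (nat_lit 384))) (.node (nat_lit 72177) (.leaf (nat_lit 48)) (.node (nat_lit 73026) (.leaf (nat_lit 384)) (.leaf (nat_lit 144))))) (.node (nat_lit 73466) (.node (nat_lit 73448) (.leaf (nat_lit 384)) (.leaf (nat_lit 48))) (.node (nat_lit 73659) (.leaf (nat_lit 384)) (.node (nat_lit 73886) (.leaf (nat_lit 48)) (.leaf (nat_lit 384))))))) (.node (nat_lit 76029) (.node (nat_lit 75061) (.node (nat_lit 74302)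 (.node (nat_lit 74130) (.leaf (nat_lit 48)) (.leaf (nat_lit 96))) (.node (nat_lit 74566) (.leaf (nat_lit 48)) (.node (nat_lit 74569) (.leaf (nat_lit 96)) (.leaf (nat_lit 48))))) (.node (nat_lit 75214) (.node (nat_lit 75109) (.leaf (nat_lit 384)) (.leaf (nat_lit 48))) (.node (nat_lit 75249) (.leaf (nat_lit 384)) (.node (nat_lit 76019) (.leaf (nat_lit 48)) (.leaf (nat_lit 384)))))) (.node (nat_lit 77697) (.node (nat_lit 76875) (.node (nat_lit 76631) (.leaf (nat_lit 48)) (.leaf (nat_lit 384))) (.node (nat_lit 76902) (.leaf (nat_lit 96)) (.node (nat_lit 76921) (.leaf (nat_lit 384)) (.leaf (nat_lit 48))))) (.node (nat_lit 78175) (.node (nat_lit 78119) (.leaf (nat_lit 384)) (.leaf (nat_lit 48))) (.node (nat_lit 78272) (.leaf (nat_lit 384)) (.node (nat_lit 78553) (.leaf (nat_lit 96)) (.leaf (nat_lit 384))))))))) (.node (nat_lit 85348) (.node (nat_lit 81570) (.node (nat_lit 79154) (.node (nat_lit 78883) (.node (nat_lit 78683)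 (.node (nat_lit 78654) (.leaf (nat_lit 48)) (.leaf (nat_lit 384))) (.node (nat_lit 78867) (.leaf (nat_lit 48)) (.leaf (nat_lit 384)))) (.node (nat_lit 78995) (.node (nat_lit 78890) (.leaf (nat_lit 48)) (.leaf (nat_lit 384))) (.node (nat_lit 79009) (.leaf (nat_lit 48)) (.node (nat_lit 79038) (.leaf (nat_lit 384)) (.leaf (nat_lit 48)))))) (.node (nat_lit 80471) (.node (nat_lit 79762) (.node (nat_lit 79698) (.leaf (nat_lit 384)) (.leaf (nat_lit 48))) (.node (nat_lit 80194) (.leaf (nat_lit 384)) (.node (nat_lit 80285) (.leaf (nat_lit 48)) (.leaf (nat_lit 384))))) (.node (nat_lit 81035) (.node (nat_lit 80909) (.leaf (nat_lit 48)) (.leaf (nat_lit 384))) (.node (nat_lit 81515) (.leaf (nat_lit 48)) (.node (nat_lit 81540) (.leaf (nat_lit 384)) (.leaf (nat_lit 48))))))) (.node (nat_lit 83909) (.node (nat_lit 82777) (.node (nat_lit 82560) (.node (nat_lit 82160) (.leaf (nat_lit 384)) (.leaf (nat_lit 48))) (.node (nat_lit 82759) (.leaf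 (nat_lit 384)) (.leaf (nat_lit 48)))) (.node (nat_lit 83504) (.node (nat_lit 83369) (.leaf (nat_lit 384)) (.leaf (nat_lit 48))) (.node (nat_lit 83670) (.leaf (nat_lit 384)) (.node (nat_lit 83754) (.leaf (nat_lit 48)) (.leaf (nat_lit 384)))))) (.node (nat_lit 84796) (.node (nat_lit 84283) (.node (nat_lit 84260) (.leaf (nat_lit 48)) (.leaf (nat_lit 384))) (.node (nat_lit 84322) (.leaf (nat_lit 48)) (.node (nat_lit 84494) (.leaf (nat_lit 384)) (.leaf (nat_lit 48))))) (.node (nat_lit 84970) (.node (nat_lit 84879) (.leaf (nat_lit 384)) (.leaf (nat_lit 48))) (.node (nat_lit 85050) (.leaf (nat_lit 384)) (.node (nat_lit 85214) (.leaf (nat_lit 48)) (.leaf (nat_lit 384)))))))) (.node (nat_lit 89268) (.node (nat_lit 87428) (.node (nat_lit 85544) (.node (nat_lit 85488) (.node (nat_lit 85437) (.leaf (nat_lit 48)) (.leaf (nat_lit 384))) (.node (nat_lit 85498) (.leaf (nat_lit 48)) (.leaf (nat_lit 384)))) (.node (nat_lit 86403) (.node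 (nat_lit 85810) (.leaf (nat_lit 48)) (.leaf (nat_lit 384))) (.node (nat_lit 87035) (.leaf (nat_lit 48)) (.node (nat_lit 87361) (.leaf (nat_lit 384)) (.leaf (nat_lit 48)))))) (.node (nat_lit 88306) (.node (nat_lit 87818) (.node (nat_lit 87462) (.leaf (nat_lit 384)) (.leaf (nat_lit 96))) (.node (nat_lit 88011) (.leaf (nat_lit 384)) (.node (nat_lit 88034) (.leaf (nat_lit 48)) (.leaf (nat_lit 384))))) (.node (nat_lit 89154) (.node (nat_lit 88962) (.leaf (nat_lit 48)) (.leaf (nat_lit 384))) (.node (nat_lit 89217) (.leaf (nat_lit 48)) (.node (nat_lit 89256) (.leaf (nat_lit 384)) (.leaf (nat_lit 96))))))) (.node (nat_lit 90349) (.node (nat_lit 89787) (.node (nat_lit 89625) (.node (nat_lit 89433) (.leaf (nat_lit 48)) (.leaf (nat_lit 384))) (.node (nat_lit 89742) (.leaf (nat_lit 48)) (.node (nat_lit 89783) (.leaf (nat_lit 384)) (.leaf (nat_lit 48))))) (.node (nat_lit 90072) (.node (nat_lit 89928) (.leaf (nat_lit 384)) (.leaf (nat_lit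 48))) (.node (nat_lit 90232) (.leaf (nat_lit 384)) (.node (nat_lit 90315) (.leaf (nat_lit 48)) (.leaf (nat_lit 384)))))) (.node (nat_lit 91461) (.node (nat_lit 90999) (.node (nat_lit 90893) (.leaf (nat_lit 48)) (.leaf (nat_lit 384))) (.node (nat_lit 91011) (.leaf (nat_lit 48)) (.node (nat_lit 91177) (.leaf (nat_lit 384)) (.leaf (nat_lit 48))))) (.node (nat_lit 91611) (.node (nat_lit 91551) (.leaf (nat_lit 384)) (.leaf (nat_lit 48))) (.node (nat_lit 91612) (.leaf (nat_lit 384)) (.node (nat_lit 91759) (.leaf (nat_lit 48)) (.leaf (nat_lit 384)))))))))) (.node (nat_lit 108691) (.node (nat_lit 98507) (.node (nat_lit 95406) (.node (nat_lit 93630) (.node (nat_lit 92671) (.node (nat_lit 92275) (.node (nat_lit 91919) (.leaf (nat_lit 48)) (.leaf (nat_lit 384))) (.node (nat_lit 92384) (.leaf (nat_lit 48)) (.leaf (nat_lit 384)))) (.node (nat_lit 92973) (.node (nat_lit 92799) (.leaf (nat_lit 48)) (.leaf (nat_lit 96))) (.node (nat_lit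 93484) (.leaf (nat_lit 384)) (.node (nat_lit 93522) (.leaf (nat_lit 96)) (.leaf (nat_lit 384)))))) (.node (nat_lit 94721) (.node (nat_lit 94022) (.node (nat_lit 93928) (.leaf (nat_lit 48)) (.leaf (nat_lit 384))) (.node (nat_lit 94048) (.leaf (nat_lit 48)) (.node (nat_lit 94687) (.leaf (nat_lit 384)) (.leaf (nat_lit 48))))) (.node (nat_lit 94902) (.node (nat_lit 94892) (.leaf (nat_lit 384)) (.leaf (nat_lit 48))) (.node (nat_lit 95146) (.leaf (nat_lit 384)) (.node (nat_lit 95266) (.leaf (nat_lit 48)) (.leaf (nat_lit 384))))))) (.node (nat_lit 96976) (.node (nat_lit 96361) (.node (nat_lit 95697) (.node (nat_lit 95440) (.leaf (nat_lit 48)) (.leaf (nat_lit 384))) (.node (nat_lit 96331) (.leaf (nat_lit 48)) (.leaf (nat_lit 384)))) (.node (nat_lit 96804) (.node (nat_lit 96750) (.leaf (nat_lit 48)) (.leaf (nat_lit 96))) (.node (nat_lit 96830) (.leaf (nat_lit 48)) (.node (nat_lit 96850) (.leaf (nat_lit 96)) (.leaf (nat_lit 384))))))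 (.node (nat_lit 97759) (.node (nat_lit 97416) (.node (nat_lit 97238) (.leaf (nat_lit 48)) (.leaf (nat_lit 384))) (.node (nat_lit 97452) (.leaf (nat_lit 48)) (.node (nat_lit 97655) (.leaf (nat_lit 384)) (.leaf (nat_lit 96))))) (.node (nat_lit 97842) (.node (nat_lit 97773) (.leaf (nat_lit 384)) (.leaf (nat_lit 48))) (.node (nat_lit 97964) (.leaf (nat_lit 384)) (.node (nat_lit 98196) (.leaf (nat_lit 48)) (.leaf (nat_lit 384)))))))) (.node (nat_lit 104672) (.node (nat_lit 100923) (.node (nat_lit 100144) (.node (nat_lit 99325) (.node (nat_lit 98719) (.leaf (nat_lit 48)) (.leaf (nat_lit 384))) (.node (nat_lit 99330) (.leaf (nat_lit 96)) (.leaf (nat_lit 384)))) (.node (nat_lit 100615) (.node (nat_lit 100372) (.leaf (nat_lit 48)) (.leaf (nat_lit 384))) (.node (nat_lit 100696) (.leaf (nat_lit 144)) (.node (nat_lit 100818) (.leaf (nat_lit 384)) (.leaf (nat_lit 48)))))) (.node (nat_lit 102433) (.node (nat_lit 101498) (.node (nat_lit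 101134) (.leaf (nat_lit 384)) (.leaf (nat_lit 48))) (.node (nat_lit 101775) (.leaf (nat_lit 384)) (.node (nat_lit 101991) (.leaf (nat_lit 48)) (.leaf (nat_lit 384))))) (.node (nat_lit 102875) (.node (nat_lit 102436) (.leaf (nat_lit 48)) (.leaf (nat_lit 384))) (.node (nat_lit 102990) (.leaf (nat_lit 48)) (.node (nat_lit 104310) (.leaf (nat_lit 384)) (.leaf (nat_lit 48))))))) (.node (nat_lit 106279) (.node (nat_lit 105688) (.node (nat_lit 105254) (.node (nat_lit 105219) (.leaf (nat_lit 384)) (.leaf (nat_lit 48))) (.node (nat_lit 105256) (.leaf (nat_lit 384)) (.node (nat_lit 105353) (.leaf (nat_lit 48)) (.leaf (nat_lit 384))))) (.node (nat_lit 105780) (.node (nat_lit 105693) (.leaf (nat_lit 48)) (.leaf (nat_lit 384))) (.node (nat_lit 106144) (.leaf (nat_lit 48)) (.node (nat_lit 106226) (.leaf (nat_lit 96)) (.leaf (nat_lit 48)))))) (.node (nat_lit 107818) (.node (nat_lit 106775) (.node (nat_lit 106673) (.leaf (nat_lit 384))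 (.leaf (nat_lit 48))) (.node (nat_lit 107275) (.leaf (nat_lit 384)) (.node (nat_lit 107446) (.leaf (nat_lit 48)) (.leaf (nat_lit 384))))) (.node (nat_lit 108059) (.node (nat_lit 107961) (.leaf (nat_lit 48)) (.leaf (nat_lit 384))) (.node (nat_lit 108618) (.leaf (nat_lit 48)) (.node (nat_lit 108640) (.leaf (nat_lit 96)) (.leaf (nat_lit 384))))))))) (.node (nat_lit 116935) (.node (nat_lit 113787) (.node (nat_lit 110461) (.node (nat_lit 109632) (.node (nat_lit 109365) (.node (nat_lit 109269) (.leaf (nat_lit 48)) (.leaf (nat_lit 384))) (.node (nat_lit 109367) (.leaf (nat_lit 48)) (.leaf (nat_lit 384)))) (.node (nat_lit 109905) (.node (nat_lit 109656) (.leaf (nat_lit 96)) (.leaf (nat_lit 48))) (.node (nat_lit 110141) (.leaf (nat_lit 384)) (.node (nat_lit 110259) (.leaf (nat_lit 48)) (.leaf (nat_lit 384)))))) (.node (nat_lit 112096) (.node (nat_lit 110557) (.node (nat_lit 110480) (.leaf (nat_lit 48)) (.leaf (nat_lit 384))) (.node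 (nat_lit 110931) (.leaf (nat_lit 48)) (.node (nat_lit 111103) (.leaf (nat_lit 384)) (.leaf (nat_lit 48))))) (.node (nat_lit 113062) (.node (nat_lit 112618) (.leaf (nat_lit 384)) (.leaf (nat_lit 48))) (.node (nat_lit 113217) (.leaf (nat_lit 384)) (.node (nat_lit 113274) (.leaf (nat_lit 48)) (.leaf (nat_lit 384))))))) (.node (nat_lit 115718) (.node (nat_lit 114356) (.node (nat_lit 114104) (.node (nat_lit 113866) (.leaf (nat_lit 48)) (.leaf (nat_lit 384))) (.node (nat_lit 114154) (.leaf (nat_lit 48)) (.node (nat_lit 114261) (.leaf (nat_lit 384)) (.leaf (nat_lit 48))))) (.node (nat_lit 115231) (.node (nat_lit 114459) (.leaf (nat_lit 384)) (.leaf (nat_lit 48))) (.node (nat_lit 115504) (.leaf (nat_lit 384)) (.node (nat_lit 115643) (.leaf (nat_lit 48)) (.leaf (nat_lit 384)))))) (.node (nat_lit 116375) (.node (nat_lit 115865) (.node (nat_lit 115811) (.leaf (nat_lit 48)) (.leaf (nat_lit 384))) (.node (nat_lit 116034) (.leaf (nat_lit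 48)) (.node (nat_lit 116345) (.leaf (nat_lit 96)) (.leaf (nat_lit 48))))) (.node (nat_lit 116587) (.node (nat_lit 116391) (.leaf (nat_lit 384)) (.leaf (nat_lit 48))) (.node (nat_lit 116724) (.leaf (nat_lit 384)) (.node (nat_lit 116898) (.leaf (nat_lit 48)) (.leaf (nat_lit 384)))))))) (.node (nat_lit 121535) (.node (nat_lit 119381) (.node (nat_lit 117596) (.node (nat_lit 117002) (.node (nat_lit 116941) (.leaf (nat_lit 48)) (.leaf (nat_lit 384))) (.node (nat_lit 117052) (.leaf (nat_lit 48)) (.leaf (nat_lit 384)))) (.node (nat_lit 118265) (.node (nat_lit 118232) (.leaf (nat_lit 48)) (.leaf (nat_lit 384))) (.node (nat_lit 118482) (.leaf (nat_lit 48)) (.node (nat_lit 118867) (.leaf (nat_lit 384)) (.leaf (nat_lit 48)))))) (.node (nat_lit 120586) (.node (nat_lit 119859) (.node (nat_lit 119735) (.leaf (nat_lit 384)) (.leaf (nat_lit 48))) (.node (nat_lit 120146) (.leaf (nat_lit 384)) (.node (nat_lit 120158) (.leaf (nat_lit 48))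 (.leaf (nat_lit 384))))) (.node (nat_lit 120807) (.node (nat_lit 120722) (.leaf (nat_lit 48)) (.leaf (nat_lit 384))) (.node (nat_lit 121302) (.leaf (nat_lit 48)) (.node (nat_lit 121377) (.leaf (nat_lit 384)) (.leaf (nat_lit 48))))))) (.node (nat_lit 122823) (.node (nat_lit 121981) (.node (nat_lit 121635) (.node (nat_lit 121540) (.leaf (nat_lit 384)) (.leaf (nat_lit 48))) (.node (nat_lit 121791) (.leaf (nat_lit 384)) (.node (nat_lit 121939) (.leaf (nat_lit 48)) (.leaf (nat_lit 384))))) (.node (nat_lit 122153) (.node (nat_lit 122087) (.leaf (nat_lit 48)) (.leaf (nat_lit 384))) (.node (nat_lit 122158) (.leaf (nat_lit 48)) (.node (nat_lit 122283) (.leaf (nat_lit 384)) (.leaf (nat_lit 48)))))) (.node (nat_lit 123908) (.node (nat_lit 123389) (.node (nat_lit 123356) (.leaf (nat_lit 384)) (.leaf (nat_lit 48))) (.node (nat_lit 123680) (.leaf (nat_lit 384)) (.node (nat_lit 123764) (.leaf (nat_lit 96)) (.leaf (nat_lit 48))))) (.node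 (nat_lit 124037) (.node (nat_lit 123945) (.leaf (nat_lit 384)) (.leaf (nat_lit 48))) (.node (nat_lit 124224) (.leaf (nat_lit 384)) (.node (nat_lit 124441) (.leaf (nat_lit 48)) (.leaf (nat_lit 384))))))))))))
noncomputable def HU_soc_F : Fm := (.all HU_L (.or (.qf (.eq (.v (nat_lit 0)) .one)) (.exF HU_L (fun cs => HU_soc_t1.find (Nat.mod (nth (nat_lit 0) cs (nat_lit 0)) (nat_lit 124987))) (.exF HU_L (fun cs => HU_soc_t0.find (Nat.mod (Nat.add (nth (nat_lit 0) cs (nat_lit 0)) (Nat.mul (nat_lit 7919) (nth (nat_lit 0) cs (nat_lit 1)))) (nat_lit 193337))) (.qf (.or (.eq (.mul (.mul (.v (nat_lit 0)) (.v (nat_lit 2))) (.inv (.v (nat_lit 0)))) (.v (nat_lit 3))) (.or (.eq (.mul (.mul (.v (nat_lit 0)) (.v (nat_lit 2))) (.inv (.v (nat_lit 0)))) (.v (nat_lit 3))) (.or (.eq (.mul (.mul (.v (nat_lit 0)) (.mul (.mul (.mul (.v (nat_lit 2)) (.v (nat_lit 1))) (.inv (.v (nat_lit 2)))) (.inv (.v (nat_lit 1))))) (.inv (.v (nat_lit 0)))) (.v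 (nat_lit 3))) (.or (.eq (.mul (.mul (.v (nat_lit 0)) (.mul (.mul (.mul (.v (nat_lit 2)) (.v (nat_lit 1))) (.inv (.v (nat_lit 2)))) (.inv (.v (nat_lit 1))))) (.inv (.v (nat_lit 0)))) (.v (nat_lit 3))) (.or (.eq (.mul (.mul (.mul (.mul (.mul (.mul (.v (nat_lit 2)) (.v (nat_lit 1))) (.inv (.v (nat_lit 2)))) (.inv (.v (nat_lit 1)))) (.v (nat_lit 0))) (.inv (.mul (.mul (.mul (.v (nat_lit 2)) (.v (nat_lit 1))) (.inv (.v (nat_lit 2)))) (.inv (.v (nat_lit 1)))))) (.inv (.v (nat_lit 0)))) (.v (nat_lit 3))) (.eq (.mul (.mul (.mul (.mul (.mul (.mul (.v (nat_lit 2)) (.v (nat_lit 1))) (.inv (.v (nat_lit 2)))) (.inv (.v (nat_lit 1)))) (.v (nat_lit 0))) (.inv (.mul (.mul (.mul (.v (nat_lit 2)) (.v (nat_lit 1))) (.inv (.v (nat_lit 2)))) (.inv (.v (nat_lit 1)))))) (.inv (.v (nat_lit 0)))) (.v (nat_lit 3)))))))))))))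
theorem HU_soc_chk : Fm.chk HU_o HU_soc_F HU_cs = true := by decide +kernel
theorem HU_soc {G : Type*} [Group G] {R : ℕ → G → Prop} {z u v a b r s x X_ y Y_ : G} {H : Subgroup G}
    (M : Mdl HU_o HU_cs HU_L R [z, u, v, a, b, r, s, x, X_, y, Y_] H) :
    ∀ y_ ∈ H, y_ = 1 ∨ (∃ q_ ∈ H, ∃ k_ ∈ H, k_ * y_ * k_⁻¹ = z ∨ k_ * y_ * k_⁻¹ = z ∨ k_ * ⁅y_, q_⁆ * k_⁻¹ = z ∨ k_ * ⁅y_, q_⁆ * k_⁻¹ = z ∨ ⁅⁅y_, q_⁆, k_⁆ = z ∨ ⁅⁅y_, q_⁆, k_⁆ = z) :=
  have h : ∀ y_, InL HU_o R HU_L y_ → y_ = 1 ∨ (Good HU_o R HU_L → prods HU_o HU_L HU_o.one ≠ [] → ∃ q_, InL HU_o R HU_L q_ ∧ (Good HU_o R HU_L → prods HU_o HU_L HU_o.one ≠ [] → ∃ k_, InL HU_o R HU_L k_ ∧ (k_ * y_ * k_⁻¹ = z ∨ k_ * y_ * k_⁻¹ = z ∨ k_ * ⁅y_, q_⁆ * k_⁻¹ = z ∨ k_ * ⁅y_, q_⁆ * k_⁻¹ = z ∨ ⁅⁅y_, q_⁆, k_⁆ = z ∨ ⁅⁅y_, q_⁆, k_⁆ = z))) :=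
    Fm.sound M.μ HU_soc_F HU_soc_chk M.reps
  (fun y_ h0 => (Or.imp (fun h1 => h1) (fun h1 => (Exists.imp (fun q_ h2 => ⟨M.H.iff.1 h2.1, (Exists.imp (fun k_ h3 => ⟨M.H.iff.1 h3.1, h3.2⟩) (h2.2 M.H.good M.H.ne))⟩) (h1 M.H.good M.H.ne))) (h y_ (M.H.iff.2 h0))))
theorem HU_mdl {G : Type*} [Group G] {z u v a b r s x y : G}
    (h : Q3 z u v a b x)
    (k : KY z u v x y)
    (q : QT z u v a b)
    (t : TU z u v a b r s)
    (l : XU r s x y)
    (n1 : z ≠ 1) :
    ∃ R, Mdl HU_o HU_cs HU_L R [z, u, v, a, b, r, s, x, x⁻¹, y, y⁻¹] (sp [z, u, v, a, b, r, s, x, x⁻¹, y, y⁻¹]) ∧ #(sp [z, u, v, a, b, r, s, x, x⁻¹, y, y⁻¹]) = 1152 :=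
  mdl_of HU_P rfl (HU_r h k q t l) (.v (nat_lit 0)) (.v (nat_lit 0)) n1 n1 
    fun _ ms _ M hl => match ms, M, (hl : ms.length = 11) with
      | [_, _, _, _, _, _, _, _, _, _, _], M, _ => HU_soc M
noncomputable def HU_lT : List ℕ := [(nat_lit 0xbeeb6caeaa689e69648e28607de75c6da6585d65544d24503ce34c2ca2481c61440c2040), (nat_lit 0xb2baafbad8e279d85ca6895b6a79a481f59549960f31738b51129340d1440c22481c6001), (nat_lit 0xa689638a1bee655b57b2ba946966123df9dd91e9a015c3906d12892cd3080c64c41c2040), (nat_lit 0xa68aa38adbee598864b2b95b45955c80e7a65e774f4d27c451a1cc20324b341150280182), (nat_lit 0x9e691e75c655bee5ed5984936acaea31fa62963a0582144b24e29b40d3c81c25040c6040), (nat_lit 0x9e6a9e76d598bee95c65585b42cae480b8e85e989431211f3c819368224e04d15100a1c3), (nat_lit 0x8e89698a1b2e7a6b64beba8f46775c50e5985d955b3127d081a0d32c7148282244346001), (nat_lit 0xb60bea6ec954913a6784f8ee35c31eaca5c96521689961c68837dd09a60145054038b204), (nat_lit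 0x8e2869a25b2b598a92beeb4f7d955751a7a672775b26444b80e34540a4c41c23080c6001), (nat_lit 0x8e2b69a2ab2b65595cbee8603966246d19dd49e9943176883df0d310715028024b341086), (nat_lit 0x79d7279a4598b2b4aa6555cc7efbad4da8e88698896e53901513602ca5040c63c81c2001), (nat_lit 0x79db679aa655b2b8645989602efb9c6d0a624a3a0f4d721a50408c7c615100a24e04d0c7), (nat_lit 0xa62863a25beb9dda9cb2eb5439e9a43d16554966204d768b6df1cc403244346148282040), (nat_lit 0xa9bb2d82f84f70c8de954a6b2a44e7b8d4855972627590c2a076a619f54038b601450108), (nat_lit 0xbee86cae5a6879da978e2b4f3a799251159591961b15c68481f0c920730b2814d0340182), (nat_lit 0x6555d66129e6a6892579d7057e38a125abebb6cb9352a38b31134f40a6c80c28041c6040), (nat_lit 0x5989595619e68e2a9779db542e9a123d0beb72cb9b16421f8040896864ce00d31104a1c3), (nat_lit 0xb2eb6faea8e8595957a6285b39961281179d92798f25c69051f1c52c34c8342304286001), (nat_lit 0x954a613e3b605c5bd9a9bb2829225688d90c9dc4ee55e0c6ac769809f74139098044b204),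 (nat_lit 0x6557166249e68e24ad79d5cc469a2a4ceb2e96fac982168415f1db2033d028150b340086), (nat_lit 0x598b5956a9e6a6885c79d9601238a46c8b2e5efacf31241150b05338025a18715f08334a), (nat_lit 0xb2e86fae58e8658aa4a62b547d655c3da9e65de7603124446ce29320d14b0c02501c1086), (nat_lit 0x954b213efb604898e7a9ba6b1d715eb83713664322996340a0a45d04e6027c854668440b), (nat_lit 0x59891955c79da685ea9e64933a38ad311beb86cb856e57c825a0e010750b3403d0281182), (nat_lit 0xbee72cae48e29e65eaa6848c2de76d4d05959596056e111a2480a07c63ce04a51100d1c3), (nat_lit 0x7a692775c5958e85e565848c3a98a14d1b2bb6fb893ea7cb15a1d44038082866c4342001), (nat_lit 0x9139dc31e5c5b6066f4895a62aa6ec74d94fa61515ba31c26036ab19f88144ba00390204), (nat_lit 0x65585662579da68b529e6a8f42389750bb2e92fae025c11a6c81857c231104a4ce00d0c7), (nat_lit 0x7a68677656588e8b5c595a944298a43cbbee5ecadb4d211180808c38615a00325f04728d), (nat_lit 0x913b1c32f489b60a5e5c58eb1aa6e7b828546653e875600d88142628b60321f54711a44e),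 (nat_lit 0x5955d96127a6b2e92d9dd70946faea14e8e2969a0c6e168b4df0e04075083463c4282001), (nat_lit 0x6589565617a6b2ea9c9ddb4f12fae4508a685e38a04d241f6cb00c68114e08a25118d0c7), (nat_lit 0x854a653e3aa0713be7b5bb221e431ea0348965716b756346b8a3a609154168b6007d0108), (nat_lit 0xa9ba6d82384f913bd6954b281dc3198835c979216e627341aca45500e9867c47426882d0), (nat_lit 0xa9b9ed81e95470c5af84f6661a44ec7425c98d2158ba904d54042b28ba0711f88321a391), (nat_lit 0x94f8e1529b5b90cb1eaa0be80dc4e78875c559226e999282acd45d18e6007d054168b204), (nat_lit 0xb2b96fba18e29e6b52a68a9445e7573ce6587165602647c86da1c51034d034030b281086), (nat_lit 0x59849955779d8e27219e69096a9a2515fb2eaafacc3ed4504ce2942cd8041c66c80c2001), (nat_lit 0xbebaacbada626588528e89604565576ce9e671e7541647cb3da0c94073042864c8342040), (nat_lit 0x84f8e5529a9b489b16b60be2357159a0a7137a432b6271c2b837d519a98044b741390108), (nat_lit 0x655a9662d79d8e29649e685b229a1c804beb4acb944d72ce3d000c44115f08325a18728d),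 (nat_lit 0xbeb96cba1a62595b5c8e8a8f69962451f79d4a799b4d738881134c10a2501c114b0c0182), (nat_lit 0x84fbe552ca9b5c5a5eb608ee0d2267ac790c59c4e875928188d3a60115466846027c82d0), (nat_lit 0xb2b92fb9ca6879d4ad8e25d34279aa30b65885654982521f14419b68251100d3ce04a0c7), (nat_lit 0x9dd71e9a4658a624a15955d3463a2530ebeeaacac552d69025f0cf2c76c4342808286040), (nat_lit 0x70c7a44e7489a9b5ac5c565d36d82f98a8548e53d8ae90c65477ee09aa0039088144b108), (nat_lit 0x9dd95e9a1595a62aa4658b4f2e3a1c510b2b4afba031720e6c419344225f04715a00334a), (nat_lit 0x70cbe44ec5c5a9b8e7489a6e0ad81eac694f5a152299904aa002dd35054711a60321f391), (nat_lit 0x6584965579ddbeb72a7a69053acbad251a688638938257d031a1db2c33c4282508346040), (nat_lit 0x5958596259ddbebb647a6a9422cb9c3c48e24a9a1b3172da8100537c025118d14e08a1c3), (nat_lit 0xb608ea6e995470cb1984fbe20e44d6a074859d726b55e280b8d3980517426889867c440b), (nat_lit 0xb607aa6e784f91366c95459d09c32f986485a57255ae300a6012ee35088321aa0711f44e),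 (nat_lit 0x9e649e757655b2b7255989093afba11518e8b6988c52a7c44da0cf2076d034180b280086), (nat_lit 0x9e685e765598b2bb57655a8f22fb92504a62723a201642d16d00093814da08731f18334a), (nat_lit 0x8e8aa98adb2e9dd857beb96069e9926df65591661425c3843d134520a4cb1c03100c1086), (nat_lit 0x79d5e7992598bee92165570546cae524ea62aa3a133ed68831f1d410380b2806d0341182), (nat_lit 0x8e25e9a12bee598725b2b90541956124b9dda9e98c52d21a4c418f7c280e00a6d104d1c3), (nat_lit 0x5c56522569139549e970c7953613e360ab5bbea826a2c0c27477e219aac138bb80450204), (nat_lit 0x658b5656a7a6beb8579dd95b2ecb928108e2729a142642113c418538231a0434df00728d), (nat_lit 0x489a5716391384fb1970cbe80a5516886b5b7aa82b56704db802d829098311f74721a44e), (nat_lit 0x7a6aa776d658a62957595860223a126c4b2b72fb8f2642df51004568030e18a4d108d0c7), (nat_lit 0xaa0bed6ec854485a5994f8eb0d7256b8770c9e44e261e286a0d45508e9817cb740690108), (nat_lit 0x9545a13d9a9b5c59e3b60798092269546713be43268ac00d7412e8290ac721fb8311a391),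 (nat_lit 0xb5bb2a82f94f5c98d6854a6e1d2159ac391379c32856734288a3981917406909817cb204), (nat_lit 0x8e2929a1cbee6554aab2b5d311662d3087a69677496e12d11500603803df08751a18328d), (nat_lit 0x5957196247a6beb4a59dd5d37ecba131aa68b638853ea38425129420d8101c06cb0c1182), (nat_lit 0x5c579226791384f5af70c65d1e552c983aa0a6d6d8ba328054d46b04e886688a027c42d0), (nat_lit 0x79d9679a1655beea92598b5412cad73c88e892989b25c40e80b04544031f1834da08728d), (nat_lit 0x489bd716c9139548de70ca6e0213e7ac1aa066d6e2756187a022260c460a41154d2ce7da), (nat_lit 0x7a64a7757595a6272d6589056a3a2a25fbee96cad36e144430e36020a5100c03cb1c1182), (nat_lit 0xaa08ed6e98545c9b2794fbe835215e88a91365c32e7561c0ac36a605f5423846064482d0), (nat_lit 0x9547a13e7a9b48966fb6059d05716c98090c8dc4d5ba918360212b1c8a0a40e88d2d17da), (nat_lit 0xb5ba6a82394f485bde854b22297267a0d70c5a44eb9990c1b877dd01a60644854238440b), (nat_lit 0xa687238a4b2b5985edbee48c21956a4c49dd85e98582540e24b01b44151a1833df08734a),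 (nat_lit 0x65891655c9ddb2e5e17a648c6afae54df8e2aa9a0952d44814e34f10a6cb0c18101c0086), (nat_lit 0x4899d715e70c95466c9135a60e13ef747b5b8ea815ae934160a3ae011a027c488668840b), (nat_lit 0xa684a3897b2b655921bee7092d66251507a6b677533ea11f3080946866d104d80e00a0c7), (nat_lit 0x8e87298a4beb7a65e1b2e4932e7765310655b5660952a10e14818f44281a0076df04328d), (nat_lit 0xb2e72fae4a626585e58e849321656130479daa79893ed41a14b0547c06ce08d81118a0c7), (nat_lit 0x7139e431e4858546695c959d0e53e3987a9bbed8188ac34254a46818eb81690ac07cb108), (nat_lit 0x91359c3195c5a9b7a94899d80ed823547854be53dda2c34098a3a2051ac67c8b826842d0), (nat_lit 0x90c79c4e75c994f5a34856661e1529743b60b2a6d5a2f28660d3a2091ac07cbb81690204), (nat_lit 0x595a9962d9ddb2e9527a686042fad76cba6892388f15c10e5080894464df00731a04334a), (nat_lit 0x5c58d226970c954bd6913b221a13d9a02aa09ed6ee61e00aac141534b74721a98311f391), (nat_lit 0xb2e4afad7a6259592a8e87052d962d2509e695e74c8211114c819b38251f0033da04734a),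 (nat_lit 0x7138e43295c9854bde485b281a53e7882b6066a6eb996007b812dd0d054a10e60d21169f), (nat_lit 0x9138dc329489a9bbd95c5b2206d816a0094f7a152e567087ac61180c898a2d174d40e7da), (nat_lit 0x90ca5c4e348594fb275c9be20a151ea06a9b5ad82e759043ac04261cb60d21154a10e7da), (nat_lit 0x9dd5de9926588e892a5957097e98ad15ab2b86fb8c8253884d129b10d3cb1c15100c0086), (nat_lit 0xa625e3a12b2e7a672abeb90912776d1486559566138212da31001b7c150e18d3d108a0c7), (nat_lit 0x485657256713aa09ef90c7981ed6ec54384fa6551dae328298d3ae191a017d088068b108), (nat_lit 0x9ddb5e9aa5958e885265895b129897808bee92cad415c41a3cb0097c14d108d30e18a1c3), (nat_lit 0x5c9a52163713aa0b1e90cbe202d6e7a019546613ee99618dac211d2885432da60741f391), (nat_lit 0x94fbe152cb5b713a56aa08eb364319b8a4897971625671c1a0369801f74638898244440b), (nat_lit 0x8545a53d9b5b90c9efaa079505c4ec6004898d715dae918d98222e2848872daa0341f44e), (nat_lit 0x70c6644d6489b609e35c57951ea6e960394fb215268af28174d46800eb82684ac67c840b),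 (nat_lit 0xb605aa6d984f70c9e99547980644e35405c9b12166a2f1877421220c8b8d411aca2ce69f), (nat_lit 0x854b253efaa090c8d9b5ba6e29c4d6acd5c59d226861e0c08877d505a9824447463882d0), (nat_lit 0x84f665516b604897a9a9b9d519716360290cb1c4dda2f04a98042234bb8311aac721f44e), (nat_lit 0x8547a53e7b5b713663aa05a60a43297465c5bd2258a2c0035414221cbb8a111acd20e69f), (nat_lit 0x5c959215990cb5b7ac7139d50ea82f6079548e13e6ba934674a46b08e88068ba017d0204), (nat_lit 0x94f661516aa07137acb5b9d802432f5415c5a52266ba308a74612b348a0341f8872da391), (nat_lit 0xa62b63a2abeb7a6952b2e85b7e775781a59871954f16444850e28910d3100c14cb1c0182), (nat_lit 0x48959715970c84f7a39139d82a552954daa0b2d6dd8af1c69836a809fb80450ac138b108), (nat_lit 0x5c5b1226f70c84fa679138eb06551eb80b5b5aa82899908388611d1c854d2ce60a41169f), (nat_lit 0x84f9e551eb605c55aca9b66601226f741713a64318ae308754622e0c488d2d1a0a40e69f), (nat_lit 0xa62923a1cb2e9dd4a5beb5cc41e9a14cb598a995453ed2112440943866df04381a00734a),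 (nat_lit 0xbeb92cb9c8e85954a1a625cc1196254c89e6b5e74552a2df25000f68181118a6ce08d1c3), (nat_lit 0xbeb5ecb928e865872da6290941656a14b79d8679936e520e3040a04463da04751f00328d), (nat_lit 0x70ca644e35c5b60b16489be802a6d98818549e53eb61e183b822151c474d40e98a2d169f), (nat_lit 0x8e84a9897beb9dd92db2e70521e9aa24459885954c6e541f4cb0606803d108a50e18d1c3), (nat_lit 0x4858d726990cb5bbe7713b2806a81e88084f5a552b75908ab8622634460741f5432da44e), (nat_lit 0xa9b66d8169549137a384f9d501c329601485bd725d8ac0839862281c4aca2ceb8d4117da), (nat_lit 0x94f9e151eaa090c5a9b5b65d19c4e3982489b171558af0476002e80d0acd20eb8a1117da), (nat_lit 0xbee4acad78e279d925a687092279a1144658a9655352d41130b00f38181f1876da08328d), (nat_lit 0xb2b5efb92a689e67218e290511e765248595b5960c3ea2ce4d00544406da08381f18734a), (nat_lit 0x5c9bd216c713b5b8d990ca6b0aa816b8684f7a55286270478804150cb74a20e98d11169f), (nat_lit 0x485b1726f90caa0a567138ee1ad6d9ac29549e13e255e003a012d81d098d11174a20e7da),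 (nat_lit 0x713b2432f5c994fa594858ee061516ac0a9b7ad82262708da0621528474341a9872df391), (nat_lit 0xb5b9ea81e8544855a394f65d017269981913bdc315a2c08d606122288b8741aac32df44e), (nat_lit 0xb5b66a8168545c97af94f9d819216c54270c8e44e6ae90437402ee1d088a211a0d10e69f), (nat_lit 0xaa07ad6e794f5c96698545a605216374070cb244d88af18a542228344ac32dfb8741a391), (nat_lit 0x485797267713b5b5a990c66636a82374a954be13d58ac0c06076a805fb86444ac238840b), (nat_lit 0x5c99d215e90caa066371359d2ad6e998d84fb25518a2f1c15437e201aac2388b864442d0), (nat_lit 0x7135a431948594f7af5c99d52a152c60db60a6a6e6ae31c07437ee05aa0638488244840b), (nat_lit 0x90c65c4d65c98549ec4857983653ef54aa9b8ed81dba90c19876ab01f882448a063842d0), (nat_lit 0xaa05ad6d994f4859ec85479509726f606913a5c31dba300798142b0cba0d10e88a2117da), (nat_lit 0x90cbdc4ec4858548d65c9a6b0253d9b81b609ea6e855e18a8821183489872df74341a44e)]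
noncomputable def HU_lT_W : List (List ℕ) := [[],
  [(nat_lit 0)],
  [(nat_lit 1)],
  [(nat_lit 2)],
  [(nat_lit 3)],
  [(nat_lit 4)],
  [(nat_lit 5)],
  [(nat_lit 6)],
  [(nat_lit 0), (nat_lit 1)],
  [(nat_lit 0), (nat_lit 2)],
  [(nat_lit 0), (nat_lit 3)],
  [(nat_lit 0), (nat_lit 4)],
  [(nat_lit 0), (nat_lit 5)],
  [(nat_lit 0), (nat_lit 6)],
  [(nat_lit 1), (nat_lit 2)],
  [(nat_lit 1), (nat_lit 3)],
  [(nat_lit 1), (nat_lit 4)],
  [(nat_lit 1), (nat_lit 5)],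
  [(nat_lit 1), (nat_lit 6)],
  [(nat_lit 2), (nat_lit 3)],
  [(nat_lit 2), (nat_lit 4)],
  [(nat_lit 2), (nat_lit 5)],
  [(nat_lit 2), (nat_lit 6)],
  [(nat_lit 3), (nat_lit 2)],
  [(nat_lit 3), (nat_lit 4)],
  [(nat_lit 3), (nat_lit 5)],
  [(nat_lit 3), (nat_lit 6)],
  [(nat_lit 4), (nat_lit 1)],
  [(nat_lit 4), (nat_lit 5)],
  [(nat_lit 4), (nat_lit 6)],
  [(nat_lit 5), (nat_lit 3)],
  [(nat_lit 5), (nat_lit 4)],
  [(nat_lit 5), (nat_lit 6)],
  [(nat_lit 6), (nat_lit 2)],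
  [(nat_lit 6), (nat_lit 4)],
  [(nat_lit 6), (nat_lit 5)],
  [(nat_lit 0), (nat_lit 1), (nat_lit 2)],
  [(nat_lit 0), (nat_lit 1), (nat_lit 3)],
  [(nat_lit 0), (nat_lit 1), (nat_lit 5)],
  [(nat_lit 0), (nat_lit 1), (nat_lit 6)],
  [(nat_lit 0), (nat_lit 2), (nat_lit 4)],
  [(nat_lit 0), (nat_lit 2), (nat_lit 5)],
  [(nat_lit 0), (nat_lit 2), (nat_lit 6)],
  [(nat_lit 0), (nat_lit 3), (nat_lit 4)],
  [(nat_lit 0), (nat_lit 3), (nat_lit 5)],
  [(nat_lit 0), (nat_lit 3), (nat_lit 6)],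
  [(nat_lit 0), (nat_lit 4), (nat_lit 5)],
  [(nat_lit 0), (nat_lit 4), (nat_lit 6)],
  [(nat_lit 0), (nat_lit 5), (nat_lit 3)],
  [(nat_lit 0), (nat_lit 5), (nat_lit 4)],
  [(nat_lit 0), (nat_lit 6), (nat_lit 2)],
  [(nat_lit 0), (nat_lit 6), (nat_lit 4)],
  [(nat_lit 1), (nat_lit 2), (nat_lit 3)],
  [(nat_lit 1), (nat_lit 2), (nat_lit 4)],
  [(nat_lit 1), (nat_lit 2), (nat_lit 5)],
  [(nat_lit 1), (nat_lit 3), (nat_lit 2)],
  [(nat_lit 1), (nat_lit 3), (nat_lit 4)],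
  [(nat_lit 1), (nat_lit 3), (nat_lit 6)],
  [(nat_lit 1), (nat_lit 4), (nat_lit 5)],
  [(nat_lit 1), (nat_lit 4), (nat_lit 6)],
  [(nat_lit 1), (nat_lit 5), (nat_lit 4)],
  [(nat_lit 1), (nat_lit 5), (nat_lit 6)],
  [(nat_lit 1), (nat_lit 6), (nat_lit 4)],
  [(nat_lit 1), (nat_lit 6), (nat_lit 5)],
  [(nat_lit 2), (nat_lit 3), (nat_lit 4)],
  [(nat_lit 2), (nat_lit 3), (nat_lit 5)],
  [(nat_lit 2), (nat_lit 3), (nat_lit 6)],
  [(nat_lit 2), (nat_lit 4), (nat_lit 1)],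
  [(nat_lit 2), (nat_lit 4), (nat_lit 6)],
  [(nat_lit 2), (nat_lit 5), (nat_lit 3)],
  [(nat_lit 2), (nat_lit 5), (nat_lit 6)],
  [(nat_lit 2), (nat_lit 6), (nat_lit 4)],
  [(nat_lit 2), (nat_lit 6), (nat_lit 5)],
  [(nat_lit 3), (nat_lit 2), (nat_lit 4)],
  [(nat_lit 3), (nat_lit 2), (nat_lit 5)],
  [(nat_lit 3), (nat_lit 2), (nat_lit 6)],
  [(nat_lit 3), (nat_lit 4), (nat_lit 1)],
  [(nat_lit 3), (nat_lit 4), (nat_lit 5)],
  [(nat_lit 3), (nat_lit 5), (nat_lit 4)],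
  [(nat_lit 3), (nat_lit 5), (nat_lit 6)],
  [(nat_lit 3), (nat_lit 6), (nat_lit 2)],
  [(nat_lit 3), (nat_lit 6), (nat_lit 5)],
  [(nat_lit 4), (nat_lit 1), (nat_lit 5)],
  [(nat_lit 4), (nat_lit 1), (nat_lit 6)],
  [(nat_lit 4), (nat_lit 5), (nat_lit 3)],
  [(nat_lit 4), (nat_lit 5), (nat_lit 6)],
  [(nat_lit 4), (nat_lit 6), (nat_lit 2)],
  [(nat_lit 4), (nat_lit 6), (nat_lit 5)],
  [(nat_lit 5), (nat_lit 3), (nat_lit 2)],
  [(nat_lit 5), (nat_lit 3), (nat_lit 4)],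
  [(nat_lit 5), (nat_lit 3), (nat_lit 6)],
  [(nat_lit 5), (nat_lit 4), (nat_lit 1)],
  [(nat_lit 5), (nat_lit 4), (nat_lit 6)],
  [(nat_lit 5), (nat_lit 6), (nat_lit 2)],
  [(nat_lit 5), (nat_lit 6), (nat_lit 4)],
  [(nat_lit 6), (nat_lit 2), (nat_lit 3)],
  [(nat_lit 6), (nat_lit 2), (nat_lit 4)],
  [(nat_lit 6), (nat_lit 2), (nat_lit 5)],
  [(nat_lit 6), (nat_lit 4), (nat_lit 1)],
  [(nat_lit 6), (nat_lit 4), (nat_lit 5)],
  [(nat_lit 6), (nat_lit 5), (nat_lit 3)],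
  [(nat_lit 6), (nat_lit 5), (nat_lit 4)],
  [(nat_lit 0), (nat_lit 1), (nat_lit 2), (nat_lit 5)],
  [(nat_lit 0), (nat_lit 1), (nat_lit 3), (nat_lit 6)],
  [(nat_lit 0), (nat_lit 2), (nat_lit 4), (nat_lit 6)],
  [(nat_lit 0), (nat_lit 2), (nat_lit 6), (nat_lit 4)],
  [(nat_lit 0), (nat_lit 3), (nat_lit 4), (nat_lit 5)],
  [(nat_lit 0), (nat_lit 3), (nat_lit 5), (nat_lit 4)],
  [(nat_lit 0), (nat_lit 4), (nat_lit 5), (nat_lit 3)],
  [(nat_lit 0), (nat_lit 4), (nat_lit 6), (nat_lit 2)],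
  [(nat_lit 0), (nat_lit 5), (nat_lit 3), (nat_lit 4)],
  [(nat_lit 0), (nat_lit 5), (nat_lit 4), (nat_lit 6)],
  [(nat_lit 0), (nat_lit 6), (nat_lit 2), (nat_lit 4)],
  [(nat_lit 0), (nat_lit 6), (nat_lit 4), (nat_lit 5)],
  [(nat_lit 1), (nat_lit 2), (nat_lit 3), (nat_lit 4)],
  [(nat_lit 1), (nat_lit 3), (nat_lit 2), (nat_lit 4)],
  [(nat_lit 1), (nat_lit 4), (nat_lit 5), (nat_lit 6)],
  [(nat_lit 1), (nat_lit 4), (nat_lit 6), (nat_lit 5)],
  [(nat_lit 1), (nat_lit 5), (nat_lit 4), (nat_lit 6)],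
  [(nat_lit 1), (nat_lit 5), (nat_lit 6), (nat_lit 4)],
  [(nat_lit 1), (nat_lit 6), (nat_lit 4), (nat_lit 5)],
  [(nat_lit 1), (nat_lit 6), (nat_lit 5), (nat_lit 4)],
  [(nat_lit 2), (nat_lit 3), (nat_lit 5), (nat_lit 6)],
  [(nat_lit 2), (nat_lit 3), (nat_lit 6), (nat_lit 5)],
  [(nat_lit 2), (nat_lit 5), (nat_lit 3), (nat_lit 6)],
  [(nat_lit 2), (nat_lit 6), (nat_lit 5), (nat_lit 3)],
  [(nat_lit 2), (nat_lit 6), (nat_lit 5), (nat_lit 4)],
  [(nat_lit 3), (nat_lit 5), (nat_lit 6), (nat_lit 4)]]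
noncomputable def HU_lT_h (c : ℕ) : ℕ := Nat.mod c (nat_lit 2783)
theorem HU_lT_E {G : Type*} [Group G] {R : ℕ → G → Prop} {z u v a b r s x y : G} {H : Subgroup G}
    (M : Mdl HU_o HU_cs HU_L R [z, u, v, a, b, r, s, x, x⁻¹, y, y⁻¹] H) :
    EnumS R HU_lT (sp [z, u, v, a, b, r, s]) :=
  enumS_sp M.μ.1 (M.reps.tms M.μ.1 [(.v (nat_lit 0)), (.v (nat_lit 1)), (.v (nat_lit 2)), (.v (nat_lit 3)), (.v (nat_lit 4)), (.v (nat_lit 5)), (.v (nat_lit 6))] (cs' := [(nat_lit 0xb2baafbad8e279d85ca6895b6a79a481f59549960f31738b51129340d1440c22481c6001), (nat_lit 0xa689638a1bee655b57b2ba946966123df9dd91e9a015c3906d12892cd3080c64c41c2040), (nat_lit 0xa68aa38adbee598864b2b95b45955c80e7a65e774f4d27c451a1cc20324b341150280182), (nat_lit 0x9e691e75c655bee5ed5984936acaea31fa62963a0582144b24e29b40d3c81c25040c6040), (nat_lit 0x9e6a9e76d598bee95c65585b42cae480b8e85e989431211f3c819368224e04d15100a1c3), (nat_lit 0x8e89698a1b2e7a6b64beba8f46775c50e5985d955b3127d081a0d32c7148282244346001),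 (nat_lit 0xb60bea6ec954913a6784f8ee35c31eaca5c96521689961c68837dd09a60145054038b204)]) (by decide +kernel))
    (Ws := HU_lT_W) (by decide +kernel) (by decide +kernel)
theorem HU_lT_c {G : Type*} [Group G] {R : ℕ → G → Prop} {z u v a b r s x y : G} {H : Subgroup G}
    (M : Mdl HU_o HU_cs HU_L R [z, u, v, a, b, r, s, x, x⁻¹, y, y⁻¹] H) :
    #(sp [z, u, v, a, b, r, s]) = 128 :=
  (HU_lT_E M).card M.μ (h := HU_lT_h) (by decide +kernel)
noncomputable def HU_lP : List ℕ := [(nat_lit 0xbeeb6caeaa689e69648e28607de75c6da6585d65544d24503ce34c2ca2481c61440c2040), (nat_lit 0x9e691e75cbeea68b65b2ba934238a130b6585d65605127d16da18f382248347144283040), (nat_lit 0x35fb8a6ab1d1190a260ce8afb422ddb2a0486001299d59648e181e71b6575135923cc245), (nat_lit 0xa689638a19e6bee92d79d71446caea3ce6585d655381241f30b1db68324818d14408a040), (nat_lit 0x1909822dd35f1d1ba829aae79033a279c04860012fa55b65b2a4e384c6578145926cf245), (nat_lit 0x82d7dba9a5254e44503e138db8c70b2ab257205487184a260e2bc276c058a670158de656),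 (nat_lit 0x1d1a033a219035f9ae08b76994a6ab8e1048600127bd592d79c52ca8f6574e059231b245), (nat_lit 0x4e440c70b82d5257d16ea68698f84e09d25720548d1c4ba82ab9c389e058be9015b23656), (nat_lit 0x52544f84e4e482d41f31c2c7a1ba9a0e22572054863449ae09da4aae30589ef0157ac656)]
noncomputable def HU_lP_W : List (List ℕ) := [[],
  [(nat_lit 0)],
  [(nat_lit 1)],
  [(nat_lit 0), (nat_lit 0)],
  [(nat_lit 0), (nat_lit 1)],
  [(nat_lit 1), (nat_lit 1)],
  [(nat_lit 0), (nat_lit 0), (nat_lit 1)],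
  [(nat_lit 0), (nat_lit 1), (nat_lit 1)],
  [(nat_lit 0), (nat_lit 0), (nat_lit 1), (nat_lit 1)]]
noncomputable def HU_lP_h (c : ℕ) : ℕ := Nat.mod c (nat_lit 29)
theorem HU_lP_E {G : Type*} [Group G] {R : ℕ → G → Prop} {z u v a b r s x y : G} {H : Subgroup G}
    (M : Mdl HU_o HU_cs HU_L R [z, u, v, a, b, r, s, x, x⁻¹, y, y⁻¹] H) :
    EnumS R HU_lP (sp [x, y]) :=
  enumS_sp M.μ.1 (M.reps.tms M.μ.1 [(.v (nat_lit 7)), (.v (nat_lit 9))] (cs' := [(nat_lit 0x9e691e75cbeea68b65b2ba934238a130b6585d65605127d16da18f382248347144283040), (nat_lit 0x35fb8a6ab1d1190a260ce8afb422ddb2a0486001299d59648e181e71b6575135923cc245)]) (by decide +kernel))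
    (Ws := HU_lP_W) (by decide +kernel) (by decide +kernel)
theorem HU_lP_c {G : Type*} [Group G] {R : ℕ → G → Prop} {z u v a b r s x y : G} {H : Subgroup G}
    (M : Mdl HU_o HU_cs HU_L R [z, u, v, a, b, r, s, x, x⁻¹, y, y⁻¹] H) :
    #(sp [x, y]) = 9 :=
  (HU_lP_E M).card M.μ (h := HU_lP_h) (by decide +kernel)
noncomputable def HU_lZ : List ℕ := [(nat_lit 0xbeeb6caeaa689e69648e28607de75c6da6585d65544d24503ce34c2ca2481c61440c2040), (nat_lit 0xb2baafbad8e279d85ca6895b6a79a481f59549960f31738b51129340d1440c22481c6001), (nat_lit 0x9e691e75cbeea68b65b2ba934238a130b6585d65605127d16da18f382248347144283040), (nat_lit 0x35fb8a6ab1d1190a260ce8afb422ddb2a0486001299d59648e181e71b6575135923cc245), (nat_lit 0x79d7279a4b2b8e2aa1beeb4c2e9a254d059549961b3d768e81f094446144283248347001), (nat_lit 0x29aacd7ee0ce08b89d1d1a2ca86426bed00454122379885ca656e79205923cc657513149), (nat_lit 0xa689638a19e6bee92d79d71446caea3ce6585d655381241f30b1db68324818d14408a040),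 (nat_lit 0x1909822dd35f1d1ba829aae79033a279c04860012fa55b65b2a4e384c6578145926cf245), (nat_lit 0x82d7dba9a5254e44503e138db8c70b2ab257205487184a260e2bc276c058a670158de656), (nat_lit 0x8e2869a2579db2b72a9e690f3afbad51159549960c6d72da4d00e07c714408a24818d001), (nat_lit 0x8b74642629a0ceae235fb9e7074689e400454122c8d8aa1bed3299535926cf657814149), (nat_lit 0x6ea6a0b5f3e131c38b52544aad391036e1521095c308889d1e8b069af0158de058a67599), (nat_lit 0x1d1a033a219035f9ae08b76994a6ab8e1048600127bd592d79c52ca8f6574e059231b245), (nat_lit 0x4e440c70b82d5257d16ea68698f84e09d25720548d1c4ba82ab9c389e058be9015b23656), (nat_lit 0xce88746808b29a76b1909a384d7eea6500454121eb1872a9e43efb5459231b6574e0149), (nat_lit 0x31c2d39106ea3e168e82d7c27549511a61521095ca0c8ae236e787a27015b23058be9599), (nat_lit 0x52544f84e4e482d41f31c2c7a1ba9a0e22572054863449ae09da4aae30589ef0157ac656), (nat_lit 0x3e139495131c6ea2da4e44038a0b5f1e81521095c228876b1a68cdba90157ac0589ef599)]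
noncomputable def HU_lZ_W : List (List ℕ) := [[],
  [(nat_lit 0)],
  [(nat_lit 1)],
  [(nat_lit 2)],
  [(nat_lit 0), (nat_lit 1)],
  [(nat_lit 0), (nat_lit 2)],
  [(nat_lit 1), (nat_lit 1)],
  [(nat_lit 1), (nat_lit 2)],
  [(nat_lit 2), (nat_lit 2)],
  [(nat_lit 0), (nat_lit 1), (nat_lit 1)],
  [(nat_lit 0), (nat_lit 1), (nat_lit 2)],
  [(nat_lit 0), (nat_lit 2), (nat_lit 2)],
  [(nat_lit 1), (nat_lit 1), (nat_lit 2)],
  [(nat_lit 1), (nat_lit 2), (nat_lit 2)],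
  [(nat_lit 0), (nat_lit 1), (nat_lit 1), (nat_lit 2)],
  [(nat_lit 0), (nat_lit 1), (nat_lit 2), (nat_lit 2)],
  [(nat_lit 1), (nat_lit 1), (nat_lit 2), (nat_lit 2)],
  [(nat_lit 0), (nat_lit 1), (nat_lit 1), (nat_lit 2), (nat_lit 2)]]
noncomputable def HU_lZ_h (c : ℕ) : ℕ := Nat.mod c (nat_lit 83)
theorem HU_lZ_E {G : Type*} [Group G] {R : ℕ → G → Prop} {z u v a b r s x y : G} {H : Subgroup G}
    (M : Mdl HU_o HU_cs HU_L R [z, u, v, a, b, r, s, x, x⁻¹, y, y⁻¹] H) :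
    EnumS R HU_lZ (sp [z, x, y]) :=
  enumS_sp M.μ.1 (M.reps.tms M.μ.1 [(.v (nat_lit 0)), (.v (nat_lit 7)), (.v (nat_lit 9))] (cs' := [(nat_lit 0xb2baafbad8e279d85ca6895b6a79a481f59549960f31738b51129340d1440c22481c6001), (nat_lit 0x9e691e75cbeea68b65b2ba934238a130b6585d65605127d16da18f382248347144283040), (nat_lit 0x35fb8a6ab1d1190a260ce8afb422ddb2a0486001299d59648e181e71b6575135923cc245)]) (by decide +kernel))
    (Ws := HU_lZ_W) (by decide +kernel) (by decide +kernel)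
theorem HU_lZ_c {G : Type*} [Group G] {R : ℕ → G → Prop} {z u v a b r s x y : G} {H : Subgroup G}
    (M : Mdl HU_o HU_cs HU_L R [z, u, v, a, b, r, s, x, x⁻¹, y, y⁻¹] H) :
    #(sp [z, x, y]) = 18 :=
  (HU_lZ_E M).card M.μ (h := HU_lZ_h) (by decide +kernel)
noncomputable def HU_z_F : Fm := (.all HU_L (.qf (.eq (.mul (.v (nat_lit 0)) (.v (nat_lit 1))) (.mul (.v (nat_lit 1)) (.v (nat_lit 0))))))
theorem HU_z_chk : Fm.chk HU_o HU_z_F HU_cs = true := by decide +kernel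
theorem HU_z {G : Type*} [Group G] {R : ℕ → G → Prop} {z u v a b r s x y : G} {H : Subgroup G}
    (M : Mdl HU_o HU_cs HU_L R [z, u, v, a, b, r, s, x, x⁻¹, y, y⁻¹] H) :
    ∀ c ∈ H, c * z = z * c :=
  have h : ∀ c, InL HU_o R HU_L c → c * z = z * c :=
    Fm.sound M.μ HU_z_F HU_z_chk M.reps
  (fun c h0 => (h c (M.H.iff.2 h0)))
noncomputable def HU_y_f_F : Fm := (.qf (.and (.eq (.pw (.v (nat_lit 9)) (nat_lit 3)) .one) (.and (.eq (.mul (.v (nat_lit 9)) (.v (nat_lit 0))) (.mul (.v (nat_lit 0)) (.v (nat_lit 9)))) (.and (.eq (.mul (.v (nat_lit 9)) (.v (nat_lit 5))) (.mul (.v (nat_lit 5)) (.v (nat_lit 9)))) (.and (.eq (.mul (.mul (.v (nat_lit 9)) (.v (nat_lit 1))) (.v (nat_lit 10))) (.v (nat_lit 2))) (.and (.eq (.mul (.mul (.v (nat_lit 9)) (.v (nat_lit 2))) (.v (nat_lit 10))) (.mul (.mul (.v (nat_lit 0)) (.v (nat_lit 1))) (.v (nat_lit 2)))) (.and (.eq (.mul (.mul (.v (nat_lit 9)) (.v (nat_lit 3))) (.v (nat_lit 10))) (.v (nat_lit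 4))) (.and (.eq (.mul (.mul (.v (nat_lit 9)) (.v (nat_lit 4))) (.v (nat_lit 10))) (.mul (.mul (.v (nat_lit 0)) (.v (nat_lit 3))) (.v (nat_lit 4)))) (.eq (.mul (.mul (.v (nat_lit 6)) (.v (nat_lit 9))) (.v (nat_lit 6))) (.v (nat_lit 10)))))))))))
theorem HU_y_f_chk : Fm.chk HU_o HU_y_f_F HU_cs = true := by decide +kernel
theorem HU_y_f {G : Type*} [Group G] {R : ℕ → G → Prop} {z u v a b r s x y : G} {H : Subgroup G}
    (M : Mdl HU_o HU_cs HU_L R [z, u, v, a, b, r, s, x, x⁻¹, y, y⁻¹] H) :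
    y ^ 3 = 1 ∧ y * z = z * y ∧ y * r = r * y ∧ y * u * y⁻¹ = v ∧ y * v * y⁻¹ = z * u * v ∧ y * a * y⁻¹ = b ∧ y * b * y⁻¹ = z * a * b ∧ s * y * s = y⁻¹ :=
  Fm.sound M.μ HU_y_f_F HU_y_f_chk M.reps
theorem HU_y {G : Type*} [Group G] {R : ℕ → G → Prop} {z u v a b r s x y : G} {H : Subgroup G}
    (M : Mdl HU_o HU_cs HU_L R [z, u, v, a, b, r, s, x, x⁻¹, y, y⁻¹] H) :
    YU z u v a b r s y :=
  have h := HU_y_f M
  ⟨h.1, h.2.1, h.2.2.1, h.2.2.2.1, h.2.2.2.2.1, h.2.2.2.2.2.1, h.2.2.2.2.2.2.1, h.2.2.2.2.2.2.2, trivial⟩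
noncomputable def HU_x_f_F : Fm := (.qf (.and (.eq (.pw (.v (nat_lit 7)) (nat_lit 3)) .one) (.and (.eq (.mul (.v (nat_lit 7)) (.v (nat_lit 0))) (.mul (.v (nat_lit 0)) (.v (nat_lit 7)))) (.and (.eq (.mul (.v (nat_lit 7)) (.v (nat_lit 6))) (.mul (.v (nat_lit 6)) (.v (nat_lit 7)))) (.and (.eq (.mul (.mul (.v (nat_lit 7)) (.v (nat_lit 1))) (.v (nat_lit 8))) (.v (nat_lit 3))) (.and (.eq (.mul (.mul (.v (nat_lit 7)) (.v (nat_lit 3))) (.v (nat_lit 8))) (.mul (.v (nat_lit 1)) (.v (nat_lit 3)))) (.and (.eq (.mul (.mul (.v (nat_lit 7)) (.v (nat_lit 2))) (.v (nat_lit 8))) (.v (nat_lit 4))) (.and (.eq (.mul (.mul (.v (nat_lit 7)) (.v (nat_lit 4))) (.v (nat_lit 8))) (.mul (.v (nat_lit 2)) (.v (nat_lit 4)))) (.eq (.mul (.mul (.v (nat_lit 5)) (.v (nat_lit 7))) (.v (nat_lit 5))) (.v (nat_lit 8)))))))))))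
theorem HU_x_f_chk : Fm.chk HU_o HU_x_f_F HU_cs = true := by decide +kernel
theorem HU_x_f {G : Type*} [Group G] {R : ℕ → G → Prop} {z u v a b r s x y : G} {H : Subgroup G}
    (M : Mdl HU_o HU_cs HU_L R [z, u, v, a, b, r, s, x, x⁻¹, y, y⁻¹] H) :
    x ^ 3 = 1 ∧ x * z = z * x ∧ x * s = s * x ∧ x * u * x⁻¹ = a ∧ x * a * x⁻¹ = u * a ∧ x * v * x⁻¹ = b ∧ x * b * x⁻¹ = v * b ∧ r * x * r = x⁻¹ :=
  Fm.sound M.μ HU_x_f_F HU_x_f_chk M.reps
theorem HU_x {G : Type*} [Group G] {R : ℕ → G → Prop} {z u v a b r s x y : G} {H : Subgroup G}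
    (M : Mdl HU_o HU_cs HU_L R [z, u, v, a, b, r, s, x, x⁻¹, y, y⁻¹] H) :
    ZU z u v a b r s x :=
  have h := HU_x_f M
  ⟨h.1, h.2.1, h.2.2.1, h.2.2.2.1, h.2.2.2.2.1, h.2.2.2.2.2.1, h.2.2.2.2.2.2.1, h.2.2.2.2.2.2.2, trivial⟩
noncomputable def HU_A1_F : Fm := (.all HU_L (.imp (.eq (.mul (.v (nat_lit 0)) (.v (nat_lit 2))) (.mul (.v (nat_lit 2)) (.v (nat_lit 0)))) (.imp (.eq (.mul (.v (nat_lit 0)) (.v (nat_lit 3))) (.mul (.v (nat_lit 3)) (.v (nat_lit 0)))) (.imp (.eq (.mul (.v (nat_lit 0)) (.v (nat_lit 6))) (.mul (.v (nat_lit 6)) (.v (nat_lit 0)))) (.qf (.or (.eq (.v (nat_lit 0)) .one) (.or (.eq (.v (nat_lit 0)) (.v (nat_lit 1))) (.or (.eq (.v (nat_lit 0)) (.v (nat_lit 2))) (.or (.eq (.v (nat_lit 0)) (.v (nat_lit 3))) (.or (.eq (.v (nat_lit 0)) (.v (nat_lit 6))) (.or (.eq (.v (nat_lit 0)) (.mul (.v (nat_lit 1)) (.v (nat_lit 2)))) (.or (.eq (.v (nat_lit 0)) (.mul (.v (nat_lit 1)) (.v (nat_lit 3)))) (.or (.eq (.v (nat_lit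 0)) (.mul (.v (nat_lit 1)) (.v (nat_lit 6)))) (.or (.eq (.v (nat_lit 0)) (.mul (.v (nat_lit 2)) (.v (nat_lit 3)))) (.or (.eq (.v (nat_lit 0)) (.mul (.v (nat_lit 2)) (.v (nat_lit 6)))) (.or (.eq (.v (nat_lit 0)) (.mul (.v (nat_lit 3)) (.v (nat_lit 6)))) (.or (.eq (.v (nat_lit 0)) (.mul (.mul (.v (nat_lit 1)) (.v (nat_lit 2))) (.v (nat_lit 3)))) (.or (.eq (.v (nat_lit 0)) (.mul (.mul (.v (nat_lit 1)) (.v (nat_lit 2))) (.v (nat_lit 6)))) (.or (.eq (.v (nat_lit 0)) (.mul (.mul (.v (nat_lit 1)) (.v (nat_lit 3))) (.v (nat_lit 6)))) (.or (.eq (.v (nat_lit 0)) (.mul (.mul (.v (nat_lit 2)) (.v (nat_lit 3))) (.v (nat_lit 6)))) (.eq (.v (nat_lit 0)) (.mul (.mul (.mul (.v (nat_lit 1)) (.v (nat_lit 2))) (.v (nat_lit 3))) (.v (nat_lit 6))))))))))))))))))))))))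
theorem HU_A1_chk : Fm.chk HU_o HU_A1_F HU_cs = true := by decide +kernel
theorem HU_A1 {G : Type*} [Group G] {R : ℕ → G → Prop} {z u v a b r s x y : G} {H : Subgroup G}
    (M : Mdl HU_o HU_cs HU_L R [z, u, v, a, b, r, s, x, x⁻¹, y, y⁻¹] H) :
    ∀ c ∈ H, c * u = u * c → c * v = v * c → c * r = r * c → c = 1 ∨ c = z ∨ c = u ∨ c = v ∨ c = r ∨ c = z * u ∨ c = z * v ∨ c = z * r ∨ c = u * v ∨ c = u * r ∨ c = v * r ∨ c = z * u * v ∨ c = z * u * r ∨ c = z * v * r ∨ c = u * v * r ∨ c = z * u * v * r :=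
  have h : ∀ c, InL HU_o R HU_L c → c * u = u * c → c * v = v * c → c * r = r * c → c = 1 ∨ c = z ∨ c = u ∨ c = v ∨ c = r ∨ c = z * u ∨ c = z * v ∨ c = z * r ∨ c = u * v ∨ c = u * r ∨ c = v * r ∨ c = z * u * v ∨ c = z * u * r ∨ c = z * v * r ∨ c = u * v * r ∨ c = z * u * v * r :=
    Fm.sound M.μ HU_A1_F HU_A1_chk M.reps
  (fun c h0 => (h c (M.H.iff.2 h0)))
noncomputable def HU_A2_F : Fm := (.all HU_L (.imp (.eq (.mul (.v (nat_lit 0)) (.v (nat_lit 2))) (.mul (.v (nat_lit 2)) (.v (nat_lit 0)))) (.imp (.eq (.mul (.v (nat_lit 0)) (.v (nat_lit 4))) (.mul (.v (nat_lit 4)) (.v (nat_lit 0)))) (.imp (.eq (.mul (.v (nat_lit 0)) (.v (nat_lit 7))) (.mul (.v (nat_lit 7)) (.v (nat_lit 0)))) (.qf (.or (.eq (.v (nat_lit 0)) .one) (.or (.eq (.v (nat_lit 0)) (.v (nat_lit 1))) (.or (.eq (.v (nat_lit 0)) (.v (nat_lit 2))) (.or (.eq (.v (nat_lit 0)) (.v (nat_lit 4))) (.or (.eq (.v (nat_lit 0)) (.v (nat_lit 7))) (.or (.eq (.v (nat_lit 0))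 (.mul (.v (nat_lit 1)) (.v (nat_lit 2)))) (.or (.eq (.v (nat_lit 0)) (.mul (.v (nat_lit 1)) (.v (nat_lit 4)))) (.or (.eq (.v (nat_lit 0)) (.mul (.v (nat_lit 1)) (.v (nat_lit 7)))) (.or (.eq (.v (nat_lit 0)) (.mul (.v (nat_lit 2)) (.v (nat_lit 4)))) (.or (.eq (.v (nat_lit 0)) (.mul (.v (nat_lit 2)) (.v (nat_lit 7)))) (.or (.eq (.v (nat_lit 0)) (.mul (.v (nat_lit 4)) (.v (nat_lit 7)))) (.or (.eq (.v (nat_lit 0)) (.mul (.mul (.v (nat_lit 1)) (.v (nat_lit 2))) (.v (nat_lit 4)))) (.or (.eq (.v (nat_lit 0)) (.mul (.mul (.v (nat_lit 1)) (.v (nat_lit 2))) (.v (nat_lit 7)))) (.or (.eq (.v (nat_lit 0)) (.mul (.mul (.v (nat_lit 1)) (.v (nat_lit 4))) (.v (nat_lit 7)))) (.or (.eq (.v (nat_lit 0)) (.mul (.mul (.v (nat_lit 2)) (.v (nat_lit 4))) (.v (nat_lit 7)))) (.eq (.v (nat_lit 0)) (.mul (.mul (.mul (.v (nat_lit 1)) (.v (nat_lit 2))) (.v (nat_lit 4))) (.v (nat_lit 7))))))))))))))))))))))))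
theorem HU_A2_chk : Fm.chk HU_o HU_A2_F HU_cs = true := by decide +kernel
theorem HU_A2 {G : Type*} [Group G] {R : ℕ → G → Prop} {z u v a b r s x y : G} {H : Subgroup G}
    (M : Mdl HU_o HU_cs HU_L R [z, u, v, a, b, r, s, x, x⁻¹, y, y⁻¹] H) :
    ∀ c ∈ H, c * u = u * c → c * a = a * c → c * s = s * c → c = 1 ∨ c = z ∨ c = u ∨ c = a ∨ c = s ∨ c = z * u ∨ c = z * a ∨ c = z * s ∨ c = u * a ∨ c = u * s ∨ c = a * s ∨ c = z * u * a ∨ c = z * u * s ∨ c = z * a * s ∨ c = u * a * s ∨ c = z * u * a * s :=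
  have h : ∀ c, InL HU_o R HU_L c → c * u = u * c → c * a = a * c → c * s = s * c → c = 1 ∨ c = z ∨ c = u ∨ c = a ∨ c = s ∨ c = z * u ∨ c = z * a ∨ c = z * s ∨ c = u * a ∨ c = u * s ∨ c = a * s ∨ c = z * u * a ∨ c = z * u * s ∨ c = z * a * s ∨ c = u * a * s ∨ c = z * u * a * s :=
    Fm.sound M.μ HU_A2_F HU_A2_chk M.reps
  (fun c h0 => (h c (M.H.iff.2 h0)))
noncomputable def HU_Cy_t0 : ST := (.node (nat_lit 13) (.leaf (nat_lit 0)) (.node (nat_lit 17) (.leaf (nat_lit 5)) (.leaf (nat_lit 2))))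
noncomputable def HU_Cy_F : Fm := (.all HU_L (.imp (.eq (.mul (.v (nat_lit 0)) (.v (nat_lit 10))) (.mul (.v (nat_lit 10)) (.v (nat_lit 0)))) (.or (.qf (.or (.eq (.v (nat_lit 0)) .one) (.or (.eq (.v (nat_lit 0)) (.v (nat_lit 10))) (.eq (.v (nat_lit 0)) (.v (nat_lit 11)))))) (.or (.qf (.and (.eq (.pw (.v (nat_lit 0)) (nat_lit 6)) .one) (.not (.eq (.pw (.v (nat_lit 0)) (nat_lit 3)) .one)))) (.exG HU_lP (fun cs => HU_Cy_t0.find (Nat.mod (nth (nat_lit 0) cs (nat_lit 0)) (nat_lit 20))) (.qf (.and (.or (.eq (.v (nat_lit 0)) .one) (.or (.eq (.v (nat_lit 0)) (.v (nat_lit 11))) (.eq (.v (nat_lit 0)) (.v (nat_lit 12))))) (.or (.eq (.v (nat_lit 9)) (.mul (.v (nat_lit 1)) (.v (nat_lit 0)))) (.eq (.v (nat_lit 9)) (.mul (.inv (.v (nat_lit 1))) (.v (nat_lit 0))))))))))))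
theorem HU_Cy_chk : Fm.chk HU_o HU_Cy_F HU_cs = true := by decide +kernel
theorem HU_Cy {G : Type*} [Group G] {R : ℕ → G → Prop} {z u v a b r s x y : G} {H : Subgroup G}
    (M : Mdl HU_o HU_cs HU_L R [z, u, v, a, b, r, s, x, x⁻¹, y, y⁻¹] H) :
    ∀ c ∈ H, c * y = y * c → (c = 1 ∨ c = y ∨ c = y⁻¹) ∨ c ^ 6 = 1 ∧ c ^ 3 ≠ 1 ∨ (∃ e ∈ sp [x, y], (e = 1 ∨ e = y ∨ e = y⁻¹) ∧ (x = c * e ∨ x = c⁻¹ * e)) :=
  have h : ∀ c, InL HU_o R HU_L c → c * y = y * c → (c = 1 ∨ c = y ∨ c = y⁻¹) ∨ c ^ 6 = 1 ∧ c ^ 3 ≠ 1 ∨ (GoodS R HU_lP → HU_lP ≠ [] → ∃ e, InS R HU_lP e ∧ (e = 1 ∨ e = y ∨ e = y⁻¹) ∧ (x = c * e ∨ x = c⁻¹ * e)) :=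
    Fm.sound M.μ HU_Cy_F HU_Cy_chk M.reps
  (fun c h0 => (fun h1 => (Or.imp (fun h2 => h2) (fun h2 => (Or.imp (fun h3 => h3) (fun h3 => (Exists.imp (fun e h4 => ⟨(HU_lP_E M).iff.1 h4.1, h4.2⟩) (h3 (HU_lP_E M).good (HU_lP_E M).ne))) h2)) ((h c (M.H.iff.2 h0)) h1))))
noncomputable def HU_CP_F : Fm := (.all HU_L (.imp (.eq (.mul (.v (nat_lit 0)) (.v (nat_lit 8))) (.mul (.v (nat_lit 8)) (.v (nat_lit 0)))) (.imp (.eq (.mul (.v (nat_lit 0)) (.v (nat_lit 10))) (.mul (.v (nat_lit 10)) (.v (nat_lit 0)))) (.and (.qf (.mem (.v (nat_lit 0)) HU_lZ)) (.imp (.eq (.mul (.v (nat_lit 0)) (.v (nat_lit 0))) .one) (.qf (.or (.eq (.v (nat_lit 0)) .one) (.eq (.v (nat_lit 0)) (.v (nat_lit 1))))))))))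
theorem HU_CP_chk : Fm.chk HU_o HU_CP_F HU_cs = true := by decide +kernel
theorem HU_CP {G : Type*} [Group G] {R : ℕ → G → Prop} {z u v a b r s x y : G} {H : Subgroup G}
    (M : Mdl HU_o HU_cs HU_L R [z, u, v, a, b, r, s, x, x⁻¹, y, y⁻¹] H) :
    ∀ c ∈ H, c * x = x * c → c * y = y * c → c ∈ sp [z, x, y] ∧ (c * c = 1 → c = 1 ∨ c = z) :=
  have h : ∀ c, InL HU_o R HU_L c → c * x = x * c → c * y = y * c → InS R HU_lZ (c) ∧ (c * c = 1 → c = 1 ∨ c = z) :=
    Fm.sound M.μ HU_CP_F HU_CP_chk M.reps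
  (fun c h0 => (fun h1 => (fun h2 => (And.imp (fun h3 => ((HU_lZ_E M).iff.1 h3)) (fun h3 => h3) (((h c (M.H.iff.2 h0)) h1) h2)))))
noncomputable def HU_yP_F : Fm := (.all HU_L (.imp (.mem (.mul (.mul (.v (nat_lit 0)) (.v (nat_lit 10))) (.inv (.v (nat_lit 0)))) HU_lP) (.qf (.or (.eq (.mul (.mul (.v (nat_lit 0)) (.v (nat_lit 10))) (.inv (.v (nat_lit 0)))) (.v (nat_lit 10))) (.eq (.mul (.mul (.v (nat_lit 0)) (.v (nat_lit 10))) (.inv (.v (nat_lit 0)))) (.v (nat_lit 11)))))))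
theorem HU_yP_chk : Fm.chk HU_o HU_yP_F HU_cs = true := by decide +kernel
theorem HU_yP {G : Type*} [Group G] {R : ℕ → G → Prop} {z u v a b r s x y : G} {H : Subgroup G}
    (M : Mdl HU_o HU_cs HU_L R [z, u, v, a, b, r, s, x, x⁻¹, y, y⁻¹] H) :
    ∀ c ∈ H, c * y * c⁻¹ ∈ sp [x, y] → c * y * c⁻¹ = y ∨ c * y * c⁻¹ = y⁻¹ :=
  have h : ∀ c, InL HU_o R HU_L c → InS R HU_lP (c * y * c⁻¹) → c * y * c⁻¹ = y ∨ c * y * c⁻¹ = y⁻¹ :=
    Fm.sound M.μ HU_yP_F HU_yP_chk M.reps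
  (fun c h0 => (fun h1 => ((h c (M.H.iff.2 h0)) ((HU_lP_E M).iff.2 h1))))
noncomputable def HU_cls_t0 : ST := (.node (nat_lit 132) (.node (nat_lit 80) (.node (nat_lit 26) (.node (nat_lit 14) (.node (nat_lit 9) (.leaf (nat_lit 101)) (.leaf (nat_lit 389))) (.node (nat_lit 20) (.leaf (nat_lit 485)) (.leaf (nat_lit 146)))) (.node (nat_lit 56) (.node (nat_lit 45) (.leaf (nat_lit 4)) (.leaf (nat_lit 387))) (.node (nat_lit 70) (.leaf (nat_lit 0)) (.leaf (nat_lit 5))))) (.node (nat_lit 114) (.node (nat_lit 112) (.node (nat_lit 103) (.leaf (nat_lit 384)) (.leaf (nat_lit 869))) (.node (nat_lit 113) (.leaf (nat_lit 113)) (.leaf (nat_lit 99)))) (.node (nat_lit 124) (.node (nat_lit 116) (.leaf (nat_lit 6)) (.leaf (nat_lit 528))) (.node (nat_lit 126) (.leaf (nat_lit 768)) (.node (nat_lit 129) (.leaf (nat_lit 390)) (.leaf (nat_lit 3))))))) (.node (nat_lit 171) (.node (nat_lit 138) (.node (nat_lit 136) (.node (nat_lit 135) (.leaf (nat_lit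 0)) (.leaf (nat_lit 870))) (.node (nat_lit 137) (.leaf (nat_lit 2)) (.leaf (nat_lit 3)))) (.node (nat_lit 164) (.node (nat_lit 142) (.leaf (nat_lit 100)) (.leaf (nat_lit 102))) (.node (nat_lit 168) (.leaf (nat_lit 768)) (.leaf (nat_lit 17))))) (.node (nat_lit 208) (.node (nat_lit 197) (.node (nat_lit 189) (.leaf (nat_lit 774)) (.leaf (nat_lit 771))) (.node (nat_lit 200) (.leaf (nat_lit 486)) (.leaf (nat_lit 144)))) (.node (nat_lit 226) (.node (nat_lit 219) (.leaf (nat_lit 912)) (.leaf (nat_lit 773))) (.node (nat_lit 230) (.leaf (nat_lit 0)) (.node (nat_lit 232) (.leaf (nat_lit 96)) (.leaf (nat_lit 384))))))))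
noncomputable def HU_cls_F : Fm := (.allS HU_lT (.imp (.eq (.mul (.v (nat_lit 0)) (.v (nat_lit 0))) .one) (.or (.qf (.eq (.v (nat_lit 0)) .one)) (.or (.qf (.eq (.v (nat_lit 0)) (.v (nat_lit 1)))) (.exF HU_L (fun cs => HU_cls_t0.find (Nat.mod (nth (nat_lit 0) cs (nat_lit 0)) (nat_lit 236))) (.qf (.or (.eq (.mul (.mul (.v (nat_lit 0)) (.v (nat_lit 1))) (.inv (.v (nat_lit 0)))) (.v (nat_lit 3))) (.or (.eq (.mul (.mul (.v (nat_lit 0)) (.v (nat_lit 1))) (.inv (.v (nat_lit 0)))) (.mul (.v (nat_lit 7)) (.v (nat_lit 4)))) (.eq (.mul (.mul (.v (nat_lit 0)) (.v (nat_lit 1))) (.inv (.v (nat_lit 0)))) (.mul (.v (nat_lit 8)) (.v (nat_lit 3))))))))))))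
theorem HU_cls_chk : Fm.chk HU_o HU_cls_F HU_cs = true := by decide +kernel
theorem HU_cls {G : Type*} [Group G] {R : ℕ → G → Prop} {z u v a b r s x y : G} {H : Subgroup G}
    (M : Mdl HU_o HU_cs HU_L R [z, u, v, a, b, r, s, x, x⁻¹, y, y⁻¹] H) :
    ∀ c ∈ sp [z, u, v, a, b, r, s], c * c = 1 → c = 1 ∨ c = z ∨ (∃ k ∈ H, k * c * k⁻¹ = u ∨ k * c * k⁻¹ = r * v ∨ k * c * k⁻¹ = s * u) :=
  have h : ∀ c, InS R HU_lT c → c * c = 1 → c = 1 ∨ c = z ∨ (Good HU_o R HU_L → prods HU_o HU_L HU_o.one ≠ [] → ∃ k, InL HU_o R HU_L k ∧ (k * c * k⁻¹ = u ∨ k * c * k⁻¹ = r * v ∨ k * c * k⁻¹ = s * u)) :=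
    Fm.sound M.μ HU_cls_F HU_cls_chk M.reps
  (fun c h0 => (fun h1 => (Or.imp (fun h2 => h2) (fun h2 => (Or.imp (fun h3 => h3) (fun h3 => (Exists.imp (fun k h4 => ⟨M.H.iff.1 h4.1, h4.2⟩) (h3 M.H.good M.H.ne))) h2)) ((h c ((HU_lT_E M).iff.2 h0)) h1))))
noncomputable def HU_e_F : Fm := (.qf (.and (.not (.eq (.v (nat_lit 1)) .one)) (.and (.not (.eq (.v (nat_lit 0)) (.v (nat_lit 1)))) (.and (.not (.eq (.v (nat_lit 5)) .one)) (.and (.not (.eq (.v (nat_lit 0)) (.v (nat_lit 5)))) (.and (.not (.eq (.mul (.v (nat_lit 1)) (.v (nat_lit 4))) (.mul (.v (nat_lit 4)) (.v (nat_lit 1))))) (.and (.mem (.mul (.mul (.v (nat_lit 5)) (.v (nat_lit 7))) (.inv (.v (nat_lit 5)))) HU_lP) (.mem (.mul (.mul (.v (nat_lit 5)) (.v (nat_lit 9))) (.inv (.v (nat_lit 5)))) HU_lP))))))))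
theorem HU_e_chk : Fm.chk HU_o HU_e_F HU_cs = true := by decide +kernel
theorem HU_e {G : Type*} [Group G] {R : ℕ → G → Prop} {z u v a b r s x y : G} {H : Subgroup G}
    (M : Mdl HU_o HU_cs HU_L R [z, u, v, a, b, r, s, x, x⁻¹, y, y⁻¹] H) :
    u ≠ 1 ∧ z ≠ u ∧ r ≠ 1 ∧ z ≠ r ∧ u * b ≠ b * u ∧ r * x * r⁻¹ ∈ sp [x, y] ∧ r * y * r⁻¹ ∈ sp [x, y] :=
  have h : u ≠ 1 ∧ z ≠ u ∧ r ≠ 1 ∧ z ≠ r ∧ u * b ≠ b * u ∧ InS R HU_lP (r * x * r⁻¹) ∧ InS R HU_lP (r * y * r⁻¹) :=
    Fm.sound M.μ HU_e_F HU_e_chk M.reps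
  ((and_congr Iff.rfl (and_congr Iff.rfl (and_congr Iff.rfl (and_congr Iff.rfl (and_congr Iff.rfl (and_congr (HU_lP_E M).iff (HU_lP_E M).iff)))))).1 h)
noncomputable def HU_ab_F : Fm := (.allS HU_lP (.allS HU_lP (.qf (.eq (.mul (.v (nat_lit 1)) (.v (nat_lit 0))) (.mul (.v (nat_lit 0)) (.v (nat_lit 1)))))))
theorem HU_ab_chk : Fm.chk HU_o HU_ab_F HU_cs = true := by decide +kernel
theorem HU_ab {G : Type*} [Group G] {R : ℕ → G → Prop} {z u v a b r s x y : G} {H : Subgroup G}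
    (M : Mdl HU_o HU_cs HU_L R [z, u, v, a, b, r, s, x, x⁻¹, y, y⁻¹] H) :
    ∀ c ∈ sp [x, y], ∀ d ∈ sp [x, y], c * d = d * c :=
  have h : ∀ c, InS R HU_lP c → ∀ d, InS R HU_lP d → c * d = d * c :=
    Fm.sound M.μ HU_ab_F HU_ab_chk M.reps
  (fun c h0 => (fun d h1 => ((h c ((HU_lP_E M).iff.2 h0)) d ((HU_lP_E M).iff.2 h1))))

end H10.X
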