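import Cfsg.Agent.H10.XD2g

/-! Generated: two identities for an element of order three inverted by an involution. -/

set_option maxRecDepth 100000
set_option maxHeartbeats 4000000
set_option linter.unusedVariables false

open Subgroup
open scoped commutatorElement
namespace H10.X
open H0 H0.PM H16 H19

noncomputable def pt_r_R : List (List ℕ) := [[0,0],
  [1,1],
  [2,3],
  [3,2],
  [2,2,2],
  [2,0,2,0],
  [0,1,0,1]]
theorem pt_r {G : Type*} [Group G] {b w p : G}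
    (bb : b * b = 1)
    (ww : w * w = 1)
    (p3 : p ^ 3 = 1)
    (bp : b * p * b = p⁻¹)
    (bw : w * b = b * w) :
    Rels (nthG [b, w, p, p⁻¹]) pt_r_R :=
  rels_of_eqs ((InvI.cons bb (InvI.cons ww InvI.nil)) : InvI [b, w, p] [(nat_lit 0), (nat_lit 1)])
    (AllEq.append (show AllEq [b, w, p] [((.mul (.v (nat_lit 0)) (.v (nat_lit 0))), .one)] from ⟨bb, trivial⟩)
    (AllEq.append (show AllEq [b, w, p] [((.mul (.v (nat_lit 1)) (.v (nat_lit 1))), .one)] from ⟨ww, trivial⟩)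
    (AllEq.append (show AllEq [b, w, p] [((.pw (.v (nat_lit 2)) (nat_lit 3)), .one)] from ⟨p3, trivial⟩)
    (AllEq.append (show AllEq [b, w, p] [((.mul (.mul (.v (nat_lit 0)) (.v (nat_lit 2))) (.v (nat_lit 0))), (.inv (.v (nat_lit 2))))] from ⟨bp, trivial⟩)
    (show AllEq [b, w, p] [((.mul (.v (nat_lit 1)) (.v (nat_lit 0))), (.mul (.v (nat_lit 0)) (.v (nat_lit 1))))] from ⟨bw, trivial⟩)))))
    [(.v (nat_lit 0)), (.v (nat_lit 1)), (.v (nat_lit 2)), (.inv (.v (nat_lit 2)))] (by decide +kernel)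
noncomputable def pt_0_S0 : List ℕ := [nat_lit 0x1300000b00001000a008, nat_lit 0x1b00000200001800800a, nat_lit 0x23000006000020004008]
noncomputable def pt_0_S : List (List ℕ) := [pt_0_S0]
noncomputable def pt_0_defs : List ℕ := [(nat_lit 0x2000060030000500100004001000030030000200200001000000010010000000000000)]
noncomputable def pt_0_recs : List ℕ := [(nat_lit 0x700008000000500006000000300004)]
noncomputable def pt_0_T : List (List ℕ × ℕ) := [([1,0,3,1,2,0,2,1,3,1], (nat_lit 0x800001000001800002000000900002300001b00001300000b000007))]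
noncomputable def pt_0_D : H26.Dag := ⟨[0,1,3,2], [[0,0],
  [1,1],
  [2,3],
  [3,2],
  [2,0,2,0],
  [0,1,0,1]], [], pt_0_defs, pt_0_recs⟩
theorem pt_0_c : pt_0_D.check pt_0_S pt_0_T = true := by decide +kernel
theorem pt_0 {G : Type*} [Group G] {g : ℕ → G} (hR : Rels g pt_r_R) {H : Subgroup G}
    (hH : ∀ k ∈ [], g k ∈ H) : evA g [1,0,3,1,2,0,2,1,3,1] ∈ H :=
  mem_dag (K := 4) (J := [0,1,2,3,5,6]) (D := pt_0_D) (by decide +kernel) pt_0_c (by decide +kernel) hR hH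
noncomputable def pt_1_S0 : List ℕ := [nat_lit 0xf00000700000c00a00a, nat_lit 0x1700000200001400800c, nat_lit 0x2700001f00000600800a, nat_lit 0x1b000009008008, nat_lit 0x2f00002b006008]
noncomputable def pt_1_S : List (List ℕ) := [pt_1_S0]
noncomputable def pt_1_defs : List ℕ := [(nat_lit 0x30000a0030000800000007001000060020000500200004001000030010000200300001002000000000000000000000)]
noncomputable def pt_1_recs : List ℕ := [(nat_lit 0x3000080000b020000900006020000400009000000400005000000200003)]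
noncomputable def pt_1_T : List (List ℕ × ℕ) := [([0,3,1,2,0,3,1,2,2,2,1,3,1,3], (nat_lit 0xc00001400001c00002400002c00003000001200002300000e00002700001f00001700000f000007))]
noncomputable def pt_1_D : H26.Dag := ⟨[0,1,3,2], [[0,0],
  [1,1],
  [2,3],
  [3,2],
  [2,2,2],
  [2,0,2,0],
  [0,1,0,1]], [], pt_1_defs, pt_1_recs⟩
theorem pt_1_c : pt_1_D.check pt_1_S pt_1_T = true := by decide +kernel
theorem pt_1 {G : Type*} [Group G] {g : ℕ → G} (hR : Rels g pt_r_R) {H : Subgroup G}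
    (hH : ∀ k ∈ [], g k ∈ H) : evA g [0,3,1,2,0,3,1,2,2,2,1,3,1,3] ∈ H :=
  mem_dag (K := 4) (J := [0,1,2,3,4,5,6]) (D := pt_1_D) (by decide +kernel) pt_1_c (by decide +kernel) hR hH
theorem pt {G : Type*} [Group G] {b w p : G}
    (bb : b * b = 1)
    (ww : w * w = 1)
    (p3 : p ^ 3 = 1)
    (bp : b * p * b = p⁻¹)
    (bw : w * b = b * w) :
    w * (p⁻¹ * w * p) * (p * w * p⁻¹) = w * ⁅p * w * p⁻¹, b⁆⁻¹ ∧ p⁻¹ * (w * (p⁻¹ * w * p) * (p * w * p⁻¹)) * p = ⁅p * w * p⁻¹, b⁆⁻¹ * w :=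
  ⟨mul_inv_eq_one.1 ((evA_eq_tm ((InvI.cons bb (InvI.cons ww InvI.nil)) : InvI [b, w, p] [(nat_lit 0), (nat_lit 1)]) [(.v (nat_lit 0)), (.v (nat_lit 1)), (.v (nat_lit 2)), (.inv (.v (nat_lit 2)))] [1,0,3,1,2,0,2,1,3,1] (.mul (.mul (.mul (.v (nat_lit 1)) (.mul (.mul (.inv (.v (nat_lit 2))) (.v (nat_lit 1))) (.v (nat_lit 2)))) (.mul (.mul (.v (nat_lit 2)) (.v (nat_lit 1))) (.inv (.v (nat_lit 2))))) (.inv (.mul (.v (nat_lit 1)) (.inv (.mul (.mul (.mul (.mul (.mul (.v (nat_lit 2)) (.v (nat_lit 1))) (.inv (.v (nat_lit 2)))) (.v (nat_lit 0))) (.inv (.mul (.mul (.v (nat_lit 2)) (.v (nat_lit 1))) (.inv (.v (nat_lit 2)))))) (.inv (.v (nat_lit 0)))))))) (by decide +kernel)).symm.trans (Subgroup.mem_bot.1 (pt_0 (pt_r bb ww p3 bp bw) (H := ⊥) (List.forall_mem_nil _)))),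
   mul_inv_eq_one.1 ((evA_eq_tm ((InvI.cons bb (InvI.cons ww InvI.nil)) : InvI [b, w, p] [(nat_lit 0), (nat_lit 1)]) [(.v (nat_lit 0)), (.v (nat_lit 1)), (.v (nat_lit 2)), (.inv (.v (nat_lit 2)))] [0,3,1,2,0,3,1,2,2,2,1,3,1,3] (.mul (.mul (.mul (.inv (.v (nat_lit 2))) (.mul (.mul (.v (nat_lit 1)) (.mul (.mul (.inv (.v (nat_lit 2))) (.v (nat_lit 1))) (.v (nat_lit 2)))) (.mul (.mul (.v (nat_lit 2)) (.v (nat_lit 1))) (.inv (.v (nat_lit 2)))))) (.v (nat_lit 2))) (.inv (.mul (.inv (.mul (.mul (.mul (.mul (.mul (.v (nat_lit 2)) (.v (nat_lit 1))) (.inv (.v (nat_lit 2)))) (.v (nat_lit 0))) (.inv (.mul (.mul (.v (nat_lit 2)) (.v (nat_lit 1))) (.inv (.v (nat_lit 2)))))) (.inv (.v (nat_lit 0))))) (.v (nat_lit 1))))) (by decide +kernel)).symm.trans (Subgroup.mem_bot.1 (pt_1 (pt_r bb ww p3 bp bw) (H := ⊥) (List.forall_mem_nil _))))⟩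

end H10.X
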