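import Cfsg.Agent.H10.XD1g

/-! Generated: the normalizer of the four-group and the involution centralizer, type U4(3). -/

set_option maxRecDepth 100000
set_option maxHeartbeats 4000000
set_option linter.unusedVariables false

open Subgroup
open scoped commutatorElement
namespace H10.X
open H0 H0.PM H16 H19

def QT {G : Type*} [Group G] (z u v a b : G) : Prop :=
  z * z = 1 ∧
  u * u = 1 ∧
  v * v = 1 ∧
  a * a = 1 ∧
  b * b = 1 ∧
  u * v = v * u ∧
  z * u = u * z ∧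
  z * v = v * z ∧
  z * a = a * z ∧
  z * b = b * z ∧
  u * a = a * u ∧
  v * b = b * v ∧
  a * b = b * a ∧
  b * u * b = u * z ∧
  a * v * a = v * z ∧ True
def P1 {G : Type*} [Group G] (z u b p : G) : Prop :=
  p ^ 3 = 1 ∧
  p * z * p⁻¹ = u ∧
  p * u * p⁻¹ = z * u ∧
  b * p * b = p⁻¹ ∧ True
def TU {G : Type*} [Group G] (z u v a b r s : G) : Prop :=
  r * r = 1 ∧
  s * s = 1 ∧
  z * r = r * z ∧
  z * s = s * z ∧
  r * u = u * r ∧
  r * v = v * r ∧
  a * r * a = r * u ∧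
  b * r * b = r * v ∧
  s * u = u * s ∧
  s * a = a * s ∧
  s * v * s = z * u * v ∧
  s * b * s = z * a * b ∧
  r * s * r = s * z ∧ True
def PU {G : Type*} [Group G] (u v a r s p : G) : Prop :=
  p * v * p⁻¹ = r * v ∧
  p * a * p⁻¹ = s * u ∧
  p * (r * v) * p⁻¹ = r ∧
  p * (s * u) * p⁻¹ = a * s * u ∧ True
def XU {G : Type*} [Group G] (r s x y : G) : Prop :=
  r * x * r⁻¹ = x⁻¹ ∧
  r * y * r⁻¹ = y ∧
  s * x * s⁻¹ = x ∧
  s * y * s⁻¹ = y⁻¹ ∧ True
def YU {G : Type*} [Group G] (z u v a b r s y : G) : Prop :=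
  y ^ 3 = 1 ∧
  y * z = z * y ∧
  y * r = r * y ∧
  y * u * y⁻¹ = v ∧
  y * v * y⁻¹ = z * u * v ∧
  y * a * y⁻¹ = b ∧
  y * b * y⁻¹ = z * a * b ∧
  s * y * s = y⁻¹ ∧ True
def ZU {G : Type*} [Group G] (z u v a b r s x : G) : Prop :=
  x ^ 3 = 1 ∧
  x * z = z * x ∧
  x * s = s * x ∧
  x * u * x⁻¹ = a ∧
  x * a * x⁻¹ = u * a ∧
  x * v * x⁻¹ = b ∧
  x * b * x⁻¹ = v * b ∧
  r * x * r = x⁻¹ ∧ True
noncomputable def qt_f_r_R : List (List ℕ) := [[0,0],
  [1,1],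
  [2,2],
  [3,3],
  [4,4],
  [5,6],
  [6,5],
  [5,5,5],
  [3,6,1,5],
  [4,6,2,5],
  [5,1,5,1,5,1],
  [5,2,5,2,5,2],
  [2,1,2,1],
  [0,4,1,4,1],
  [6,0,5,0],
  [1,0,1,0],
  [2,0,2,0]]
theorem qt_f_r {G : Type*} [Group G] {z u v a b x : G}
    (h : Q3 z u v a b x) :
    Rels (nthG [z, u, v, a, b, x, x⁻¹]) qt_f_r_R :=
  rels_of_eqs ((InvI.cons h.1 (InvI.cons h.2.1 (InvI.cons h.2.2.1 (InvI.cons h.2.2.2.1 (InvI.cons h.2.2.2.2.1 InvI.nil))))) : InvI [z, u, v, a, b, x] [(nat_lit 0), (nat_lit 1), (nat_lit 2), (nat_lit 3), (nat_lit 4)])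
    (show AllEq [z, u, v, a, b, x] [((.mul (.v (nat_lit 0)) (.v (nat_lit 0))), .one), ((.mul (.v (nat_lit 1)) (.v (nat_lit 1))), .one), ((.mul (.v (nat_lit 2)) (.v (nat_lit 2))), .one), ((.mul (.v (nat_lit 3)) (.v (nat_lit 3))), .one), ((.mul (.v (nat_lit 4)) (.v (nat_lit 4))), .one), ((.pw (.v (nat_lit 5)) (nat_lit 3)), .one), ((.mul (.mul (.v (nat_lit 5)) (.v (nat_lit 1))) (.inv (.v (nat_lit 5)))), (.v (nat_lit 3))), ((.mul (.mul (.v (nat_lit 5)) (.v (nat_lit 2))) (.inv (.v (nat_lit 5)))), (.v (nat_lit 4))), ((.pw (.mul (.v (nat_lit 1)) (.v (nat_lit 5))) (nat_lit 3)), .one), ((.pw (.mul (.v (nat_lit 2)) (.v (nat_lit 5))) (nat_lit 3)), .one), ((.mul (.v (nat_lit 1)) (.v (nat_lit 2))), (.mul (.v (nat_lit 2)) (.v (nat_lit 1)))), ((.mul (.mul (.mul (.v (nat_lit 1)) (.v (nat_lit 4))) (.inv (.v (nat_lit 1)))) (.inv (.v (nat_lit 4)))), (.v (nat_lit 0))), ((.mul (.v (nat_lit 0)) (.v (nat_lit 5))), (.mul (.v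 (nat_lit 5)) (.v (nat_lit 0)))), ((.mul (.v (nat_lit 0)) (.v (nat_lit 1))), (.mul (.v (nat_lit 1)) (.v (nat_lit 0)))), ((.mul (.v (nat_lit 0)) (.v (nat_lit 2))), (.mul (.v (nat_lit 2)) (.v (nat_lit 0))))] from h)
    [(.v (nat_lit 0)), (.v (nat_lit 1)), (.v (nat_lit 2)), (.v (nat_lit 3)), (.v (nat_lit 4)), (.v (nat_lit 5)), (.inv (.v (nat_lit 5)))] (by decide +kernel)
noncomputable def qt_f_0_S0 : List ℕ := [nat_lit 0xb00000700800e, nat_lit 0x1300000f000001008010, nat_lit 0x1b00001700000200c012, nat_lit 0x1f000006000018008014, nat_lit 0x2300001f00001300c012, nat_lit 0x2300000e00001c000010]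
noncomputable def qt_f_0_S : List (List ℕ) := [qt_f_0_S0]
noncomputable def qt_f_0_defs : List ℕ := [(nat_lit 0x5000070000000400500005000000020060000300300000005000010050000000000000)]
noncomputable def qt_f_0_recs : List ℕ := [(nat_lit 0x30000600008000000300008010000500007000000000006010000200004050000000002)]
noncomputable def qt_f_0_T : List (List ℕ × ℕ) := [([3,0,3,0], (nat_lit 0x900001500001200000f))]
noncomputable def qt_f_0_D : H26.Dag := ⟨[0,1,2,3,4,6,5], [[0,0],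
  [1,1],
  [2,2],
  [3,3],
  [4,4],
  [5,6],
  [6,5],
  [5,5,5],
  [3,6,1,5],
  [6,0,5,0],
  [1,0,1,0]], [], qt_f_0_defs, qt_f_0_recs⟩
theorem qt_f_0_c : qt_f_0_D.check qt_f_0_S qt_f_0_T = true := by decide +kernel
theorem qt_f_0 {G : Type*} [Group G] {g : ℕ → G} (hR : Rels g qt_f_r_R) {H : Subgroup G}
    (hH : ∀ k ∈ [], g k ∈ H) : evA g [3,0,3,0] ∈ H :=
  mem_dag (K := 7) (J := [0,1,2,3,4,5,6,7,8,14,15]) (D := qt_f_0_D) (by decide +kernel) qt_f_0_c (by decide +kernel) hR hH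
noncomputable def qt_f_1_S0 : List ℕ := [nat_lit 0x1700000b00000800001400600e, nat_lit 0x1800000200001300001000e00e]
noncomputable def qt_f_1_S : List (List ℕ) := [qt_f_1_S0]
noncomputable def qt_f_1_defs : List ℕ := [(nat_lit 0x1000020010000100000001000000000040000000000000)]
noncomputable def qt_f_1_recs : List ℕ := [(nat_lit 0x40000300002040000400005)]
noncomputable def qt_f_1_T : List (List ℕ × ℕ) := [([4,0,4,0], (nat_lit 0xc00000600000f000007))]
noncomputable def qt_f_1_D : H26.Dag := ⟨[0,1,2,3,4,6,5], [[0,0],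
  [1,1],
  [2,2],
  [3,3],
  [4,4],
  [5,6],
  [6,5],
  [0,4,1,4,1]], [], qt_f_1_defs, qt_f_1_recs⟩
theorem qt_f_1_c : qt_f_1_D.check qt_f_1_S qt_f_1_T = true := by decide +kernel
theorem qt_f_1 {G : Type*} [Group G] {g : ℕ → G} (hR : Rels g qt_f_r_R) {H : Subgroup G}
    (hH : ∀ k ∈ [], g k ∈ H) : evA g [4,0,4,0] ∈ H :=
  mem_dag (K := 7) (J := [0,1,2,3,4,5,6,13]) (D := qt_f_1_D) (by decide +kernel) qt_f_1_c (by decide +kernel) hR hH
noncomputable def qt_f_2_S0 : List ℕ := [nat_lit 0xb00000700800e, nat_lit 0x1300000f000001008010, nat_lit 0x2300001f00001b000017000007014012, nat_lit 0x2700001400000600000b000018010012, nat_lit 0x1b00000d00800e, nat_lit 0x11000020000024000010]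
noncomputable def qt_f_2_S : List (List ℕ) := [qt_f_2_S0]
noncomputable def qt_f_2_defs : List ℕ := [(nat_lit 0x100003005000070010000600500005001000010060000300300000005000010050000000000000)]
noncomputable def qt_f_2_recs : List ℕ := [(nat_lit 0x30000800009050000900006050000500009010000000008010000200004050000000002)]
noncomputable def qt_f_2_T : List (List ℕ × ℕ) := [([3,1,3,1], (nat_lit 0x900001500002700000f))]
noncomputable def qt_f_2_D : H26.Dag := ⟨[0,1,2,3,4,6,5], [[0,0],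
  [1,1],
  [2,2],
  [3,3],
  [4,4],
  [5,6],
  [6,5],
  [5,5,5],
  [3,6,1,5],
  [5,1,5,1,5,1]], [], qt_f_2_defs, qt_f_2_recs⟩
theorem qt_f_2_c : qt_f_2_D.check qt_f_2_S qt_f_2_T = true := by decide +kernel
theorem qt_f_2 {G : Type*} [Group G] {g : ℕ → G} (hR : Rels g qt_f_r_R) {H : Subgroup G}
    (hH : ∀ k ∈ [], g k ∈ H) : evA g [3,1,3,1] ∈ H :=
  mem_dag (K := 7) (J := [0,1,2,3,4,5,6,7,8,10]) (D := qt_f_2_D) (by decide +kernel) qt_f_2_c (by decide +kernel) hR hH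
noncomputable def qt_f_3_S0 : List ℕ := [nat_lit 0xb00000700800e, nat_lit 0x1300000f000001008010, nat_lit 0x2300001f00001b000017000007014012, nat_lit 0x2700001400000600000b000018010012, nat_lit 0x1b00000d00800e, nat_lit 0x11000020000024000010]
noncomputable def qt_f_3_S : List (List ℕ) := [qt_f_3_S0]
noncomputable def qt_f_3_defs : List ℕ := [(nat_lit 0x200003005000070020000600500005002000010060000300400000005000010050000000000000)]
noncomputable def qt_f_3_recs : List ℕ := [(nat_lit 0x40000800009050000900006050000500009020000000008020000200004050000000002)]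
noncomputable def qt_f_3_T : List (List ℕ × ℕ) := [([4,2,4,2], (nat_lit 0x900001500002700000f))]
noncomputable def qt_f_3_D : H26.Dag := ⟨[0,1,2,3,4,6,5], [[0,0],
  [1,1],
  [2,2],
  [3,3],
  [4,4],
  [5,6],
  [6,5],
  [5,5,5],
  [4,6,2,5],
  [5,2,5,2,5,2]], [], qt_f_3_defs, qt_f_3_recs⟩
theorem qt_f_3_c : qt_f_3_D.check qt_f_3_S qt_f_3_T = true := by decide +kernel
theorem qt_f_3 {G : Type*} [Group G] {g : ℕ → G} (hR : Rels g qt_f_r_R) {H : Subgroup G}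
    (hH : ∀ k ∈ [], g k ∈ H) : evA g [4,2,4,2] ∈ H :=
  mem_dag (K := 7) (J := [0,1,2,3,4,5,6,7,9,11]) (D := qt_f_3_D) (by decide +kernel) qt_f_3_c (by decide +kernel) hR hH
noncomputable def qt_f_4_S0 : List ℕ := [nat_lit 0xb00000700800e, nat_lit 0x1300000f000001008010, nat_lit 0x1b000017000001008012, nat_lit 0x1f00000a000005008014, nat_lit 0x2300001400000d004012, nat_lit 0x1c000020000011000010]
noncomputable def qt_f_4_S : List (List ℕ) := [qt_f_4_S0]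
noncomputable def qt_f_4_defs : List ℕ := [(nat_lit 0x4000030010000600600005004000000060000300300000005000010050000000000000)]
noncomputable def qt_f_4_recs : List ℕ := [(nat_lit 0x30000800005060000700008020000400007020000200006010000200004050000000002)]
noncomputable def qt_f_4_T : List (List ℕ × ℕ) := [([4,3,4,3], (nat_lit 0x10000024000015000017))]
noncomputable def qt_f_4_D : H26.Dag := ⟨[0,1,2,3,4,6,5], [[0,0],
  [1,1],
  [2,2],
  [3,3],
  [4,4],
  [5,6],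
  [6,5],
  [5,5,5],
  [3,6,1,5],
  [4,6,2,5],
  [2,1,2,1]], [], qt_f_4_defs, qt_f_4_recs⟩
theorem qt_f_4_c : qt_f_4_D.check qt_f_4_S qt_f_4_T = true := by decide +kernel
theorem qt_f_4 {G : Type*} [Group G] {g : ℕ → G} (hR : Rels g qt_f_r_R) {H : Subgroup G}
    (hH : ∀ k ∈ [], g k ∈ H) : evA g [4,3,4,3] ∈ H :=
  mem_dag (K := 7) (J := [0,1,2,3,4,5,6,7,8,9,12]) (D := qt_f_4_D) (by decide +kernel) qt_f_4_c (by decide +kernel) hR hH
noncomputable def qt_f_5_S0 : List ℕ := [nat_lit 0x1300000b00000800001000e00e]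
noncomputable def qt_f_5_S : List (List ℕ) := [qt_f_5_S0]
noncomputable def qt_f_5_defs : List ℕ := [(nat_lit 0x10000200000001004000000010000000000000)]
noncomputable def qt_f_5_recs : List ℕ := [(nat_lit 0x40000300004)]
noncomputable def qt_f_5_T : List (List ℕ × ℕ) := [([1,0,4,1,4], (nat_lit 0xc00001400000200000f000007))]
noncomputable def qt_f_5_D : H26.Dag := ⟨[0,1,2,3,4,6,5], [[0,0],
  [1,1],
  [2,2],
  [3,3],
  [4,4],
  [5,6],
  [6,5],
  [0,4,1,4,1]], [], qt_f_5_defs, qt_f_5_recs⟩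
theorem qt_f_5_c : qt_f_5_D.check qt_f_5_S qt_f_5_T = true := by decide +kernel
theorem qt_f_5 {G : Type*} [Group G] {g : ℕ → G} (hR : Rels g qt_f_r_R) {H : Subgroup G}
    (hH : ∀ k ∈ [], g k ∈ H) : evA g [1,0,4,1,4] ∈ H :=
  mem_dag (K := 7) (J := [0,1,2,3,4,5,6,13]) (D := qt_f_5_D) (by decide +kernel) qt_f_5_c (by decide +kernel) hR hH
noncomputable def qt_f_6_S0 : List ℕ := [nat_lit 0xb00000700800e, nat_lit 0x1300000f000001008010, nat_lit 0x1f00000700001c004012, nat_lit 0x2300001400000600000b000018010014, nat_lit 0x2f00002b00002700001800c018, nat_lit 0x1f00001800001100002f012018, nat_lit 0x37000033000024008016, nat_lit 0x1200000d000019004012, nat_lit 0x3b00000a00800e, nat_lit 0x3f00000900001600801a, nat_lit 0x4300002200004000801a, nat_lit 0x2500002900800e, nat_lit 0x4700002d00003000001e000037008014, nat_lit 0x3100004700002a000010]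
noncomputable def qt_f_6_S : List (List ℕ) := [qt_f_6_S0]
noncomputable def qt_f_6_defs : List ℕ := [(nat_lit 0x1000100000000e00000006005000070010000c002000030010000a0040000900000001001000030040000100200000001000010060000300300000005000010050000000000000)]
noncomputable def qt_f_6_recs : List ℕ := [(nat_lit 0x30000f0000c050000c0001105000100000a050000f00010050000a0000f05000060000e060000d0000b02000080000d000000a0000704000050000b050000500008060000600007010000200004050000000002)]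
noncomputable def qt_f_6_T : List (List ℕ × ℕ) := [([2,0,3,2,3], (nat_lit 0x1000003400003600003f00001b))]
noncomputable def qt_f_6_D : H26.Dag := ⟨[0,1,2,3,4,6,5], [[0,0],
  [1,1],
  [2,2],
  [3,3],
  [4,4],
  [5,6],
  [6,5],
  [5,5,5],
  [3,6,1,5],
  [4,6,2,5],
  [5,1,5,1,5,1],
  [2,1,2,1],
  [0,4,1,4,1],
  [6,0,5,0],
  [1,0,1,0]], [], qt_f_6_defs, qt_f_6_recs⟩
theorem qt_f_6_c : qt_f_6_D.check qt_f_6_S qt_f_6_T = true := by decide +kernel
theorem qt_f_6 {G : Type*} [Group G] {g : ℕ → G} (hR : Rels g qt_f_r_R) {H : Subgroup G}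
    (hH : ∀ k ∈ [], g k ∈ H) : evA g [2,0,3,2,3] ∈ H :=
  mem_dag (K := 7) (J := [0,1,2,3,4,5,6,7,8,9,10,12,13,14,15]) (D := qt_f_6_D) (by decide +kernel) qt_f_6_c (by decide +kernel) hR hH
theorem qt_f {G : Type*} [Group G] {z u v a b x : G}
    (h : Q3 z u v a b x) :
    z * a = a * z ∧ z * b = b * z ∧ u * a = a * u ∧ v * b = b * v ∧ a * b = b * a ∧ b * u * b = u * z ∧ a * v * a = v * z :=
  ⟨mul_inv_eq_one.1 ((evA_eq_tm ((InvI.cons h.1 (InvI.cons h.2.1 (InvI.cons h.2.2.1 (InvI.cons h.2.2.2.1 (InvI.cons h.2.2.2.2.1 InvI.nil))))) : InvI [z, u, v, a, b, x] [(nat_lit 0), (nat_lit 1), (nat_lit 2), (nat_lit 3), (nat_lit 4)]) [(.v (nat_lit 0)), (.v (nat_lit 1)), (.v (nat_lit 2)), (.v (nat_lit 3)), (.v (nat_lit 4)), (.v (nat_lit 5)), (.inv (.v (nat_lit 5)))] [3,0,3,0] (.mul (.mul (.v (nat_lit 0)) (.v (nat_lit 3))) (.inv (.mul (.v (nat_lit 3)) (.v (nat_lit 0))))) (by decide +kernel)).symm.trans (Subgroup.mem_bot.1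 (qt_f_0 (qt_f_r h) (H := ⊥) (List.forall_mem_nil _)))),
   mul_inv_eq_one.1 ((evA_eq_tm ((InvI.cons h.1 (InvI.cons h.2.1 (InvI.cons h.2.2.1 (InvI.cons h.2.2.2.1 (InvI.cons h.2.2.2.2.1 InvI.nil))))) : InvI [z, u, v, a, b, x] [(nat_lit 0), (nat_lit 1), (nat_lit 2), (nat_lit 3), (nat_lit 4)]) [(.v (nat_lit 0)), (.v (nat_lit 1)), (.v (nat_lit 2)), (.v (nat_lit 3)), (.v (nat_lit 4)), (.v (nat_lit 5)), (.inv (.v (nat_lit 5)))] [4,0,4,0] (.mul (.mul (.v (nat_lit 0)) (.v (nat_lit 4))) (.inv (.mul (.v (nat_lit 4)) (.v (nat_lit 0))))) (by decide +kernel)).symm.trans (Subgroup.mem_bot.1 (qt_f_1 (qt_f_r h) (H := ⊥) (List.forall_mem_nil _)))),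
   mul_inv_eq_one.1 ((evA_eq_tm ((InvI.cons h.1 (InvI.cons h.2.1 (InvI.cons h.2.2.1 (InvI.cons h.2.2.2.1 (InvI.cons h.2.2.2.2.1 InvI.nil))))) : InvI [z, u, v, a, b, x] [(nat_lit 0), (nat_lit 1), (nat_lit 2), (nat_lit 3), (nat_lit 4)]) [(.v (nat_lit 0)), (.v (nat_lit 1)), (.v (nat_lit 2)), (.v (nat_lit 3)), (.v (nat_lit 4)), (.v (nat_lit 5)), (.inv (.v (nat_lit 5)))] [3,1,3,1] (.mul (.mul (.v (nat_lit 1)) (.v (nat_lit 3))) (.inv (.mul (.v (nat_lit 3)) (.v (nat_lit 1))))) (by decide +kernel)).symm.trans (Subgroup.mem_bot.1 (qt_f_2 (qt_f_r h) (H := ⊥) (List.forall_mem_nil _)))),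
   mul_inv_eq_one.1 ((evA_eq_tm ((InvI.cons h.1 (InvI.cons h.2.1 (InvI.cons h.2.2.1 (InvI.cons h.2.2.2.1 (InvI.cons h.2.2.2.2.1 InvI.nil))))) : InvI [z, u, v, a, b, x] [(nat_lit 0), (nat_lit 1), (nat_lit 2), (nat_lit 3), (nat_lit 4)]) [(.v (nat_lit 0)), (.v (nat_lit 1)), (.v (nat_lit 2)), (.v (nat_lit 3)), (.v (nat_lit 4)), (.v (nat_lit 5)), (.inv (.v (nat_lit 5)))] [4,2,4,2] (.mul (.mul (.v (nat_lit 2)) (.v (nat_lit 4))) (.inv (.mul (.v (nat_lit 4)) (.v (nat_lit 2))))) (by decide +kernel)).symm.trans (Subgroup.mem_bot.1 (qt_f_3 (qt_f_r h) (H := ⊥) (List.forall_mem_nil _)))),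
   mul_inv_eq_one.1 ((evA_eq_tm ((InvI.cons h.1 (InvI.cons h.2.1 (InvI.cons h.2.2.1 (InvI.cons h.2.2.2.1 (InvI.cons h.2.2.2.2.1 InvI.nil))))) : InvI [z, u, v, a, b, x] [(nat_lit 0), (nat_lit 1), (nat_lit 2), (nat_lit 3), (nat_lit 4)]) [(.v (nat_lit 0)), (.v (nat_lit 1)), (.v (nat_lit 2)), (.v (nat_lit 3)), (.v (nat_lit 4)), (.v (nat_lit 5)), (.inv (.v (nat_lit 5)))] [4,3,4,3] (.mul (.mul (.v (nat_lit 3)) (.v (nat_lit 4))) (.inv (.mul (.v (nat_lit 4)) (.v (nat_lit 3))))) (by decide +kernel)).symm.trans (Subgroup.mem_bot.1 (qt_f_4 (qt_f_r h) (H := ⊥) (List.forall_mem_nil _)))),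
   mul_inv_eq_one.1 ((evA_eq_tm ((InvI.cons h.1 (InvI.cons h.2.1 (InvI.cons h.2.2.1 (InvI.cons h.2.2.2.1 (InvI.cons h.2.2.2.2.1 InvI.nil))))) : InvI [z, u, v, a, b, x] [(nat_lit 0), (nat_lit 1), (nat_lit 2), (nat_lit 3), (nat_lit 4)]) [(.v (nat_lit 0)), (.v (nat_lit 1)), (.v (nat_lit 2)), (.v (nat_lit 3)), (.v (nat_lit 4)), (.v (nat_lit 5)), (.inv (.v (nat_lit 5)))] [1,0,4,1,4] (.mul (.mul (.mul (.v (nat_lit 4)) (.v (nat_lit 1))) (.v (nat_lit 4))) (.inv (.mul (.v (nat_lit 1)) (.v (nat_lit 0))))) (by decide +kernel)).symm.trans (Subgroup.mem_bot.1 (qt_f_5 (qt_f_r h) (H := ⊥) (List.forall_mem_nil _)))),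
   mul_inv_eq_one.1 ((evA_eq_tm ((InvI.cons h.1 (InvI.cons h.2.1 (InvI.cons h.2.2.1 (InvI.cons h.2.2.2.1 (InvI.cons h.2.2.2.2.1 InvI.nil))))) : InvI [z, u, v, a, b, x] [(nat_lit 0), (nat_lit 1), (nat_lit 2), (nat_lit 3), (nat_lit 4)]) [(.v (nat_lit 0)), (.v (nat_lit 1)), (.v (nat_lit 2)), (.v (nat_lit 3)), (.v (nat_lit 4)), (.v (nat_lit 5)), (.inv (.v (nat_lit 5)))] [2,0,3,2,3] (.mul (.mul (.mul (.v (nat_lit 3)) (.v (nat_lit 2))) (.v (nat_lit 3))) (.inv (.mul (.v (nat_lit 2)) (.v (nat_lit 0))))) (by decide +kernel)).symm.trans (Subgroup.mem_bot.1 (qt_f_6 (qt_f_r h) (H := ⊥) (List.forall_mem_nil _))))⟩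
theorem qt_of {G : Type*} [Group G] {z u v a b x : G} (h : Q3 z u v a b x) : QT z u v a b :=
  have ⟨k1, k2, k3, k4, k5, k6, k7⟩ := qt_f h
  have ⟨h1, h2, h3, h4, h5, _, _, _, _, _, h6, _, _, h7, h8, _⟩ := h
  ⟨h1, h2, h3, h4, h5, h6, h7, h8, k1, k2, k3, k4, k5, k6, k7, trivial⟩
noncomputable def pv1_r_R : List (List ℕ) := [[0,0],
  [1,1],
  [2,2],
  [3,3],
  [4,4],
  [5,6],
  [6,5],
  [2,1,2,1],
  [1,0,1,0],
  [2,0,2,0],
  [3,0,3,0],
  [4,0,4,0],
  [3,1,3,1],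
  [4,2,4,2],
  [4,3,4,3],
  [1,0,4,1,4],
  [2,0,3,2,3],
  [5,5,5],
  [1,6,0,5],
  [0,1,6,1,5],
  [5,4,5,4],
  [0,6,2,5,5,2,6,2]]
theorem pv1_r {G : Type*} [Group G] {z u v a b p : G}
    (t : QT z u v a b)
    (h : P1 z u b p)
    (e : v * (p⁻¹ * v * p) * (p * v * p⁻¹) = z) :
    Rels (nthG [z, u, v, a, b, p, p⁻¹]) pv1_r_R :=
  rels_of_eqs ((InvI.cons t.1 (InvI.cons t.2.1 (InvI.cons t.2.2.1 (InvI.cons t.2.2.2.1 (InvI.cons t.2.2.2.2.1 InvI.nil))))) : InvI [z, u, v, a, b, p] [(nat_lit 0), (nat_lit 1), (nat_lit 2), (nat_lit 3), (nat_lit 4)])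
    (AllEq.append (show AllEq [z, u, v, a, b, p] [((.mul (.v (nat_lit 0)) (.v (nat_lit 0))), .one), ((.mul (.v (nat_lit 1)) (.v (nat_lit 1))), .one), ((.mul (.v (nat_lit 2)) (.v (nat_lit 2))), .one), ((.mul (.v (nat_lit 3)) (.v (nat_lit 3))), .one), ((.mul (.v (nat_lit 4)) (.v (nat_lit 4))), .one), ((.mul (.v (nat_lit 1)) (.v (nat_lit 2))), (.mul (.v (nat_lit 2)) (.v (nat_lit 1)))), ((.mul (.v (nat_lit 0)) (.v (nat_lit 1))), (.mul (.v (nat_lit 1)) (.v (nat_lit 0)))), ((.mul (.v (nat_lit 0)) (.v (nat_lit 2))), (.mul (.v (nat_lit 2)) (.v (nat_lit 0)))), ((.mul (.v (nat_lit 0)) (.v (nat_lit 3))), (.mul (.v (nat_lit 3)) (.v (nat_lit 0)))), ((.mul (.v (nat_lit 0)) (.v (nat_lit 4))), (.mul (.v (nat_lit 4)) (.v (nat_lit 0)))), ((.mul (.v (nat_lit 1)) (.v (nat_lit 3))), (.mul (.v (nat_lit 3)) (.v (nat_lit 1)))), ((.mul (.v (nat_lit 2)) (.v (nat_lit 4))), (.mul (.v (nat_lit 4)) (.v (nat_lit 2)))), ((.mul (.v (nat_lit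 3)) (.v (nat_lit 4))), (.mul (.v (nat_lit 4)) (.v (nat_lit 3)))), ((.mul (.mul (.v (nat_lit 4)) (.v (nat_lit 1))) (.v (nat_lit 4))), (.mul (.v (nat_lit 1)) (.v (nat_lit 0)))), ((.mul (.mul (.v (nat_lit 3)) (.v (nat_lit 2))) (.v (nat_lit 3))), (.mul (.v (nat_lit 2)) (.v (nat_lit 0))))] from t)
    (AllEq.append (show AllEq [z, u, v, a, b, p] [((.pw (.v (nat_lit 5)) (nat_lit 3)), .one), ((.mul (.mul (.v (nat_lit 5)) (.v (nat_lit 0))) (.inv (.v (nat_lit 5)))), (.v (nat_lit 1))), ((.mul (.mul (.v (nat_lit 5)) (.v (nat_lit 1))) (.inv (.v (nat_lit 5)))), (.mul (.v (nat_lit 0)) (.v (nat_lit 1)))), ((.mul (.mul (.v (nat_lit 4)) (.v (nat_lit 5))) (.v (nat_lit 4))), (.inv (.v (nat_lit 5))))] from h)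
    (show AllEq [z, u, v, a, b, p] [((.mul (.mul (.v (nat_lit 2)) (.mul (.mul (.inv (.v (nat_lit 5))) (.v (nat_lit 2))) (.v (nat_lit 5)))) (.mul (.mul (.v (nat_lit 5)) (.v (nat_lit 2))) (.inv (.v (nat_lit 5))))), (.v (nat_lit 0)))] from ⟨e, trivial⟩)))
    [(.v (nat_lit 0)), (.v (nat_lit 1)), (.v (nat_lit 2)), (.v (nat_lit 3)), (.v (nat_lit 4)), (.v (nat_lit 5)), (.inv (.v (nat_lit 5)))] (by decide +kernel)
noncomputable def pv1_0_S0 : List ℕ := [nat_lit 0x17000014006014, nat_lit 0x1f000007000010004012, nat_lit 0x23000007000014000016, nat_lit 0x2b00000b000018008016, nat_lit 0x2b00000b00000800002800c018, nat_lit 0x33000030006014, nat_lit 0x3700000900002300001c002018, nat_lit 0x3b00000d000012004010, nat_lit 0x3b000002000038004016, nat_lit 0x4300001b00002000400e, nat_lit 0x47000006000030000016, nat_lit 0x4b00000e000040004012, nat_lit 0x4f000029000047000025002018, nat_lit 0x5300001500003300000f00001800004000002d01a01a,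 nat_lit 0x2200001a00004400003100004f00005400003600004b01401a, nat_lit 0xd00003900001e000000, nat_lit 0x1800003e00002700000c, nat_lit 0x42000007000000]
noncomputable def pv1_0_S : List (List ℕ) := [pv1_0_S0]
noncomputable def pv1_0_defs : List ℕ := [(nat_lit 0x20000b0000000b0020000a005000070020000600200005001000050000000400600003005000030060000200600001005000010020000100100001006000000050000000200000001000000000000000000000)]
noncomputable def pv1_0_recs : List ℕ := [(nat_lit 0xff0000100000ff0000900005ff0000a0000e050001200014060001000013000000f00012010000b00011010000700010060000d0000e00000090000e06000060000d060000b0000c01000090000a00000050000a010000400008000000300007060000400005)]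
noncomputable def pv1_0_T : List (List ℕ × ℕ) := [([0], (nat_lit 0x45))]
noncomputable def pv1_0_D : H26.Dag := ⟨[0,1,2,3,4,6,5], [[0,0],
  [1,1],
  [2,2],
  [3,3],
  [4,4],
  [5,6],
  [6,5],
  [2,1,2,1],
  [1,0,1,0],
  [2,0,2,0],
  [5,5,5],
  [1,6,0,5],
  [0,1,6,1,5],
  [0,6,2,5,5,2,6,2]], [], pv1_0_defs, pv1_0_recs⟩
theorem pv1_0_c : pv1_0_D.check pv1_0_S pv1_0_T = true := by decide +kernel
theorem pv1_0 {G : Type*} [Group G] {g : ℕ → G} (hR : Rels g pv1_r_R) {H : Subgroup G}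
    (hH : ∀ k ∈ [], g k ∈ H) : evA g [0] ∈ H :=
  mem_dag (K := 7) (J := [0,1,2,3,4,5,6,7,8,9,17,18,19,21]) (D := pv1_0_D) (by decide +kernel) pv1_0_c (by decide +kernel) hR hH
theorem pv1 {G : Type*} [Group G] {z u v a b p : G}
    (t : QT z u v a b)
    (h : P1 z u b p)
    (e : v * (p⁻¹ * v * p) * (p * v * p⁻¹) = z) :
    z = 1 :=
  mul_inv_eq_one.1 ((evA_eq_tm ((InvI.cons t.1 (InvI.cons t.2.1 (InvI.cons t.2.2.1 (InvI.cons t.2.2.2.1 (InvI.cons t.2.2.2.2.1 InvI.nil))))) : InvI [z, u, v, a, b, p] [(nat_lit 0), (nat_lit 1), (nat_lit 2), (nat_lit 3), (nat_lit 4)]) [(.v (nat_lit 0)), (.v (nat_lit 1)), (.v (nat_lit 2)), (.v (nat_lit 3)), (.v (nat_lit 4)), (.v (nat_lit 5)), (.inv (.v (nat_lit 5)))] [0] (.mul (.v (nat_lit 0)) (.inv .one)) (by decide +kernel)).symm.trans (Subgroup.mem_bot.1 (pv1_0 (pv1_r t h e) (H := ⊥) (List.forall_mem_nil _))))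
noncomputable def pv2_r_R : List (List ℕ) := [[0,0],
  [1,1],
  [2,2],
  [3,3],
  [4,4],
  [5,6],
  [6,5],
  [2,1,2,1],
  [1,0,1,0],
  [2,0,2,0],
  [3,0,3,0],
  [4,0,4,0],
  [3,1,3,1],
  [4,2,4,2],
  [4,3,4,3],
  [1,0,4,1,4],
  [2,0,3,2,3],
  [5,5,5],
  [1,6,0,5],
  [0,1,6,1,5],
  [5,4,5,4],
  [1,6,2,5,5,2,6,2]]
theorem pv2_r {G : Type*} [Group G] {z u v a b p : G}
    (t : QT z u v a b)
    (h : P1 z u b p)
    (e : v * (p⁻¹ * v * p) * (p * v * p⁻¹) = u) :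
    Rels (nthG [z, u, v, a, b, p, p⁻¹]) pv2_r_R :=
  rels_of_eqs ((InvI.cons t.1 (InvI.cons t.2.1 (InvI.cons t.2.2.1 (InvI.cons t.2.2.2.1 (InvI.cons t.2.2.2.2.1 InvI.nil))))) : InvI [z, u, v, a, b, p] [(nat_lit 0), (nat_lit 1), (nat_lit 2), (nat_lit 3), (nat_lit 4)])
    (AllEq.append (show AllEq [z, u, v, a, b, p] [((.mul (.v (nat_lit 0)) (.v (nat_lit 0))), .one), ((.mul (.v (nat_lit 1)) (.v (nat_lit 1))), .one), ((.mul (.v (nat_lit 2)) (.v (nat_lit 2))), .one), ((.mul (.v (nat_lit 3)) (.v (nat_lit 3))), .one), ((.mul (.v (nat_lit 4)) (.v (nat_lit 4))), .one), ((.mul (.v (nat_lit 1)) (.v (nat_lit 2))), (.mul (.v (nat_lit 2)) (.v (nat_lit 1)))), ((.mul (.v (nat_lit 0)) (.v (nat_lit 1))), (.mul (.v (nat_lit 1)) (.v (nat_lit 0)))), ((.mul (.v (nat_lit 0)) (.v (nat_lit 2))), (.mul (.v (nat_lit 2)) (.v (nat_lit 0)))), ((.mul (.v (nat_lit 0)) (.v (nat_lit 3))), (.mul (.v (nat_lit 3)) (.v (nat_lit 0)))), ((.mul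 (.v (nat_lit 0)) (.v (nat_lit 4))), (.mul (.v (nat_lit 4)) (.v (nat_lit 0)))), ((.mul (.v (nat_lit 1)) (.v (nat_lit 3))), (.mul (.v (nat_lit 3)) (.v (nat_lit 1)))), ((.mul (.v (nat_lit 2)) (.v (nat_lit 4))), (.mul (.v (nat_lit 4)) (.v (nat_lit 2)))), ((.mul (.v (nat_lit 3)) (.v (nat_lit 4))), (.mul (.v (nat_lit 4)) (.v (nat_lit 3)))), ((.mul (.mul (.v (nat_lit 4)) (.v (nat_lit 1))) (.v (nat_lit 4))), (.mul (.v (nat_lit 1)) (.v (nat_lit 0)))), ((.mul (.mul (.v (nat_lit 3)) (.v (nat_lit 2))) (.v (nat_lit 3))), (.mul (.v (nat_lit 2)) (.v (nat_lit 0))))] from t)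
    (AllEq.append (show AllEq [z, u, v, a, b, p] [((.pw (.v (nat_lit 5)) (nat_lit 3)), .one), ((.mul (.mul (.v (nat_lit 5)) (.v (nat_lit 0))) (.inv (.v (nat_lit 5)))), (.v (nat_lit 1))), ((.mul (.mul (.v (nat_lit 5)) (.v (nat_lit 1))) (.inv (.v (nat_lit 5)))), (.mul (.v (nat_lit 0)) (.v (nat_lit 1)))), ((.mul (.mul (.v (nat_lit 4)) (.v (nat_lit 5))) (.v (nat_lit 4))), (.inv (.v (nat_lit 5))))] from h)
    (show AllEq [z, u, v, a, b, p] [((.mul (.mul (.v (nat_lit 2)) (.mul (.mul (.inv (.v (nat_lit 5))) (.v (nat_lit 2))) (.v (nat_lit 5)))) (.mul (.mul (.v (nat_lit 5)) (.v (nat_lit 2))) (.inv (.v (nat_lit 5))))), (.v (nat_lit 1)))] from ⟨e, trivial⟩)))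
    [(.v (nat_lit 0)), (.v (nat_lit 1)), (.v (nat_lit 2)), (.v (nat_lit 3)), (.v (nat_lit 4)), (.v (nat_lit 5)), (.inv (.v (nat_lit 5)))] (by decide +kernel)
noncomputable def pv2_0_S0 : List ℕ := [nat_lit 0xf00000b00000700c00e, nat_lit 0x1700001300000200c010, nat_lit 0x1f00001b008014, nat_lit 0x3300002f00002b00002700002300000200000801801a, nat_lit 0x3700000e008014, nat_lit 0x4700004300003f00003b00000b00000700001c01401a, nat_lit 0x47000043004014, nat_lit 0x4b00003c004014, nat_lit 0x5b00005700005300004f00001200000c00001001801a, nat_lit 0x1500001a00003f00001d00004b00001000002100001a, nat_lit 0x600001c00002600002200c016, nat_lit 0x13000029000006000000, nat_lit 0x2d000013000000, nat_lit 0x2600002200000200001c012018, nat_lit 0x1600003500001500c012, nat_lit 0x1900003900001a000016, nat_lit 0x4f00001200000700000900001f00001500001a00003d00001a, nat_lit 0x4000004100004f000004, nat_lit 0x1100004500003b00000c, nat_lit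 0x800004a000010000004, nat_lit 0x4e000031000000]
noncomputable def pv2_0_S : List (List ℕ) := [pv2_0_S0]
noncomputable def pv2_0_defs : List ℕ := [(nat_lit 0x20001500500014005000130020000d00500002005000100050000f0020000e006000020050000c0020000b0050000a0050000900200008006000030050000600500000001000040000000300200002001000010020000000000000)]
noncomputable def pv2_0_recs : List ℕ := [(nat_lit 0xff0000300000ff0000200001ff0000d0000eff0000f00013010000f0000f000001100011000000600006000000300000ff0000000004ff0000300005010001600006060000300016050000e00012050000f0001102000060001105000010000d06000010000c050000000007000000000005010000000003)]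
noncomputable def pv2_0_T : List (List ℕ × ℕ) := [([0], (nat_lit 0x51))]
noncomputable def pv2_0_D : H26.Dag := ⟨[0,1,2,3,4,6,5], [[0,0],
  [1,1],
  [2,2],
  [3,3],
  [4,4],
  [5,6],
  [6,5],
  [2,1,2,1],
  [1,0,1,0],
  [2,0,2,0],
  [5,5,5],
  [1,6,0,5],
  [0,1,6,1,5],
  [1,6,2,5,5,2,6,2]], [], pv2_0_defs, pv2_0_recs⟩
theorem pv2_0_c : pv2_0_D.check pv2_0_S pv2_0_T = true := by decide +kernel
theorem pv2_0 {G : Type*} [Group G] {g : ℕ → G} (hR : Rels g pv2_r_R) {H : Subgroup G}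
    (hH : ∀ k ∈ [], g k ∈ H) : evA g [0] ∈ H :=
  mem_dag (K := 7) (J := [0,1,2,3,4,5,6,7,8,9,17,18,19,21]) (D := pv2_0_D) (by decide +kernel) pv2_0_c (by decide +kernel) hR hH
theorem pv2 {G : Type*} [Group G] {z u v a b p : G}
    (t : QT z u v a b)
    (h : P1 z u b p)
    (e : v * (p⁻¹ * v * p) * (p * v * p⁻¹) = u) :
    z = 1 :=
  mul_inv_eq_one.1 ((evA_eq_tm ((InvI.cons t.1 (InvI.cons t.2.1 (InvI.cons t.2.2.1 (InvI.cons t.2.2.2.1 (InvI.cons t.2.2.2.2.1 InvI.nil))))) : InvI [z, u, v, a, b, p] [(nat_lit 0), (nat_lit 1), (nat_lit 2), (nat_lit 3), (nat_lit 4)]) [(.v (nat_lit 0)), (.v (nat_lit 1)), (.v (nat_lit 2)), (.v (nat_lit 3)), (.v (nat_lit 4)), (.v (nat_lit 5)), (.inv (.v (nat_lit 5)))] [0] (.mul (.v (nat_lit 0)) (.inv .one)) (by decide +kernel)).symm.trans (Subgroup.mem_bot.1 (pv2_0 (pv2_r t h e) (H := ⊥) (List.forall_mem_nil _))))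
noncomputable def pv3_r_R : List (List ℕ) := [[0,0],
  [1,1],
  [2,2],
  [3,3],
  [4,4],
  [5,6],
  [6,5],
  [2,1,2,1],
  [1,0,1,0],
  [2,0,2,0],
  [3,0,3,0],
  [4,0,4,0],
  [3,1,3,1],
  [4,2,4,2],
  [4,3,4,3],
  [1,0,4,1,4],
  [2,0,3,2,3],
  [5,5,5],
  [1,6,0,5],
  [0,1,6,1,5],
  [5,4,5,4],
  [0,1,6,2,5,5,2,6,2]]
theorem pv3_r {G : Type*} [Group G] {z u v a b p : G}
    (t : QT z u v a b)
    (h : P1 z u b p)
    (e : v * (p⁻¹ * v * p) * (p * v * p⁻¹) = z * u) :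
    Rels (nthG [z, u, v, a, b, p, p⁻¹]) pv3_r_R :=
  rels_of_eqs ((InvI.cons t.1 (InvI.cons t.2.1 (InvI.cons t.2.2.1 (InvI.cons t.2.2.2.1 (InvI.cons t.2.2.2.2.1 InvI.nil))))) : InvI [z, u, v, a, b, p] [(nat_lit 0), (nat_lit 1), (nat_lit 2), (nat_lit 3), (nat_lit 4)])
    (AllEq.append (show AllEq [z, u, v, a, b, p] [((.mul (.v (nat_lit 0)) (.v (nat_lit 0))), .one), ((.mul (.v (nat_lit 1)) (.v (nat_lit 1))), .one), ((.mul (.v (nat_lit 2)) (.v (nat_lit 2))), .one), ((.mul (.v (nat_lit 3)) (.v (nat_lit 3))), .one), ((.mul (.v (nat_lit 4)) (.v (nat_lit 4))), .one), ((.mul (.v (nat_lit 1)) (.v (nat_lit 2))), (.mul (.v (nat_lit 2)) (.v (nat_lit 1)))), ((.mul (.v (nat_lit 0)) (.v (nat_lit 1))), (.mul (.v (nat_lit 1)) (.v (nat_lit 0)))), ((.mul (.v (nat_lit 0)) (.v (nat_lit 2))), (.mul (.v (nat_lit 2)) (.v (nat_lit 0)))), ((.mul (.v (nat_lit 0)) (.v (nat_lit 3))), (.mul (.v (nat_lit 3)) (.v (nat_lit 0)))), ((.mul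 (.v (nat_lit 0)) (.v (nat_lit 4))), (.mul (.v (nat_lit 4)) (.v (nat_lit 0)))), ((.mul (.v (nat_lit 1)) (.v (nat_lit 3))), (.mul (.v (nat_lit 3)) (.v (nat_lit 1)))), ((.mul (.v (nat_lit 2)) (.v (nat_lit 4))), (.mul (.v (nat_lit 4)) (.v (nat_lit 2)))), ((.mul (.v (nat_lit 3)) (.v (nat_lit 4))), (.mul (.v (nat_lit 4)) (.v (nat_lit 3)))), ((.mul (.mul (.v (nat_lit 4)) (.v (nat_lit 1))) (.v (nat_lit 4))), (.mul (.v (nat_lit 1)) (.v (nat_lit 0)))), ((.mul (.mul (.v (nat_lit 3)) (.v (nat_lit 2))) (.v (nat_lit 3))), (.mul (.v (nat_lit 2)) (.v (nat_lit 0))))] from t)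
    (AllEq.append (show AllEq [z, u, v, a, b, p] [((.pw (.v (nat_lit 5)) (nat_lit 3)), .one), ((.mul (.mul (.v (nat_lit 5)) (.v (nat_lit 0))) (.inv (.v (nat_lit 5)))), (.v (nat_lit 1))), ((.mul (.mul (.v (nat_lit 5)) (.v (nat_lit 1))) (.inv (.v (nat_lit 5)))), (.mul (.v (nat_lit 0)) (.v (nat_lit 1)))), ((.mul (.mul (.v (nat_lit 4)) (.v (nat_lit 5))) (.v (nat_lit 4))), (.inv (.v (nat_lit 5))))] from h)
    (show AllEq [z, u, v, a, b, p] [((.mul (.mul (.v (nat_lit 2)) (.mul (.mul (.inv (.v (nat_lit 5))) (.v (nat_lit 2))) (.v (nat_lit 5)))) (.mul (.mul (.v (nat_lit 5)) (.v (nat_lit 2))) (.inv (.v (nat_lit 5))))), (.mul (.v (nat_lit 0)) (.v (nat_lit 1))))] from ⟨e, trivial⟩)))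
    [(.v (nat_lit 0)), (.v (nat_lit 1)), (.v (nat_lit 2)), (.v (nat_lit 3)), (.v (nat_lit 4)), (.v (nat_lit 5)), (.inv (.v (nat_lit 5)))] (by decide +kernel)
noncomputable def pv3_0_S0 : List ℕ := [nat_lit 0xf00000b00000700c00e, nat_lit 0x1700001300000200c010, nat_lit 0x1b000007000005008012, nat_lit 0x2300001f008014, nat_lit 0x2700000200000d008016, nat_lit 0x2b00001800000600000d00c018, nat_lit 0x3b00003700003300002f00002b00001800000600000801c01a, nat_lit 0x3f00000b00001c008010, nat_lit 0x4300001a008014, nat_lit 0x4700000b000021008016, nat_lit 0x4b00001e00001b00002100c018, nat_lit 0x5700005300004f00004b00001e00001b00000700002001801a, nat_lit 0x57000053004014, nat_lit 0x5b000048004014, nat_lit 0x5f00001d00003f00004800c018, nat_lit 0x2a00002500003900c010, nat_lit 0x6f00006b00006700006300005f00001d00003f00001001c01a, nat_lit 0x2700004100a014, nat_lit 0x7300001700001300002800c018, nat_lit 0x1600001100004900c010,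 nat_lit 0x7700002c004014, nat_lit 0x24000015000051008016, nat_lit 0x4500004900004d00005100c018, nat_lit 0x5000003100002e00005600005900004200000f00005c00003600e01a, nat_lit 0x2500005d00003e000000, nat_lit 0x2100006200005f00000c, nat_lit 0x800006600000a000004, nat_lit 0x6a000006000000]
noncomputable def pv3_0_S : List (List ℕ) := [pv3_0_S0]
noncomputable def pv3_0_defs : List ℕ := [(nat_lit 0x500004006000050020001a00500019005000180020001700600006005000020050001400500013002000120060000f006000020050000e000000020020000d0050000c0050000b0020000a0060000400600003005000070050000000000001001000040000000300200002001000010020000000000000)]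
noncomputable def pv3_0_recs : List ℕ := [(nat_lit 0xff0000500000ff0000600001ff0001700010ff0001100012010001d0001b000001d00007050000a0001d000001c0000a01000090001c060001b0000906000030001b00000170001201000110001705000110001605000130001502000070001501000100001200000100001105000010001001000060000f06000010000e01000080000a000000800009050000000008020000500006000000000005010000000003)]
noncomputable def pv3_0_T : List (List ℕ × ℕ) := [([0], (nat_lit 0x6d))]
noncomputable def pv3_0_D : H26.Dag := ⟨[0,1,2,3,4,6,5], [[0,0],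
  [1,1],
  [2,2],
  [3,3],
  [4,4],
  [5,6],
  [6,5],
  [2,1,2,1],
  [1,0,1,0],
  [2,0,2,0],
  [5,5,5],
  [1,6,0,5],
  [0,1,6,1,5],
  [0,1,6,2,5,5,2,6,2]], [], pv3_0_defs, pv3_0_recs⟩
theorem pv3_0_c : pv3_0_D.check pv3_0_S pv3_0_T = true := by decide +kernel
theorem pv3_0 {G : Type*} [Group G] {g : ℕ → G} (hR : Rels g pv3_r_R) {H : Subgroup G}
    (hH : ∀ k ∈ [], g k ∈ H) : evA g [0] ∈ H :=
  mem_dag (K := 7) (J := [0,1,2,3,4,5,6,7,8,9,17,18,19,21]) (D := pv3_0_D) (by decide +kernel) pv3_0_c (by decide +kernel) hR hH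
theorem pv3 {G : Type*} [Group G] {z u v a b p : G}
    (t : QT z u v a b)
    (h : P1 z u b p)
    (e : v * (p⁻¹ * v * p) * (p * v * p⁻¹) = z * u) :
    z = 1 :=
  mul_inv_eq_one.1 ((evA_eq_tm ((InvI.cons t.1 (InvI.cons t.2.1 (InvI.cons t.2.2.1 (InvI.cons t.2.2.2.1 (InvI.cons t.2.2.2.2.1 InvI.nil))))) : InvI [z, u, v, a, b, p] [(nat_lit 0), (nat_lit 1), (nat_lit 2), (nat_lit 3), (nat_lit 4)]) [(.v (nat_lit 0)), (.v (nat_lit 1)), (.v (nat_lit 2)), (.v (nat_lit 3)), (.v (nat_lit 4)), (.v (nat_lit 5)), (.inv (.v (nat_lit 5)))] [0] (.mul (.v (nat_lit 0)) (.inv .one)) (by decide +kernel)).symm.trans (Subgroup.mem_bot.1 (pv3_0 (pv3_r t h e) (H := ⊥) (List.forall_mem_nil _))))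
theorem pv {G : Type*} [Group G] {z u v a b p : G}
    (t : QT z u v a b)
    (h : P1 z u b p) (z1 : z ≠ 1)
    (hc : v * (p⁻¹ * v * p) * (p * v * p⁻¹) = 1 ∨ v * (p⁻¹ * v * p) * (p * v * p⁻¹) = z ∨ v * (p⁻¹ * v * p) * (p * v * p⁻¹) = u ∨ v * (p⁻¹ * v * p) * (p * v * p⁻¹) = z * u) :
    v * (p⁻¹ * v * p) * (p * v * p⁻¹) = 1 := by
  rcases hc with e | e | e | e
  exacts [e,
    (z1 (pv1 t h e)).elim,
    (z1 (pv2 t h e)).elim,
    (z1 (pv3 t h e)).elim]
noncomputable def pw1_r_R : List (List ℕ) := [[0,0],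
  [1,1],
  [2,2],
  [3,3],
  [4,4],
  [5,6],
  [6,5],
  [2,1,2,1],
  [1,0,1,0],
  [2,0,2,0],
  [3,0,3,0],
  [4,0,4,0],
  [3,1,3,1],
  [4,2,4,2],
  [4,3,4,3],
  [1,0,4,1,4],
  [2,0,3,2,3],
  [5,5,5],
  [1,6,0,5],
  [0,1,6,1,5],
  [5,4,5,4],
  [0,6,3,5,5,3,6,3]]
theorem pw1_r {G : Type*} [Group G] {z u v a b p : G}
    (t : QT z u v a b)
    (h : P1 z u b p)
    (e : a * (p⁻¹ * a * p) * (p * a * p⁻¹) = z) :
    Rels (nthG [z, u, v, a, b, p, p⁻¹]) pw1_r_R :=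
  rels_of_eqs ((InvI.cons t.1 (InvI.cons t.2.1 (InvI.cons t.2.2.1 (InvI.cons t.2.2.2.1 (InvI.cons t.2.2.2.2.1 InvI.nil))))) : InvI [z, u, v, a, b, p] [(nat_lit 0), (nat_lit 1), (nat_lit 2), (nat_lit 3), (nat_lit 4)])
    (AllEq.append (show AllEq [z, u, v, a, b, p] [((.mul (.v (nat_lit 0)) (.v (nat_lit 0))), .one), ((.mul (.v (nat_lit 1)) (.v (nat_lit 1))), .one), ((.mul (.v (nat_lit 2)) (.v (nat_lit 2))), .one), ((.mul (.v (nat_lit 3)) (.v (nat_lit 3))), .one), ((.mul (.v (nat_lit 4)) (.v (nat_lit 4))), .one), ((.mul (.v (nat_lit 1)) (.v (nat_lit 2))), (.mul (.v (nat_lit 2)) (.v (nat_lit 1)))), ((.mul (.v (nat_lit 0)) (.v (nat_lit 1))), (.mul (.v (nat_lit 1)) (.v (nat_lit 0)))), ((.mul (.v (nat_lit 0)) (.v (nat_lit 2))), (.mul (.v (nat_lit 2)) (.v (nat_lit 0)))), ((.mul (.v (nat_lit 0)) (.v (nat_lit 3))), (.mul (.v (nat_lit 3)) (.v (nat_lit 0)))), ((.mul (.v (nat_lit 0)) (.v (nat_lit 4))), (.mul (.v (nat_lit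 4)) (.v (nat_lit 0)))), ((.mul (.v (nat_lit 1)) (.v (nat_lit 3))), (.mul (.v (nat_lit 3)) (.v (nat_lit 1)))), ((.mul (.v (nat_lit 2)) (.v (nat_lit 4))), (.mul (.v (nat_lit 4)) (.v (nat_lit 2)))), ((.mul (.v (nat_lit 3)) (.v (nat_lit 4))), (.mul (.v (nat_lit 4)) (.v (nat_lit 3)))), ((.mul (.mul (.v (nat_lit 4)) (.v (nat_lit 1))) (.v (nat_lit 4))), (.mul (.v (nat_lit 1)) (.v (nat_lit 0)))), ((.mul (.mul (.v (nat_lit 3)) (.v (nat_lit 2))) (.v (nat_lit 3))), (.mul (.v (nat_lit 2)) (.v (nat_lit 0))))] from t)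
    (AllEq.append (show AllEq [z, u, v, a, b, p] [((.pw (.v (nat_lit 5)) (nat_lit 3)), .one), ((.mul (.mul (.v (nat_lit 5)) (.v (nat_lit 0))) (.inv (.v (nat_lit 5)))), (.v (nat_lit 1))), ((.mul (.mul (.v (nat_lit 5)) (.v (nat_lit 1))) (.inv (.v (nat_lit 5)))), (.mul (.v (nat_lit 0)) (.v (nat_lit 1)))), ((.mul (.mul (.v (nat_lit 4)) (.v (nat_lit 5))) (.v (nat_lit 4))), (.inv (.v (nat_lit 5))))] from h)
    (show AllEq [z, u, v, a, b, p] [((.mul (.mul (.v (nat_lit 3)) (.mul (.mul (.inv (.v (nat_lit 5))) (.v (nat_lit 3))) (.v (nat_lit 5)))) (.mul (.mul (.v (nat_lit 5)) (.v (nat_lit 3))) (.inv (.v (nat_lit 5))))), (.v (nat_lit 0)))] from ⟨e, trivial⟩)))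
    [(.v (nat_lit 0)), (.v (nat_lit 1)), (.v (nat_lit 2)), (.v (nat_lit 3)), (.v (nat_lit 4)), (.v (nat_lit 5)), (.inv (.v (nat_lit 5)))] (by decide +kernel)
noncomputable def pw1_0_S0 : List ℕ := [nat_lit 0x17000014006014, nat_lit 0x1f000007000010004010, nat_lit 0x23000007000014000016, nat_lit 0x2b00000b000018008016, nat_lit 0x2b00000b00000800002800c018, nat_lit 0x33000030006014, nat_lit 0x3700000900002300001c002018, nat_lit 0x3b00000d00001200400e, nat_lit 0x3b000002000038004016, nat_lit 0x4300001b000020004012, nat_lit 0x47000006000030000016, nat_lit 0x4b00000e000040004010, nat_lit 0x4f000029000047000025002018, nat_lit 0x5300001500003300000f00001800004000002d01a01a, nat_lit 0x2200001a00004400003100004f00005400003600004b01401a, nat_lit 0xd00003900001e000000, nat_lit 0x1800003e00002700000c, nat_lit 0x42000007000000]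
noncomputable def pw1_0_S : List (List ℕ) := [pw1_0_S0]
noncomputable def pw1_0_defs : List ℕ := [(nat_lit 0x30000b0000000b0030000a005000070030000600300005001000050000000400600003005000030060000200600001005000010030000100100001006000000050000000300000001000000000000000000000)]
noncomputable def pw1_0_recs : List ℕ := [(nat_lit 0xff0000100000ff0000900005ff0000a0000e050001200014060001000013000000f00012010000b00011010000700010060000d0000e00000090000e06000060000d060000b0000c01000090000a00000050000a010000400008000000300007060000400005)]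
noncomputable def pw1_0_T : List (List ℕ × ℕ) := [([0], (nat_lit 0x45))]
noncomputable def pw1_0_D : H26.Dag := ⟨[0,1,2,3,4,6,5], [[0,0],
  [1,1],
  [2,2],
  [3,3],
  [4,4],
  [5,6],
  [6,5],
  [1,0,1,0],
  [3,0,3,0],
  [3,1,3,1],
  [5,5,5],
  [1,6,0,5],
  [0,1,6,1,5],
  [0,6,3,5,5,3,6,3]], [], pw1_0_defs, pw1_0_recs⟩
theorem pw1_0_c : pw1_0_D.check pw1_0_S pw1_0_T = true := by decide +kernel
theorem pw1_0 {G : Type*} [Group G] {g : ℕ → G} (hR : Rels g pw1_r_R) {H : Subgroup G}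
    (hH : ∀ k ∈ [], g k ∈ H) : evA g [0] ∈ H :=
  mem_dag (K := 7) (J := [0,1,2,3,4,5,6,8,10,12,17,18,19,21]) (D := pw1_0_D) (by decide +kernel) pw1_0_c (by decide +kernel) hR hH
theorem pw1 {G : Type*} [Group G] {z u v a b p : G}
    (t : QT z u v a b)
    (h : P1 z u b p)
    (e : a * (p⁻¹ * a * p) * (p * a * p⁻¹) = z) :
    z = 1 :=
  mul_inv_eq_one.1 ((evA_eq_tm ((InvI.cons t.1 (InvI.cons t.2.1 (InvI.cons t.2.2.1 (InvI.cons t.2.2.2.1 (InvI.cons t.2.2.2.2.1 InvI.nil))))) : InvI [z, u, v, a, b, p] [(nat_lit 0), (nat_lit 1), (nat_lit 2), (nat_lit 3), (nat_lit 4)]) [(.v (nat_lit 0)), (.v (nat_lit 1)), (.v (nat_lit 2)), (.v (nat_lit 3)), (.v (nat_lit 4)), (.v (nat_lit 5)), (.inv (.v (nat_lit 5)))] [0] (.mul (.v (nat_lit 0)) (.inv .one)) (by decide +kernel)).symm.trans (Subgroup.mem_bot.1 (pw1_0 (pw1_r t h e) (H := ⊥) (List.forall_mem_nil _))))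
noncomputable def pw2_r_R : List (List ℕ) := [[0,0],
  [1,1],
  [2,2],
  [3,3],
  [4,4],
  [5,6],
  [6,5],
  [2,1,2,1],
  [1,0,1,0],
  [2,0,2,0],
  [3,0,3,0],
  [4,0,4,0],
  [3,1,3,1],
  [4,2,4,2],
  [4,3,4,3],
  [1,0,4,1,4],
  [2,0,3,2,3],
  [5,5,5],
  [1,6,0,5],
  [0,1,6,1,5],
  [5,4,5,4],
  [1,6,3,5,5,3,6,3]]
theorem pw2_r {G : Type*} [Group G] {z u v a b p : G}
    (t : QT z u v a b)
    (h : P1 z u b p)
    (e : a * (p⁻¹ * a * p) * (p * a * p⁻¹) = u) :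
    Rels (nthG [z, u, v, a, b, p, p⁻¹]) pw2_r_R :=
  rels_of_eqs ((InvI.cons t.1 (InvI.cons t.2.1 (InvI.cons t.2.2.1 (InvI.cons t.2.2.2.1 (InvI.cons t.2.2.2.2.1 InvI.nil))))) : InvI [z, u, v, a, b, p] [(nat_lit 0), (nat_lit 1), (nat_lit 2), (nat_lit 3), (nat_lit 4)])
    (AllEq.append (show AllEq [z, u, v, a, b, p] [((.mul (.v (nat_lit 0)) (.v (nat_lit 0))), .one), ((.mul (.v (nat_lit 1)) (.v (nat_lit 1))), .one), ((.mul (.v (nat_lit 2)) (.v (nat_lit 2))), .one), ((.mul (.v (nat_lit 3)) (.v (nat_lit 3))), .one), ((.mul (.v (nat_lit 4)) (.v (nat_lit 4))), .one), ((.mul (.v (nat_lit 1)) (.v (nat_lit 2))), (.mul (.v (nat_lit 2)) (.v (nat_lit 1)))), ((.mul (.v (nat_lit 0)) (.v (nat_lit 1))), (.mul (.v (nat_lit 1)) (.v (nat_lit 0)))), ((.mul (.v (nat_lit 0)) (.v (nat_lit 2))), (.mul (.v (nat_lit 2)) (.v (nat_lit 0)))), ((.mul (.v (nat_lit 0)) (.v (nat_lit 3))), (.mul (.v (nat_lit 3)) (.v (nat_lit 0)))), ((.mul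 (.v (nat_lit 0)) (.v (nat_lit 4))), (.mul (.v (nat_lit 4)) (.v (nat_lit 0)))), ((.mul (.v (nat_lit 1)) (.v (nat_lit 3))), (.mul (.v (nat_lit 3)) (.v (nat_lit 1)))), ((.mul (.v (nat_lit 2)) (.v (nat_lit 4))), (.mul (.v (nat_lit 4)) (.v (nat_lit 2)))), ((.mul (.v (nat_lit 3)) (.v (nat_lit 4))), (.mul (.v (nat_lit 4)) (.v (nat_lit 3)))), ((.mul (.mul (.v (nat_lit 4)) (.v (nat_lit 1))) (.v (nat_lit 4))), (.mul (.v (nat_lit 1)) (.v (nat_lit 0)))), ((.mul (.mul (.v (nat_lit 3)) (.v (nat_lit 2))) (.v (nat_lit 3))), (.mul (.v (nat_lit 2)) (.v (nat_lit 0))))] from t)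
    (AllEq.append (show AllEq [z, u, v, a, b, p] [((.pw (.v (nat_lit 5)) (nat_lit 3)), .one), ((.mul (.mul (.v (nat_lit 5)) (.v (nat_lit 0))) (.inv (.v (nat_lit 5)))), (.v (nat_lit 1))), ((.mul (.mul (.v (nat_lit 5)) (.v (nat_lit 1))) (.inv (.v (nat_lit 5)))), (.mul (.v (nat_lit 0)) (.v (nat_lit 1)))), ((.mul (.mul (.v (nat_lit 4)) (.v (nat_lit 5))) (.v (nat_lit 4))), (.inv (.v (nat_lit 5))))] from h)
    (show AllEq [z, u, v, a, b, p] [((.mul (.mul (.v (nat_lit 3)) (.mul (.mul (.inv (.v (nat_lit 5))) (.v (nat_lit 3))) (.v (nat_lit 5)))) (.mul (.mul (.v (nat_lit 5)) (.v (nat_lit 3))) (.inv (.v (nat_lit 5))))), (.v (nat_lit 1)))] from ⟨e, trivial⟩)))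
    [(.v (nat_lit 0)), (.v (nat_lit 1)), (.v (nat_lit 2)), (.v (nat_lit 3)), (.v (nat_lit 4)), (.v (nat_lit 5)), (.inv (.v (nat_lit 5)))] (by decide +kernel)
noncomputable def pw2_0_S0 : List ℕ := [nat_lit 0x1b00000700001000400e, nat_lit 0x1f000007000014000014, nat_lit 0x23000020006012, nat_lit 0x2700000b000010004010, nat_lit 0x2b00000b00000800002400c016, nat_lit 0x3700001700001c004010, nat_lit 0x3b000002000030000014, nat_lit 0x3f00003c006012, nat_lit 0x4b00000e000030000019000016, nat_lit 0x4f00004c006012, nat_lit 0x53000012000048004010, nat_lit 0x5700001900003b000015002016, nat_lit 0x5b00001900003b00001b000020000009000048006018, nat_lit 0x2500004f00002700002c00005400002a00003100005b016018, nat_lit 0x57000035000022000000, nat_lit 0x3c00003900002e00000a, nat_lit 0x3e000016000002, nat_lit 0x5f00003300000500001f00001c00003c00001d00a018, nat_lit 0x63000060006012, nat_lit 0x4300001f00001c00004100004000004500004900006300e018,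 nat_lit 0x3400004d000043000006, nat_lit 0x1400005200001f00000a, nat_lit 0x56000007000000]
noncomputable def pw2_0_S : List (List ℕ) := [pw2_0_S0]
noncomputable def pw2_0_defs : List ℕ := [(nat_lit 0x60000c0050000c0030000b0000000b0030000a0060000900500009003000080030000700600006005000060030000500300004005000030060000200300002006000010050000100300001001000010050000000300000001000000000000000000000)]
noncomputable def pw2_0_recs : List ℕ := [(nat_lit 0xff0000100000ff0000700004ff0000c00010060001700018030000f00017010000600006ff0000d00006ff0000e00015ff0000b00012050001100016060000d00015010001100014060001200013000000e00012060000e0000f010000b0000e01000060000d01000080000a010000300009060000700008010000400007000000300006)]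
noncomputable def pw2_0_T : List (List ℕ × ℕ) := [([0], (nat_lit 0x59))]
noncomputable def pw2_0_D : H26.Dag := ⟨[0,1,2,3,4,6,5], [[0,0],
  [1,1],
  [2,2],
  [3,3],
  [4,4],
  [5,6],
  [6,5],
  [3,0,3,0],
  [3,1,3,1],
  [5,5,5],
  [1,6,0,5],
  [0,1,6,1,5],
  [1,6,3,5,5,3,6,3]], [], pw2_0_defs, pw2_0_recs⟩
theorem pw2_0_c : pw2_0_D.check pw2_0_S pw2_0_T = true := by decide +kernel
theorem pw2_0 {G : Type*} [Group G] {g : ℕ → G} (hR : Rels g pw2_r_R) {H : Subgroup G}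
    (hH : ∀ k ∈ [], g k ∈ H) : evA g [0] ∈ H :=
  mem_dag (K := 7) (J := [0,1,2,3,4,5,6,10,12,17,18,19,21]) (D := pw2_0_D) (by decide +kernel) pw2_0_c (by decide +kernel) hR hH
theorem pw2 {G : Type*} [Group G] {z u v a b p : G}
    (t : QT z u v a b)
    (h : P1 z u b p)
    (e : a * (p⁻¹ * a * p) * (p * a * p⁻¹) = u) :
    z = 1 :=
  mul_inv_eq_one.1 ((evA_eq_tm ((InvI.cons t.1 (InvI.cons t.2.1 (InvI.cons t.2.2.1 (InvI.cons t.2.2.2.1 (InvI.cons t.2.2.2.2.1 InvI.nil))))) : InvI [z, u, v, a, b, p] [(nat_lit 0), (nat_lit 1), (nat_lit 2), (nat_lit 3), (nat_lit 4)]) [(.v (nat_lit 0)), (.v (nat_lit 1)), (.v (nat_lit 2)), (.v (nat_lit 3)), (.v (nat_lit 4)), (.v (nat_lit 5)), (.inv (.v (nat_lit 5)))] [0] (.mul (.v (nat_lit 0)) (.inv .one)) (by decide +kernel)).symm.trans (Subgroup.mem_bot.1 (pw2_0 (pw2_r t h e) (H := ⊥) (List.forall_mem_nil _))))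
noncomputable def pw3_r_R : List (List ℕ) := [[0,0],
  [1,1],
  [2,2],
  [3,3],
  [4,4],
  [5,6],
  [6,5],
  [2,1,2,1],
  [1,0,1,0],
  [2,0,2,0],
  [3,0,3,0],
  [4,0,4,0],
  [3,1,3,1],
  [4,2,4,2],
  [4,3,4,3],
  [1,0,4,1,4],
  [2,0,3,2,3],
  [5,5,5],
  [1,6,0,5],
  [0,1,6,1,5],
  [5,4,5,4],
  [0,1,6,3,5,5,3,6,3]]
theorem pw3_r {G : Type*} [Group G] {z u v a b p : G}
    (t : QT z u v a b)
    (h : P1 z u b p)
    (e : a * (p⁻¹ * a * p) * (p * a * p⁻¹) = z * u) :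
    Rels (nthG [z, u, v, a, b, p, p⁻¹]) pw3_r_R :=
  rels_of_eqs ((InvI.cons t.1 (InvI.cons t.2.1 (InvI.cons t.2.2.1 (InvI.cons t.2.2.2.1 (InvI.cons t.2.2.2.2.1 InvI.nil))))) : InvI [z, u, v, a, b, p] [(nat_lit 0), (nat_lit 1), (nat_lit 2), (nat_lit 3), (nat_lit 4)])
    (AllEq.append (show AllEq [z, u, v, a, b, p] [((.mul (.v (nat_lit 0)) (.v (nat_lit 0))), .one), ((.mul (.v (nat_lit 1)) (.v (nat_lit 1))), .one), ((.mul (.v (nat_lit 2)) (.v (nat_lit 2))), .one), ((.mul (.v (nat_lit 3)) (.v (nat_lit 3))), .one), ((.mul (.v (nat_lit 4)) (.v (nat_lit 4))), .one), ((.mul (.v (nat_lit 1)) (.v (nat_lit 2))), (.mul (.v (nat_lit 2)) (.v (nat_lit 1)))), ((.mul (.v (nat_lit 0)) (.v (nat_lit 1))), (.mul (.v (nat_lit 1)) (.v (nat_lit 0)))), ((.mul (.v (nat_lit 0)) (.v (nat_lit 2))), (.mul (.v (nat_lit 2)) (.v (nat_lit 0)))), ((.mul (.v (nat_lit 0)) (.v (nat_lit 3))), (.mul (.v (nat_lit 3)) (.v (nat_lit 0)))), ((.mul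 (.v (nat_lit 0)) (.v (nat_lit 4))), (.mul (.v (nat_lit 4)) (.v (nat_lit 0)))), ((.mul (.v (nat_lit 1)) (.v (nat_lit 3))), (.mul (.v (nat_lit 3)) (.v (nat_lit 1)))), ((.mul (.v (nat_lit 2)) (.v (nat_lit 4))), (.mul (.v (nat_lit 4)) (.v (nat_lit 2)))), ((.mul (.v (nat_lit 3)) (.v (nat_lit 4))), (.mul (.v (nat_lit 4)) (.v (nat_lit 3)))), ((.mul (.mul (.v (nat_lit 4)) (.v (nat_lit 1))) (.v (nat_lit 4))), (.mul (.v (nat_lit 1)) (.v (nat_lit 0)))), ((.mul (.mul (.v (nat_lit 3)) (.v (nat_lit 2))) (.v (nat_lit 3))), (.mul (.v (nat_lit 2)) (.v (nat_lit 0))))] from t)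
    (AllEq.append (show AllEq [z, u, v, a, b, p] [((.pw (.v (nat_lit 5)) (nat_lit 3)), .one), ((.mul (.mul (.v (nat_lit 5)) (.v (nat_lit 0))) (.inv (.v (nat_lit 5)))), (.v (nat_lit 1))), ((.mul (.mul (.v (nat_lit 5)) (.v (nat_lit 1))) (.inv (.v (nat_lit 5)))), (.mul (.v (nat_lit 0)) (.v (nat_lit 1)))), ((.mul (.mul (.v (nat_lit 4)) (.v (nat_lit 5))) (.v (nat_lit 4))), (.inv (.v (nat_lit 5))))] from h)
    (show AllEq [z, u, v, a, b, p] [((.mul (.mul (.v (nat_lit 3)) (.mul (.mul (.inv (.v (nat_lit 5))) (.v (nat_lit 3))) (.v (nat_lit 5)))) (.mul (.mul (.v (nat_lit 5)) (.v (nat_lit 3))) (.inv (.v (nat_lit 5))))), (.mul (.v (nat_lit 0)) (.v (nat_lit 1))))] from ⟨e, trivial⟩)))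
    [(.v (nat_lit 0)), (.v (nat_lit 1)), (.v (nat_lit 2)), (.v (nat_lit 3)), (.v (nat_lit 4)), (.v (nat_lit 5)), (.inv (.v (nat_lit 5)))] (by decide +kernel)
noncomputable def pw3_0_S0 : List ℕ := [nat_lit 0xf00000b00000700c00e, nat_lit 0x1700001300000200c010, nat_lit 0x1b000007000005008012, nat_lit 0x2300001f000005008014, nat_lit 0x2700001f000001008016, nat_lit 0x2b00001b00000700002000c018, nat_lit 0x3300002f00801a, nat_lit 0x4700004300003f00003b00003700001800000600002001c020, nat_lit 0x4300003f00401a, nat_lit 0x4b00000b00001c008010, nat_lit 0x1800000900002500000e, nat_lit 0x4f00001c00002c004014, nat_lit 0x2300001500002d000012, nat_lit 0x5300004f00000c008016, nat_lit 0x5700003600004c008014, nat_lit 0x1200001400002a00003900c018, nat_lit 0x5b00001300000f00003500c018, nat_lit 0x3200005400004100c00e, nat_lit 0x3e00005700004100c012, nat_lit 0x6f00006b00006700006300005f00001700001300001101c020, nat_lit 0x7300003800401a,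 nat_lit 0x8300007f00007b00007700001a00000100001400005c01c020, nat_lit 0x4e00004a00005500001c, nat_lit 0x4700002200003b00005100007300005c000055000059000020, nat_lit 0x2700001d00005e00005a00005600a01e, nat_lit 0x28000062000045000002, nat_lit 0x2000006600000e000006, nat_lit 0x6a000006000000]
noncomputable def pw3_0_S : List (List ℕ) := [pw3_0_S0]
noncomputable def pw3_0_defs : List ℕ := [(nat_lit 0x30001f0050001e0050001d0030000c005000040030001a005000190050001800300017006000050030000400000014001000130030000100000002003000100050000f0050000e0030000d006000040050000b005000000030000600100007000000070030000000000001001000040000000300200002001000010020000000000000)]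
noncomputable def pw3_0_recs : List ℕ := [(nat_lit 0xff0000500000ff0000800007ff0001600009000001b0001101000200001b060001600020050000d0001c06000090001b000001600009010001600008020001400016020001500009030001200015030000200014020001300008000000a00013020001200004010000600012050000e0001006000070001105000000000c02000070000a030000300009030000500008020000500006000000000005010000000003)]
noncomputable def pw3_0_T : List (List ℕ × ℕ) := [([0], (nat_lit 0x6d))]
noncomputable def pw3_0_D : H26.Dag := ⟨[0,1,2,3,4,6,5], [[0,0],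
  [1,1],
  [2,2],
  [3,3],
  [4,4],
  [5,6],
  [6,5],
  [2,1,2,1],
  [1,0,1,0],
  [2,0,2,0],
  [3,0,3,0],
  [3,1,3,1],
  [2,0,3,2,3],
  [5,5,5],
  [1,6,0,5],
  [0,1,6,1,5],
  [0,1,6,3,5,5,3,6,3]], [], pw3_0_defs, pw3_0_recs⟩
theorem pw3_0_c : pw3_0_D.check pw3_0_S pw3_0_T = true := by decide +kernel
theorem pw3_0 {G : Type*} [Group G] {g : ℕ → G} (hR : Rels g pw3_r_R) {H : Subgroup G}
    (hH : ∀ k ∈ [], g k ∈ H) : evA g [0] ∈ H :=
  mem_dag (K := 7) (J := [0,1,2,3,4,5,6,7,8,9,10,12,16,17,18,19,21]) (D := pw3_0_D) (by decide +kernel) pw3_0_c (by decide +kernel) hR hH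
theorem pw3 {G : Type*} [Group G] {z u v a b p : G}
    (t : QT z u v a b)
    (h : P1 z u b p)
    (e : a * (p⁻¹ * a * p) * (p * a * p⁻¹) = z * u) :
    z = 1 :=
  mul_inv_eq_one.1 ((evA_eq_tm ((InvI.cons t.1 (InvI.cons t.2.1 (InvI.cons t.2.2.1 (InvI.cons t.2.2.2.1 (InvI.cons t.2.2.2.2.1 InvI.nil))))) : InvI [z, u, v, a, b, p] [(nat_lit 0), (nat_lit 1), (nat_lit 2), (nat_lit 3), (nat_lit 4)]) [(.v (nat_lit 0)), (.v (nat_lit 1)), (.v (nat_lit 2)), (.v (nat_lit 3)), (.v (nat_lit 4)), (.v (nat_lit 5)), (.inv (.v (nat_lit 5)))] [0] (.mul (.v (nat_lit 0)) (.inv .one)) (by decide +kernel)).symm.trans (Subgroup.mem_bot.1 (pw3_0 (pw3_r t h e) (H := ⊥) (List.forall_mem_nil _))))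
theorem pw {G : Type*} [Group G] {z u v a b p : G}
    (t : QT z u v a b)
    (h : P1 z u b p) (z1 : z ≠ 1)
    (hc : a * (p⁻¹ * a * p) * (p * a * p⁻¹) = 1 ∨ a * (p⁻¹ * a * p) * (p * a * p⁻¹) = z ∨ a * (p⁻¹ * a * p) * (p * a * p⁻¹) = u ∨ a * (p⁻¹ * a * p) * (p * a * p⁻¹) = z * u) :
    a * (p⁻¹ * a * p) * (p * a * p⁻¹) = 1 := by
  rcases hc with e | e | e | e
  exacts [e,
    (z1 (pw1 t h e)).elim,
    (z1 (pw2 t h e)).elim,
    (z1 (pw3 t h e)).elim]
noncomputable def pc0_r_R : List (List ℕ) := [[0,0],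
  [1,1],
  [2,2],
  [3,3],
  [4,4],
  [5,6],
  [6,5],
  [2,1,2,1],
  [1,0,1,0],
  [2,0,2,0],
  [3,0,3,0],
  [4,0,4,0],
  [3,1,3,1],
  [4,2,4,2],
  [4,3,4,3],
  [1,0,4,1,4],
  [2,0,3,2,3],
  [5,5,5],
  [1,6,0,5],
  [0,1,6,1,5],
  [5,4,5,4],
  [6,2,5,5,2,6,2],
  [6,3,5,5,3,6,3],
  [3,6,2,5,3,6,2,5]]
theorem pc0_r {G : Type*} [Group G] {z u v a b p : G}
    (t : QT z u v a b)
    (h : P1 z u b p)
    (e1 : v * (p⁻¹ * v * p) * (p * v * p⁻¹) = 1)
    (e2 : a * (p⁻¹ * a * p) * (p * a * p⁻¹) = 1)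
    (e : ⁅p * v * p⁻¹, a⁆ = 1) :
    Rels (nthG [z, u, v, a, b, p, p⁻¹]) pc0_r_R :=
  rels_of_eqs ((InvI.cons t.1 (InvI.cons t.2.1 (InvI.cons t.2.2.1 (InvI.cons t.2.2.2.1 (InvI.cons t.2.2.2.2.1 InvI.nil))))) : InvI [z, u, v, a, b, p] [(nat_lit 0), (nat_lit 1), (nat_lit 2), (nat_lit 3), (nat_lit 4)])
    (AllEq.append (show AllEq [z, u, v, a, b, p] [((.mul (.v (nat_lit 0)) (.v (nat_lit 0))), .one), ((.mul (.v (nat_lit 1)) (.v (nat_lit 1))), .one), ((.mul (.v (nat_lit 2)) (.v (nat_lit 2))), .one), ((.mul (.v (nat_lit 3)) (.v (nat_lit 3))), .one), ((.mul (.v (nat_lit 4)) (.v (nat_lit 4))), .one), ((.mul (.v (nat_lit 1)) (.v (nat_lit 2))), (.mul (.v (nat_lit 2)) (.v (nat_lit 1)))), ((.mul (.v (nat_lit 0)) (.v (nat_lit 1))), (.mul (.v (nat_lit 1)) (.v (nat_lit 0)))), ((.mul (.v (nat_lit 0)) (.v (nat_lit 2))), (.mul (.v (nat_lit 2)) (.v (nat_lit 0)))), ((.mul (.v (nat_lit 0)) (.v (nat_lit 3))), (.mul (.v (nat_lit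 3)) (.v (nat_lit 0)))), ((.mul (.v (nat_lit 0)) (.v (nat_lit 4))), (.mul (.v (nat_lit 4)) (.v (nat_lit 0)))), ((.mul (.v (nat_lit 1)) (.v (nat_lit 3))), (.mul (.v (nat_lit 3)) (.v (nat_lit 1)))), ((.mul (.v (nat_lit 2)) (.v (nat_lit 4))), (.mul (.v (nat_lit 4)) (.v (nat_lit 2)))), ((.mul (.v (nat_lit 3)) (.v (nat_lit 4))), (.mul (.v (nat_lit 4)) (.v (nat_lit 3)))), ((.mul (.mul (.v (nat_lit 4)) (.v (nat_lit 1))) (.v (nat_lit 4))), (.mul (.v (nat_lit 1)) (.v (nat_lit 0)))), ((.mul (.mul (.v (nat_lit 3)) (.v (nat_lit 2))) (.v (nat_lit 3))), (.mul (.v (nat_lit 2)) (.v (nat_lit 0))))] from t)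
    (AllEq.append (show AllEq [z, u, v, a, b, p] [((.pw (.v (nat_lit 5)) (nat_lit 3)), .one), ((.mul (.mul (.v (nat_lit 5)) (.v (nat_lit 0))) (.inv (.v (nat_lit 5)))), (.v (nat_lit 1))), ((.mul (.mul (.v (nat_lit 5)) (.v (nat_lit 1))) (.inv (.v (nat_lit 5)))), (.mul (.v (nat_lit 0)) (.v (nat_lit 1)))), ((.mul (.mul (.v (nat_lit 4)) (.v (nat_lit 5))) (.v (nat_lit 4))), (.inv (.v (nat_lit 5))))] from h)
    (AllEq.append (show AllEq [z, u, v, a, b, p] [((.mul (.mul (.v (nat_lit 2)) (.mul (.mul (.inv (.v (nat_lit 5))) (.v (nat_lit 2))) (.v (nat_lit 5)))) (.mul (.mul (.v (nat_lit 5)) (.v (nat_lit 2))) (.inv (.v (nat_lit 5))))), .one)] from ⟨e1, trivial⟩)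
    (AllEq.append (show AllEq [z, u, v, a, b, p] [((.mul (.mul (.v (nat_lit 3)) (.mul (.mul (.inv (.v (nat_lit 5))) (.v (nat_lit 3))) (.v (nat_lit 5)))) (.mul (.mul (.v (nat_lit 5)) (.v (nat_lit 3))) (.inv (.v (nat_lit 5))))), .one)] from ⟨e2, trivial⟩)
    (show AllEq [z, u, v, a, b, p] [((.mul (.mul (.mul (.mul (.mul (.v (nat_lit 5)) (.v (nat_lit 2))) (.inv (.v (nat_lit 5)))) (.v (nat_lit 3))) (.inv (.mul (.mul (.v (nat_lit 5)) (.v (nat_lit 2))) (.inv (.v (nat_lit 5)))))) (.inv (.v (nat_lit 3)))), .one)] from ⟨e, trivial⟩)))))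
    [(.v (nat_lit 0)), (.v (nat_lit 1)), (.v (nat_lit 2)), (.v (nat_lit 3)), (.v (nat_lit 4)), (.v (nat_lit 5)), (.inv (.v (nat_lit 5)))] (by decide +kernel)
noncomputable def pc0_0_S0 : List ℕ := [nat_lit 0x1b000018006018, nat_lit 0x1f00000700000c004010, nat_lit 0x23000007000010004012, nat_lit 0x2700000b000014004014, nat_lit 0x2f000013000008000024010016, nat_lit 0x37000034006018, nat_lit 0x4300001f00002400400e, nat_lit 0x4700000a00002c00001a, nat_lit 0x4b000027000005000044010016, nat_lit 0x4f00000e00003800801a, nat_lit 0x5300001d00004700001900201c, nat_lit 0x5700002b00000f00001800000100004000601e, nat_lit 0x63000060006018, nat_lit 0x6b00001600003300001300001800003c014020, nat_lit 0x7b000026000068004012, nat_lit 0x83000053000058004012, nat_lit 0x8b00003d00008300008800c016, nat_lit 0x9300005b00002b00000f00001800003c000070008022, nat_lit 0x9700005f00002f00003400001500006800601e, nat_lit 0x9b00003200005f000012000048000078014020,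 nat_lit 0x9f00003900007b00008000c016, nat_lit 0xa300006700003700001300001c000040000074010022, nat_lit 0x9f0000a400005600007300002d00008c000020, nat_lit 0x4100005900009f00004900009700003100009c00004e00c022, nat_lit 0x5d000041000004, nat_lit 0x7800005d000087000006, nat_lit 0x4800006600002a00000a, nat_lit 0x1200006a000021000006, nat_lit 0x3000006e00004b000004, nat_lit 0x3700007200005000000a, nat_lit 0x6b000076000080000006, nat_lit 0x7a000051000004, nat_lit 0x8f00009400004600006f00003500007e00005a00601e, nat_lit 0x6200008100008f000004, nat_lit 0x5c000085000077000006, nat_lit 0x2c00008a00004700000a, nat_lit 0x1000008e000023000004, nat_lit 0x92000007000000]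
noncomputable def pc0_0_S : List (List ℕ) := [pc0_0_S0]
noncomputable def pc0_0_defs : List ℕ := [(nat_lit 0x50001900300019003000180020001700600016002000160030001500300014002000140030001300200013003000110050000f0060000e0030000d0020000d0060000b0050000b0030000a0020000a0000000a0060000900200009005000080020000700200006003000050060000400500004002000040050000300300002002000010010000100600000005000000030000000200000001000000000000000000000)]
noncomputable def pc0_0_recs : List ℕ := [(nat_lit 0xff0000100000ff0000800003ff000110000aff000160001dff000220002302000270001aff0001f0001aff000130000dff0000900004ff000120000bff0001000008ff000140001102000220001dff0001d00021060002200027030001c00028020001f00027060001d00026050001900025020001b0002402000210002200000150002000000190001e060000e0001a060001700018050000f00015060001000014000000d00013030001000012010000a00011010000800010060000c0000d03000080000b010000400009000000300008000000200007060000500006)]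
noncomputable def pc0_0_T : List (List ℕ × ℕ) := [([0], (nat_lit 0x95))]
noncomputable def pc0_0_D : H26.Dag := ⟨[0,1,2,3,4,6,5], [[0,0],
  [1,1],
  [2,2],
  [3,3],
  [4,4],
  [5,6],
  [6,5],
  [2,1,2,1],
  [1,0,1,0],
  [2,0,2,0],
  [3,1,3,1],
  [2,0,3,2,3],
  [5,5,5],
  [1,6,0,5],
  [0,1,6,1,5],
  [6,2,5,5,2,6,2],
  [6,3,5,5,3,6,3],
  [3,6,2,5,3,6,2,5]], [], pc0_0_defs, pc0_0_recs⟩
theorem pc0_0_c : pc0_0_D.check pc0_0_S pc0_0_T = true := by decide +kernel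
theorem pc0_0 {G : Type*} [Group G] {g : ℕ → G} (hR : Rels g pc0_r_R) {H : Subgroup G}
    (hH : ∀ k ∈ [], g k ∈ H) : evA g [0] ∈ H :=
  mem_dag (K := 7) (J := [0,1,2,3,4,5,6,7,8,9,12,16,17,18,19,21,22,23]) (D := pc0_0_D) (by decide +kernel) pc0_0_c (by decide +kernel) hR hH
theorem pc0 {G : Type*} [Group G] {z u v a b p : G}
    (t : QT z u v a b)
    (h : P1 z u b p)
    (e1 : v * (p⁻¹ * v * p) * (p * v * p⁻¹) = 1)
    (e2 : a * (p⁻¹ * a * p) * (p * a * p⁻¹) = 1)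
    (e : ⁅p * v * p⁻¹, a⁆ = 1) :
    z = 1 :=
  mul_inv_eq_one.1 ((evA_eq_tm ((InvI.cons t.1 (InvI.cons t.2.1 (InvI.cons t.2.2.1 (InvI.cons t.2.2.2.1 (InvI.cons t.2.2.2.2.1 InvI.nil))))) : InvI [z, u, v, a, b, p] [(nat_lit 0), (nat_lit 1), (nat_lit 2), (nat_lit 3), (nat_lit 4)]) [(.v (nat_lit 0)), (.v (nat_lit 1)), (.v (nat_lit 2)), (.v (nat_lit 3)), (.v (nat_lit 4)), (.v (nat_lit 5)), (.inv (.v (nat_lit 5)))] [0] (.mul (.v (nat_lit 0)) (.inv .one)) (by decide +kernel)).symm.trans (Subgroup.mem_bot.1 (pc0_0 (pc0_r t h e1 e2 e) (H := ⊥) (List.forall_mem_nil _))))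
noncomputable def pc1_r_R : List (List ℕ) := [[0,0],
  [1,1],
  [2,2],
  [3,3],
  [4,4],
  [5,6],
  [6,5],
  [2,1,2,1],
  [1,0,1,0],
  [2,0,2,0],
  [3,0,3,0],
  [4,0,4,0],
  [3,1,3,1],
  [4,2,4,2],
  [4,3,4,3],
  [1,0,4,1,4],
  [2,0,3,2,3],
  [5,5,5],
  [1,6,0,5],
  [0,1,6,1,5],
  [5,4,5,4],
  [6,2,5,5,2,6,2],
  [6,3,5,5,3,6,3],
  [0,3,6,2,5,3,6,2,5]]
theorem pc1_r {G : Type*} [Group G] {z u v a b p : G}
    (t : QT z u v a b)
    (h : P1 z u b p)
    (e1 : v * (p⁻¹ * v * p) * (p * v * p⁻¹) = 1)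
    (e2 : a * (p⁻¹ * a * p) * (p * a * p⁻¹) = 1)
    (e : ⁅p * v * p⁻¹, a⁆ = z) :
    Rels (nthG [z, u, v, a, b, p, p⁻¹]) pc1_r_R :=
  rels_of_eqs ((InvI.cons t.1 (InvI.cons t.2.1 (InvI.cons t.2.2.1 (InvI.cons t.2.2.2.1 (InvI.cons t.2.2.2.2.1 InvI.nil))))) : InvI [z, u, v, a, b, p] [(nat_lit 0), (nat_lit 1), (nat_lit 2), (nat_lit 3), (nat_lit 4)])
    (AllEq.append (show AllEq [z, u, v, a, b, p] [((.mul (.v (nat_lit 0)) (.v (nat_lit 0))), .one), ((.mul (.v (nat_lit 1)) (.v (nat_lit 1))), .one), ((.mul (.v (nat_lit 2)) (.v (nat_lit 2))), .one), ((.mul (.v (nat_lit 3)) (.v (nat_lit 3))), .one), ((.mul (.v (nat_lit 4)) (.v (nat_lit 4))), .one), ((.mul (.v (nat_lit 1)) (.v (nat_lit 2))), (.mul (.v (nat_lit 2)) (.v (nat_lit 1)))), ((.mul (.v (nat_lit 0)) (.v (nat_lit 1))), (.mul (.v (nat_lit 1)) (.v (nat_lit 0)))), ((.mul (.v (nat_lit 0)) (.v (nat_lit 2))), (.mul (.v (nat_lit 2)) (.v (nat_lit 0)))), ((.mul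 (.v (nat_lit 0)) (.v (nat_lit 3))), (.mul (.v (nat_lit 3)) (.v (nat_lit 0)))), ((.mul (.v (nat_lit 0)) (.v (nat_lit 4))), (.mul (.v (nat_lit 4)) (.v (nat_lit 0)))), ((.mul (.v (nat_lit 1)) (.v (nat_lit 3))), (.mul (.v (nat_lit 3)) (.v (nat_lit 1)))), ((.mul (.v (nat_lit 2)) (.v (nat_lit 4))), (.mul (.v (nat_lit 4)) (.v (nat_lit 2)))), ((.mul (.v (nat_lit 3)) (.v (nat_lit 4))), (.mul (.v (nat_lit 4)) (.v (nat_lit 3)))), ((.mul (.mul (.v (nat_lit 4)) (.v (nat_lit 1))) (.v (nat_lit 4))), (.mul (.v (nat_lit 1)) (.v (nat_lit 0)))), ((.mul (.mul (.v (nat_lit 3)) (.v (nat_lit 2))) (.v (nat_lit 3))), (.mul (.v (nat_lit 2)) (.v (nat_lit 0))))] from t)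
    (AllEq.append (show AllEq [z, u, v, a, b, p] [((.pw (.v (nat_lit 5)) (nat_lit 3)), .one), ((.mul (.mul (.v (nat_lit 5)) (.v (nat_lit 0))) (.inv (.v (nat_lit 5)))), (.v (nat_lit 1))), ((.mul (.mul (.v (nat_lit 5)) (.v (nat_lit 1))) (.inv (.v (nat_lit 5)))), (.mul (.v (nat_lit 0)) (.v (nat_lit 1)))), ((.mul (.mul (.v (nat_lit 4)) (.v (nat_lit 5))) (.v (nat_lit 4))), (.inv (.v (nat_lit 5))))] from h)
    (AllEq.append (show AllEq [z, u, v, a, b, p] [((.mul (.mul (.v (nat_lit 2)) (.mul (.mul (.inv (.v (nat_lit 5))) (.v (nat_lit 2))) (.v (nat_lit 5)))) (.mul (.mul (.v (nat_lit 5)) (.v (nat_lit 2))) (.inv (.v (nat_lit 5))))), .one)] from ⟨e1, trivial⟩)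
    (AllEq.append (show AllEq [z, u, v, a, b, p] [((.mul (.mul (.v (nat_lit 3)) (.mul (.mul (.inv (.v (nat_lit 5))) (.v (nat_lit 3))) (.v (nat_lit 5)))) (.mul (.mul (.v (nat_lit 5)) (.v (nat_lit 3))) (.inv (.v (nat_lit 5))))), .one)] from ⟨e2, trivial⟩)
    (show AllEq [z, u, v, a, b, p] [((.mul (.mul (.mul (.mul (.mul (.v (nat_lit 5)) (.v (nat_lit 2))) (.inv (.v (nat_lit 5)))) (.v (nat_lit 3))) (.inv (.mul (.mul (.v (nat_lit 5)) (.v (nat_lit 2))) (.inv (.v (nat_lit 5)))))) (.inv (.v (nat_lit 3)))), (.v (nat_lit 0)))] from ⟨e, trivial⟩)))))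
    [(.v (nat_lit 0)), (.v (nat_lit 1)), (.v (nat_lit 2)), (.v (nat_lit 3)), (.v (nat_lit 4)), (.v (nat_lit 5)), (.inv (.v (nat_lit 5)))] (by decide +kernel)
noncomputable def pc1_0_S0 : List ℕ := [nat_lit 0x1b00001800601a, nat_lit 0x23000007000010004012, nat_lit 0x27000007000014004014, nat_lit 0x2b00000700001800001c, nat_lit 0x2f00000b00001000400e, nat_lit 0x3700003400601a, nat_lit 0x3b000013000008000024010018, nat_lit 0x4300000d00002b00002000201e, nat_lit 0x4b00000200004400401c, nat_lit 0x4f00001f00002400400e, nat_lit 0x5300001f000028004016, nat_lit 0x5700000600003400001c, nat_lit 0x5b00005800601a, nat_lit 0x5f00000a00004000001c, nat_lit 0x6300000e00004800400e, nat_lit 0x6700001200003800801c, nat_lit 0x6700001200000500005c00c01e, nat_lit 0x6b00002d00005700002500201e, nat_lit 0x6f00003d000042004010, nat_lit 0x6f00001600006c00401c, nat_lit 0x7300001600003300000f000018000048014020, nat_lit 0x7b00007800601a,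 nat_lit 0x7f00003500005f00002900201e, nat_lit 0x8b00005100601a, nat_lit 0x9300003200005700002300002c000064014020, nat_lit 0x9700006100601a, nat_lit 0x9700003a00008c00801c, nat_lit 0x9b00004a000094004012, nat_lit 0x9b00004e00004600004f00001d000088014020, nat_lit 0xa300005600007700003b000040000084014020, nat_lit 0xa700007f000084004012, nat_lit 0xab00005a00005300001d000021000090006022, nat_lit 0xaf0000790000a70000ac00c018, nat_lit 0xb300007500601a, nat_lit 0x6900006600009300005b00001900007c0000a4000085004024, nat_lit 0x9f00005d00008a0000860000760000b0000022, nat_lit 0x6d00007200008700002100009000007d00008100008d00009f004024, nat_lit 0x74000091000093000004, nat_lit 0x3800009600005b00000c, nat_lit 0x1000009a000023000004, nat_lit 0x9e000007000000]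
noncomputable def pc1_0_S : List (List ℕ) := [pc1_0_S0]
noncomputable def pc1_0_defs : List ℕ := [(nat_lit 0x600020003000200030001f0020001f0020001e0030001c0020001b00600018002000160030001200600011002000100020000f0000000f0060000e0050000e0020000d0010000d0000000c0060000b0020000a005000090060000800500008003000070020000700100006002000050000000500500004002000040060000300500003002000020050000100300001002000010010000100600000005000000030000000200000001000000000000000000000)]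
noncomputable def pc1_0_recs : List ℕ := [(nat_lit 0xff0000100000ff0000800003ff000160000dff0001c00024060002b00027030002c0002206000280002c020002a0002b05000230002a000002000029060002000028060002100026000002400026000002200025060002400025060001800024060001c0002206000140001f060001d0001e06000110001c060001a0001b00000160001b06000130001a010001600019000000d00019010001100018010000f00017060001500016010000c0001501000090001401000080001306000100001206000070001003000080000e060000c0000d01000030000b01000050000a000000400009000000300008060000500006)]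
noncomputable def pc1_0_T : List (List ℕ × ℕ) := [([0], (nat_lit 0xa1))]
noncomputable def pc1_0_D : H26.Dag := ⟨[0,1,2,3,4,6,5], [[0,0],
  [1,1],
  [2,2],
  [3,3],
  [4,4],
  [5,6],
  [6,5],
  [2,1,2,1],
  [1,0,1,0],
  [2,0,2,0],
  [3,0,3,0],
  [3,1,3,1],
  [2,0,3,2,3],
  [5,5,5],
  [1,6,0,5],
  [0,1,6,1,5],
  [6,2,5,5,2,6,2],
  [6,3,5,5,3,6,3],
  [0,3,6,2,5,3,6,2,5]], [], pc1_0_defs, pc1_0_recs⟩
theorem pc1_0_c : pc1_0_D.check pc1_0_S pc1_0_T = true := by decide +kernel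
theorem pc1_0 {G : Type*} [Group G] {g : ℕ → G} (hR : Rels g pc1_r_R) {H : Subgroup G}
    (hH : ∀ k ∈ [], g k ∈ H) : evA g [0] ∈ H :=
  mem_dag (K := 7) (J := [0,1,2,3,4,5,6,7,8,9,10,12,16,17,18,19,21,22,23]) (D := pc1_0_D) (by decide +kernel) pc1_0_c (by decide +kernel) hR hH
theorem pc1 {G : Type*} [Group G] {z u v a b p : G}
    (t : QT z u v a b)
    (h : P1 z u b p)
    (e1 : v * (p⁻¹ * v * p) * (p * v * p⁻¹) = 1)
    (e2 : a * (p⁻¹ * a * p) * (p * a * p⁻¹) = 1)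
    (e : ⁅p * v * p⁻¹, a⁆ = z) :
    z = 1 :=
  mul_inv_eq_one.1 ((evA_eq_tm ((InvI.cons t.1 (InvI.cons t.2.1 (InvI.cons t.2.2.1 (InvI.cons t.2.2.2.1 (InvI.cons t.2.2.2.2.1 InvI.nil))))) : InvI [z, u, v, a, b, p] [(nat_lit 0), (nat_lit 1), (nat_lit 2), (nat_lit 3), (nat_lit 4)]) [(.v (nat_lit 0)), (.v (nat_lit 1)), (.v (nat_lit 2)), (.v (nat_lit 3)), (.v (nat_lit 4)), (.v (nat_lit 5)), (.inv (.v (nat_lit 5)))] [0] (.mul (.v (nat_lit 0)) (.inv .one)) (by decide +kernel)).symm.trans (Subgroup.mem_bot.1 (pc1_0 (pc1_r t h e1 e2 e) (H := ⊥) (List.forall_mem_nil _))))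
noncomputable def pc2_r_R : List (List ℕ) := [[0,0],
  [1,1],
  [2,2],
  [3,3],
  [4,4],
  [5,6],
  [6,5],
  [2,1,2,1],
  [1,0,1,0],
  [2,0,2,0],
  [3,0,3,0],
  [4,0,4,0],
  [3,1,3,1],
  [4,2,4,2],
  [4,3,4,3],
  [1,0,4,1,4],
  [2,0,3,2,3],
  [5,5,5],
  [1,6,0,5],
  [0,1,6,1,5],
  [5,4,5,4],
  [6,2,5,5,2,6,2],
  [6,3,5,5,3,6,3],
  [1,3,6,2,5,3,6,2,5]]
theorem pc2_r {G : Type*} [Group G] {z u v a b p : G}
    (t : QT z u v a b)
    (h : P1 z u b p)
    (e1 : v * (p⁻¹ * v * p) * (p * v * p⁻¹) = 1)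
    (e2 : a * (p⁻¹ * a * p) * (p * a * p⁻¹) = 1)
    (e : ⁅p * v * p⁻¹, a⁆ = u) :
    Rels (nthG [z, u, v, a, b, p, p⁻¹]) pc2_r_R :=
  rels_of_eqs ((InvI.cons t.1 (InvI.cons t.2.1 (InvI.cons t.2.2.1 (InvI.cons t.2.2.2.1 (InvI.cons t.2.2.2.2.1 InvI.nil))))) : InvI [z, u, v, a, b, p] [(nat_lit 0), (nat_lit 1), (nat_lit 2), (nat_lit 3), (nat_lit 4)])
    (AllEq.append (show AllEq [z, u, v, a, b, p] [((.mul (.v (nat_lit 0)) (.v (nat_lit 0))), .one), ((.mul (.v (nat_lit 1)) (.v (nat_lit 1))), .one), ((.mul (.v (nat_lit 2)) (.v (nat_lit 2))), .one), ((.mul (.v (nat_lit 3)) (.v (nat_lit 3))), .one), ((.mul (.v (nat_lit 4)) (.v (nat_lit 4))), .one), ((.mul (.v (nat_lit 1)) (.v (nat_lit 2))), (.mul (.v (nat_lit 2)) (.v (nat_lit 1)))), ((.mul (.v (nat_lit 0)) (.v (nat_lit 1))), (.mul (.v (nat_lit 1)) (.v (nat_lit 0)))), ((.mul (.v (nat_lit 0)) (.v (nat_lit 2))), (.mul (.v (nat_lit 2)) (.v (nat_lit 0)))), ((.mul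 (.v (nat_lit 0)) (.v (nat_lit 3))), (.mul (.v (nat_lit 3)) (.v (nat_lit 0)))), ((.mul (.v (nat_lit 0)) (.v (nat_lit 4))), (.mul (.v (nat_lit 4)) (.v (nat_lit 0)))), ((.mul (.v (nat_lit 1)) (.v (nat_lit 3))), (.mul (.v (nat_lit 3)) (.v (nat_lit 1)))), ((.mul (.v (nat_lit 2)) (.v (nat_lit 4))), (.mul (.v (nat_lit 4)) (.v (nat_lit 2)))), ((.mul (.v (nat_lit 3)) (.v (nat_lit 4))), (.mul (.v (nat_lit 4)) (.v (nat_lit 3)))), ((.mul (.mul (.v (nat_lit 4)) (.v (nat_lit 1))) (.v (nat_lit 4))), (.mul (.v (nat_lit 1)) (.v (nat_lit 0)))), ((.mul (.mul (.v (nat_lit 3)) (.v (nat_lit 2))) (.v (nat_lit 3))), (.mul (.v (nat_lit 2)) (.v (nat_lit 0))))] from t)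
    (AllEq.append (show AllEq [z, u, v, a, b, p] [((.pw (.v (nat_lit 5)) (nat_lit 3)), .one), ((.mul (.mul (.v (nat_lit 5)) (.v (nat_lit 0))) (.inv (.v (nat_lit 5)))), (.v (nat_lit 1))), ((.mul (.mul (.v (nat_lit 5)) (.v (nat_lit 1))) (.inv (.v (nat_lit 5)))), (.mul (.v (nat_lit 0)) (.v (nat_lit 1)))), ((.mul (.mul (.v (nat_lit 4)) (.v (nat_lit 5))) (.v (nat_lit 4))), (.inv (.v (nat_lit 5))))] from h)
    (AllEq.append (show AllEq [z, u, v, a, b, p] [((.mul (.mul (.v (nat_lit 2)) (.mul (.mul (.inv (.v (nat_lit 5))) (.v (nat_lit 2))) (.v (nat_lit 5)))) (.mul (.mul (.v (nat_lit 5)) (.v (nat_lit 2))) (.inv (.v (nat_lit 5))))), .one)] from ⟨e1, trivial⟩)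
    (AllEq.append (show AllEq [z, u, v, a, b, p] [((.mul (.mul (.v (nat_lit 3)) (.mul (.mul (.inv (.v (nat_lit 5))) (.v (nat_lit 3))) (.v (nat_lit 5)))) (.mul (.mul (.v (nat_lit 5)) (.v (nat_lit 3))) (.inv (.v (nat_lit 5))))), .one)] from ⟨e2, trivial⟩)
    (show AllEq [z, u, v, a, b, p] [((.mul (.mul (.mul (.mul (.mul (.v (nat_lit 5)) (.v (nat_lit 2))) (.inv (.v (nat_lit 5)))) (.v (nat_lit 3))) (.inv (.mul (.mul (.v (nat_lit 5)) (.v (nat_lit 2))) (.inv (.v (nat_lit 5)))))) (.inv (.v (nat_lit 3)))), (.v (nat_lit 1)))] from ⟨e, trivial⟩)))))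
    [(.v (nat_lit 0)), (.v (nat_lit 1)), (.v (nat_lit 2)), (.v (nat_lit 3)), (.v (nat_lit 4)), (.v (nat_lit 5)), (.inv (.v (nat_lit 5)))] (by decide +kernel)
noncomputable def pc2_0_S0 : List ℕ := [nat_lit 0xf00000b00000700c00e, nat_lit 0x1700001300000200c010, nat_lit 0x1b000007000005008012, nat_lit 0x2300001f000005008014, nat_lit 0x2b000027000005008016, nat_lit 0x2f000027000008008018, nat_lit 0x3300002700002000801a, nat_lit 0x3700001b00000700002000c01c, nat_lit 0x3f00003b00801e, nat_lit 0x43000002000021008020, nat_lit 0x4700001800000600002100c022, nat_lit 0x4b00003b000028008024, nat_lit 0x5b00005700005300004f000022000008014026, nat_lit 0x5f00001c000038004014, nat_lit 0x2300001d000035000012, nat_lit 0x6300001600006000801a, nat_lit 0x67000032000015008024, nat_lit 0x6f00001700001300004400c022, nat_lit 0x2a00002500004500c010, nat_lit 0x7700001200000d00801a, nat_lit 0x1a00002400004d00c016, nat_lit 0x3e00003900004d00c018,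 nat_lit 0x7b00007000401e, nat_lit 0x4000002900004a00005900c022, nat_lit 0x7f00007b000011008024, nat_lit 0x8f00008b00008700008300006f000009014026, nat_lit 0xa300009f00009b00009700006b000038014028, nat_lit 0xaf0000ab0000a700007300001f00003c010028, nat_lit 0xbf0000bb0000b70000b300002e000034014028, nat_lit 0x73000019000071002024, nat_lit 0xc00000750000a800801a, nat_lit 0xab0000790000bb00c024, nat_lit 0xcf0000cb0000c70000c3000062000078014028, nat_lit 0x72000052000081000020, nat_lit 0xdf0000db0000d70000d3000042000064014028, nat_lit 0xbc0000c00000860000820000550000890000df0000db00c02a, nat_lit 0xe300006a00801e, nat_lit 0xef0000eb0000e7000092000037000065010028, nat_lit 0xb000006e00005e00007b0000090000650000950000ef00c02a, nat_lit 0x9900007e00008e008018, nat_lit 0xd800009d0000f000a024, nat_lit 0x930000950000a10000d300c01a, nat_lit 0x680000a5000093000008, nat_lit 0x310000aa00006600000a, nat_lit 0x80000ae00000a000004,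 nat_lit 0xb2000006000000]
noncomputable def pc2_0_S : List (List ℕ) := [pc2_0_S0]
noncomputable def pc2_0_defs : List ℕ := [(nat_lit 0x50003a005000390030003800500028003000360050003500500034003000190030003200500031005000300030001f0030002e0050002d0050002c003000120050002a005000290030001c0030002700500026005000250030001a004000230020002200500021005000200020001b0040001e005000050030000a006000070060000500600006004000160030000b003000010020001500500014005000130020000f0040000e00600004006000030050000e005000000030000600300009002000090000000900400000000000070030000000000001001000040000000300200002001000010020000000000000)]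
noncomputable def pc2_0_recs : List ℕ := [(nat_lit 0xff0000500000ff0000600001ff0002300016ff0001900024040003b0003404000350003a020003a0002a03000230003b050000d0003802000350002d06000180003701000330002f060001d00033040002d0002a04000290002e040002f0001c060000c0002f030000e0002b060000d00028060000600023050000a0001f010001e0000e050001b0001e020001d00018000001d0000c04000080001d000001b0001101000100001b050000b00019040001700018020001700008000000d00017060000100016050000900012010000f00011000000f0001005000000000f02000070000d04000070000c04000010000b04000050000a030000500008020000500006000000000005010000000003)]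
noncomputable def pc2_0_T : List (List ℕ × ℕ) := [([0], (nat_lit 0xb5))]
noncomputable def pc2_0_D : H26.Dag := ⟨[0,1,2,3,4,6,5], [[0,0],
  [1,1],
  [2,2],
  [3,3],
  [4,4],
  [5,6],
  [6,5],
  [2,1,2,1],
  [1,0,1,0],
  [2,0,2,0],
  [3,0,3,0],
  [4,0,4,0],
  [4,2,4,2],
  [4,3,4,3],
  [2,0,3,2,3],
  [5,5,5],
  [1,6,0,5],
  [0,1,6,1,5],
  [5,4,5,4],
  [6,2,5,5,2,6,2],
  [6,3,5,5,3,6,3],
  [1,3,6,2,5,3,6,2,5]], [], pc2_0_defs, pc2_0_recs⟩
theorem pc2_0_c : pc2_0_D.check pc2_0_S pc2_0_T = true := by decide +kernel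
theorem pc2_0 {G : Type*} [Group G] {g : ℕ → G} (hR : Rels g pc2_r_R) {H : Subgroup G}
    (hH : ∀ k ∈ [], g k ∈ H) : evA g [0] ∈ H :=
  mem_dag (K := 7) (J := [0,1,2,3,4,5,6,7,8,9,10,11,13,14,16,17,18,19,20,21,22,23]) (D := pc2_0_D) (by decide +kernel) pc2_0_c (by decide +kernel) hR hH
theorem pc2 {G : Type*} [Group G] {z u v a b p : G}
    (t : QT z u v a b)
    (h : P1 z u b p)
    (e1 : v * (p⁻¹ * v * p) * (p * v * p⁻¹) = 1)
    (e2 : a * (p⁻¹ * a * p) * (p * a * p⁻¹) = 1)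
    (e : ⁅p * v * p⁻¹, a⁆ = u) :
    z = 1 :=
  mul_inv_eq_one.1 ((evA_eq_tm ((InvI.cons t.1 (InvI.cons t.2.1 (InvI.cons t.2.2.1 (InvI.cons t.2.2.2.1 (InvI.cons t.2.2.2.2.1 InvI.nil))))) : InvI [z, u, v, a, b, p] [(nat_lit 0), (nat_lit 1), (nat_lit 2), (nat_lit 3), (nat_lit 4)]) [(.v (nat_lit 0)), (.v (nat_lit 1)), (.v (nat_lit 2)), (.v (nat_lit 3)), (.v (nat_lit 4)), (.v (nat_lit 5)), (.inv (.v (nat_lit 5)))] [0] (.mul (.v (nat_lit 0)) (.inv .one)) (by decide +kernel)).symm.trans (Subgroup.mem_bot.1 (pc2_0 (pc2_r t h e1 e2 e) (H := ⊥) (List.forall_mem_nil _))))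
theorem pc {G : Type*} [Group G] {z u v a b p : G}
    (t : QT z u v a b)
    (h : P1 z u b p)
    (e1 : v * (p⁻¹ * v * p) * (p * v * p⁻¹) = 1)
    (e2 : a * (p⁻¹ * a * p) * (p * a * p⁻¹) = 1) (z1 : z ≠ 1)
    (hc : ⁅p * v * p⁻¹, a⁆ = 1 ∨ ⁅p * v * p⁻¹, a⁆ = z ∨ ⁅p * v * p⁻¹, a⁆ = u ∨ ⁅p * v * p⁻¹, a⁆ = z * u) :
    ⁅p * v * p⁻¹, a⁆ = z * u := by
  rcases hc with e | e | e | e
  exacts [(z1 (pc0 t h e1 e2 e)).elim,
    (z1 (pc1 t h e1 e2 e)).elim,
    (z1 (pc2 t h e1 e2 e)).elim,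
    e]
noncomputable def NV_r_R : List (List ℕ) := [[0,0],
  [1,1],
  [2,2],
  [3,3],
  [4,4],
  [5,6],
  [6,5],
  [2,1,2,1],
  [1,0,1,0],
  [2,0,2,0],
  [3,0,3,0],
  [4,0,4,0],
  [3,1,3,1],
  [4,2,4,2],
  [4,3,4,3],
  [1,0,4,1,4],
  [2,0,3,2,3],
  [5,5,5],
  [1,6,0,5],
  [0,1,6,1,5],
  [5,4,5,4],
  [6,2,5,5,2,6,2],
  [6,3,5,5,3,6,3],
  [0,1,3,6,2,5,3,6,2,5]]
theorem NV_r {G : Type*} [Group G] {z u v a b p : G}
    (t : QT z u v a b)
    (h : P1 z u b p)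
    (e1 : v * (p⁻¹ * v * p) * (p * v * p⁻¹) = 1)
    (e2 : a * (p⁻¹ * a * p) * (p * a * p⁻¹) = 1)
    (e3 : ⁅p * v * p⁻¹, a⁆ = z * u) :
    Rels (nthG [z, u, v, a, b, p, p⁻¹]) NV_r_R :=
  rels_of_eqs ((InvI.cons t.1 (InvI.cons t.2.1 (InvI.cons t.2.2.1 (InvI.cons t.2.2.2.1 (InvI.cons t.2.2.2.2.1 InvI.nil))))) : InvI [z, u, v, a, b, p] [(nat_lit 0), (nat_lit 1), (nat_lit 2), (nat_lit 3), (nat_lit 4)])
    (AllEq.append (show AllEq [z, u, v, a, b, p] [((.mul (.v (nat_lit 0)) (.v (nat_lit 0))), .one), ((.mul (.v (nat_lit 1)) (.v (nat_lit 1))), .one), ((.mul (.v (nat_lit 2)) (.v (nat_lit 2))), .one), ((.mul (.v (nat_lit 3)) (.v (nat_lit 3))), .one), ((.mul (.v (nat_lit 4)) (.v (nat_lit 4))), .one), ((.mul (.v (nat_lit 1)) (.v (nat_lit 2))), (.mul (.v (nat_lit 2)) (.v (nat_lit 1)))), ((.mul (.v (nat_lit 0)) (.v (nat_lit 1))), (.mul (.v (nat_lit 1)) (.v (nat_lit 0)))), ((.mul (.v (nat_lit 0)) (.v (nat_lit 2))),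 (.mul (.v (nat_lit 2)) (.v (nat_lit 0)))), ((.mul (.v (nat_lit 0)) (.v (nat_lit 3))), (.mul (.v (nat_lit 3)) (.v (nat_lit 0)))), ((.mul (.v (nat_lit 0)) (.v (nat_lit 4))), (.mul (.v (nat_lit 4)) (.v (nat_lit 0)))), ((.mul (.v (nat_lit 1)) (.v (nat_lit 3))), (.mul (.v (nat_lit 3)) (.v (nat_lit 1)))), ((.mul (.v (nat_lit 2)) (.v (nat_lit 4))), (.mul (.v (nat_lit 4)) (.v (nat_lit 2)))), ((.mul (.v (nat_lit 3)) (.v (nat_lit 4))), (.mul (.v (nat_lit 4)) (.v (nat_lit 3)))), ((.mul (.mul (.v (nat_lit 4)) (.v (nat_lit 1))) (.v (nat_lit 4))), (.mul (.v (nat_lit 1)) (.v (nat_lit 0)))), ((.mul (.mul (.v (nat_lit 3)) (.v (nat_lit 2))) (.v (nat_lit 3))), (.mul (.v (nat_lit 2)) (.v (nat_lit 0))))] from t)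
    (AllEq.append (show AllEq [z, u, v, a, b, p] [((.pw (.v (nat_lit 5)) (nat_lit 3)), .one), ((.mul (.mul (.v (nat_lit 5)) (.v (nat_lit 0))) (.inv (.v (nat_lit 5)))), (.v (nat_lit 1))), ((.mul (.mul (.v (nat_lit 5)) (.v (nat_lit 1))) (.inv (.v (nat_lit 5)))), (.mul (.v (nat_lit 0)) (.v (nat_lit 1)))), ((.mul (.mul (.v (nat_lit 4)) (.v (nat_lit 5))) (.v (nat_lit 4))), (.inv (.v (nat_lit 5))))] from h)
    (AllEq.append (show AllEq [z, u, v, a, b, p] [((.mul (.mul (.v (nat_lit 2)) (.mul (.mul (.inv (.v (nat_lit 5))) (.v (nat_lit 2))) (.v (nat_lit 5)))) (.mul (.mul (.v (nat_lit 5)) (.v (nat_lit 2))) (.inv (.v (nat_lit 5))))), .one)] from ⟨e1, trivial⟩)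
    (AllEq.append (show AllEq [z, u, v, a, b, p] [((.mul (.mul (.v (nat_lit 3)) (.mul (.mul (.inv (.v (nat_lit 5))) (.v (nat_lit 3))) (.v (nat_lit 5)))) (.mul (.mul (.v (nat_lit 5)) (.v (nat_lit 3))) (.inv (.v (nat_lit 5))))), .one)] from ⟨e2, trivial⟩)
    (show AllEq [z, u, v, a, b, p] [((.mul (.mul (.mul (.mul (.mul (.v (nat_lit 5)) (.v (nat_lit 2))) (.inv (.v (nat_lit 5)))) (.v (nat_lit 3))) (.inv (.mul (.mul (.v (nat_lit 5)) (.v (nat_lit 2))) (.inv (.v (nat_lit 5)))))) (.inv (.v (nat_lit 3)))), (.mul (.v (nat_lit 0)) (.v (nat_lit 1))))] from ⟨e3, trivial⟩)))))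
    [(.v (nat_lit 0)), (.v (nat_lit 1)), (.v (nat_lit 2)), (.v (nat_lit 3)), (.v (nat_lit 4)), (.v (nat_lit 5)), (.inv (.v (nat_lit 5)))] (by decide +kernel)
noncomputable abbrev NV_o : Ops := pops (nat_lit 16) (nat_lit 4) (nat_lit 15) (nat_lit 0xfedcba9876543210)
noncomputable def NV_cs : List ℕ := [(nat_lit 0xef9bc7d5a2834601), (nat_lit 0xcb8fe45d319a7062), (nat_lit 0xd9f856ec2ab10743), (nat_lit 0xefdbc3984157a062), (nat_lit 0xfedbc6952a801734), (nat_lit 0xfc6bed108a259437), (nat_lit 0xfbaec6370d421598)]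
noncomputable def NV_L : List (List ℕ) := [[(nat_lit 0xfedcba9876543210), (nat_lit 0xef9bc7d5a2834601), (nat_lit 0xcb8fe45d319a7062), (nat_lit 0xd9f856ec2ab10743), (nat_lit 0xfedbc6952a801734), (nat_lit 0xfc6bed108a259437), (nat_lit 0xfbaec6370d421598), (nat_lit 0xbc5ef38940d7a126), (nat_lit 0xbf3ce0a465712d89), (nat_lit 0xec7fb24a193608d5), (nat_lit 0xd9e851fb03c6247a), (nat_lit 0xce4bf17328a0695d), (nat_lit 0xd5698a023f174bec), (nat_lit 0x5d089361ab247fce), (nat_lit 0x982d57164e0a3cfb), (nat_lit 0x8915d4207c63aebf)],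
  [(nat_lit 0xfedcba9876543210), (nat_lit 0xbc8ef75da6934210), (nat_lit 0x8d495ca7f13eb620), (nat_lit 0x74ea39cf82bd5160), (nat_lit 0x3af478be92c5d160), (nat_lit 0xec3bfda751489260), (nat_lit 0xd8359e7ab14cf620), (nat_lit 0xcb9fe3d54687a210), (nat_lit 0xef5bc48936da7210), (nat_lit 0x597d8f34c1abe620), (nat_lit 0x95a8db43e17fc620), (nat_lit 0x47b3adfc52e98160)],
  [(nat_lit 0xfedcba9876543210), (nat_lit 0x9de857fca2b43610)]]
noncomputable def NV_WW : List (List (List ℕ)) := [[[],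
  [(nat_lit 0)],
  [(nat_lit 1)],
  [(nat_lit 2)],
  [(nat_lit 4)],
  [(nat_lit 5)],
  [(nat_lit 6)],
  [(nat_lit 0), (nat_lit 1)],
  [(nat_lit 0), (nat_lit 6)],
  [(nat_lit 1), (nat_lit 6)],
  [(nat_lit 2), (nat_lit 3)],
  [(nat_lit 6), (nat_lit 1)],
  [(nat_lit 6), (nat_lit 2)],
  [(nat_lit 0), (nat_lit 6), (nat_lit 2)],
  [(nat_lit 1), (nat_lit 6), (nat_lit 2)],
  [(nat_lit 6), (nat_lit 1), (nat_lit 2)]],
  [[],
  [(nat_lit 1), (nat_lit 3)],
  [(nat_lit 0), (nat_lit 5), (nat_lit 2)],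
  [(nat_lit 1), (nat_lit 2), (nat_lit 6)],
  [(nat_lit 3), (nat_lit 2), (nat_lit 6)],
  [(nat_lit 4), (nat_lit 6), (nat_lit 3)],
  [(nat_lit 5), (nat_lit 2), (nat_lit 3)],
  [(nat_lit 6), (nat_lit 3), (nat_lit 5)],
  [(nat_lit 1), (nat_lit 5), (nat_lit 3), (nat_lit 6)],
  [(nat_lit 3), (nat_lit 5), (nat_lit 0), (nat_lit 2)],
  [(nat_lit 0), (nat_lit 3), (nat_lit 5), (nat_lit 3), (nat_lit 2)],
  [(nat_lit 1), (nat_lit 2), (nat_lit 3), (nat_lit 6), (nat_lit 3)]],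
  [[],
  [(nat_lit 0), (nat_lit 2), (nat_lit 4)]]]
noncomputable def NV_b3_S0 : List ℕ := [nat_lit 0x1300000700000c004008, nat_lit 0x1700000700001000400a, nat_lit 0x1b00000b000010004006, nat_lit 0x1f000013000018004006, nat_lit 0x1f00000200001c00400a]
noncomputable def NV_b3_S : List (List ℕ) := [NV_b3_S0]
noncomputable def NV_b3_defs : List ℕ := [(nat_lit 0x20000400200002002000010010000100200000001000000000000000000000)]
noncomputable def NV_b3_recs : List ℕ := [(nat_lit 0x600007010000500007010000300006000000300005000000200004)]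
noncomputable def NV_b3_L0 : List ℕ := [nat_lit 0x700000100000b00000200000f000003, nat_lit 0x8000000000013000004000017000005, nat_lit 0x200000400000c00000000001b000006, nat_lit 0x600000500000a000006000010000000, nat_lit 0x100000200001400000100001f000007, nat_lit 0x500000300000e000007000018000001, nat_lit 0x1200000700000900000300001c000002, nat_lit 0x1100000600000d000005000020000004]
noncomputable def NV_b3_L : List (List ℕ) := [NV_b3_L0]
noncomputable def NV_b3_V : List ℕ := [(nat_lit 0x700000006000000050000000400000003000000020000000100000000)]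
noncomputable def NV_b3_D : H26.Dag := ⟨[], [[0,0],
  [1,1],
  [2,2],
  [2,1,2,1],
  [1,0,1,0],
  [2,0,2,0]], [], NV_b3_defs, NV_b3_recs⟩
theorem NV_b3_c : NV_b3_D.checkTab NV_b3_S 8 3 NV_b3_V NV_b3_L = true := by decide +kernel
theorem NV_b3 : Bound NV_r_R 3 8 :=
  bound_dag (Bound.zero NV_r_R) (K := 3) (J := [0,1,2,7,8,9]) (by decide +kernel) NV_b3_c (by decide +kernel)
noncomputable def NV_b5_S0 : List ℕ := [nat_lit 0x1, nat_lit 0x1, nat_lit 0x1, nat_lit 0x700000100000800400a, nat_lit 0x700000500000800400e, nat_lit 0x700000100000900000800c016, nat_lit 0xb00000100000c00400c, nat_lit 0xb00000900000c004010, nat_lit 0xb00000100000500000c00c014, nat_lit 0xf00000d00001000400c, nat_lit 0xf000015000010004010, nat_lit 0xf00000700000c004012, nat_lit 0xf00000d00001100001000c014]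
noncomputable def NV_b5_S : List (List ℕ) := [NV_b5_S0]
noncomputable def NV_b5_defs : List ℕ := [(nat_lit 0x400001004000000030000000000000)]
noncomputable def NV_b5_recs : List ℕ := [(nat_lit 0x10000300003030000200003020000300003000000300003010000200002020000200002000000200002020000100001010000100001000000100001020000000000010000000000000000000000)]
noncomputable def NV_b5_L0 : List ℕ := [nat_lit 0x100000000000500000000000900000000000700000100000b000002, nat_lit 0xd00000100001100000100001500000100000800000000000f000003, nat_lit 0x1900000200002100000200001d00000200002e00000300000c000000, nat_lit 0x2500000300003100000300002900000300002d000002000010000001]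
noncomputable def NV_b5_L : List (List ℕ) := [NV_b5_L0]
noncomputable def NV_b5_V : List ℕ := [(nat_lit 0x3000000020000000100000000)]
noncomputable def NV_b5_D : H26.Dag := ⟨[], [[0,0],
  [1,1],
  [2,2],
  [3,3],
  [4,4],
  [3,0,3,0],
  [4,0,4,0],
  [3,1,3,1],
  [4,2,4,2],
  [4,3,4,3],
  [1,0,4,1,4],
  [2,0,3,2,3]], [0,1,2], NV_b5_defs, NV_b5_recs⟩
theorem NV_b5_c : NV_b5_D.checkTab NV_b5_S 4 5 NV_b5_V NV_b5_L = true := by decide +kernel
theorem NV_b5 : Bound NV_r_R 5 32 :=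
  bound_dag NV_b3 (K := 5) (J := [0,1,2,3,4,10,11,12,13,14,15,16]) (by decide +kernel) NV_b5_c (by decide +kernel)
noncomputable def NV_b7_S0 : List ℕ := [nat_lit 0x1, nat_lit 0x1, nat_lit 0x1, nat_lit 0x1, nat_lit 0x1, nat_lit 0x700000100000800001e, nat_lit 0x7000005000008000015000020, nat_lit 0xb00000800601c, nat_lit 0xb00000500000c00801e, nat_lit 0xb00001100000800a022, nat_lit 0xb00000500000100000c00c020, nat_lit 0xf00001500001000400e, nat_lit 0xf000019000010004010, nat_lit 0x13000019000014004012, nat_lit 0x13000015000014004014, nat_lit 0x1700002900001800400e, nat_lit 0x17000021000018004010, nat_lit 0x17000026000010008016, nat_lit 0x1700001e000007000009000008000010014024, nat_lit 0x1b00002100001c004012, nat_lit 0x1b00002900001c004014, nat_lit 0x1b000026000014008018, nat_lit 0x1b00001e00000700000d000008000014014026, nat_lit 0x1f000031000020004012, nat_lit 0x1f00002d000020004014, nat_lit 0x1f00003100000f00001400c01a,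 nat_lit 0x2300004900601c, nat_lit 0x2300002d00002400801e, nat_lit 0x2300004500006900a022, nat_lit 0x2300002d00003100002400c020, nat_lit 0x2300000f00001d00001800004a000024004024, nat_lit 0x7500006d00006a00001700000b00000d00000c000018000069008028, nat_lit 0x2700005900601c, nat_lit 0x2700003900002800801e, nat_lit 0x2700005500008100a022, nat_lit 0x2700003900003500002800c020, nat_lit 0x2700001300001d00001c00005a000028004026, nat_lit 0x27000013000015000019000007000009000008000014000028010028, nat_lit 0x2b00004100002c004012, nat_lit 0x2b00003d00002c004014, nat_lit 0x2b000046000020008018, nat_lit 0x2b00004100001700001c00c01a, nat_lit 0x2b00004a00002400007d000023000020014026, nat_lit 0x2f0000a900601c, nat_lit 0x2f00006100003000801e, nat_lit 0x2f0000a10000ad00a022, nat_lit 0x2f00006100005d00003000c020, nat_lit 0x2f0000660000590000a50000aa000030004024, nat_lit 0x2f00001f00004900002c0000aa000030004026]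
noncomputable def NV_b7_S : List (List ℕ) := [NV_b7_S0]
noncomputable def NV_b7_defs : List ℕ := [(nat_lit 0x6000070030000500600004006000030030000300300002002000020030000100200001006000000050000000000000)]
noncomputable def NV_b7_recs : List ℕ := [(nat_lit 0x30000b0000b020000b0000b010000b0000b040000b0000b000000b0000b060000a0000b06000070000a02000060000a04000070000a010000a0000a000000a0000a020000900009030000900009010000900009040000900009000000900009060000600009030000800008020000800008010000800008040000800008000000800008060000500008020000400007010000700007000000700007060000400006040000400006010000600006000000600006060000300005040000300005000000500005010000500005010000400004000000400004000000300003010000300003010000200002040000100002000000200002060000100002000000100001010000100001040000000000030000000000020000000000010000000000000000000000)]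
noncomputable def NV_b7_L0 : List ℕ := [nat_lit 0x100000000000500000000000900000000000d00000000001100000000000700000100000b000002, nat_lit 0x1900000100001500000100000f00000300001300000400002600000200001e000002000008000000, nat_lit 0x2100000200002900000200001700000500001b00000600002500000100000c00000000001d000001, nat_lit 0x3100000300002d00000300001000000100001f00000700004600000500004a000005000023000008, nat_lit 0x3500000400003900000400006600000700001400000100005600000600005a000006000027000009, nat_lit 0x4100000500003d00000500001800000200002b00000a00004500000300006a000008000049000003, nat_lit 0x4d0000060000510000060000a600000a00001c000002000055000004000082000009000059000004, nat_lit 0x5d0000070000610000070000650000040000200000030000a200000a0000aa00000a00002f00000b, nat_lit 0x6d00000800007500000800007900000800007d000008000071000008000024000003000069000005, nat_lit 0x8500000900008d000009000095000009000091000009000089000009000028000004000081000006,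 nat_lit 0x9900000a00009d00000a0000a500000600002c0000050000a10000070000ae00000b0000a9000007, nat_lit 0xb100000b0000b900000b0000bd00000b0000c100000b0000b500000b0000300000070000ad00000a]
noncomputable def NV_b7_L : List (List ℕ) := [NV_b7_L0]
noncomputable def NV_b7_V : List ℕ := [(nat_lit 0xb0000000a00000009000000080000000700000006000000050000000400000003000000020000000100000000)]
noncomputable def NV_b7_D : H26.Dag := ⟨[0,1,2,3,4,6,5], [[0,0],
  [1,1],
  [2,2],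
  [3,3],
  [4,4],
  [5,6],
  [6,5],
  [2,1,2,1],
  [2,0,2,0],
  [3,0,3,0],
  [3,1,3,1],
  [4,2,4,2],
  [4,3,4,3],
  [2,0,3,2,3],
  [5,5,5],
  [1,6,0,5],
  [0,1,6,1,5],
  [5,4,5,4],
  [6,2,5,5,2,6,2],
  [6,3,5,5,3,6,3],
  [0,1,3,6,2,5,3,6,2,5]], [0,1,2,3,4], NV_b7_defs, NV_b7_recs⟩
theorem NV_b7_c : NV_b7_D.checkTab NV_b7_S 12 7 NV_b7_V NV_b7_L = true := by decide +kernel
theorem NV_b7 : Bound NV_r_R 7 384 :=
  bound_dag NV_b5 (K := 7) (J := [0,1,2,3,4,5,6,7,9,10,12,13,14,16,17,18,19,20,21,22,23]) (by decide +kernel) NV_b7_c (by decide +kernel)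
theorem NV_P : PModel (nat_lit 16) (nat_lit 4) (nat_lit 15) (nat_lit 0xfedcba9876543210) NV_cs NV_r_R NV_L 384 :=
  ⟨PkOK.of (by decide +kernel), by decide +kernel, by decide +kernel, NV_b7, ⟨NV_WW, by decide +kernel⟩,
    ⟨fun c => Nat.mod c (nat_lit 21178), by decide +kernel⟩⟩
noncomputable def NV_soc_t0 : ST := (.node (nat_lit 45467) (.node (nat_lit 22251) (.node (nat_lit 11099) (.node (nat_lit 5982) (.node (nat_lit 2213) (.node (nat_lit 898) (.node (nat_lit 635) (.node (nat_lit 203) (.leaf (nat_lit 1)) (.leaf (nat_lit 2))) (.node (nat_lit 809) (.leaf (nat_lit 192)) (.leaf (nat_lit 32)))) (.node (nat_lit 1306) (.node (nat_lit 1212) (.leaf (nat_lit 2)) (.leaf (nat_lit 3))) (.node (nat_lit 1694) (.leaf (nat_lit 2)) (.node (nat_lit 1735) (.leaf (nat_lit 3)) (.leaf (nat_lit 192)))))) (.node (nat_lit 4345) (.node (nat_lit 3186) (.node (nat_lit 3097) (.leaf (nat_lit 2)) (.leaf (nat_lit 32))) (.node (nat_lit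 3417) (.leaf (nat_lit 2)) (.node (nat_lit 4080) (.leaf (nat_lit 32)) (.leaf (nat_lit 1))))) (.node (nat_lit 4652) (.node (nat_lit 4504) (.leaf (nat_lit 192)) (.leaf (nat_lit 1))) (.node (nat_lit 5039) (.leaf (nat_lit 192)) (.node (nat_lit 5587) (.leaf (nat_lit 160)) (.leaf (nat_lit 3))))))) (.node (nat_lit 8290) (.node (nat_lit 7786) (.node (nat_lit 6592) (.node (nat_lit 6388) (.leaf (nat_lit 2)) (.leaf (nat_lit 1))) (.node (nat_lit 7689) (.leaf (nat_lit 2)) (.leaf (nat_lit 160)))) (.node (nat_lit 8027) (.node (nat_lit 7961) (.leaf (nat_lit 2)) (.leaf (nat_lit 1))) (.node (nat_lit 8186) (.leaf (nat_lit 16)) (.node (nat_lit 8247) (.leaf (nat_lit 32)) (.leaf (nat_lit 2)))))) (.node (nat_lit 10346) (.node (nat_lit 9266) (.node (nat_lit 8739) (.leaf (nat_lit 1)) (.leaf (nat_lit 16))) (.node (nat_lit 9341) (.leaf (nat_lit 1)) (.node (nat_lit 9755) (.leaf (nat_lit 160)) (.leaf (nat_lit 1))))) (.node (nat_lit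 10629) (.node (nat_lit 10351) (.leaf (nat_lit 2)) (.leaf (nat_lit 16))) (.node (nat_lit 11036) (.leaf (nat_lit 32)) (.node (nat_lit 11054) (.leaf (nat_lit 1)) (.leaf (nat_lit 2)))))))) (.node (nat_lit 16982) (.node (nat_lit 13968) (.node (nat_lit 12539) (.node (nat_lit 12142) (.node (nat_lit 11791) (.leaf (nat_lit 16)) (.leaf (nat_lit 160))) (.node (nat_lit 12484) (.leaf (nat_lit 1)) (.leaf (nat_lit 160)))) (.node (nat_lit 13123) (.node (nat_lit 12903) (.leaf (nat_lit 2)) (.leaf (nat_lit 1))) (.node (nat_lit 13752) (.leaf (nat_lit 32)) (.node (nat_lit 13887) (.leaf (nat_lit 160)) (.leaf (nat_lit 192)))))) (.node (nat_lit 14965) (.node (nat_lit 14239) (.node (nat_lit 14005) (.leaf (nat_lit 160)) (.leaf (nat_lit 1))) (.node (nat_lit 14495) (.leaf (nat_lit 2)) (.node (nat_lit 14785) (.leaf (nat_lit 160)) (.leaf (nat_lit 0))))) (.node (nat_lit 15875) (.node (nat_lit 15154) (.leaf (nat_lit 160)) (.leaf (nat_lit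 3))) (.node (nat_lit 16106) (.leaf (nat_lit 1)) (.node (nat_lit 16295) (.leaf (nat_lit 16)) (.leaf (nat_lit 1))))))) (.node (nat_lit 19507) (.node (nat_lit 18109) (.node (nat_lit 17637) (.node (nat_lit 17363) (.leaf (nat_lit 32)) (.leaf (nat_lit 1))) (.node (nat_lit 17702) (.leaf (nat_lit 16)) (.node (nat_lit 17717) (.leaf (nat_lit 2)) (.leaf (nat_lit 1))))) (.node (nat_lit 18929) (.node (nat_lit 18742) (.leaf (nat_lit 2)) (.leaf (nat_lit 32))) (.node (nat_lit 19156) (.leaf (nat_lit 2)) (.node (nat_lit 19251) (.leaf (nat_lit 16)) (.leaf (nat_lit 2)))))) (.node (nat_lit 20787) (.node (nat_lit 20213) (.node (nat_lit 20209) (.leaf (nat_lit 16)) (.leaf (nat_lit 1))) (.node (nat_lit 20220) (.leaf (nat_lit 2)) (.node (nat_lit 20773) (.leaf (nat_lit 1)) (.leaf (nat_lit 16))))) (.node (nat_lit 20941) (.node (nat_lit 20816) (.leaf (nat_lit 1)) (.leaf (nat_lit 192))) (.node (nat_lit 20945) (.leaf (nat_lit 3)) (.node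 (nat_lit 21516) (.leaf (nat_lit 32)) (.leaf (nat_lit 2))))))))) (.node (nat_lit 33553) (.node (nat_lit 28382) (.node (nat_lit 24951) (.node (nat_lit 23654) (.node (nat_lit 23043) (.node (nat_lit 22275) (.leaf (nat_lit 192)) (.leaf (nat_lit 2))) (.node (nat_lit 23260) (.leaf (nat_lit 3)) (.leaf (nat_lit 2)))) (.node (nat_lit 24623) (.node (nat_lit 23722) (.leaf (nat_lit 0)) (.leaf (nat_lit 2))) (.node (nat_lit 24872) (.leaf (nat_lit 1)) (.node (nat_lit 24940) (.leaf (nat_lit 2)) (.leaf (nat_lit 192)))))) (.node (nat_lit 26044) (.node (nat_lit 25542) (.node (nat_lit 25153) (.leaf (nat_lit 1)) (.leaf (nat_lit 2))) (.node (nat_lit 25661) (.leaf (nat_lit 3)) (.node (nat_lit 25834) (.leaf (nat_lit 2)) (.leaf (nat_lit 0))))) (.node (nat_lit 26196) (.node (nat_lit 26128) (.leaf (nat_lit 16)) (.leaf (nat_lit 32))) (.node (nat_lit 26677) (.leaf (nat_lit 2)) (.node (nat_lit 27561) (.leaf (nat_lit 1)) (.leaf (nat_lit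 0))))))) (.node (nat_lit 31036) (.node (nat_lit 29460) (.node (nat_lit 28652) (.node (nat_lit 28515) (.leaf (nat_lit 160)) (.leaf (nat_lit 192))) (.node (nat_lit 29117) (.leaf (nat_lit 2)) (.node (nat_lit 29285) (.leaf (nat_lit 1)) (.leaf (nat_lit 2))))) (.node (nat_lit 30152) (.node (nat_lit 29510) (.leaf (nat_lit 1)) (.leaf (nat_lit 0))) (.node (nat_lit 30271) (.leaf (nat_lit 1)) (.node (nat_lit 30847) (.leaf (nat_lit 160)) (.leaf (nat_lit 2)))))) (.node (nat_lit 32182) (.node (nat_lit 31250) (.node (nat_lit 31076) (.leaf (nat_lit 16)) (.leaf (nat_lit 0))) (.node (nat_lit 31609) (.leaf (nat_lit 32)) (.node (nat_lit 32176) (.leaf (nat_lit 160)) (.leaf (nat_lit 0))))) (.node (nat_lit 32826) (.node (nat_lit 32255) (.leaf (nat_lit 160)) (.leaf (nat_lit 1))) (.node (nat_lit 32892) (.leaf (nat_lit 2)) (.node (nat_lit 33390) (.leaf (nat_lit 1)) (.leaf (nat_lit 32)))))))) (.node (nat_lit 39323) (.node (nat_lit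 36370) (.node (nat_lit 34551) (.node (nat_lit 34529) (.node (nat_lit 34382) (.leaf (nat_lit 2)) (.leaf (nat_lit 3))) (.node (nat_lit 34537) (.leaf (nat_lit 160)) (.leaf (nat_lit 1)))) (.node (nat_lit 35693) (.node (nat_lit 35530) (.leaf (nat_lit 2)) (.leaf (nat_lit 192))) (.node (nat_lit 35790) (.leaf (nat_lit 32)) (.node (nat_lit 36151) (.leaf (nat_lit 1)) (.leaf (nat_lit 2)))))) (.node (nat_lit 37254) (.node (nat_lit 36854) (.node (nat_lit 36628) (.leaf (nat_lit 1)) (.leaf (nat_lit 2))) (.node (nat_lit 37023) (.leaf (nat_lit 160)) (.node (nat_lit 37088) (.leaf (nat_lit 2)) (.leaf (nat_lit 32))))) (.node (nat_lit 38207) (.node (nat_lit 37735) (.leaf (nat_lit 1)) (.leaf (nat_lit 2))) (.node (nat_lit 38818) (.leaf (nat_lit 3)) (.node (nat_lit 38974) (.leaf (nat_lit 2)) (.leaf (nat_lit 192))))))) (.node (nat_lit 43183) (.node (nat_lit 41565) (.node (nat_lit 40317) (.node (nat_lit 39701) (.leaf (nat_lit 0))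 (.leaf (nat_lit 1))) (.node (nat_lit 40418) (.leaf (nat_lit 160)) (.node (nat_lit 41230) (.leaf (nat_lit 0)) (.leaf (nat_lit 3))))) (.node (nat_lit 42069) (.node (nat_lit 41898) (.leaf (nat_lit 160)) (.leaf (nat_lit 0))) (.node (nat_lit 42151) (.leaf (nat_lit 192)) (.node (nat_lit 42301) (.leaf (nat_lit 1)) (.leaf (nat_lit 0)))))) (.node (nat_lit 44781) (.node (nat_lit 43831) (.node (nat_lit 43522) (.leaf (nat_lit 1)) (.leaf (nat_lit 2))) (.node (nat_lit 44489) (.leaf (nat_lit 32)) (.node (nat_lit 44678) (.leaf (nat_lit 2)) (.leaf (nat_lit 1))))) (.node (nat_lit 45135) (.node (nat_lit 45065) (.leaf (nat_lit 0)) (.leaf (nat_lit 160))) (.node (nat_lit 45206) (.leaf (nat_lit 16)) (.node (nat_lit 45280) (.leaf (nat_lit 3)) (.leaf (nat_lit 0)))))))))) (.node (nat_lit 68594) (.node (nat_lit 57799) (.node (nat_lit 50016) (.node (nat_lit 48030) (.node (nat_lit 46206) (.node (nat_lit 46090) (.node (nat_lit 45988)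 (.leaf (nat_lit 1)) (.leaf (nat_lit 32))) (.node (nat_lit 46190) (.leaf (nat_lit 160)) (.leaf (nat_lit 1)))) (.node (nat_lit 47579) (.node (nat_lit 46564) (.leaf (nat_lit 32)) (.leaf (nat_lit 1))) (.node (nat_lit 47804) (.leaf (nat_lit 16)) (.node (nat_lit 47912) (.leaf (nat_lit 1)) (.leaf (nat_lit 16)))))) (.node (nat_lit 49127) (.node (nat_lit 48242) (.node (nat_lit 48190) (.leaf (nat_lit 2)) (.leaf (nat_lit 3))) (.node (nat_lit 48585) (.leaf (nat_lit 2)) (.node (nat_lit 48644) (.leaf (nat_lit 32)) (.leaf (nat_lit 1))))) (.node (nat_lit 49625) (.node (nat_lit 49342) (.leaf (nat_lit 192)) (.leaf (nat_lit 1))) (.node (nat_lit 49645) (.leaf (nat_lit 2)) (.node (nat_lit 49719) (.leaf (nat_lit 3)) (.leaf (nat_lit 2))))))) (.node (nat_lit 53616) (.node (nat_lit 51238) (.node (nat_lit 50855) (.node (nat_lit 50497) (.leaf (nat_lit 1)) (.leaf (nat_lit 0))) (.node (nat_lit 51064) (.leaf (nat_lit 192)) (.node (nat_lit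 51068) (.leaf (nat_lit 1)) (.leaf (nat_lit 2))))) (.node (nat_lit 52556) (.node (nat_lit 51724) (.leaf (nat_lit 32)) (.leaf (nat_lit 3))) (.node (nat_lit 52993) (.leaf (nat_lit 2)) (.node (nat_lit 53050) (.leaf (nat_lit 160)) (.leaf (nat_lit 2)))))) (.node (nat_lit 55047) (.node (nat_lit 54047) (.node (nat_lit 53879) (.leaf (nat_lit 1)) (.leaf (nat_lit 192))) (.node (nat_lit 54064) (.leaf (nat_lit 1)) (.node (nat_lit 54904) (.leaf (nat_lit 192)) (.leaf (nat_lit 0))))) (.node (nat_lit 55960) (.node (nat_lit 55895) (.leaf (nat_lit 1)) (.leaf (nat_lit 2))) (.node (nat_lit 56078) (.leaf (nat_lit 0)) (.node (nat_lit 56955) (.leaf (nat_lit 2)) (.leaf (nat_lit 192)))))))) (.node (nat_lit 63946) (.node (nat_lit 61000) (.node (nat_lit 60104) (.node (nat_lit 58264) (.node (nat_lit 57942) (.leaf (nat_lit 32)) (.leaf (nat_lit 2))) (.node (nat_lit 59092) (.leaf (nat_lit 1)) (.leaf (nat_lit 2)))) (.node (nat_lit 60493)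 (.node (nat_lit 60420) (.leaf (nat_lit 160)) (.leaf (nat_lit 1))) (.node (nat_lit 60723) (.leaf (nat_lit 3)) (.node (nat_lit 60764) (.leaf (nat_lit 0)) (.leaf (nat_lit 1)))))) (.node (nat_lit 62490) (.node (nat_lit 61473) (.node (nat_lit 61297) (.leaf (nat_lit 160)) (.leaf (nat_lit 16))) (.node (nat_lit 61745) (.leaf (nat_lit 1)) (.node (nat_lit 62146) (.leaf (nat_lit 0)) (.leaf (nat_lit 2))))) (.node (nat_lit 63341) (.node (nat_lit 62802) (.leaf (nat_lit 3)) (.leaf (nat_lit 160))) (.node (nat_lit 63452) (.leaf (nat_lit 192)) (.node (nat_lit 63728) (.leaf (nat_lit 1)) (.leaf (nat_lit 192))))))) (.node (nat_lit 65583) (.node (nat_lit 64487) (.node (nat_lit 64213) (.node (nat_lit 64170) (.leaf (nat_lit 2)) (.leaf (nat_lit 1))) (.node (nat_lit 64422) (.leaf (nat_lit 32)) (.node (nat_lit 64450) (.leaf (nat_lit 1)) (.leaf (nat_lit 16))))) (.node (nat_lit 64834) (.node (nat_lit 64516) (.leaf (nat_lit 2)) (.leaf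 (nat_lit 1))) (.node (nat_lit 65491) (.leaf (nat_lit 2)) (.node (nat_lit 65571) (.leaf (nat_lit 32)) (.leaf (nat_lit 2)))))) (.node (nat_lit 67747) (.node (nat_lit 66839) (.node (nat_lit 66576) (.leaf (nat_lit 16)) (.leaf (nat_lit 3))) (.node (nat_lit 67139) (.leaf (nat_lit 2)) (.node (nat_lit 67697) (.leaf (nat_lit 1)) (.leaf (nat_lit 3))))) (.node (nat_lit 68213) (.node (nat_lit 67984) (.leaf (nat_lit 16)) (.leaf (nat_lit 2))) (.node (nat_lit 68383) (.leaf (nat_lit 1)) (.node (nat_lit 68507) (.leaf (nat_lit 160)) (.leaf (nat_lit 1))))))))) (.node (nat_lit 79629) (.node (nat_lit 73223) (.node (nat_lit 70118) (.node (nat_lit 69211) (.node (nat_lit 69121) (.node (nat_lit 68815) (.leaf (nat_lit 192)) (.leaf (nat_lit 144))) (.node (nat_lit 69180) (.leaf (nat_lit 2)) (.leaf (nat_lit 0)))) (.node (nat_lit 69611) (.node (nat_lit 69446) (.leaf (nat_lit 16)) (.leaf (nat_lit 2))) (.node (nat_lit 69686) (.leaf (nat_lit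 0)) (.node (nat_lit 70024) (.leaf (nat_lit 2)) (.leaf (nat_lit 32)))))) (.node (nat_lit 71035) (.node (nat_lit 70506) (.node (nat_lit 70450) (.leaf (nat_lit 0)) (.leaf (nat_lit 16))) (.node (nat_lit 70766) (.leaf (nat_lit 1)) (.node (nat_lit 70941) (.leaf (nat_lit 16)) (.leaf (nat_lit 1))))) (.node (nat_lit 72351) (.node (nat_lit 71574) (.leaf (nat_lit 2)) (.leaf (nat_lit 3))) (.node (nat_lit 72784) (.leaf (nat_lit 192)) (.node (nat_lit 72826) (.leaf (nat_lit 160)) (.leaf (nat_lit 1))))))) (.node (nat_lit 77506) (.node (nat_lit 75021) (.node (nat_lit 74153) (.node (nat_lit 73588) (.leaf (nat_lit 192)) (.leaf (nat_lit 1))) (.node (nat_lit 74168) (.leaf (nat_lit 2)) (.node (nat_lit 74284) (.leaf (nat_lit 3)) (.leaf (nat_lit 0))))) (.node (nat_lit 75597) (.node (nat_lit 75167) (.leaf (nat_lit 3)) (.leaf (nat_lit 16))) (.node (nat_lit 75659) (.leaf (nat_lit 2)) (.node (nat_lit 75733) (.leaf (nat_lit 1)) (.leaf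 (nat_lit 192)))))) (.node (nat_lit 78598) (.node (nat_lit 77881) (.node (nat_lit 77675) (.leaf (nat_lit 1)) (.leaf (nat_lit 32))) (.node (nat_lit 78023) (.leaf (nat_lit 3)) (.node (nat_lit 78234) (.leaf (nat_lit 160)) (.leaf (nat_lit 2))))) (.node (nat_lit 79059) (.node (nat_lit 79018) (.leaf (nat_lit 3)) (.leaf (nat_lit 16))) (.node (nat_lit 79090) (.leaf (nat_lit 1)) (.node (nat_lit 79359) (.leaf (nat_lit 2)) (.leaf (nat_lit 192)))))))) (.node (nat_lit 84910) (.node (nat_lit 81982) (.node (nat_lit 80758) (.node (nat_lit 80023) (.node (nat_lit 79950) (.leaf (nat_lit 2)) (.leaf (nat_lit 1))) (.node (nat_lit 80229) (.leaf (nat_lit 160)) (.leaf (nat_lit 1)))) (.node (nat_lit 81068) (.node (nat_lit 81035) (.leaf (nat_lit 192)) (.leaf (nat_lit 160))) (.node (nat_lit 81479) (.leaf (nat_lit 0)) (.node (nat_lit 81703) (.leaf (nat_lit 1)) (.leaf (nat_lit 16)))))) (.node (nat_lit 83353) (.node (nat_lit 82501) (.node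 (nat_lit 82299) (.leaf (nat_lit 192)) (.leaf (nat_lit 2))) (.node (nat_lit 82780) (.leaf (nat_lit 32)) (.node (nat_lit 83288) (.leaf (nat_lit 16)) (.leaf (nat_lit 0))))) (.node (nat_lit 83851) (.node (nat_lit 83507) (.leaf (nat_lit 3)) (.leaf (nat_lit 1))) (.node (nat_lit 83862) (.leaf (nat_lit 192)) (.node (nat_lit 84795) (.leaf (nat_lit 3)) (.leaf (nat_lit 2))))))) (.node (nat_lit 89825) (.node (nat_lit 87059) (.node (nat_lit 85750) (.node (nat_lit 85612) (.leaf (nat_lit 1)) (.leaf (nat_lit 192))) (.node (nat_lit 86179) (.leaf (nat_lit 2)) (.node (nat_lit 86749) (.leaf (nat_lit 1)) (.leaf (nat_lit 16))))) (.node (nat_lit 88115) (.node (nat_lit 87172) (.leaf (nat_lit 192)) (.leaf (nat_lit 3))) (.node (nat_lit 88345) (.leaf (nat_lit 1)) (.node (nat_lit 89234) (.leaf (nat_lit 2)) (.leaf (nat_lit 32)))))) (.node (nat_lit 91160) (.node (nat_lit 90004) (.node (nat_lit 89908) (.leaf (nat_lit 160)) (.leaf (nat_lit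 2))) (.node (nat_lit 90507) (.leaf (nat_lit 32)) (.node (nat_lit 90892) (.leaf (nat_lit 16)) (.leaf (nat_lit 2))))) (.node (nat_lit 91291) (.node (nat_lit 91284) (.leaf (nat_lit 16)) (.leaf (nat_lit 2))) (.node (nat_lit 91868) (.leaf (nat_lit 1)) (.node (nat_lit 91896) (.leaf (nat_lit 3)) (.leaf (nat_lit 160)))))))))))
noncomputable def NV_soc_t1 : ST := (.node (nat_lit 803) (.node (nat_lit 320) (.node (nat_lit 123) (.node (nat_lit 97) (.node (nat_lit 91) (.leaf (nat_lit 192)) (.leaf (nat_lit 16))) (.node (nat_lit 121) (.leaf (nat_lit 192)) (.leaf (nat_lit 32)))) (.node (nat_lit 267) (.node (nat_lit 265) (.leaf (nat_lit 192)) (.leaf (nat_lit 32))) (.node (nat_lit 310) (.leaf (nat_lit 192)) (.leaf (nat_lit 0))))) (.node (nat_lit 625) (.node (nat_lit 493) (.node (nat_lit 484) (.leaf (nat_lit 192)) (.leaf (nat_lit 16))) (.node (nat_lit 624) (.leaf (nat_lit 192)) (.leaf (nat_lit 32)))) (.node (nat_lit 731)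 (.node (nat_lit 729) (.leaf (nat_lit 192)) (.leaf (nat_lit 32))) (.node (nat_lit 769) (.leaf (nat_lit 192)) (.node (nat_lit 780) (.leaf (nat_lit 0)) (.leaf (nat_lit 192))))))) (.node (nat_lit 952) (.node (nat_lit 828) (.node (nat_lit 820) (.node (nat_lit 809) (.leaf (nat_lit 16)) (.leaf (nat_lit 192))) (.node (nat_lit 824) (.leaf (nat_lit 16)) (.leaf (nat_lit 192)))) (.node (nat_lit 940) (.node (nat_lit 833) (.leaf (nat_lit 16)) (.leaf (nat_lit 192))) (.node (nat_lit 941) (.leaf (nat_lit 16)) (.node (nat_lit 946) (.leaf (nat_lit 192)) (.leaf (nat_lit 0)))))) (.node (nat_lit 1093) (.node (nat_lit 1011) (.node (nat_lit 1008) (.leaf (nat_lit 192)) (.leaf (nat_lit 32))) (.node (nat_lit 1091) (.leaf (nat_lit 192)) (.leaf (nat_lit 16)))) (.node (nat_lit 1197) (.node (nat_lit 1192) (.leaf (nat_lit 192)) (.leaf (nat_lit 32))) (.node (nat_lit 1427) (.leaf (nat_lit 192)) (.node (nat_lit 1433) (.leaf (nat_lit 16))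 (.leaf (nat_lit 192))))))))
noncomputable def NV_soc_F : Fm := (.all NV_L (.or (.qf (.eq (.v (nat_lit 0)) .one)) (.exF NV_L (fun cs => NV_soc_t1.find (Nat.mod (nth (nat_lit 0) cs (nat_lit 0)) (nat_lit 1448))) (.exF NV_L (fun cs => NV_soc_t0.find (Nat.mod (Nat.add (nth (nat_lit 0) cs (nat_lit 0)) (Nat.mul (nat_lit 7919) (nth (nat_lit 0) cs (nat_lit 1)))) (nat_lit 91942))) (.qf (.or (.eq (.mul (.mul (.v (nat_lit 0)) (.v (nat_lit 2))) (.inv (.v (nat_lit 0)))) (.v (nat_lit 3))) (.or (.eq (.mul (.mul (.v (nat_lit 0)) (.v (nat_lit 2))) (.inv (.v (nat_lit 0)))) (.v (nat_lit 4))) (.or (.eq (.mul (.mul (.v (nat_lit 0)) (.mul (.mul (.mul (.v (nat_lit 2)) (.v (nat_lit 1))) (.inv (.v (nat_lit 2)))) (.inv (.v (nat_lit 1))))) (.inv (.v (nat_lit 0)))) (.v (nat_lit 3))) (.or (.eq (.mul (.mul (.v (nat_lit 0)) (.mul (.mul (.mul (.v (nat_lit 2)) (.v (nat_lit 1))) (.inv (.v (nat_lit 2)))) (.inv (.v (nat_lit 1))))) (.inv (.v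 (nat_lit 0)))) (.v (nat_lit 4))) (.or (.eq (.mul (.mul (.mul (.mul (.mul (.mul (.v (nat_lit 2)) (.v (nat_lit 1))) (.inv (.v (nat_lit 2)))) (.inv (.v (nat_lit 1)))) (.v (nat_lit 0))) (.inv (.mul (.mul (.mul (.v (nat_lit 2)) (.v (nat_lit 1))) (.inv (.v (nat_lit 2)))) (.inv (.v (nat_lit 1)))))) (.inv (.v (nat_lit 0)))) (.v (nat_lit 3))) (.eq (.mul (.mul (.mul (.mul (.mul (.mul (.v (nat_lit 2)) (.v (nat_lit 1))) (.inv (.v (nat_lit 2)))) (.inv (.v (nat_lit 1)))) (.v (nat_lit 0))) (.inv (.mul (.mul (.mul (.v (nat_lit 2)) (.v (nat_lit 1))) (.inv (.v (nat_lit 2)))) (.inv (.v (nat_lit 1)))))) (.inv (.v (nat_lit 0)))) (.v (nat_lit 4)))))))))))))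
theorem NV_soc_chk : Fm.chk NV_o NV_soc_F NV_cs = true := by decide +kernel
theorem NV_soc {G : Type*} [Group G] {R : ℕ → G → Prop} {z u v a b p P_ : G} {H : Subgroup G}
    (M : Mdl NV_o NV_cs NV_L R [z, u, v, a, b, p, P_] H) :
    ∀ y_ ∈ H, y_ = 1 ∨ (∃ q_ ∈ H, ∃ k_ ∈ H, k_ * y_ * k_⁻¹ = z ∨ k_ * y_ * k_⁻¹ = u ∨ k_ * ⁅y_, q_⁆ * k_⁻¹ = z ∨ k_ * ⁅y_, q_⁆ * k_⁻¹ = u ∨ ⁅⁅y_, q_⁆, k_⁆ = z ∨ ⁅⁅y_, q_⁆, k_⁆ = u) :=
  have h : ∀ y_, InL NV_o R NV_L y_ → y_ = 1 ∨ (Good NV_o R NV_L → prods NV_o NV_L NV_o.one ≠ [] → ∃ q_, InL NV_o R NV_L q_ ∧ (Good NV_o R NV_L → prods NV_o NV_L NV_o.one ≠ [] → ∃ k_, InL NV_o R NV_L k_ ∧ (k_ * y_ * k_⁻¹ = z ∨ k_ * y_ * k_⁻¹ = u ∨ k_ * ⁅y_, q_⁆ * k_⁻¹ = z ∨ k_ * ⁅y_, q_⁆ * k_⁻¹ = u ∨ ⁅⁅y_, q_⁆, k_⁆ = z ∨ ⁅⁅y_, q_⁆, k_⁆ = u))) :=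
    Fm.sound M.μ NV_soc_F NV_soc_chk M.reps
  (fun y_ h0 => (Or.imp (fun h1 => h1) (fun h1 => (Exists.imp (fun q_ h2 => ⟨M.H.iff.1 h2.1, (Exists.imp (fun k_ h3 => ⟨M.H.iff.1 h3.1, h3.2⟩) (h2.2 M.H.good M.H.ne))⟩) (h1 M.H.good M.H.ne))) (h y_ (M.H.iff.2 h0))))
theorem NV_mdl {G : Type*} [Group G] {z u v a b p : G}
    (t : QT z u v a b)
    (h : P1 z u b p)
    (e1 : v * (p⁻¹ * v * p) * (p * v * p⁻¹) = 1)
    (e2 : a * (p⁻¹ * a * p) * (p * a * p⁻¹) = 1)
    (e3 : ⁅p * v * p⁻¹, a⁆ = z * u)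
    (n1 : z ≠ 1) (n2 : u ≠ 1) :
    ∃ R, Mdl NV_o NV_cs NV_L R [z, u, v, a, b, p, p⁻¹] (sp [z, u, v, a, b, p, p⁻¹]) ∧ #(sp [z, u, v, a, b, p, p⁻¹]) = 384 :=
  mdl_of NV_P rfl (NV_r t h e1 e2 e3) (.v (nat_lit 0)) (.v (nat_lit 1)) n1 n2 
    fun _ ms _ M hl => match ms, M, (hl : ms.length = 7) with
      | [_, _, _, _, _, _, _], M, _ => NV_soc M
noncomputable def NV_t_f_F : Fm := (.qf (.and (.eq (.mul (.mul (.mul (.mul (.v (nat_lit 5)) (.v (nat_lit 2))) (.v (nat_lit 6))) (.v (nat_lit 2))) (.mul (.mul (.mul (.v (nat_lit 5)) (.v (nat_lit 2))) (.v (nat_lit 6))) (.v (nat_lit 2)))) .one) (.and (.eq (.mul (.mul (.mul (.mul (.v (nat_lit 5)) (.v (nat_lit 3))) (.v (nat_lit 6))) (.v (nat_lit 1))) (.mul (.mul (.mul (.v (nat_lit 5)) (.v (nat_lit 3))) (.v (nat_lit 6))) (.v (nat_lit 1)))) .one) (.and (.eq (.mul (.v (nat_lit 0)) (.mul (.mul (.mul (.v (nat_lit 5)) (.v (nat_lit 2))) (.v (nat_lit 6))) (.v (nat_lit 2)))) (.mul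 (.mul (.mul (.mul (.v (nat_lit 5)) (.v (nat_lit 2))) (.v (nat_lit 6))) (.v (nat_lit 2))) (.v (nat_lit 0)))) (.and (.eq (.mul (.v (nat_lit 0)) (.mul (.mul (.mul (.v (nat_lit 5)) (.v (nat_lit 3))) (.v (nat_lit 6))) (.v (nat_lit 1)))) (.mul (.mul (.mul (.mul (.v (nat_lit 5)) (.v (nat_lit 3))) (.v (nat_lit 6))) (.v (nat_lit 1))) (.v (nat_lit 0)))) (.and (.eq (.mul (.mul (.mul (.mul (.v (nat_lit 5)) (.v (nat_lit 2))) (.v (nat_lit 6))) (.v (nat_lit 2))) (.v (nat_lit 1))) (.mul (.v (nat_lit 1)) (.mul (.mul (.mul (.v (nat_lit 5)) (.v (nat_lit 2))) (.v (nat_lit 6))) (.v (nat_lit 2))))) (.and (.eq (.mul (.mul (.mul (.mul (.v (nat_lit 5)) (.v (nat_lit 2))) (.v (nat_lit 6))) (.v (nat_lit 2))) (.v (nat_lit 2))) (.mul (.v (nat_lit 2)) (.mul (.mul (.mul (.v (nat_lit 5)) (.v (nat_lit 2))) (.v (nat_lit 6))) (.v (nat_lit 2))))) (.and (.eq (.mul (.mul (.v (nat_lit 3)) (.mul (.mul (.mul (.v (nat_lit 5)) (.v (nat_lit 2)))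 (.v (nat_lit 6))) (.v (nat_lit 2)))) (.v (nat_lit 3))) (.mul (.mul (.mul (.mul (.v (nat_lit 5)) (.v (nat_lit 2))) (.v (nat_lit 6))) (.v (nat_lit 2))) (.v (nat_lit 1)))) (.and (.eq (.mul (.mul (.v (nat_lit 4)) (.mul (.mul (.mul (.v (nat_lit 5)) (.v (nat_lit 2))) (.v (nat_lit 6))) (.v (nat_lit 2)))) (.v (nat_lit 4))) (.mul (.mul (.mul (.mul (.v (nat_lit 5)) (.v (nat_lit 2))) (.v (nat_lit 6))) (.v (nat_lit 2))) (.v (nat_lit 2)))) (.and (.eq (.mul (.mul (.mul (.mul (.v (nat_lit 5)) (.v (nat_lit 3))) (.v (nat_lit 6))) (.v (nat_lit 1))) (.v (nat_lit 1))) (.mul (.v (nat_lit 1)) (.mul (.mul (.mul (.v (nat_lit 5)) (.v (nat_lit 3))) (.v (nat_lit 6))) (.v (nat_lit 1))))) (.and (.eq (.mul (.mul (.mul (.mul (.v (nat_lit 5)) (.v (nat_lit 3))) (.v (nat_lit 6))) (.v (nat_lit 1))) (.v (nat_lit 3))) (.mul (.v (nat_lit 3)) (.mul (.mul (.mul (.v (nat_lit 5)) (.v (nat_lit 3))) (.v (nat_lit 6))) (.v (nat_lit 1))))) (.and (.eq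 (.mul (.mul (.mul (.mul (.mul (.v (nat_lit 5)) (.v (nat_lit 3))) (.v (nat_lit 6))) (.v (nat_lit 1))) (.v (nat_lit 2))) (.mul (.mul (.mul (.v (nat_lit 5)) (.v (nat_lit 3))) (.v (nat_lit 6))) (.v (nat_lit 1)))) (.mul (.mul (.v (nat_lit 0)) (.v (nat_lit 1))) (.v (nat_lit 2)))) (.and (.eq (.mul (.mul (.mul (.mul (.mul (.v (nat_lit 5)) (.v (nat_lit 3))) (.v (nat_lit 6))) (.v (nat_lit 1))) (.v (nat_lit 4))) (.mul (.mul (.mul (.v (nat_lit 5)) (.v (nat_lit 3))) (.v (nat_lit 6))) (.v (nat_lit 1)))) (.mul (.mul (.v (nat_lit 0)) (.v (nat_lit 3))) (.v (nat_lit 4)))) (.eq (.mul (.mul (.mul (.mul (.mul (.v (nat_lit 5)) (.v (nat_lit 2))) (.v (nat_lit 6))) (.v (nat_lit 2))) (.mul (.mul (.mul (.v (nat_lit 5)) (.v (nat_lit 3))) (.v (nat_lit 6))) (.v (nat_lit 1)))) (.mul (.mul (.mul (.v (nat_lit 5)) (.v (nat_lit 2))) (.v (nat_lit 6))) (.v (nat_lit 2)))) (.mul (.mul (.mul (.mul (.v (nat_lit 5)) (.v (nat_lit 3))) (.v (nat_lit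 6))) (.v (nat_lit 1))) (.v (nat_lit 0)))))))))))))))))
theorem NV_t_f_chk : Fm.chk NV_o NV_t_f_F NV_cs = true := by decide +kernel
theorem NV_t_f {G : Type*} [Group G] {R : ℕ → G → Prop} {z u v a b p : G} {H : Subgroup G}
    (M : Mdl NV_o NV_cs NV_L R [z, u, v, a, b, p, p⁻¹] H) :
    p * v * p⁻¹ * v * (p * v * p⁻¹ * v) = 1 ∧ p * a * p⁻¹ * u * (p * a * p⁻¹ * u) = 1 ∧ z * (p * v * p⁻¹ * v) = p * v * p⁻¹ * v * z ∧ z * (p * a * p⁻¹ * u) = p * a * p⁻¹ * u * z ∧ p * v * p⁻¹ * v * u = u * (p * v * p⁻¹ * v) ∧ p * v * p⁻¹ * v * v = v * (p * v * p⁻¹ * v) ∧ a * (p * v * p⁻¹ * v) * a = p * v * p⁻¹ * v * u ∧ b * (p * v * p⁻¹ * v) * b = p * v * p⁻¹ * v * v ∧ p * a * p⁻¹ * u * u = u * (p * a * p⁻¹ * u) ∧ p * a * p⁻¹ * u * a = a * (p * a * p⁻¹ * u) ∧ p * a * p⁻¹ * u * v * (p * a * p⁻¹ * u) = z * u * v ∧ p * a * p⁻¹ * u * b * (p * a * p⁻¹ * u) = z * a * b ∧ p * v * p⁻¹ * v * (p * a * p⁻¹ * u) * (p * v * p⁻¹ * v) = p *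 a * p⁻¹ * u * z :=
  Fm.sound M.μ NV_t_f_F NV_t_f_chk M.reps
theorem NV_t {G : Type*} [Group G] {R : ℕ → G → Prop} {z u v a b p : G} {H : Subgroup G}
    (M : Mdl NV_o NV_cs NV_L R [z, u, v, a, b, p, p⁻¹] H) :
    TU z u v a b (p * v * p⁻¹ * v) (p * a * p⁻¹ * u) :=
  have h := NV_t_f M
  ⟨h.1, h.2.1, h.2.2.1, h.2.2.2.1, h.2.2.2.2.1, h.2.2.2.2.2.1, h.2.2.2.2.2.2.1, h.2.2.2.2.2.2.2.1, h.2.2.2.2.2.2.2.2.1, h.2.2.2.2.2.2.2.2.2.1, h.2.2.2.2.2.2.2.2.2.2.1, h.2.2.2.2.2.2.2.2.2.2.2.1, h.2.2.2.2.2.2.2.2.2.2.2.2, trivial⟩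
noncomputable def NV_p_f_F : Fm := (.qf (.and (.eq (.mul (.mul (.v (nat_lit 5)) (.v (nat_lit 2))) (.v (nat_lit 6))) (.mul (.mul (.mul (.mul (.v (nat_lit 5)) (.v (nat_lit 2))) (.v (nat_lit 6))) (.v (nat_lit 2))) (.v (nat_lit 2)))) (.and (.eq (.mul (.mul (.v (nat_lit 5)) (.v (nat_lit 3))) (.v (nat_lit 6))) (.mul (.mul (.mul (.mul (.v (nat_lit 5)) (.v (nat_lit 3))) (.v (nat_lit 6))) (.v (nat_lit 1))) (.v (nat_lit 1)))) (.and (.eq (.mul (.mul (.v (nat_lit 5)) (.mul (.mul (.mul (.mul (.v (nat_lit 5)) (.v (nat_lit 2))) (.v (nat_lit 6))) (.v (nat_lit 2))) (.v (nat_lit 2)))) (.v (nat_lit 6))) (.mul (.mul (.mul (.v (nat_lit 5)) (.v (nat_lit 2))) (.v (nat_lit 6))) (.v (nat_lit 2)))) (.eq (.mul (.mul (.v (nat_lit 5)) (.mul (.mul (.mul (.mul (.v (nat_lit 5)) (.v (nat_lit 3))) (.v (nat_lit 6))) (.v (nat_lit 1))) (.v (nat_lit 1)))) (.v (nat_lit 6))) (.mul (.mul (.v (nat_lit 3)) (.mul (.mul (.mul (.v (nat_lit 5)) (.v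 (nat_lit 3))) (.v (nat_lit 6))) (.v (nat_lit 1)))) (.v (nat_lit 1))))))))
theorem NV_p_f_chk : Fm.chk NV_o NV_p_f_F NV_cs = true := by decide +kernel
theorem NV_p_f {G : Type*} [Group G] {R : ℕ → G → Prop} {z u v a b p : G} {H : Subgroup G}
    (M : Mdl NV_o NV_cs NV_L R [z, u, v, a, b, p, p⁻¹] H) :
    p * v * p⁻¹ = p * v * p⁻¹ * v * v ∧ p * a * p⁻¹ = p * a * p⁻¹ * u * u ∧ p * (p * v * p⁻¹ * v * v) * p⁻¹ = p * v * p⁻¹ * v ∧ p * (p * a * p⁻¹ * u * u) * p⁻¹ = a * (p * a * p⁻¹ * u) * u :=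
  Fm.sound M.μ NV_p_f_F NV_p_f_chk M.reps
theorem NV_p {G : Type*} [Group G] {R : ℕ → G → Prop} {z u v a b p : G} {H : Subgroup G}
    (M : Mdl NV_o NV_cs NV_L R [z, u, v, a, b, p, p⁻¹] H) :
    PU u v a (p * v * p⁻¹ * v) (p * a * p⁻¹ * u) p :=
  have h := NV_p_f M
  ⟨h.1, h.2.1, h.2.2.1, h.2.2.2, trivial⟩
noncomputable def xu0_r_R : List (List ℕ) := [[0,0],
  [1,1],
  [2,2],
  [3,3],
  [4,4],
  [5,5],
  [6,6],
  [7,8],
  [8,7],
  [9,10],
  [10,9],
  [7,7,7],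
  [3,8,1,7],
  [4,8,2,7],
  [7,1,7,1,7,1],
  [7,2,7,2,7,2],
  [2,1,2,1],
  [0,4,1,4,1],
  [8,0,7,0],
  [1,0,1,0],
  [2,0,2,0],
  [9,9,9],
  [8,10,7,9],
  [0,10,0,9],
  [2,10,1,9],
  [0,1,2,10,2,9],
  [3,0,3,0],
  [4,0,4,0],
  [3,1,3,1],
  [4,2,4,2],
  [4,3,4,3],
  [1,0,4,1,4],
  [2,0,3,2,3],
  [5,0,5,0],
  [6,0,6,0],
  [1,5,1,5],
  [2,5,2,5],
  [5,1,3,5,3],
  [5,2,4,5,4],
  [1,6,1,6],
  [3,6,3,6],
  [0,1,2,6,2,6],
  [0,3,4,6,4,6],
  [6,0,5,6,5]]
theorem xu0_r {G : Type*} [Group G] {z u v a b r s x y : G}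
    (h : Q3 z u v a b x)
    (k : KY z u v x y)
    (q : QT z u v a b)
    (t : TU z u v a b r s) :
    Rels (nthG [z, u, v, a, b, r, s, x, x⁻¹, y, y⁻¹]) xu0_r_R :=
  rels_of_eqs ((InvI.cons h.1 (InvI.cons h.2.1 (InvI.cons h.2.2.1 (InvI.cons h.2.2.2.1 (InvI.cons h.2.2.2.2.1 (InvI.cons t.1 (InvI.cons t.2.1 InvI.nil))))))) : InvI [z, u, v, a, b, r, s, x, y] [(nat_lit 0), (nat_lit 1), (nat_lit 2), (nat_lit 3), (nat_lit 4), (nat_lit 5), (nat_lit 6)])
    (AllEq.append (show AllEq [z, u, v, a, b, r, s, x, y] [((.mul (.v (nat_lit 0)) (.v (nat_lit 0))), .one), ((.mul (.v (nat_lit 1)) (.v (nat_lit 1))), .one), ((.mul (.v (nat_lit 2)) (.v (nat_lit 2))), .one), ((.mul (.v (nat_lit 3)) (.v (nat_lit 3))), .one), ((.mul (.v (nat_lit 4)) (.v (nat_lit 4))), .one), ((.pw (.v (nat_lit 7)) (nat_lit 3)), .one), ((.mul (.mul (.v (nat_lit 7)) (.v (nat_lit 1))) (.inv (.v (nat_lit 7)))), (.v (nat_lit 3))), ((.mul (.mul (.v (nat_lit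 7)) (.v (nat_lit 2))) (.inv (.v (nat_lit 7)))), (.v (nat_lit 4))), ((.pw (.mul (.v (nat_lit 1)) (.v (nat_lit 7))) (nat_lit 3)), .one), ((.pw (.mul (.v (nat_lit 2)) (.v (nat_lit 7))) (nat_lit 3)), .one), ((.mul (.v (nat_lit 1)) (.v (nat_lit 2))), (.mul (.v (nat_lit 2)) (.v (nat_lit 1)))), ((.mul (.mul (.mul (.v (nat_lit 1)) (.v (nat_lit 4))) (.inv (.v (nat_lit 1)))) (.inv (.v (nat_lit 4)))), (.v (nat_lit 0))), ((.mul (.v (nat_lit 0)) (.v (nat_lit 7))), (.mul (.v (nat_lit 7)) (.v (nat_lit 0)))), ((.mul (.v (nat_lit 0)) (.v (nat_lit 1))), (.mul (.v (nat_lit 1)) (.v (nat_lit 0)))), ((.mul (.v (nat_lit 0)) (.v (nat_lit 2))), (.mul (.v (nat_lit 2)) (.v (nat_lit 0))))] from h)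
    (AllEq.append (show AllEq [z, u, v, a, b, r, s, x, y] [((.pw (.v (nat_lit 8)) (nat_lit 3)), .one), ((.mul (.v (nat_lit 8)) (.v (nat_lit 7))), (.mul (.v (nat_lit 7)) (.v (nat_lit 8)))), ((.mul (.v (nat_lit 8)) (.v (nat_lit 0))), (.mul (.v (nat_lit 0)) (.v (nat_lit 8)))), ((.mul (.mul (.v (nat_lit 8)) (.v (nat_lit 1))) (.inv (.v (nat_lit 8)))), (.v (nat_lit 2))), ((.mul (.mul (.v (nat_lit 8)) (.v (nat_lit 2))) (.inv (.v (nat_lit 8)))), (.mul (.mul (.v (nat_lit 0)) (.v (nat_lit 1))) (.v (nat_lit 2))))] from k)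
    (AllEq.append (show AllEq [z, u, v, a, b, r, s, x, y] [((.mul (.v (nat_lit 0)) (.v (nat_lit 0))), .one), ((.mul (.v (nat_lit 1)) (.v (nat_lit 1))), .one), ((.mul (.v (nat_lit 2)) (.v (nat_lit 2))), .one), ((.mul (.v (nat_lit 3)) (.v (nat_lit 3))), .one), ((.mul (.v (nat_lit 4)) (.v (nat_lit 4))), .one), ((.mul (.v (nat_lit 1)) (.v (nat_lit 2))), (.mul (.v (nat_lit 2)) (.v (nat_lit 1)))), ((.mul (.v (nat_lit 0)) (.v (nat_lit 1))), (.mul (.v (nat_lit 1)) (.v (nat_lit 0)))), ((.mul (.v (nat_lit 0)) (.v (nat_lit 2))), (.mul (.v (nat_lit 2)) (.v (nat_lit 0)))), ((.mul (.v (nat_lit 0)) (.v (nat_lit 3))), (.mul (.v (nat_lit 3)) (.v (nat_lit 0)))), ((.mul (.v (nat_lit 0)) (.v (nat_lit 4))), (.mul (.v (nat_lit 4)) (.v (nat_lit 0)))), ((.mul (.v (nat_lit 1)) (.v (nat_lit 3))), (.mul (.v (nat_lit 3)) (.v (nat_lit 1)))), ((.mul (.v (nat_lit 2)) (.v (nat_lit 4))), (.mul (.v (nat_lit 4)) (.v (nat_lit 2)))), ((.mul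 (.v (nat_lit 3)) (.v (nat_lit 4))), (.mul (.v (nat_lit 4)) (.v (nat_lit 3)))), ((.mul (.mul (.v (nat_lit 4)) (.v (nat_lit 1))) (.v (nat_lit 4))), (.mul (.v (nat_lit 1)) (.v (nat_lit 0)))), ((.mul (.mul (.v (nat_lit 3)) (.v (nat_lit 2))) (.v (nat_lit 3))), (.mul (.v (nat_lit 2)) (.v (nat_lit 0))))] from q)
    (show AllEq [z, u, v, a, b, r, s, x, y] [((.mul (.v (nat_lit 5)) (.v (nat_lit 5))), .one), ((.mul (.v (nat_lit 6)) (.v (nat_lit 6))), .one), ((.mul (.v (nat_lit 0)) (.v (nat_lit 5))), (.mul (.v (nat_lit 5)) (.v (nat_lit 0)))), ((.mul (.v (nat_lit 0)) (.v (nat_lit 6))), (.mul (.v (nat_lit 6)) (.v (nat_lit 0)))), ((.mul (.v (nat_lit 5)) (.v (nat_lit 1))), (.mul (.v (nat_lit 1)) (.v (nat_lit 5)))), ((.mul (.v (nat_lit 5)) (.v (nat_lit 2))), (.mul (.v (nat_lit 2)) (.v (nat_lit 5)))), ((.mul (.mul (.v (nat_lit 3)) (.v (nat_lit 5))) (.v (nat_lit 3))), (.mul (.v (nat_lit 5)) (.v (nat_lit 1)))), ((.mul (.mul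 (.v (nat_lit 4)) (.v (nat_lit 5))) (.v (nat_lit 4))), (.mul (.v (nat_lit 5)) (.v (nat_lit 2)))), ((.mul (.v (nat_lit 6)) (.v (nat_lit 1))), (.mul (.v (nat_lit 1)) (.v (nat_lit 6)))), ((.mul (.v (nat_lit 6)) (.v (nat_lit 3))), (.mul (.v (nat_lit 3)) (.v (nat_lit 6)))), ((.mul (.mul (.v (nat_lit 6)) (.v (nat_lit 2))) (.v (nat_lit 6))), (.mul (.mul (.v (nat_lit 0)) (.v (nat_lit 1))) (.v (nat_lit 2)))), ((.mul (.mul (.v (nat_lit 6)) (.v (nat_lit 4))) (.v (nat_lit 6))), (.mul (.mul (.v (nat_lit 0)) (.v (nat_lit 3))) (.v (nat_lit 4)))), ((.mul (.mul (.v (nat_lit 5)) (.v (nat_lit 6))) (.v (nat_lit 5))), (.mul (.v (nat_lit 6)) (.v (nat_lit 0))))] from t))))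
    [(.v (nat_lit 0)), (.v (nat_lit 1)), (.v (nat_lit 2)), (.v (nat_lit 3)), (.v (nat_lit 4)), (.v (nat_lit 5)), (.v (nat_lit 6)), (.v (nat_lit 7)), (.inv (.v (nat_lit 7))), (.v (nat_lit 8)), (.inv (.v (nat_lit 8)))] (by decide +kernel)
noncomputable def xu0_0_S0 : List ℕ := [nat_lit 0x1300000b000008004018, nat_lit 0x1b000002000010004016, nat_lit 0x23000006000018004018, nat_lit 0x2700001f000009008016]
noncomputable def xu0_0_S : List (List ℕ) := [xu0_0_S0]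
noncomputable def xu0_0_defs : List ℕ := [(nat_lit 0x7005000060080000500800004005000030050000200800001000000000050000000000000)]
noncomputable def xu0_0_recs : List ℕ := [(nat_lit 0x70000800009000000500008000000300006000000100004)]
noncomputable def xu0_0_T : List (List ℕ × ℕ) := [([5,8,5,8,0,7,5,7,5,0], (nat_lit 0xc00001400001c00002400000d00002700001f00001700000f000007))]
noncomputable def xu0_0_D : H26.Dag := ⟨[0,1,2,3,4,5,6,8,7,10,9], [[0,0],
  [1,1],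
  [2,2],
  [3,3],
  [4,4],
  [5,5],
  [6,6],
  [7,8],
  [8,7],
  [9,10],
  [10,9],
  [8,0,7,0],
  [5,0,5,0]], [], xu0_0_defs, xu0_0_recs⟩
theorem xu0_0_c : xu0_0_D.check xu0_0_S xu0_0_T = true := by decide +kernel
theorem xu0_0 {G : Type*} [Group G] {g : ℕ → G} (hR : Rels g xu0_r_R) {H : Subgroup G}
    (hH : ∀ k ∈ [], g k ∈ H) : evA g [5,8,5,8,0,7,5,7,5,0] ∈ H :=
  mem_dag (K := 11) (J := [0,1,2,3,4,5,6,7,8,9,10,18,33]) (D := xu0_0_D) (by decide +kernel) xu0_0_c (by decide +kernel) hR hH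
noncomputable def xu0_1_S0 : List ℕ := [nat_lit 0x1300000700001000801e, nat_lit 0x1700000b000008000014010020, nat_lit 0x23000020006016, nat_lit 0x2f00002c006016, nat_lit 0x2f000006000028008018, nat_lit 0x1f00000100002800001100000e01401a, nat_lit 0xe000015000009000018, nat_lit 0x3300001b000024008018, nat_lit 0x1100001a00001d00001c, nat_lit 0x3b00002200001e000038010020, nat_lit 0x43000026000040008018]
noncomputable def xu0_1_S : List (List ℕ) := [xu0_1_S0]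
noncomputable def xu0_1_defs : List ℕ := [(nat_lit 0x80000e0080000d005000090050000800800006008000050070000500800004008000030070000300300003005000020050000100500000003000000010000000000000)]
noncomputable def xu0_1_recs : List ℕ := [(nat_lit 0x10000f00010030000d0000e030000c0000901000080000c03000080000b010000a0000701000090000b080000a0000b080000700008030000400005010000300004)]
noncomputable def xu0_1_T : List (List ℕ × ℕ) := [([5,8,5,8,1,7,5,7,5,1], (nat_lit 0x800001400002800003c00004400002a00003f00003700002300000f))]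
noncomputable def xu0_1_D : H26.Dag := ⟨[0,1,2,3,4,5,6,8,7,10,9], [[0,0],
  [1,1],
  [2,2],
  [3,3],
  [4,4],
  [5,5],
  [6,6],
  [7,8],
  [8,7],
  [9,10],
  [10,9],
  [7,7,7],
  [3,8,1,7],
  [7,1,7,1,7,1],
  [3,1,3,1],
  [1,5,1,5],
  [5,1,3,5,3]], [], xu0_1_defs, xu0_1_recs⟩
theorem xu0_1_c : xu0_1_D.check xu0_1_S xu0_1_T = true := by decide +kernel
theorem xu0_1 {G : Type*} [Group G] {g : ℕ → G} (hR : Rels g xu0_r_R) {H : Subgroup G}
    (hH : ∀ k ∈ [], g k ∈ H) : evA g [5,8,5,8,1,7,5,7,5,1] ∈ H :=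
  mem_dag (K := 11) (J := [0,1,2,3,4,5,6,7,8,9,10,11,12,14,28,35,37]) (D := xu0_1_D) (by decide +kernel) xu0_1_c (by decide +kernel) hR hH
noncomputable def xu0_2_S0 : List ℕ := [nat_lit 0x1300000700001000801e, nat_lit 0x1700000b000008000014010020, nat_lit 0x23000020006016, nat_lit 0x2f00002c006016, nat_lit 0x2f000006000028008018, nat_lit 0x1f00000100002800001100000e01401a, nat_lit 0xe000015000009000018, nat_lit 0x3300001b000024008018, nat_lit 0x1100001a00001d00001c, nat_lit 0x3b00002200001e000038010020, nat_lit 0x43000026000040008018]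
noncomputable def xu0_2_S : List (List ℕ) := [xu0_2_S0]
noncomputable def xu0_2_defs : List ℕ := [(nat_lit 0x80000e0080000d005000090050000800800006008000050070000500800004008000030070000300400003005000020050000100500000004000000020000000000000)]
noncomputable def xu0_2_recs : List ℕ := [(nat_lit 0x20000f00010040000d0000e040000c0000902000080000c04000080000b020000a0000702000090000b080000a0000b080000700008040000400005020000300004)]
noncomputable def xu0_2_T : List (List ℕ × ℕ) := [([5,8,5,8,2,7,5,7,5,2], (nat_lit 0x800001400002800003c00004400002a00003f00003700002300000f))]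
noncomputable def xu0_2_D : H26.Dag := ⟨[0,1,2,3,4,5,6,8,7,10,9], [[0,0],
  [1,1],
  [2,2],
  [3,3],
  [4,4],
  [5,5],
  [6,6],
  [7,8],
  [8,7],
  [9,10],
  [10,9],
  [7,7,7],
  [4,8,2,7],
  [7,2,7,2,7,2],
  [4,2,4,2],
  [2,5,2,5],
  [5,2,4,5,4]], [], xu0_2_defs, xu0_2_recs⟩
theorem xu0_2_c : xu0_2_D.check xu0_2_S xu0_2_T = true := by decide +kernel
theorem xu0_2 {G : Type*} [Group G] {g : ℕ → G} (hR : Rels g xu0_r_R) {H : Subgroup G}
    (hH : ∀ k ∈ [], g k ∈ H) : evA g [5,8,5,8,2,7,5,7,5,2] ∈ H :=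
  mem_dag (K := 11) (J := [0,1,2,3,4,5,6,7,8,9,10,11,13,15,29,36,38]) (D := xu0_2_D) (by decide +kernel) xu0_2_c (by decide +kernel) hR hH
noncomputable def xu0_3_S0 : List ℕ := [nat_lit 0x1300000f00000b00000800c01e, nat_lit 0x1b000017008016, nat_lit 0x2700002300001f00001700001001001a, nat_lit 0x13000009000027004018, nat_lit 0x2300001f00001c000018, nat_lit 0x3300002f00002b00001100c01e, nat_lit 0x3b000037008016, nat_lit 0x4700004300003f00003700003001001a, nat_lit 0x3300001d000047004018, nat_lit 0x4300003f00003c000018]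
noncomputable def xu0_3_S : List (List ℕ) := [xu0_3_S0]
noncomputable def xu0_3_defs : List ℕ := [(nat_lit 0x1000100070000f0010000d0070000d0070000a0030000b0010000a0050000600100008007000070010000500700005007000020030000300100002005000000030000000000000)]
noncomputable def xu0_3_recs : List ℕ := [(nat_lit 0x30000e0001008000100000c070000b00011070000a0000e05000080000c030000600008080000800004070000300009070000200006050000100004)]
noncomputable def xu0_3_T : List (List ℕ × ℕ) := [([5,8,5,8,3,7,5,7,5,3], (nat_lit 0x800000100000e00001500002200002600001a00002b00000600000b))]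
noncomputable def xu0_3_D : H26.Dag := ⟨[0,1,2,3,4,5,6,8,7,10,9], [[0,0],
  [1,1],
  [2,2],
  [3,3],
  [4,4],
  [5,5],
  [6,6],
  [7,8],
  [8,7],
  [9,10],
  [10,9],
  [7,7,7],
  [3,8,1,7],
  [7,1,7,1,7,1],
  [3,1,3,1],
  [5,1,3,5,3]], [], xu0_3_defs, xu0_3_recs⟩
theorem xu0_3_c : xu0_3_D.check xu0_3_S xu0_3_T = true := by decide +kernel
theorem xu0_3 {G : Type*} [Group G] {g : ℕ → G} (hR : Rels g xu0_r_R) {H : Subgroup G}
    (hH : ∀ k ∈ [], g k ∈ H) : evA g [5,8,5,8,3,7,5,7,5,3] ∈ H :=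
  mem_dag (K := 11) (J := [0,1,2,3,4,5,6,7,8,9,10,11,12,14,28,37]) (D := xu0_3_D) (by decide +kernel) xu0_3_c (by decide +kernel) hR hH
noncomputable def xu0_4_S0 : List ℕ := [nat_lit 0x1300000f00000b00000800c01e, nat_lit 0x1b000017008016, nat_lit 0x2700002300001f00001700001001001a, nat_lit 0x13000009000027004018, nat_lit 0x2300001f00001c000018, nat_lit 0x3300002f00002b00001100c01e, nat_lit 0x3b000037008016, nat_lit 0x4700004300003f00003700003001001a, nat_lit 0x3300001d000047004018, nat_lit 0x4300003f00003c000018]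
noncomputable def xu0_4_S : List (List ℕ) := [xu0_4_S0]
noncomputable def xu0_4_defs : List ℕ := [(nat_lit 0x2000100070000f0020000d0070000d0070000a0040000b0020000a0050000600200008007000070020000500700005007000020040000300200002005000000040000000000000)]
noncomputable def xu0_4_recs : List ℕ := [(nat_lit 0x40000e0001008000100000c070000b00011070000a0000e05000080000c040000600008080000800004070000300009070000200006050000100004)]
noncomputable def xu0_4_T : List (List ℕ × ℕ) := [([5,8,5,8,4,7,5,7,5,4], (nat_lit 0x800000100000e00001500002200002600001a00002b00000600000b))]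
noncomputable def xu0_4_D : H26.Dag := ⟨[0,1,2,3,4,5,6,8,7,10,9], [[0,0],
  [1,1],
  [2,2],
  [3,3],
  [4,4],
  [5,5],
  [6,6],
  [7,8],
  [8,7],
  [9,10],
  [10,9],
  [7,7,7],
  [4,8,2,7],
  [7,2,7,2,7,2],
  [4,2,4,2],
  [5,2,4,5,4]], [], xu0_4_defs, xu0_4_recs⟩
theorem xu0_4_c : xu0_4_D.check xu0_4_S xu0_4_T = true := by decide +kernel
theorem xu0_4 {G : Type*} [Group G] {g : ℕ → G} (hR : Rels g xu0_r_R) {H : Subgroup G}
    (hH : ∀ k ∈ [], g k ∈ H) : evA g [5,8,5,8,4,7,5,7,5,4] ∈ H :=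
  mem_dag (K := 11) (J := [0,1,2,3,4,5,6,7,8,9,10,11,13,15,29,38]) (D := xu0_4_D) (by decide +kernel) xu0_4_c (by decide +kernel) hR hH
theorem xu0 {G : Type*} [Group G] {z u v a b r s x y : G}
    (h : Q3 z u v a b x)
    (k : KY z u v x y)
    (q : QT z u v a b)
    (t : TU z u v a b r s) :
    z * (r * x * r⁻¹ * x⁻¹⁻¹) = r * x * r⁻¹ * x⁻¹⁻¹ * z ∧ u * (r * x * r⁻¹ * x⁻¹⁻¹) = r * x * r⁻¹ * x⁻¹⁻¹ * u ∧ v * (r * x * r⁻¹ * x⁻¹⁻¹) = r * x * r⁻¹ * x⁻¹⁻¹ * v ∧ a * (r * x * r⁻¹ * x⁻¹⁻¹) = r * x * r⁻¹ * x⁻¹⁻¹ * a ∧ b * (r * x * r⁻¹ * x⁻¹⁻¹) = r * x * r⁻¹ * x⁻¹⁻¹ * b :=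
  ⟨mul_inv_eq_one.1 ((evA_eq_tm ((InvI.cons h.1 (InvI.cons h.2.1 (InvI.cons h.2.2.1 (InvI.cons h.2.2.2.1 (InvI.cons h.2.2.2.2.1 (InvI.cons t.1 (InvI.cons t.2.1 InvI.nil))))))) : InvI [z, u, v, a, b, r, s, x, y] [(nat_lit 0), (nat_lit 1), (nat_lit 2), (nat_lit 3), (nat_lit 4), (nat_lit 5), (nat_lit 6)]) [(.v (nat_lit 0)), (.v (nat_lit 1)), (.v (nat_lit 2)), (.v (nat_lit 3)), (.v (nat_lit 4)), (.v (nat_lit 5)), (.v (nat_lit 6)), (.v (nat_lit 7)), (.inv (.v (nat_lit 7))), (.v (nat_lit 8)), (.inv (.v (nat_lit 8)))] [5,8,5,8,0,7,5,7,5,0] (.mul (.mul (.v (nat_lit 0)) (.mul (.mul (.mul (.v (nat_lit 5)) (.v (nat_lit 7))) (.inv (.v (nat_lit 5)))) (.inv (.inv (.v (nat_lit 7)))))) (.inv (.mul (.mul (.mul (.mul (.v (nat_lit 5)) (.v (nat_lit 7))) (.inv (.v (nat_lit 5)))) (.inv (.inv (.v (nat_lit 7))))) (.v (nat_lit 0))))) (by decide +kernel)).symm.trans (Subgroup.mem_bot.1 (xu0_0 (xu0_r h k q t) (H := ⊥) (List.forall_mem_nil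 _)))),
   mul_inv_eq_one.1 ((evA_eq_tm ((InvI.cons h.1 (InvI.cons h.2.1 (InvI.cons h.2.2.1 (InvI.cons h.2.2.2.1 (InvI.cons h.2.2.2.2.1 (InvI.cons t.1 (InvI.cons t.2.1 InvI.nil))))))) : InvI [z, u, v, a, b, r, s, x, y] [(nat_lit 0), (nat_lit 1), (nat_lit 2), (nat_lit 3), (nat_lit 4), (nat_lit 5), (nat_lit 6)]) [(.v (nat_lit 0)), (.v (nat_lit 1)), (.v (nat_lit 2)), (.v (nat_lit 3)), (.v (nat_lit 4)), (.v (nat_lit 5)), (.v (nat_lit 6)), (.v (nat_lit 7)), (.inv (.v (nat_lit 7))), (.v (nat_lit 8)), (.inv (.v (nat_lit 8)))] [5,8,5,8,1,7,5,7,5,1] (.mul (.mul (.v (nat_lit 1)) (.mul (.mul (.mul (.v (nat_lit 5)) (.v (nat_lit 7))) (.inv (.v (nat_lit 5)))) (.inv (.inv (.v (nat_lit 7)))))) (.inv (.mul (.mul (.mul (.mul (.v (nat_lit 5)) (.v (nat_lit 7))) (.inv (.v (nat_lit 5)))) (.inv (.inv (.v (nat_lit 7))))) (.v (nat_lit 1))))) (by decide +kernel)).symm.trans (Subgroup.mem_bot.1 (xu0_1 (xu0_r h k q t) (H := ⊥) (List.forall_mem_nil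 _)))),
   mul_inv_eq_one.1 ((evA_eq_tm ((InvI.cons h.1 (InvI.cons h.2.1 (InvI.cons h.2.2.1 (InvI.cons h.2.2.2.1 (InvI.cons h.2.2.2.2.1 (InvI.cons t.1 (InvI.cons t.2.1 InvI.nil))))))) : InvI [z, u, v, a, b, r, s, x, y] [(nat_lit 0), (nat_lit 1), (nat_lit 2), (nat_lit 3), (nat_lit 4), (nat_lit 5), (nat_lit 6)]) [(.v (nat_lit 0)), (.v (nat_lit 1)), (.v (nat_lit 2)), (.v (nat_lit 3)), (.v (nat_lit 4)), (.v (nat_lit 5)), (.v (nat_lit 6)), (.v (nat_lit 7)), (.inv (.v (nat_lit 7))), (.v (nat_lit 8)), (.inv (.v (nat_lit 8)))] [5,8,5,8,2,7,5,7,5,2] (.mul (.mul (.v (nat_lit 2)) (.mul (.mul (.mul (.v (nat_lit 5)) (.v (nat_lit 7))) (.inv (.v (nat_lit 5)))) (.inv (.inv (.v (nat_lit 7)))))) (.inv (.mul (.mul (.mul (.mul (.v (nat_lit 5)) (.v (nat_lit 7))) (.inv (.v (nat_lit 5)))) (.inv (.inv (.v (nat_lit 7))))) (.v (nat_lit 2))))) (by decide +kernel)).symm.trans (Subgroup.mem_bot.1 (xu0_2 (xu0_r h k q t) (H := ⊥) (List.forall_mem_nil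 _)))),
   mul_inv_eq_one.1 ((evA_eq_tm ((InvI.cons h.1 (InvI.cons h.2.1 (InvI.cons h.2.2.1 (InvI.cons h.2.2.2.1 (InvI.cons h.2.2.2.2.1 (InvI.cons t.1 (InvI.cons t.2.1 InvI.nil))))))) : InvI [z, u, v, a, b, r, s, x, y] [(nat_lit 0), (nat_lit 1), (nat_lit 2), (nat_lit 3), (nat_lit 4), (nat_lit 5), (nat_lit 6)]) [(.v (nat_lit 0)), (.v (nat_lit 1)), (.v (nat_lit 2)), (.v (nat_lit 3)), (.v (nat_lit 4)), (.v (nat_lit 5)), (.v (nat_lit 6)), (.v (nat_lit 7)), (.inv (.v (nat_lit 7))), (.v (nat_lit 8)), (.inv (.v (nat_lit 8)))] [5,8,5,8,3,7,5,7,5,3] (.mul (.mul (.v (nat_lit 3)) (.mul (.mul (.mul (.v (nat_lit 5)) (.v (nat_lit 7))) (.inv (.v (nat_lit 5)))) (.inv (.inv (.v (nat_lit 7)))))) (.inv (.mul (.mul (.mul (.mul (.v (nat_lit 5)) (.v (nat_lit 7))) (.inv (.v (nat_lit 5)))) (.inv (.inv (.v (nat_lit 7))))) (.v (nat_lit 3))))) (by decide +kernel)).symm.trans (Subgroup.mem_bot.1 (xu0_3 (xu0_r h k q t) (H := ⊥) (List.forall_mem_nil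 _)))),
   mul_inv_eq_one.1 ((evA_eq_tm ((InvI.cons h.1 (InvI.cons h.2.1 (InvI.cons h.2.2.1 (InvI.cons h.2.2.2.1 (InvI.cons h.2.2.2.2.1 (InvI.cons t.1 (InvI.cons t.2.1 InvI.nil))))))) : InvI [z, u, v, a, b, r, s, x, y] [(nat_lit 0), (nat_lit 1), (nat_lit 2), (nat_lit 3), (nat_lit 4), (nat_lit 5), (nat_lit 6)]) [(.v (nat_lit 0)), (.v (nat_lit 1)), (.v (nat_lit 2)), (.v (nat_lit 3)), (.v (nat_lit 4)), (.v (nat_lit 5)), (.v (nat_lit 6)), (.v (nat_lit 7)), (.inv (.v (nat_lit 7))), (.v (nat_lit 8)), (.inv (.v (nat_lit 8)))] [5,8,5,8,4,7,5,7,5,4] (.mul (.mul (.v (nat_lit 4)) (.mul (.mul (.mul (.v (nat_lit 5)) (.v (nat_lit 7))) (.inv (.v (nat_lit 5)))) (.inv (.inv (.v (nat_lit 7)))))) (.inv (.mul (.mul (.mul (.mul (.v (nat_lit 5)) (.v (nat_lit 7))) (.inv (.v (nat_lit 5)))) (.inv (.inv (.v (nat_lit 7))))) (.v (nat_lit 4))))) (by decide +kernel)).symm.trans (Subgroup.mem_bot.1 (xu0_4 (xu0_r h k q t) (H := ⊥) (List.forall_mem_nil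 _))))⟩
noncomputable def xu1_r_R : List (List ℕ) := [[0,0],
  [1,1],
  [2,2],
  [3,3],
  [4,4],
  [5,5],
  [6,6],
  [7,8],
  [8,7],
  [9,10],
  [10,9],
  [7,7,7],
  [3,8,1,7],
  [4,8,2,7],
  [7,1,7,1,7,1],
  [7,2,7,2,7,2],
  [2,1,2,1],
  [0,4,1,4,1],
  [8,0,7,0],
  [1,0,1,0],
  [2,0,2,0],
  [9,9,9],
  [8,10,7,9],
  [0,10,0,9],
  [2,10,1,9],
  [0,1,2,10,2,9],
  [3,0,3,0],
  [4,0,4,0],
  [3,1,3,1],
  [4,2,4,2],
  [4,3,4,3],
  [1,0,4,1,4],
  [2,0,3,2,3],
  [5,0,5,0],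
  [6,0,6,0],
  [1,5,1,5],
  [2,5,2,5],
  [5,1,3,5,3],
  [5,2,4,5,4],
  [1,6,1,6],
  [3,6,3,6],
  [0,1,2,6,2,6],
  [0,3,4,6,4,6],
  [6,0,5,6,5]]
theorem xu1_r {G : Type*} [Group G] {z u v a b r s x y : G}
    (h : Q3 z u v a b x)
    (k : KY z u v x y)
    (q : QT z u v a b)
    (t : TU z u v a b r s) :
    Rels (nthG [z, u, v, a, b, r, s, x, x⁻¹, y, y⁻¹]) xu1_r_R :=
  rels_of_eqs ((InvI.cons h.1 (InvI.cons h.2.1 (InvI.cons h.2.2.1 (InvI.cons h.2.2.2.1 (InvI.cons h.2.2.2.2.1 (InvI.cons t.1 (InvI.cons t.2.1 InvI.nil))))))) : InvI [z, u, v, a, b, r, s, x, y] [(nat_lit 0), (nat_lit 1), (nat_lit 2), (nat_lit 3), (nat_lit 4), (nat_lit 5), (nat_lit 6)])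
    (AllEq.append (show AllEq [z, u, v, a, b, r, s, x, y] [((.mul (.v (nat_lit 0)) (.v (nat_lit 0))), .one), ((.mul (.v (nat_lit 1)) (.v (nat_lit 1))), .one), ((.mul (.v (nat_lit 2)) (.v (nat_lit 2))), .one), ((.mul (.v (nat_lit 3)) (.v (nat_lit 3))), .one), ((.mul (.v (nat_lit 4)) (.v (nat_lit 4))), .one), ((.pw (.v (nat_lit 7)) (nat_lit 3)), .one), ((.mul (.mul (.v (nat_lit 7)) (.v (nat_lit 1))) (.inv (.v (nat_lit 7)))), (.v (nat_lit 3))), ((.mul (.mul (.v (nat_lit 7)) (.v (nat_lit 2))) (.inv (.v (nat_lit 7)))), (.v (nat_lit 4))), ((.pw (.mul (.v (nat_lit 1)) (.v (nat_lit 7))) (nat_lit 3)), .one), ((.pw (.mul (.v (nat_lit 2)) (.v (nat_lit 7))) (nat_lit 3)), .one), ((.mul (.v (nat_lit 1)) (.v (nat_lit 2))), (.mul (.v (nat_lit 2)) (.v (nat_lit 1)))), ((.mul (.mul (.mul (.v (nat_lit 1)) (.v (nat_lit 4))) (.inv (.v (nat_lit 1)))) (.inv (.v (nat_lit 4)))), (.v (nat_lit 0))), ((.mul (.v (nat_lit 0)) (.v (nat_lit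 7))), (.mul (.v (nat_lit 7)) (.v (nat_lit 0)))), ((.mul (.v (nat_lit 0)) (.v (nat_lit 1))), (.mul (.v (nat_lit 1)) (.v (nat_lit 0)))), ((.mul (.v (nat_lit 0)) (.v (nat_lit 2))), (.mul (.v (nat_lit 2)) (.v (nat_lit 0))))] from h)
    (AllEq.append (show AllEq [z, u, v, a, b, r, s, x, y] [((.pw (.v (nat_lit 8)) (nat_lit 3)), .one), ((.mul (.v (nat_lit 8)) (.v (nat_lit 7))), (.mul (.v (nat_lit 7)) (.v (nat_lit 8)))), ((.mul (.v (nat_lit 8)) (.v (nat_lit 0))), (.mul (.v (nat_lit 0)) (.v (nat_lit 8)))), ((.mul (.mul (.v (nat_lit 8)) (.v (nat_lit 1))) (.inv (.v (nat_lit 8)))), (.v (nat_lit 2))), ((.mul (.mul (.v (nat_lit 8)) (.v (nat_lit 2))) (.inv (.v (nat_lit 8)))), (.mul (.mul (.v (nat_lit 0)) (.v (nat_lit 1))) (.v (nat_lit 2))))] from k)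
    (AllEq.append (show AllEq [z, u, v, a, b, r, s, x, y] [((.mul (.v (nat_lit 0)) (.v (nat_lit 0))), .one), ((.mul (.v (nat_lit 1)) (.v (nat_lit 1))), .one), ((.mul (.v (nat_lit 2)) (.v (nat_lit 2))), .one), ((.mul (.v (nat_lit 3)) (.v (nat_lit 3))), .one), ((.mul (.v (nat_lit 4)) (.v (nat_lit 4))), .one), ((.mul (.v (nat_lit 1)) (.v (nat_lit 2))), (.mul (.v (nat_lit 2)) (.v (nat_lit 1)))), ((.mul (.v (nat_lit 0)) (.v (nat_lit 1))), (.mul (.v (nat_lit 1)) (.v (nat_lit 0)))), ((.mul (.v (nat_lit 0)) (.v (nat_lit 2))), (.mul (.v (nat_lit 2)) (.v (nat_lit 0)))), ((.mul (.v (nat_lit 0)) (.v (nat_lit 3))), (.mul (.v (nat_lit 3)) (.v (nat_lit 0)))), ((.mul (.v (nat_lit 0)) (.v (nat_lit 4))), (.mul (.v (nat_lit 4)) (.v (nat_lit 0)))), ((.mul (.v (nat_lit 1)) (.v (nat_lit 3))), (.mul (.v (nat_lit 3)) (.v (nat_lit 1)))), ((.mul (.v (nat_lit 2)) (.v (nat_lit 4))), (.mul (.v (nat_lit 4)) (.v (nat_lit 2)))), ((.mul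 (.v (nat_lit 3)) (.v (nat_lit 4))), (.mul (.v (nat_lit 4)) (.v (nat_lit 3)))), ((.mul (.mul (.v (nat_lit 4)) (.v (nat_lit 1))) (.v (nat_lit 4))), (.mul (.v (nat_lit 1)) (.v (nat_lit 0)))), ((.mul (.mul (.v (nat_lit 3)) (.v (nat_lit 2))) (.v (nat_lit 3))), (.mul (.v (nat_lit 2)) (.v (nat_lit 0))))] from q)
    (show AllEq [z, u, v, a, b, r, s, x, y] [((.mul (.v (nat_lit 5)) (.v (nat_lit 5))), .one), ((.mul (.v (nat_lit 6)) (.v (nat_lit 6))), .one), ((.mul (.v (nat_lit 0)) (.v (nat_lit 5))), (.mul (.v (nat_lit 5)) (.v (nat_lit 0)))), ((.mul (.v (nat_lit 0)) (.v (nat_lit 6))), (.mul (.v (nat_lit 6)) (.v (nat_lit 0)))), ((.mul (.v (nat_lit 5)) (.v (nat_lit 1))), (.mul (.v (nat_lit 1)) (.v (nat_lit 5)))), ((.mul (.v (nat_lit 5)) (.v (nat_lit 2))), (.mul (.v (nat_lit 2)) (.v (nat_lit 5)))), ((.mul (.mul (.v (nat_lit 3)) (.v (nat_lit 5))) (.v (nat_lit 3))), (.mul (.v (nat_lit 5)) (.v (nat_lit 1)))), ((.mul (.mul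 (.v (nat_lit 4)) (.v (nat_lit 5))) (.v (nat_lit 4))), (.mul (.v (nat_lit 5)) (.v (nat_lit 2)))), ((.mul (.v (nat_lit 6)) (.v (nat_lit 1))), (.mul (.v (nat_lit 1)) (.v (nat_lit 6)))), ((.mul (.v (nat_lit 6)) (.v (nat_lit 3))), (.mul (.v (nat_lit 3)) (.v (nat_lit 6)))), ((.mul (.mul (.v (nat_lit 6)) (.v (nat_lit 2))) (.v (nat_lit 6))), (.mul (.mul (.v (nat_lit 0)) (.v (nat_lit 1))) (.v (nat_lit 2)))), ((.mul (.mul (.v (nat_lit 6)) (.v (nat_lit 4))) (.v (nat_lit 6))), (.mul (.mul (.v (nat_lit 0)) (.v (nat_lit 3))) (.v (nat_lit 4)))), ((.mul (.mul (.v (nat_lit 5)) (.v (nat_lit 6))) (.v (nat_lit 5))), (.mul (.v (nat_lit 6)) (.v (nat_lit 0))))] from t))))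
    [(.v (nat_lit 0)), (.v (nat_lit 1)), (.v (nat_lit 2)), (.v (nat_lit 3)), (.v (nat_lit 4)), (.v (nat_lit 5)), (.v (nat_lit 6)), (.v (nat_lit 7)), (.inv (.v (nat_lit 7))), (.v (nat_lit 8)), (.inv (.v (nat_lit 8)))] (by decide +kernel)
noncomputable def xu1_0_S0 : List ℕ := [nat_lit 0x1300000b000008004018, nat_lit 0x1b000002000010008016, nat_lit 0x23000006000018004018, nat_lit 0x2700001f000009004016]
noncomputable def xu1_0_S : List (List ℕ) := [xu1_0_S0]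
noncomputable def xu1_0_defs : List ℕ := [(nat_lit 0x7005000060090000500a00004005000030050000200a00001000000000050000000000000)]
noncomputable def xu1_0_recs : List ℕ := [(nat_lit 0xa0000800009000000500008000000300006000000100004)]
noncomputable def xu1_0_T : List (List ℕ × ℕ) := [([5,10,5,9,0,10,5,9,5,0], (nat_lit 0xc00001400001c00002400000d00002700001f00001700000f000007))]
noncomputable def xu1_0_D : H26.Dag := ⟨[0,1,2,3,4,5,6,8,7,10,9], [[0,0],
  [1,1],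
  [2,2],
  [3,3],
  [4,4],
  [5,5],
  [6,6],
  [7,8],
  [8,7],
  [9,10],
  [10,9],
  [0,10,0,9],
  [5,0,5,0]], [], xu1_0_defs, xu1_0_recs⟩
theorem xu1_0_c : xu1_0_D.check xu1_0_S xu1_0_T = true := by decide +kernel
theorem xu1_0 {G : Type*} [Group G] {g : ℕ → G} (hR : Rels g xu1_r_R) {H : Subgroup G}
    (hH : ∀ k ∈ [], g k ∈ H) : evA g [5,10,5,9,0,10,5,9,5,0] ∈ H :=
  mem_dag (K := 11) (J := [0,1,2,3,4,5,6,7,8,9,10,23,33]) (D := xu1_0_D) (by decide +kernel) xu1_0_c (by decide +kernel) hR hH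
noncomputable def xu1_1_S0 : List ℕ := [nat_lit 0x1300000b000008008022, nat_lit 0x2f00000f00002c00c01a, nat_lit 0x37000017000030008020, nat_lit 0x3b000020006018, nat_lit 0x3f00001b00003400c01c, nat_lit 0x600002b00000100003400001100601e, nat_lit 0x43000023000040004022, nat_lit 0xa000016000019000024, nat_lit 0x4700004400001d004016, nat_lit 0x4f00004c006018, nat_lit 0x4f00004800002200003700003c01001e, nat_lit 0x2700000d00002900002600c01c, nat_lit 0x2e00004b000014]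
noncomputable def xu1_1_S : List (List ℕ) := [xu1_1_S0]
noncomputable def xu1_1_defs : List ℕ := [(nat_lit 0xa000080090000800200008001000080010000600a000050000000500200004000000030000000100100007005000060090000500a00004005000030050000200a00001001000000050000000000000)]
noncomputable def xu1_1_recs : List ℕ := [(nat_lit 0xa0000800009ff0001200009020000e000130a0001200013010000d0001102000100000d050000f00010020000f0000b090000c0000f0a000070000e050000b0000d090000a0000b010000100004)]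
noncomputable def xu1_1_T : List (List ℕ × ℕ) := [([5,10,5,9,1,10,5,9,5,1], (nat_lit 0xc00001400001c00002400003100002700001f00001700000f000007))]
noncomputable def xu1_1_D : H26.Dag := ⟨[0,1,2,3,4,5,6,8,7,10,9], [[0,0],
  [1,1],
  [2,2],
  [3,3],
  [4,4],
  [5,5],
  [6,6],
  [7,8],
  [8,7],
  [9,10],
  [10,9],
  [2,1,2,1],
  [9,9,9],
  [0,10,0,9],
  [2,10,1,9],
  [0,1,2,10,2,9],
  [5,0,5,0],
  [1,5,1,5],
  [2,5,2,5]], [], xu1_1_defs, xu1_1_recs⟩
theorem xu1_1_c : xu1_1_D.check xu1_1_S xu1_1_T = true := by decide +kernel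
theorem xu1_1 {G : Type*} [Group G] {g : ℕ → G} (hR : Rels g xu1_r_R) {H : Subgroup G}
    (hH : ∀ k ∈ [], g k ∈ H) : evA g [5,10,5,9,1,10,5,9,5,1] ∈ H :=
  mem_dag (K := 11) (J := [0,1,2,3,4,5,6,7,8,9,10,16,21,23,24,25,33,35,36]) (D := xu1_1_D) (by decide +kernel) xu1_1_c (by decide +kernel) hR hH
noncomputable def xu1_2_S0 : List ℕ := [nat_lit 0x1300000b00000800801a, nat_lit 0x1b000002000010008016, nat_lit 0x23000006000018008018, nat_lit 0x2700001f000009004016]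
noncomputable def xu1_2_S : List (List ℕ) := [xu1_2_S0]
noncomputable def xu1_2_defs : List ℕ := [(nat_lit 0x200007005000060090000500a00004005000030050000200a00001002000000050000000000000)]
noncomputable def xu1_2_recs : List ℕ := [(nat_lit 0xa0000800009010000500008010000300006020000100004)]
noncomputable def xu1_2_T : List (List ℕ × ℕ) := [([5,10,5,9,2,10,5,9,5,2], (nat_lit 0xc00001400001c00002400000d00002700001f00001700000f000007))]
noncomputable def xu1_2_D : H26.Dag := ⟨[0,1,2,3,4,5,6,8,7,10,9], [[0,0],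
  [1,1],
  [2,2],
  [3,3],
  [4,4],
  [5,5],
  [6,6],
  [7,8],
  [8,7],
  [9,10],
  [10,9],
  [2,10,1,9],
  [1,5,1,5],
  [2,5,2,5]], [], xu1_2_defs, xu1_2_recs⟩
theorem xu1_2_c : xu1_2_D.check xu1_2_S xu1_2_T = true := by decide +kernel
theorem xu1_2 {G : Type*} [Group G] {g : ℕ → G} (hR : Rels g xu1_r_R) {H : Subgroup G}
    (hH : ∀ k ∈ [], g k ∈ H) : evA g [5,10,5,9,2,10,5,9,5,2] ∈ H :=
  mem_dag (K := 11) (J := [0,1,2,3,4,5,6,7,8,9,10,24,35,36]) (D := xu1_2_D) (by decide +kernel) xu1_2_c (by decide +kernel) hR hH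
noncomputable def xu1_3_S0 : List ℕ := [nat_lit 0x2b00000700000c00001400803e, nat_lit 0x4300000f00003000c02a, nat_lit 0x47000044006016, nat_lit 0x53000050006016, nat_lit 0x6300001b00004c00c02c, nat_lit 0x73000070006016, nat_lit 0x7700001f00006000402a, nat_lit 0x7b00002300006800403c, nat_lit 0x8b000027000078008018, nat_lit 0x93000002000054008018, nat_lit 0xd00002500009300002b00003001201c, nat_lit 0x9b00003300003c004034, nat_lit 0x9b00003300001800005c00c03e, nat_lit 0x9f000037000040004036, nat_lit 0xa300003b000040004038, nat_lit 0xa700002d00003200803c, nat_lit 0xab00003f00004800801a, nat_lit 0xaf00000600009800c02e, nat_lit 0xb30000090000410000ab00003500601e, nat_lit 0xb700004b00005000c024, nat_lit 0xbb00005700005c004032, nat_lit 0xbf000057000060004024, nat_lit 0xc3000019006028, nat_lit 0xc700006300007000c024, nat_lit 0xc70000120000b800c02a, nat_lit 0x4600009700002900004d000061010030, nat_lit 0x650000af0000b4004020,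 nat_lit 0xcf00006700006c004034, nat_lit 0xd300006b000074008018, nat_lit 0xd700005d00006a004026, nat_lit 0xd70000150000710000d300006d00601c, nat_lit 0x7900007600004a004024, nat_lit 0x3a00003500007d0000cf0000cc00603a, nat_lit 0x820000cb000004, nat_lit 0x1e0000850000a30000a8002040, nat_lit 0x5200003d00008900007b000080004022, nat_lit 0x8d0000bb000006, nat_lit 0xdb0000920000c0008018, nat_lit 0xdb00007f00008400801a, nat_lit 0xdf00008300008800e02a, nat_lit 0xe30000e0006028, nat_lit 0xe30000990000960000560000c4010030, nat_lit 0x220000590000a50000a200c02e, nat_lit 0x8c0000aa00009e000010, nat_lit 0x8f0000ae000087000012, nat_lit 0xb100008f000012]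
noncomputable def xu1_3_S : List (List ℕ) := [xu1_3_S0]
noncomputable def xu1_3_defs : List ℕ := [(nat_lit 0xa00020009000200080001f0010001b0080001a00300019002000190070001800a0001700800015003000150070001200200010001000100080000f0050000e0040000e0040000d0030000c0020000b0080000a00a000090080000900900008008000080040000800100008008000070080000600700006003000060010000600000006008000050030000500000005008000040070000400000004008000030070000300400003003000030020000300100003007000010010000100300007005000060090000500a00004005000030050000200a00001003000000050000000000000)]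
noncomputable def xu1_3_recs : List ℕ := [(nat_lit 0x90000900008ff0000800023ff0002100009ff00037000220200030000380a0003700038070002100037020002000036010002f0003603000150001fff0001f0002e04000290001e020001900028ff0003200028000002700033080003300035000002c00035010001c00034010001a00033010002c0003102000310002b090002d00031000001b000310a0001d0003000000170002f00000160002e00000130002d08000270002c09000250002b02000110002a010001600029030000f00028020000f00027050001600026010000e00026010000b00013010001400024010001d0002205000190001e0a000170001d080001b0001c090001200018080001300014080001000011090000b0001003000040000a)]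
noncomputable def xu1_3_T : List (List ℕ × ℕ) := [([5,10,5,9,3,10,5,9,5,3], (nat_lit 0xc00001400001c0000240000b600002700001f00001700000f000007))]
noncomputable def xu1_3_D : H26.Dag := ⟨[0,1,2,3,4,5,6,8,7,10,9], [[0,0],
  [1,1],
  [2,2],
  [3,3],
  [4,4],
  [5,5],
  [6,6],
  [7,8],
  [8,7],
  [9,10],
  [10,9],
  [7,7,7],
  [3,8,1,7],
  [4,8,2,7],
  [7,1,7,1,7,1],
  [7,2,7,2,7,2],
  [2,1,2,1],
  [0,4,1,4,1],
  [8,0,7,0],
  [1,0,1,0],
  [9,9,9],
  [8,10,7,9],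
  [0,10,0,9],
  [2,10,1,9],
  [0,1,2,10,2,9],
  [3,0,3,0],
  [3,1,3,1],
  [4,2,4,2],
  [4,3,4,3],
  [2,0,3,2,3],
  [1,5,1,5],
  [5,1,3,5,3],
  [5,2,4,5,4]], [], xu1_3_defs, xu1_3_recs⟩
theorem xu1_3_c : xu1_3_D.check xu1_3_S xu1_3_T = true := by decide +kernel
theorem xu1_3 {G : Type*} [Group G] {g : ℕ → G} (hR : Rels g xu1_r_R) {H : Subgroup G}
    (hH : ∀ k ∈ [], g k ∈ H) : evA g [5,10,5,9,3,10,5,9,5,3] ∈ H :=
  mem_dag (K := 11) (J := [0,1,2,3,4,5,6,7,8,9,10,11,12,13,14,15,16,17,18,19,21,22,23,24,25,26,28,29,30,32,35,37,38]) (D := xu1_3_D) (by decide +kernel) xu1_3_c (by decide +kernel) hR hH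
noncomputable def xu1_4_S0 : List ℕ := [nat_lit 0x1300000700001000801e, nat_lit 0x1700000b000008000014010022, nat_lit 0x2300000200001c00801c, nat_lit 0x27000006000020008018, nat_lit 0x3300001f00002400801a, nat_lit 0x3b00002700002c00801a, nat_lit 0x3b00000e00003400801c, nat_lit 0x37000011000019000016004016, nat_lit 0x1d000037000006, nat_lit 0x3f00002200000a000030010020, nat_lit 0x4b000026000044008016, nat_lit 0x5300004300004800e01a, nat_lit 0x5b00004b00005000e01a, nat_lit 0x5b00002a00005400001c, nat_lit 0x5700002d000035000032004018, nat_lit 0x39000057000008]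
noncomputable def xu1_4_S : List (List ℕ) := [xu1_4_S0]
noncomputable def xu1_4_defs : List ℕ := [(nat_lit 0x90001200400011009000100090000f0080000f0090000b0080000b0050000a00a000090030000800a000070050000600a000050080000500a000040080000400a00003005000020050000100500000004000000020000000000000)]
noncomputable def xu1_4_recs : List ℕ := [(nat_lit 0x40001100013ff0001300015020001400016070001300016070001100014010001000012030000b0000f03000080000aff0000a0000d010000c0000e070000a0000e07000080000c020000700009010000600008040000400005020000300004)]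
noncomputable def xu1_4_T : List (List ℕ × ℕ) := [([5,10,5,9,4,10,5,9,5,4], (nat_lit 0xc00001800002c00004000005000003e00004700002f00001b00000f))]
noncomputable def xu1_4_D : H26.Dag := ⟨[0,1,2,3,4,5,6,8,7,10,9], [[0,0],
  [1,1],
  [2,2],
  [3,3],
  [4,4],
  [5,5],
  [6,6],
  [7,8],
  [8,7],
  [9,10],
  [10,9],
  [3,8,1,7],
  [4,8,2,7],
  [8,10,7,9],
  [2,10,1,9],
  [2,5,2,5],
  [5,1,3,5,3],
  [5,2,4,5,4]], [], xu1_4_defs, xu1_4_recs⟩
theorem xu1_4_c : xu1_4_D.check xu1_4_S xu1_4_T = true := by decide +kernel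
theorem xu1_4 {G : Type*} [Group G] {g : ℕ → G} (hR : Rels g xu1_r_R) {H : Subgroup G}
    (hH : ∀ k ∈ [], g k ∈ H) : evA g [5,10,5,9,4,10,5,9,5,4] ∈ H :=
  mem_dag (K := 11) (J := [0,1,2,3,4,5,6,7,8,9,10,12,13,22,24,36,37,38]) (D := xu1_4_D) (by decide +kernel) xu1_4_c (by decide +kernel) hR hH
theorem xu1 {G : Type*} [Group G] {z u v a b r s x y : G}
    (h : Q3 z u v a b x)
    (k : KY z u v x y)
    (q : QT z u v a b)
    (t : TU z u v a b r s) :
    z * (r * y * r⁻¹ * y⁻¹) = r * y * r⁻¹ * y⁻¹ * z ∧ u * (r * y * r⁻¹ * y⁻¹) = r * y * r⁻¹ * y⁻¹ * u ∧ v * (r * y * r⁻¹ * y⁻¹) = r * y * r⁻¹ * y⁻¹ * v ∧ a * (r * y * r⁻¹ * y⁻¹) = r * y * r⁻¹ * y⁻¹ * a ∧ b * (r * y * r⁻¹ * y⁻¹) = r * y * r⁻¹ * y⁻¹ * b :=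
  ⟨mul_inv_eq_one.1 ((evA_eq_tm ((InvI.cons h.1 (InvI.cons h.2.1 (InvI.cons h.2.2.1 (InvI.cons h.2.2.2.1 (InvI.cons h.2.2.2.2.1 (InvI.cons t.1 (InvI.cons t.2.1 InvI.nil))))))) : InvI [z, u, v, a, b, r, s, x, y] [(nat_lit 0), (nat_lit 1), (nat_lit 2), (nat_lit 3), (nat_lit 4), (nat_lit 5), (nat_lit 6)]) [(.v (nat_lit 0)), (.v (nat_lit 1)), (.v (nat_lit 2)), (.v (nat_lit 3)), (.v (nat_lit 4)), (.v (nat_lit 5)), (.v (nat_lit 6)), (.v (nat_lit 7)), (.inv (.v (nat_lit 7))), (.v (nat_lit 8)), (.inv (.v (nat_lit 8)))] [5,10,5,9,0,10,5,9,5,0] (.mul (.mul (.v (nat_lit 0)) (.mul (.mul (.mul (.v (nat_lit 5)) (.v (nat_lit 8))) (.inv (.v (nat_lit 5)))) (.inv (.v (nat_lit 8))))) (.inv (.mul (.mul (.mul (.mul (.v (nat_lit 5)) (.v (nat_lit 8))) (.inv (.v (nat_lit 5)))) (.inv (.v (nat_lit 8)))) (.v (nat_lit 0))))) (by decide +kernel)).symm.trans (Subgroup.mem_bot.1 (xu1_0 (xu1_r h k q t) (H := ⊥) (List.forall_mem_nil _)))),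
   mul_inv_eq_one.1 ((evA_eq_tm ((InvI.cons h.1 (InvI.cons h.2.1 (InvI.cons h.2.2.1 (InvI.cons h.2.2.2.1 (InvI.cons h.2.2.2.2.1 (InvI.cons t.1 (InvI.cons t.2.1 InvI.nil))))))) : InvI [z, u, v, a, b, r, s, x, y] [(nat_lit 0), (nat_lit 1), (nat_lit 2), (nat_lit 3), (nat_lit 4), (nat_lit 5), (nat_lit 6)]) [(.v (nat_lit 0)), (.v (nat_lit 1)), (.v (nat_lit 2)), (.v (nat_lit 3)), (.v (nat_lit 4)), (.v (nat_lit 5)), (.v (nat_lit 6)), (.v (nat_lit 7)), (.inv (.v (nat_lit 7))), (.v (nat_lit 8)), (.inv (.v (nat_lit 8)))] [5,10,5,9,1,10,5,9,5,1] (.mul (.mul (.v (nat_lit 1)) (.mul (.mul (.mul (.v (nat_lit 5)) (.v (nat_lit 8))) (.inv (.v (nat_lit 5)))) (.inv (.v (nat_lit 8))))) (.inv (.mul (.mul (.mul (.mul (.v (nat_lit 5)) (.v (nat_lit 8))) (.inv (.v (nat_lit 5)))) (.inv (.v (nat_lit 8)))) (.v (nat_lit 1))))) (by decide +kernel)).symm.trans (Subgroup.mem_bot.1 (xu1_1 (xu1_r h k q t) (H := ⊥) (List.forall_mem_nil _)))),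
   mul_inv_eq_one.1 ((evA_eq_tm ((InvI.cons h.1 (InvI.cons h.2.1 (InvI.cons h.2.2.1 (InvI.cons h.2.2.2.1 (InvI.cons h.2.2.2.2.1 (InvI.cons t.1 (InvI.cons t.2.1 InvI.nil))))))) : InvI [z, u, v, a, b, r, s, x, y] [(nat_lit 0), (nat_lit 1), (nat_lit 2), (nat_lit 3), (nat_lit 4), (nat_lit 5), (nat_lit 6)]) [(.v (nat_lit 0)), (.v (nat_lit 1)), (.v (nat_lit 2)), (.v (nat_lit 3)), (.v (nat_lit 4)), (.v (nat_lit 5)), (.v (nat_lit 6)), (.v (nat_lit 7)), (.inv (.v (nat_lit 7))), (.v (nat_lit 8)), (.inv (.v (nat_lit 8)))] [5,10,5,9,2,10,5,9,5,2] (.mul (.mul (.v (nat_lit 2)) (.mul (.mul (.mul (.v (nat_lit 5)) (.v (nat_lit 8))) (.inv (.v (nat_lit 5)))) (.inv (.v (nat_lit 8))))) (.inv (.mul (.mul (.mul (.mul (.v (nat_lit 5)) (.v (nat_lit 8))) (.inv (.v (nat_lit 5)))) (.inv (.v (nat_lit 8)))) (.v (nat_lit 2))))) (by decide +kernel)).symm.trans (Subgroup.mem_bot.1 (xu1_2 (xu1_r h k q t) (H := ⊥) (List.forall_mem_nil _)))),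
   mul_inv_eq_one.1 ((evA_eq_tm ((InvI.cons h.1 (InvI.cons h.2.1 (InvI.cons h.2.2.1 (InvI.cons h.2.2.2.1 (InvI.cons h.2.2.2.2.1 (InvI.cons t.1 (InvI.cons t.2.1 InvI.nil))))))) : InvI [z, u, v, a, b, r, s, x, y] [(nat_lit 0), (nat_lit 1), (nat_lit 2), (nat_lit 3), (nat_lit 4), (nat_lit 5), (nat_lit 6)]) [(.v (nat_lit 0)), (.v (nat_lit 1)), (.v (nat_lit 2)), (.v (nat_lit 3)), (.v (nat_lit 4)), (.v (nat_lit 5)), (.v (nat_lit 6)), (.v (nat_lit 7)), (.inv (.v (nat_lit 7))), (.v (nat_lit 8)), (.inv (.v (nat_lit 8)))] [5,10,5,9,3,10,5,9,5,3] (.mul (.mul (.v (nat_lit 3)) (.mul (.mul (.mul (.v (nat_lit 5)) (.v (nat_lit 8))) (.inv (.v (nat_lit 5)))) (.inv (.v (nat_lit 8))))) (.inv (.mul (.mul (.mul (.mul (.v (nat_lit 5)) (.v (nat_lit 8))) (.inv (.v (nat_lit 5)))) (.inv (.v (nat_lit 8)))) (.v (nat_lit 3))))) (by decide +kernel)).symm.trans (Subgroup.mem_bot.1 (xu1_3 (xu1_r h k q t) (H := ⊥) (List.forall_mem_nil _)))),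
   mul_inv_eq_one.1 ((evA_eq_tm ((InvI.cons h.1 (InvI.cons h.2.1 (InvI.cons h.2.2.1 (InvI.cons h.2.2.2.1 (InvI.cons h.2.2.2.2.1 (InvI.cons t.1 (InvI.cons t.2.1 InvI.nil))))))) : InvI [z, u, v, a, b, r, s, x, y] [(nat_lit 0), (nat_lit 1), (nat_lit 2), (nat_lit 3), (nat_lit 4), (nat_lit 5), (nat_lit 6)]) [(.v (nat_lit 0)), (.v (nat_lit 1)), (.v (nat_lit 2)), (.v (nat_lit 3)), (.v (nat_lit 4)), (.v (nat_lit 5)), (.v (nat_lit 6)), (.v (nat_lit 7)), (.inv (.v (nat_lit 7))), (.v (nat_lit 8)), (.inv (.v (nat_lit 8)))] [5,10,5,9,4,10,5,9,5,4] (.mul (.mul (.v (nat_lit 4)) (.mul (.mul (.mul (.v (nat_lit 5)) (.v (nat_lit 8))) (.inv (.v (nat_lit 5)))) (.inv (.v (nat_lit 8))))) (.inv (.mul (.mul (.mul (.mul (.v (nat_lit 5)) (.v (nat_lit 8))) (.inv (.v (nat_lit 5)))) (.inv (.v (nat_lit 8)))) (.v (nat_lit 4))))) (by decide +kernel)).symm.trans (Subgroup.mem_bot.1 (xu1_4 (xu1_r h k q t) (H := ⊥) (List.forall_mem_nil _))))⟩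
noncomputable def xu2_r_R : List (List ℕ) := [[0,0],
  [1,1],
  [2,2],
  [3,3],
  [4,4],
  [5,5],
  [6,6],
  [7,8],
  [8,7],
  [9,10],
  [10,9],
  [7,7,7],
  [3,8,1,7],
  [4,8,2,7],
  [7,1,7,1,7,1],
  [7,2,7,2,7,2],
  [2,1,2,1],
  [0,4,1,4,1],
  [8,0,7,0],
  [1,0,1,0],
  [2,0,2,0],
  [9,9,9],
  [8,10,7,9],
  [0,10,0,9],
  [2,10,1,9],
  [0,1,2,10,2,9],
  [3,0,3,0],
  [4,0,4,0],
  [3,1,3,1],
  [4,2,4,2],
  [4,3,4,3],
  [1,0,4,1,4],
  [2,0,3,2,3],
  [5,0,5,0],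
  [6,0,6,0],
  [1,5,1,5],
  [2,5,2,5],
  [5,1,3,5,3],
  [5,2,4,5,4],
  [1,6,1,6],
  [3,6,3,6],
  [0,1,2,6,2,6],
  [0,3,4,6,4,6],
  [6,0,5,6,5]]
theorem xu2_r {G : Type*} [Group G] {z u v a b r s x y : G}
    (h : Q3 z u v a b x)
    (k : KY z u v x y)
    (q : QT z u v a b)
    (t : TU z u v a b r s) :
    Rels (nthG [z, u, v, a, b, r, s, x, x⁻¹, y, y⁻¹]) xu2_r_R :=
  rels_of_eqs ((InvI.cons h.1 (InvI.cons h.2.1 (InvI.cons h.2.2.1 (InvI.cons h.2.2.2.1 (InvI.cons h.2.2.2.2.1 (InvI.cons t.1 (InvI.cons t.2.1 InvI.nil))))))) : InvI [z, u, v, a, b, r, s, x, y] [(nat_lit 0), (nat_lit 1), (nat_lit 2), (nat_lit 3), (nat_lit 4), (nat_lit 5), (nat_lit 6)])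
    (AllEq.append (show AllEq [z, u, v, a, b, r, s, x, y] [((.mul (.v (nat_lit 0)) (.v (nat_lit 0))), .one), ((.mul (.v (nat_lit 1)) (.v (nat_lit 1))), .one), ((.mul (.v (nat_lit 2)) (.v (nat_lit 2))), .one), ((.mul (.v (nat_lit 3)) (.v (nat_lit 3))), .one), ((.mul (.v (nat_lit 4)) (.v (nat_lit 4))), .one), ((.pw (.v (nat_lit 7)) (nat_lit 3)), .one), ((.mul (.mul (.v (nat_lit 7)) (.v (nat_lit 1))) (.inv (.v (nat_lit 7)))), (.v (nat_lit 3))), ((.mul (.mul (.v (nat_lit 7)) (.v (nat_lit 2))) (.inv (.v (nat_lit 7)))), (.v (nat_lit 4))), ((.pw (.mul (.v (nat_lit 1)) (.v (nat_lit 7))) (nat_lit 3)), .one), ((.pw (.mul (.v (nat_lit 2)) (.v (nat_lit 7))) (nat_lit 3)), .one), ((.mul (.v (nat_lit 1)) (.v (nat_lit 2))), (.mul (.v (nat_lit 2)) (.v (nat_lit 1)))), ((.mul (.mul (.mul (.v (nat_lit 1)) (.v (nat_lit 4))) (.inv (.v (nat_lit 1)))) (.inv (.v (nat_lit 4)))), (.v (nat_lit 0))), ((.mul (.v (nat_lit 0)) (.v (nat_lit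 7))), (.mul (.v (nat_lit 7)) (.v (nat_lit 0)))), ((.mul (.v (nat_lit 0)) (.v (nat_lit 1))), (.mul (.v (nat_lit 1)) (.v (nat_lit 0)))), ((.mul (.v (nat_lit 0)) (.v (nat_lit 2))), (.mul (.v (nat_lit 2)) (.v (nat_lit 0))))] from h)
    (AllEq.append (show AllEq [z, u, v, a, b, r, s, x, y] [((.pw (.v (nat_lit 8)) (nat_lit 3)), .one), ((.mul (.v (nat_lit 8)) (.v (nat_lit 7))), (.mul (.v (nat_lit 7)) (.v (nat_lit 8)))), ((.mul (.v (nat_lit 8)) (.v (nat_lit 0))), (.mul (.v (nat_lit 0)) (.v (nat_lit 8)))), ((.mul (.mul (.v (nat_lit 8)) (.v (nat_lit 1))) (.inv (.v (nat_lit 8)))), (.v (nat_lit 2))), ((.mul (.mul (.v (nat_lit 8)) (.v (nat_lit 2))) (.inv (.v (nat_lit 8)))), (.mul (.mul (.v (nat_lit 0)) (.v (nat_lit 1))) (.v (nat_lit 2))))] from k)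
    (AllEq.append (show AllEq [z, u, v, a, b, r, s, x, y] [((.mul (.v (nat_lit 0)) (.v (nat_lit 0))), .one), ((.mul (.v (nat_lit 1)) (.v (nat_lit 1))), .one), ((.mul (.v (nat_lit 2)) (.v (nat_lit 2))), .one), ((.mul (.v (nat_lit 3)) (.v (nat_lit 3))), .one), ((.mul (.v (nat_lit 4)) (.v (nat_lit 4))), .one), ((.mul (.v (nat_lit 1)) (.v (nat_lit 2))), (.mul (.v (nat_lit 2)) (.v (nat_lit 1)))), ((.mul (.v (nat_lit 0)) (.v (nat_lit 1))), (.mul (.v (nat_lit 1)) (.v (nat_lit 0)))), ((.mul (.v (nat_lit 0)) (.v (nat_lit 2))), (.mul (.v (nat_lit 2)) (.v (nat_lit 0)))), ((.mul (.v (nat_lit 0)) (.v (nat_lit 3))), (.mul (.v (nat_lit 3)) (.v (nat_lit 0)))), ((.mul (.v (nat_lit 0)) (.v (nat_lit 4))), (.mul (.v (nat_lit 4)) (.v (nat_lit 0)))), ((.mul (.v (nat_lit 1)) (.v (nat_lit 3))), (.mul (.v (nat_lit 3)) (.v (nat_lit 1)))), ((.mul (.v (nat_lit 2)) (.v (nat_lit 4))), (.mul (.v (nat_lit 4)) (.v (nat_lit 2)))), ((.mul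 (.v (nat_lit 3)) (.v (nat_lit 4))), (.mul (.v (nat_lit 4)) (.v (nat_lit 3)))), ((.mul (.mul (.v (nat_lit 4)) (.v (nat_lit 1))) (.v (nat_lit 4))), (.mul (.v (nat_lit 1)) (.v (nat_lit 0)))), ((.mul (.mul (.v (nat_lit 3)) (.v (nat_lit 2))) (.v (nat_lit 3))), (.mul (.v (nat_lit 2)) (.v (nat_lit 0))))] from q)
    (show AllEq [z, u, v, a, b, r, s, x, y] [((.mul (.v (nat_lit 5)) (.v (nat_lit 5))), .one), ((.mul (.v (nat_lit 6)) (.v (nat_lit 6))), .one), ((.mul (.v (nat_lit 0)) (.v (nat_lit 5))), (.mul (.v (nat_lit 5)) (.v (nat_lit 0)))), ((.mul (.v (nat_lit 0)) (.v (nat_lit 6))), (.mul (.v (nat_lit 6)) (.v (nat_lit 0)))), ((.mul (.v (nat_lit 5)) (.v (nat_lit 1))), (.mul (.v (nat_lit 1)) (.v (nat_lit 5)))), ((.mul (.v (nat_lit 5)) (.v (nat_lit 2))), (.mul (.v (nat_lit 2)) (.v (nat_lit 5)))), ((.mul (.mul (.v (nat_lit 3)) (.v (nat_lit 5))) (.v (nat_lit 3))), (.mul (.v (nat_lit 5)) (.v (nat_lit 1)))), ((.mul (.mul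 (.v (nat_lit 4)) (.v (nat_lit 5))) (.v (nat_lit 4))), (.mul (.v (nat_lit 5)) (.v (nat_lit 2)))), ((.mul (.v (nat_lit 6)) (.v (nat_lit 1))), (.mul (.v (nat_lit 1)) (.v (nat_lit 6)))), ((.mul (.v (nat_lit 6)) (.v (nat_lit 3))), (.mul (.v (nat_lit 3)) (.v (nat_lit 6)))), ((.mul (.mul (.v (nat_lit 6)) (.v (nat_lit 2))) (.v (nat_lit 6))), (.mul (.mul (.v (nat_lit 0)) (.v (nat_lit 1))) (.v (nat_lit 2)))), ((.mul (.mul (.v (nat_lit 6)) (.v (nat_lit 4))) (.v (nat_lit 6))), (.mul (.mul (.v (nat_lit 0)) (.v (nat_lit 3))) (.v (nat_lit 4)))), ((.mul (.mul (.v (nat_lit 5)) (.v (nat_lit 6))) (.v (nat_lit 5))), (.mul (.v (nat_lit 6)) (.v (nat_lit 0))))] from t))))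
    [(.v (nat_lit 0)), (.v (nat_lit 1)), (.v (nat_lit 2)), (.v (nat_lit 3)), (.v (nat_lit 4)), (.v (nat_lit 5)), (.v (nat_lit 6)), (.v (nat_lit 7)), (.inv (.v (nat_lit 7))), (.v (nat_lit 8)), (.inv (.v (nat_lit 8)))] (by decide +kernel)
noncomputable def xu2_0_S0 : List ℕ := [nat_lit 0x1300000b000008004018, nat_lit 0x1b000002000010004016, nat_lit 0x23000006000018004018, nat_lit 0x2700001f000009000016]
noncomputable def xu2_0_S : List (List ℕ) := [xu2_0_S0]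
noncomputable def xu2_0_defs : List ℕ := [(nat_lit 0x7006000060070000500800004006000030060000200800001000000000060000000000000)]
noncomputable def xu2_0_recs : List ℕ := [(nat_lit 0x80000800009000000500008000000300006000000100004)]
noncomputable def xu2_0_T : List (List ℕ × ℕ) := [([6,8,6,7,0,8,6,7,6,0], (nat_lit 0xc00001400001c00002400000d00002700001f00001700000f000007))]
noncomputable def xu2_0_D : H26.Dag := ⟨[0,1,2,3,4,5,6,8,7,10,9], [[0,0],
  [1,1],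
  [2,2],
  [3,3],
  [4,4],
  [5,5],
  [6,6],
  [7,8],
  [8,7],
  [9,10],
  [10,9],
  [8,0,7,0],
  [6,0,6,0]], [], xu2_0_defs, xu2_0_recs⟩
theorem xu2_0_c : xu2_0_D.check xu2_0_S xu2_0_T = true := by decide +kernel
theorem xu2_0 {G : Type*} [Group G] {g : ℕ → G} (hR : Rels g xu2_r_R) {H : Subgroup G}
    (hH : ∀ k ∈ [], g k ∈ H) : evA g [6,8,6,7,0,8,6,7,6,0] ∈ H :=
  mem_dag (K := 11) (J := [0,1,2,3,4,5,6,7,8,9,10,18,34]) (D := xu2_0_D) (by decide +kernel) xu2_0_c (by decide +kernel) hR hH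
noncomputable def xu2_1_S0 : List ℕ := [nat_lit 0x1300000700001000801c, nat_lit 0x1700000b00001000801e, nat_lit 0x23000020006016, nat_lit 0x2b000028006016, nat_lit 0x2b00000600001c008018, nat_lit 0x1f00000200001c00001100000e01401a, nat_lit 0xe000015000009000018, nat_lit 0x3700001200003000801c, nat_lit 0x3700001a00003400801e, nat_lit 0x43000040006016, nat_lit 0x47000022000044008018, nat_lit 0x2500002900004700001e00003c01201a]
noncomputable def xu2_1_S : List (List ℕ) := [xu2_1_S0]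
noncomputable def xu2_1_defs : List ℕ := [(nat_lit 0x80000d0080000c0070000c0070000b0060000a00600008006000060080000500700005008000040070000400800003006000020060000100600000003000000010000000000000)]
noncomputable def xu2_1_recs : List ℕ := [(nat_lit 0x10000e0000f010001000011080000f00010030000c0000d010000b0000d03000080000a01000090000701000060000a08000090000a080000700008030000300005010000300004)]
noncomputable def xu2_1_T : List (List ℕ × ℕ) := [([6,8,6,7,1,8,6,7,6,1], (nat_lit 0x800001400002400003400004000002e00003b00002f00001b00000f))]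
noncomputable def xu2_1_D : H26.Dag := ⟨[0,1,2,3,4,5,6,8,7,10,9], [[0,0],
  [1,1],
  [2,2],
  [3,3],
  [4,4],
  [5,5],
  [6,6],
  [7,8],
  [8,7],
  [9,10],
  [10,9],
  [7,7,7],
  [3,8,1,7],
  [7,1,7,1,7,1],
  [1,6,1,6],
  [3,6,3,6]], [], xu2_1_defs, xu2_1_recs⟩
theorem xu2_1_c : xu2_1_D.check xu2_1_S xu2_1_T = true := by decide +kernel
theorem xu2_1 {G : Type*} [Group G] {g : ℕ → G} (hR : Rels g xu2_r_R) {H : Subgroup G}
    (hH : ∀ k ∈ [], g k ∈ H) : evA g [6,8,6,7,1,8,6,7,6,1] ∈ H :=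
  mem_dag (K := 11) (J := [0,1,2,3,4,5,6,7,8,9,10,11,12,14,39,40]) (D := xu2_1_D) (by decide +kernel) xu2_1_c (by decide +kernel) hR hH
noncomputable def xu2_2_S0 : List ℕ := [nat_lit 0x1f00000700000c004026, nat_lit 0x23000007000010004028, nat_lit 0x2700000700001400402a, nat_lit 0x2b00000700001800402c, nat_lit 0x2f00000700001c004032, nat_lit 0x3300000b00001c008034, nat_lit 0x3b00001300001c008036, nat_lit 0x4f00001f000024004020, nat_lit 0x4f00001f00000700001c00004400c038, nat_lit 0x53000002000034004032, nat_lit 0x5300001f000030008034, nat_lit 0x57000006000038004032, nat_lit 0x5700001d000022008034, nat_lit 0x5b00002700002c00402e, nat_lit 0x5f00000a00003c004032, nat_lit 0x5f000027000030008036, nat_lit 0x5f00005c00003600000e00004001003a, nat_lit 0x63000012000044004028, nat_lit 0x6700001200004800402c, nat_lit 0x6b00001200004c004024, nat_lit 0x6f00002500002a000068008022, nat_lit 0x77000074006016, nat_lit 0x83000080006016,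 nat_lit 0x8300001a00004c008018, nat_lit 0x7300001600004c00005d00005a01401c, nat_lit 0x5a000061000055000018, nat_lit 0x93000090006016, nat_lit 0x9300004700004c00801a, nat_lit 0x8b00004300004c00006d00006a01401e, nat_lit 0x9b000026000078004024, nat_lit 0x9f00003200008c000018, nat_lit 0xa30000a0006016, nat_lit 0xa300002e00007c004024, nat_lit 0xa700003e00006c008018, nat_lit 0xa700004200008800801a, nat_lit 0xa700003a000084004024, nat_lit 0x7600006500008d00002a, nat_lit 0xab00004600008c00c024, nat_lit 0xaf00004a00009000c024, nat_lit 0x96000072000099000028, nat_lit 0xb30000520000b0000018, nat_lit 0x7a00009500009e0000a100c030, nat_lit 0xb70000b4006016, nat_lit 0xb700006f00007800801a, nat_lit 0x890000910000760000ad010030, nat_lit 0x7e0000a60000a900001a, nat_lit 0xbf0000b20000b500402e, nat_lit 0xc300008900008600004e000098010038, nat_lit 0xc30000c00000ba0000820000bc01003a, nat_lit 0xcf0000cc006016, nat_lit 0xd30000c20000d000801a,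 nat_lit 0xc50000c90000d30000be0000c801201e]
noncomputable def xu2_2_S : List (List ℕ) := [xu2_2_S0]
noncomputable def xu2_2_defs : List ℕ := [(nat_lit 0x8000300080002e0070002e0070002500600021004000210060001e0080001b0070001b007000190070001800800017008000150070001500800014006000120080001100700011007000100080000f0080000e0070000e0080000d0080000c0070000c0040000c0080000b0040000b0020000b006000090040000900600008006000070020000700800006004000060020000600600005006000040060000300600002006000010040000100300001002000010010000100600000004000000030000000200000001000000000000000000000)]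
noncomputable def xu2_2_recs : List ℕ := [(nat_lit 0x20003100032020003300034080003200033040002e0003002000250003003000280002f040002d00028030002d00021020001d0002d080002c0002d020002c00027030002b0002c020002b0002a00000230002b00000220002a030002900026000002000029020002100029010001a00029000001e00028080002700028030002200027000001d00026020002300022020001200024080002300024030001d00020010001f0001c010001200020080001f00020080001c0001d01000190001b00000120001a000001100019000001000018040000f00017030000b00017000000e00017030000a00016010001000015000000d00015010000b00014000000c0001406000100001301000080001303000060000e01000060000c00000060000b00000050000a000000400009000000300008000000200007)]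
noncomputable def xu2_2_T : List (List ℕ × ℕ) := [([6,8,6,7,2,8,6,7,6,2], (nat_lit 0x1000003800007c0000bc0000cc0000ce0000c700009700004b00001b))]
noncomputable def xu2_2_D : H26.Dag := ⟨[0,1,2,3,4,5,6,8,7,10,9], [[0,0],
  [1,1],
  [2,2],
  [3,3],
  [4,4],
  [5,5],
  [6,6],
  [7,8],
  [8,7],
  [9,10],
  [10,9],
  [7,7,7],
  [3,8,1,7],
  [4,8,2,7],
  [7,1,7,1,7,1],
  [7,2,7,2,7,2],
  [2,1,2,1],
  [0,4,1,4,1],
  [8,0,7,0],
  [1,0,1,0],
  [2,0,2,0],
  [3,0,3,0],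
  [4,0,4,0],
  [4,3,4,3],
  [2,0,3,2,3],
  [6,0,6,0],
  [1,6,1,6],
  [3,6,3,6],
  [0,1,2,6,2,6],
  [0,3,4,6,4,6]], [], xu2_2_defs, xu2_2_recs⟩
theorem xu2_2_c : xu2_2_D.check xu2_2_S xu2_2_T = true := by decide +kernel
theorem xu2_2 {G : Type*} [Group G] {g : ℕ → G} (hR : Rels g xu2_r_R) {H : Subgroup G}
    (hH : ∀ k ∈ [], g k ∈ H) : evA g [6,8,6,7,2,8,6,7,6,2] ∈ H :=
  mem_dag (K := 11) (J := [0,1,2,3,4,5,6,7,8,9,10,11,12,13,14,15,16,17,18,19,20,26,27,30,32,34,39,40,41,42]) (D := xu2_2_D) (by decide +kernel) xu2_2_c (by decide +kernel) hR hH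
noncomputable def xu2_3_S0 : List ℕ := [nat_lit 0x1300000b00000800801a, nat_lit 0x1b000002000010008016, nat_lit 0x23000006000018008018, nat_lit 0x2700001f000009004016]
noncomputable def xu2_3_S : List (List ℕ) := [xu2_3_S0]
noncomputable def xu2_3_defs : List ℕ := [(nat_lit 0x300007006000060070000500800004006000030060000200800001003000000060000000000000)]
noncomputable def xu2_3_recs : List ℕ := [(nat_lit 0x80000800009010000500008010000300006030000100004)]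
noncomputable def xu2_3_T : List (List ℕ × ℕ) := [([6,8,6,7,3,8,6,7,6,3], (nat_lit 0xc00001400001c00002400000d00002700001f00001700000f000007))]
noncomputable def xu2_3_D : H26.Dag := ⟨[0,1,2,3,4,5,6,8,7,10,9], [[0,0],
  [1,1],
  [2,2],
  [3,3],
  [4,4],
  [5,5],
  [6,6],
  [7,8],
  [8,7],
  [9,10],
  [10,9],
  [3,8,1,7],
  [1,6,1,6],
  [3,6,3,6]], [], xu2_3_defs, xu2_3_recs⟩
theorem xu2_3_c : xu2_3_D.check xu2_3_S xu2_3_T = true := by decide +kernel
theorem xu2_3 {G : Type*} [Group G] {g : ℕ → G} (hR : Rels g xu2_r_R) {H : Subgroup G}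
    (hH : ∀ k ∈ [], g k ∈ H) : evA g [6,8,6,7,3,8,6,7,6,3] ∈ H :=
  mem_dag (K := 11) (J := [0,1,2,3,4,5,6,7,8,9,10,12,39,40]) (D := xu2_3_D) (by decide +kernel) xu2_3_c (by decide +kernel) hR hH
noncomputable def xu2_4_S0 : List ℕ := [nat_lit 0x2f00000f00002c00c018, nat_lit 0x3300001300000b00000800002c00401e, nat_lit 0x3700002000002800c018, nat_lit 0x3b00001b00003400801a, nat_lit 0x200000500000d008016, nat_lit 0x2300003c00001100002f00001800003800601c, nat_lit 0x1600000a00000e]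
noncomputable def xu2_4_S : List (List ℕ) := [xu2_4_S0]
noncomputable def xu2_4_defs : List ℕ := [(nat_lit 0x60020000500000004002000030040000100400007006000060070000500800004006000030060000200800001004000000060000000000000)]
noncomputable def xu2_4_recs : List ℕ := [(nat_lit 0x70000900008ff0000d00008010000e0000b070000c0000e07000090000d030000a0000c070000a0000b)]
noncomputable def xu2_4_T : List (List ℕ × ℕ) := [([6,8,6,7,4,8,6,7,6,4], (nat_lit 0xc00001400001c00002400001a00002700001f00001700000f000007))]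
noncomputable def xu2_4_D : H26.Dag := ⟨[0,1,2,3,4,5,6,8,7,10,9], [[0,0],
  [1,1],
  [2,2],
  [3,3],
  [4,4],
  [5,5],
  [6,6],
  [7,8],
  [8,7],
  [9,10],
  [10,9],
  [3,8,1,7],
  [4,8,2,7],
  [8,0,7,0],
  [0,1,2,6,2,6],
  [0,3,4,6,4,6]], [], xu2_4_defs, xu2_4_recs⟩
theorem xu2_4_c : xu2_4_D.check xu2_4_S xu2_4_T = true := by decide +kernel
theorem xu2_4 {G : Type*} [Group G] {g : ℕ → G} (hR : Rels g xu2_r_R) {H : Subgroup G}
    (hH : ∀ k ∈ [], g k ∈ H) : evA g [6,8,6,7,4,8,6,7,6,4] ∈ H :=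
  mem_dag (K := 11) (J := [0,1,2,3,4,5,6,7,8,9,10,12,13,18,41,42]) (D := xu2_4_D) (by decide +kernel) xu2_4_c (by decide +kernel) hR hH
theorem xu2 {G : Type*} [Group G] {z u v a b r s x y : G}
    (h : Q3 z u v a b x)
    (k : KY z u v x y)
    (q : QT z u v a b)
    (t : TU z u v a b r s) :
    z * (s * x * s⁻¹ * x⁻¹) = s * x * s⁻¹ * x⁻¹ * z ∧ u * (s * x * s⁻¹ * x⁻¹) = s * x * s⁻¹ * x⁻¹ * u ∧ v * (s * x * s⁻¹ * x⁻¹) = s * x * s⁻¹ * x⁻¹ * v ∧ a * (s * x * s⁻¹ * x⁻¹) = s * x * s⁻¹ * x⁻¹ * a ∧ b * (s * x * s⁻¹ * x⁻¹) = s * x * s⁻¹ * x⁻¹ * b :=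
  ⟨mul_inv_eq_one.1 ((evA_eq_tm ((InvI.cons h.1 (InvI.cons h.2.1 (InvI.cons h.2.2.1 (InvI.cons h.2.2.2.1 (InvI.cons h.2.2.2.2.1 (InvI.cons t.1 (InvI.cons t.2.1 InvI.nil))))))) : InvI [z, u, v, a, b, r, s, x, y] [(nat_lit 0), (nat_lit 1), (nat_lit 2), (nat_lit 3), (nat_lit 4), (nat_lit 5), (nat_lit 6)]) [(.v (nat_lit 0)), (.v (nat_lit 1)), (.v (nat_lit 2)), (.v (nat_lit 3)), (.v (nat_lit 4)), (.v (nat_lit 5)), (.v (nat_lit 6)), (.v (nat_lit 7)), (.inv (.v (nat_lit 7))), (.v (nat_lit 8)), (.inv (.v (nat_lit 8)))] [6,8,6,7,0,8,6,7,6,0] (.mul (.mul (.v (nat_lit 0)) (.mul (.mul (.mul (.v (nat_lit 6)) (.v (nat_lit 7))) (.inv (.v (nat_lit 6)))) (.inv (.v (nat_lit 7))))) (.inv (.mul (.mul (.mul (.mul (.v (nat_lit 6)) (.v (nat_lit 7))) (.inv (.v (nat_lit 6)))) (.inv (.v (nat_lit 7)))) (.v (nat_lit 0))))) (by decide +kernel)).symm.trans (Subgroup.mem_bot.1 (xu2_0 (xu2_r h k q t) (H := ⊥) (List.forall_mem_nil _)))),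
   mul_inv_eq_one.1 ((evA_eq_tm ((InvI.cons h.1 (InvI.cons h.2.1 (InvI.cons h.2.2.1 (InvI.cons h.2.2.2.1 (InvI.cons h.2.2.2.2.1 (InvI.cons t.1 (InvI.cons t.2.1 InvI.nil))))))) : InvI [z, u, v, a, b, r, s, x, y] [(nat_lit 0), (nat_lit 1), (nat_lit 2), (nat_lit 3), (nat_lit 4), (nat_lit 5), (nat_lit 6)]) [(.v (nat_lit 0)), (.v (nat_lit 1)), (.v (nat_lit 2)), (.v (nat_lit 3)), (.v (nat_lit 4)), (.v (nat_lit 5)), (.v (nat_lit 6)), (.v (nat_lit 7)), (.inv (.v (nat_lit 7))), (.v (nat_lit 8)), (.inv (.v (nat_lit 8)))] [6,8,6,7,1,8,6,7,6,1] (.mul (.mul (.v (nat_lit 1)) (.mul (.mul (.mul (.v (nat_lit 6)) (.v (nat_lit 7))) (.inv (.v (nat_lit 6)))) (.inv (.v (nat_lit 7))))) (.inv (.mul (.mul (.mul (.mul (.v (nat_lit 6)) (.v (nat_lit 7))) (.inv (.v (nat_lit 6)))) (.inv (.v (nat_lit 7)))) (.v (nat_lit 1))))) (by decide +kernel)).symm.trans (Subgroup.mem_bot.1 (xu2_1 (xu2_r h k q t) (H := ⊥) (List.forall_mem_nil _)))),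
   mul_inv_eq_one.1 ((evA_eq_tm ((InvI.cons h.1 (InvI.cons h.2.1 (InvI.cons h.2.2.1 (InvI.cons h.2.2.2.1 (InvI.cons h.2.2.2.2.1 (InvI.cons t.1 (InvI.cons t.2.1 InvI.nil))))))) : InvI [z, u, v, a, b, r, s, x, y] [(nat_lit 0), (nat_lit 1), (nat_lit 2), (nat_lit 3), (nat_lit 4), (nat_lit 5), (nat_lit 6)]) [(.v (nat_lit 0)), (.v (nat_lit 1)), (.v (nat_lit 2)), (.v (nat_lit 3)), (.v (nat_lit 4)), (.v (nat_lit 5)), (.v (nat_lit 6)), (.v (nat_lit 7)), (.inv (.v (nat_lit 7))), (.v (nat_lit 8)), (.inv (.v (nat_lit 8)))] [6,8,6,7,2,8,6,7,6,2] (.mul (.mul (.v (nat_lit 2)) (.mul (.mul (.mul (.v (nat_lit 6)) (.v (nat_lit 7))) (.inv (.v (nat_lit 6)))) (.inv (.v (nat_lit 7))))) (.inv (.mul (.mul (.mul (.mul (.v (nat_lit 6)) (.v (nat_lit 7))) (.inv (.v (nat_lit 6)))) (.inv (.v (nat_lit 7)))) (.v (nat_lit 2))))) (by decide +kernel)).symm.trans (Subgroup.mem_bot.1 (xu2_2 (xu2_r h k q t) (H := ⊥) (List.forall_mem_nil _)))),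
   mul_inv_eq_one.1 ((evA_eq_tm ((InvI.cons h.1 (InvI.cons h.2.1 (InvI.cons h.2.2.1 (InvI.cons h.2.2.2.1 (InvI.cons h.2.2.2.2.1 (InvI.cons t.1 (InvI.cons t.2.1 InvI.nil))))))) : InvI [z, u, v, a, b, r, s, x, y] [(nat_lit 0), (nat_lit 1), (nat_lit 2), (nat_lit 3), (nat_lit 4), (nat_lit 5), (nat_lit 6)]) [(.v (nat_lit 0)), (.v (nat_lit 1)), (.v (nat_lit 2)), (.v (nat_lit 3)), (.v (nat_lit 4)), (.v (nat_lit 5)), (.v (nat_lit 6)), (.v (nat_lit 7)), (.inv (.v (nat_lit 7))), (.v (nat_lit 8)), (.inv (.v (nat_lit 8)))] [6,8,6,7,3,8,6,7,6,3] (.mul (.mul (.v (nat_lit 3)) (.mul (.mul (.mul (.v (nat_lit 6)) (.v (nat_lit 7))) (.inv (.v (nat_lit 6)))) (.inv (.v (nat_lit 7))))) (.inv (.mul (.mul (.mul (.mul (.v (nat_lit 6)) (.v (nat_lit 7))) (.inv (.v (nat_lit 6)))) (.inv (.v (nat_lit 7)))) (.v (nat_lit 3))))) (by decide +kernel)).symm.trans (Subgroup.mem_bot.1 (xu2_3 (xu2_r h k q t) (H := ⊥) (List.forall_mem_nil _)))),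
   mul_inv_eq_one.1 ((evA_eq_tm ((InvI.cons h.1 (InvI.cons h.2.1 (InvI.cons h.2.2.1 (InvI.cons h.2.2.2.1 (InvI.cons h.2.2.2.2.1 (InvI.cons t.1 (InvI.cons t.2.1 InvI.nil))))))) : InvI [z, u, v, a, b, r, s, x, y] [(nat_lit 0), (nat_lit 1), (nat_lit 2), (nat_lit 3), (nat_lit 4), (nat_lit 5), (nat_lit 6)]) [(.v (nat_lit 0)), (.v (nat_lit 1)), (.v (nat_lit 2)), (.v (nat_lit 3)), (.v (nat_lit 4)), (.v (nat_lit 5)), (.v (nat_lit 6)), (.v (nat_lit 7)), (.inv (.v (nat_lit 7))), (.v (nat_lit 8)), (.inv (.v (nat_lit 8)))] [6,8,6,7,4,8,6,7,6,4] (.mul (.mul (.v (nat_lit 4)) (.mul (.mul (.mul (.v (nat_lit 6)) (.v (nat_lit 7))) (.inv (.v (nat_lit 6)))) (.inv (.v (nat_lit 7))))) (.inv (.mul (.mul (.mul (.mul (.v (nat_lit 6)) (.v (nat_lit 7))) (.inv (.v (nat_lit 6)))) (.inv (.v (nat_lit 7)))) (.v (nat_lit 4))))) (by decide +kernel)).symm.trans (Subgroup.mem_bot.1 (xu2_4 (xu2_r h k q t) (H := ⊥) (List.forall_mem_nil _))))⟩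
noncomputable def xu3_r_R : List (List ℕ) := [[0,0],
  [1,1],
  [2,2],
  [3,3],
  [4,4],
  [5,5],
  [6,6],
  [7,8],
  [8,7],
  [9,10],
  [10,9],
  [7,7,7],
  [3,8,1,7],
  [4,8,2,7],
  [7,1,7,1,7,1],
  [7,2,7,2,7,2],
  [2,1,2,1],
  [0,4,1,4,1],
  [8,0,7,0],
  [1,0,1,0],
  [2,0,2,0],
  [9,9,9],
  [8,10,7,9],
  [0,10,0,9],
  [2,10,1,9],
  [0,1,2,10,2,9],
  [3,0,3,0],
  [4,0,4,0],
  [3,1,3,1],
  [4,2,4,2],
  [4,3,4,3],
  [1,0,4,1,4],
  [2,0,3,2,3],
  [5,0,5,0],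
  [6,0,6,0],
  [1,5,1,5],
  [2,5,2,5],
  [5,1,3,5,3],
  [5,2,4,5,4],
  [1,6,1,6],
  [3,6,3,6],
  [0,1,2,6,2,6],
  [0,3,4,6,4,6],
  [6,0,5,6,5]]
theorem xu3_r {G : Type*} [Group G] {z u v a b r s x y : G}
    (h : Q3 z u v a b x)
    (k : KY z u v x y)
    (q : QT z u v a b)
    (t : TU z u v a b r s) :
    Rels (nthG [z, u, v, a, b, r, s, x, x⁻¹, y, y⁻¹]) xu3_r_R :=
  rels_of_eqs ((InvI.cons h.1 (InvI.cons h.2.1 (InvI.cons h.2.2.1 (InvI.cons h.2.2.2.1 (InvI.cons h.2.2.2.2.1 (InvI.cons t.1 (InvI.cons t.2.1 InvI.nil))))))) : InvI [z, u, v, a, b, r, s, x, y] [(nat_lit 0), (nat_lit 1), (nat_lit 2), (nat_lit 3), (nat_lit 4), (nat_lit 5), (nat_lit 6)])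
    (AllEq.append (show AllEq [z, u, v, a, b, r, s, x, y] [((.mul (.v (nat_lit 0)) (.v (nat_lit 0))), .one), ((.mul (.v (nat_lit 1)) (.v (nat_lit 1))), .one), ((.mul (.v (nat_lit 2)) (.v (nat_lit 2))), .one), ((.mul (.v (nat_lit 3)) (.v (nat_lit 3))), .one), ((.mul (.v (nat_lit 4)) (.v (nat_lit 4))), .one), ((.pw (.v (nat_lit 7)) (nat_lit 3)), .one), ((.mul (.mul (.v (nat_lit 7)) (.v (nat_lit 1))) (.inv (.v (nat_lit 7)))), (.v (nat_lit 3))), ((.mul (.mul (.v (nat_lit 7)) (.v (nat_lit 2))) (.inv (.v (nat_lit 7)))), (.v (nat_lit 4))), ((.pw (.mul (.v (nat_lit 1)) (.v (nat_lit 7))) (nat_lit 3)), .one), ((.pw (.mul (.v (nat_lit 2)) (.v (nat_lit 7))) (nat_lit 3)), .one), ((.mul (.v (nat_lit 1)) (.v (nat_lit 2))), (.mul (.v (nat_lit 2)) (.v (nat_lit 1)))), ((.mul (.mul (.mul (.v (nat_lit 1)) (.v (nat_lit 4))) (.inv (.v (nat_lit 1)))) (.inv (.v (nat_lit 4)))), (.v (nat_lit 0))), ((.mul (.v (nat_lit 0)) (.v (nat_lit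 7))), (.mul (.v (nat_lit 7)) (.v (nat_lit 0)))), ((.mul (.v (nat_lit 0)) (.v (nat_lit 1))), (.mul (.v (nat_lit 1)) (.v (nat_lit 0)))), ((.mul (.v (nat_lit 0)) (.v (nat_lit 2))), (.mul (.v (nat_lit 2)) (.v (nat_lit 0))))] from h)
    (AllEq.append (show AllEq [z, u, v, a, b, r, s, x, y] [((.pw (.v (nat_lit 8)) (nat_lit 3)), .one), ((.mul (.v (nat_lit 8)) (.v (nat_lit 7))), (.mul (.v (nat_lit 7)) (.v (nat_lit 8)))), ((.mul (.v (nat_lit 8)) (.v (nat_lit 0))), (.mul (.v (nat_lit 0)) (.v (nat_lit 8)))), ((.mul (.mul (.v (nat_lit 8)) (.v (nat_lit 1))) (.inv (.v (nat_lit 8)))), (.v (nat_lit 2))), ((.mul (.mul (.v (nat_lit 8)) (.v (nat_lit 2))) (.inv (.v (nat_lit 8)))), (.mul (.mul (.v (nat_lit 0)) (.v (nat_lit 1))) (.v (nat_lit 2))))] from k)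
    (AllEq.append (show AllEq [z, u, v, a, b, r, s, x, y] [((.mul (.v (nat_lit 0)) (.v (nat_lit 0))), .one), ((.mul (.v (nat_lit 1)) (.v (nat_lit 1))), .one), ((.mul (.v (nat_lit 2)) (.v (nat_lit 2))), .one), ((.mul (.v (nat_lit 3)) (.v (nat_lit 3))), .one), ((.mul (.v (nat_lit 4)) (.v (nat_lit 4))), .one), ((.mul (.v (nat_lit 1)) (.v (nat_lit 2))), (.mul (.v (nat_lit 2)) (.v (nat_lit 1)))), ((.mul (.v (nat_lit 0)) (.v (nat_lit 1))), (.mul (.v (nat_lit 1)) (.v (nat_lit 0)))), ((.mul (.v (nat_lit 0)) (.v (nat_lit 2))), (.mul (.v (nat_lit 2)) (.v (nat_lit 0)))), ((.mul (.v (nat_lit 0)) (.v (nat_lit 3))), (.mul (.v (nat_lit 3)) (.v (nat_lit 0)))), ((.mul (.v (nat_lit 0)) (.v (nat_lit 4))), (.mul (.v (nat_lit 4)) (.v (nat_lit 0)))), ((.mul (.v (nat_lit 1)) (.v (nat_lit 3))), (.mul (.v (nat_lit 3)) (.v (nat_lit 1)))), ((.mul (.v (nat_lit 2)) (.v (nat_lit 4))), (.mul (.v (nat_lit 4)) (.v (nat_lit 2)))), ((.mul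 (.v (nat_lit 3)) (.v (nat_lit 4))), (.mul (.v (nat_lit 4)) (.v (nat_lit 3)))), ((.mul (.mul (.v (nat_lit 4)) (.v (nat_lit 1))) (.v (nat_lit 4))), (.mul (.v (nat_lit 1)) (.v (nat_lit 0)))), ((.mul (.mul (.v (nat_lit 3)) (.v (nat_lit 2))) (.v (nat_lit 3))), (.mul (.v (nat_lit 2)) (.v (nat_lit 0))))] from q)
    (show AllEq [z, u, v, a, b, r, s, x, y] [((.mul (.v (nat_lit 5)) (.v (nat_lit 5))), .one), ((.mul (.v (nat_lit 6)) (.v (nat_lit 6))), .one), ((.mul (.v (nat_lit 0)) (.v (nat_lit 5))), (.mul (.v (nat_lit 5)) (.v (nat_lit 0)))), ((.mul (.v (nat_lit 0)) (.v (nat_lit 6))), (.mul (.v (nat_lit 6)) (.v (nat_lit 0)))), ((.mul (.v (nat_lit 5)) (.v (nat_lit 1))), (.mul (.v (nat_lit 1)) (.v (nat_lit 5)))), ((.mul (.v (nat_lit 5)) (.v (nat_lit 2))), (.mul (.v (nat_lit 2)) (.v (nat_lit 5)))), ((.mul (.mul (.v (nat_lit 3)) (.v (nat_lit 5))) (.v (nat_lit 3))), (.mul (.v (nat_lit 5)) (.v (nat_lit 1)))), ((.mul (.mul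 (.v (nat_lit 4)) (.v (nat_lit 5))) (.v (nat_lit 4))), (.mul (.v (nat_lit 5)) (.v (nat_lit 2)))), ((.mul (.v (nat_lit 6)) (.v (nat_lit 1))), (.mul (.v (nat_lit 1)) (.v (nat_lit 6)))), ((.mul (.v (nat_lit 6)) (.v (nat_lit 3))), (.mul (.v (nat_lit 3)) (.v (nat_lit 6)))), ((.mul (.mul (.v (nat_lit 6)) (.v (nat_lit 2))) (.v (nat_lit 6))), (.mul (.mul (.v (nat_lit 0)) (.v (nat_lit 1))) (.v (nat_lit 2)))), ((.mul (.mul (.v (nat_lit 6)) (.v (nat_lit 4))) (.v (nat_lit 6))), (.mul (.mul (.v (nat_lit 0)) (.v (nat_lit 3))) (.v (nat_lit 4)))), ((.mul (.mul (.v (nat_lit 5)) (.v (nat_lit 6))) (.v (nat_lit 5))), (.mul (.v (nat_lit 6)) (.v (nat_lit 0))))] from t))))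
    [(.v (nat_lit 0)), (.v (nat_lit 1)), (.v (nat_lit 2)), (.v (nat_lit 3)), (.v (nat_lit 4)), (.v (nat_lit 5)), (.v (nat_lit 6)), (.v (nat_lit 7)), (.inv (.v (nat_lit 7))), (.v (nat_lit 8)), (.inv (.v (nat_lit 8)))] (by decide +kernel)
noncomputable def xu3_0_S0 : List ℕ := [nat_lit 0x1300000b000008004018, nat_lit 0x1b000002000010008016, nat_lit 0x23000006000018004018, nat_lit 0x2700001f00000900c016]
noncomputable def xu3_0_S : List (List ℕ) := [xu3_0_S0]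
noncomputable def xu3_0_defs : List ℕ := [(nat_lit 0x70060000600a0000500a00004006000030060000200a00001000000000060000000000000)]
noncomputable def xu3_0_recs : List ℕ := [(nat_lit 0x90000800009000000500008000000300006000000100004)]
noncomputable def xu3_0_T : List (List ℕ × ℕ) := [([6,10,6,10,0,9,6,9,6,0], (nat_lit 0xc00001400001c00002400000d00002700001f00001700000f000007))]
noncomputable def xu3_0_D : H26.Dag := ⟨[0,1,2,3,4,5,6,8,7,10,9], [[0,0],
  [1,1],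
  [2,2],
  [3,3],
  [4,4],
  [5,5],
  [6,6],
  [7,8],
  [8,7],
  [9,10],
  [10,9],
  [0,10,0,9],
  [6,0,6,0]], [], xu3_0_defs, xu3_0_recs⟩
theorem xu3_0_c : xu3_0_D.check xu3_0_S xu3_0_T = true := by decide +kernel
theorem xu3_0 {G : Type*} [Group G] {g : ℕ → G} (hR : Rels g xu3_r_R) {H : Subgroup G}
    (hH : ∀ k ∈ [], g k ∈ H) : evA g [6,10,6,10,0,9,6,9,6,0] ∈ H :=
  mem_dag (K := 11) (J := [0,1,2,3,4,5,6,7,8,9,10,23,34]) (D := xu3_0_D) (by decide +kernel) xu3_0_c (by decide +kernel) hR hH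
noncomputable def xu3_1_S0 : List ℕ := [nat_lit 0x1300000b00000800801c, nat_lit 0x2b000010004016, nat_lit 0x3300001c004016, nat_lit 0x3300000200002c000018, nat_lit 0x37000020000028004018, nat_lit 0x3b00000900000e00000600003000401a, nat_lit 0x3700001700003000001500003b00002401401e, nat_lit 0x19000012000014]
noncomputable def xu3_1_S : List (List ℕ) := [xu3_1_S0]
noncomputable def xu3_1_defs : List ℕ := [(nat_lit 0x600200005009000040020000300900001001000070060000600a0000500a00004006000030060000200a00001001000000060000000000000)]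
noncomputable def xu3_1_recs : List ℕ := [(nat_lit 0xa0000900008ff000080000d010000b0000e0a000090000d020000a0000c09000060000c09000030000a010000100004)]
noncomputable def xu3_1_T : List (List ℕ × ℕ) := [([6,10,6,10,1,9,6,9,6,1], (nat_lit 0xc00001400001c00002400001e00002700001f00001700000f000007))]
noncomputable def xu3_1_D : H26.Dag := ⟨[0,1,2,3,4,5,6,8,7,10,9], [[0,0],
  [1,1],
  [2,2],
  [3,3],
  [4,4],
  [5,5],
  [6,6],
  [7,8],
  [8,7],
  [9,10],
  [10,9],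
  [9,9,9],
  [2,10,1,9],
  [0,1,2,10,2,9],
  [1,6,1,6],
  [0,1,2,6,2,6]], [], xu3_1_defs, xu3_1_recs⟩
theorem xu3_1_c : xu3_1_D.check xu3_1_S xu3_1_T = true := by decide +kernel
theorem xu3_1 {G : Type*} [Group G] {g : ℕ → G} (hR : Rels g xu3_r_R) {H : Subgroup G}
    (hH : ∀ k ∈ [], g k ∈ H) : evA g [6,10,6,10,1,9,6,9,6,1] ∈ H :=
  mem_dag (K := 11) (J := [0,1,2,3,4,5,6,7,8,9,10,21,24,25,39,41]) (D := xu3_1_D) (by decide +kernel) xu3_1_c (by decide +kernel) hR hH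
noncomputable def xu3_2_S0 : List ℕ := [nat_lit 0x3300001300000b00000800002c004018, nat_lit 0x1b00003400000200002b000010000030006016, nat_lit 0x600002f000004, nat_lit 0x3b00002300000a000018000038004018, nat_lit 0x3c00000e000037000020000028002016]
noncomputable def xu3_2_S : List (List ℕ) := [xu3_2_S0]
noncomputable def xu3_2_defs : List ℕ := [(nat_lit 0x800200005000000040020000300200001002000070060000600a0000500a00004006000030060000200a00001002000000060000000000000)]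
noncomputable def xu3_2_recs : List ℕ := [(nat_lit 0xa0000900008010000d0000e020000300006ff0000b00006010000a0000c)]
noncomputable def xu3_2_T : List (List ℕ × ℕ) := [([6,10,6,10,2,9,6,9,6,2], (nat_lit 0xc00001400001c00002400001200002700001f00001700000f000007))]
noncomputable def xu3_2_D : H26.Dag := ⟨[0,1,2,3,4,5,6,8,7,10,9], [[0,0],
  [1,1],
  [2,2],
  [3,3],
  [4,4],
  [5,5],
  [6,6],
  [7,8],
  [8,7],
  [9,10],
  [10,9],
  [0,1,2,10,2,9],
  [0,1,2,6,2,6]], [], xu3_2_defs, xu3_2_recs⟩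
theorem xu3_2_c : xu3_2_D.check xu3_2_S xu3_2_T = true := by decide +kernel
theorem xu3_2 {G : Type*} [Group G] {g : ℕ → G} (hR : Rels g xu3_r_R) {H : Subgroup G}
    (hH : ∀ k ∈ [], g k ∈ H) : evA g [6,10,6,10,2,9,6,9,6,2] ∈ H :=
  mem_dag (K := 11) (J := [0,1,2,3,4,5,6,7,8,9,10,25,41]) (D := xu3_2_D) (by decide +kernel) xu3_2_c (by decide +kernel) hR hH
noncomputable def xu3_3_S0 : List ℕ := [nat_lit 0x1300000b00000800802a, nat_lit 0x3b00000f00003000a01c, nat_lit 0x43000002000030008016, nat_lit 0x47000017000034008028, nat_lit 0x5700001b00004000c01e, nat_lit 0x5f00001f00005400a01c, nat_lit 0x67000027000060008016, nat_lit 0x6f00002b000030008018, nat_lit 0x73000033000038004024, nat_lit 0x7700003700003c008016, nat_lit 0x1e000005000025004020, nat_lit 0x7b00003f00004400401a, nat_lit 0x7f00004700004c004024, nat_lit 0x7f00000e00007400402a, nat_lit 0x8300004f00004c00003100003601002c, nat_lit 0x8700004f000054008018,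 nat_lit 0x1a00001600003d00c020, nat_lit 0x8800004100006700006c00201c, nat_lit 0x4600006b000014, nat_lit 0x8b00005700005c004026, nat_lit 0x8f00001200007c00a01c, nat_lit 0x2900001e00000900002d000051010022, nat_lit 0x8b000090000055000077004018, nat_lit 0x2200005900004e000000, nat_lit 0x5c00005d000039000008, nat_lit 0x2300006200008300000c, nat_lit 0x6300006600004a000012, nat_lit 0x69000063000012]
noncomputable def xu3_3_S : List (List ℕ) := [xu3_3_S0]
noncomputable def xu3_3_defs : List ℕ := [(nat_lit 0x800015004000150080001300600013003000110080000f0080000d0030000c0080000a009000090080000900a000080080000700400006000000060080000500400005003000050000000500800004000000040080000300300003000000030080000100400001003000070060000600a0000500a00004006000030060000200a00001003000000060000000000000)]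
noncomputable def xu3_3_recs : List ℕ := [(nat_lit 0x90000800009ff0000900018ff0001300008ff0002000006ff000160001cff0000d0002202000230001d090001e000230000016000220a0000900013ff0001a00013090002100019020001400021040001c00020060001c0001f00000120001f00000100001e0a0001d0001b010000e0001d000000d0001c020000b0001b010001700019090001400017090000f00015060000c00011010000b00010090000b0000e030000100004)]
noncomputable def xu3_3_T : List (List ℕ × ℕ) := [([6,10,6,10,3,9,6,9,6,3], (nat_lit 0xc00001400001c00002400006d00002700001f00001700000f000007))]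
noncomputable def xu3_3_D : H26.Dag := ⟨[0,1,2,3,4,5,6,8,7,10,9], [[0,0],
  [1,1],
  [2,2],
  [3,3],
  [4,4],
  [5,5],
  [6,6],
  [7,8],
  [8,7],
  [9,10],
  [10,9],
  [3,8,1,7],
  [4,8,2,7],
  [8,0,7,0],
  [8,10,7,9],
  [0,10,0,9],
  [2,10,1,9],
  [0,1,2,10,2,9],
  [3,0,3,0],
  [4,0,4,0],
  [6,0,6,0],
  [3,6,3,6],
  [0,3,4,6,4,6]], [], xu3_3_defs, xu3_3_recs⟩
theorem xu3_3_c : xu3_3_D.check xu3_3_S xu3_3_T = true := by decide +kernel
theorem xu3_3 {G : Type*} [Group G] {g : ℕ → G} (hR : Rels g xu3_r_R) {H : Subgroup G}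
    (hH : ∀ k ∈ [], g k ∈ H) : evA g [6,10,6,10,3,9,6,9,6,3] ∈ H :=
  mem_dag (K := 11) (J := [0,1,2,3,4,5,6,7,8,9,10,12,13,18,22,23,24,25,26,27,34,40,42]) (D := xu3_3_D) (by decide +kernel) xu3_3_c (by decide +kernel) hR hH
noncomputable def xu3_4_S0 : List ℕ := [nat_lit 0x2700001300000700000c000018006020, nat_lit 0x1b00000f00000c000018000001004020, nat_lit 0x3300001b00002000401a, nat_lit 0x3700001f00002400801c, nat_lit 0x43000005000034008016, nat_lit 0x4300000200002c008018, nat_lit 0x4700002b00003000801c, nat_lit 0x4700001500001200000a00003801001e, nat_lit 0x3b00000d00001d00001a004018, nat_lit 0x2100003b000008, nat_lit 0x5b00004b000026000040000050012020, nat_lit 0x6700004f00005400401a, nat_lit 0x6b00005300005800801c, nat_lit 0x7300002a000068008016, nat_lit 0x7300005b000060008018, nat_lit 0x7700005f00006400801c, nat_lit 0x7700003900003600002e00006c01001e, nat_lit 0x6f00003100004100003e004018, nat_lit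 0x4500006f000008]
noncomputable def xu3_4_S : List (List ℕ) := [xu3_4_S0]
noncomputable def xu3_4_defs : List ℕ := [(nat_lit 0xa00017008000160040001500a000140080001300a00012008000120040001200a0000f0080000f0000000f0060000b00a0000a00800009006000080040000800a000070080000600a00005008000050060000400a000030080000300000003006000020000000100600000004000000030000000000000)]
noncomputable def xu3_4_recs : List ℕ := [(nat_lit 0x40001500018ff000180001b020001a0001d07000180001d02000170001c01000190001c07000150001a00000140001903000130001604000080000bff0000b0000e020000d00011070000b00011020000a00010010000c0001007000080000d00000070000c030000900006040000500009)]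
noncomputable def xu3_4_T : List (List ℕ × ℕ) := [([6,10,6,10,4,9,6,9,6,4], (nat_lit 0xc00001800003000004c00006400004a00005700003f00002300000f))]
noncomputable def xu3_4_D : H26.Dag := ⟨[0,1,2,3,4,5,6,8,7,10,9], [[0,0],
  [1,1],
  [2,2],
  [3,3],
  [4,4],
  [5,5],
  [6,6],
  [7,8],
  [8,7],
  [9,10],
  [10,9],
  [3,8,1,7],
  [4,8,2,7],
  [8,0,7,0],
  [8,10,7,9],
  [0,1,2,10,2,9],
  [0,3,4,6,4,6]], [], xu3_4_defs, xu3_4_recs⟩
theorem xu3_4_c : xu3_4_D.check xu3_4_S xu3_4_T = true := by decide +kernel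
theorem xu3_4 {G : Type*} [Group G] {g : ℕ → G} (hR : Rels g xu3_r_R) {H : Subgroup G}
    (hH : ∀ k ∈ [], g k ∈ H) : evA g [6,10,6,10,4,9,6,9,6,4] ∈ H :=
  mem_dag (K := 11) (J := [0,1,2,3,4,5,6,7,8,9,10,12,13,18,22,25,42]) (D := xu3_4_D) (by decide +kernel) xu3_4_c (by decide +kernel) hR hH
theorem xu3 {G : Type*} [Group G] {z u v a b r s x y : G}
    (h : Q3 z u v a b x)
    (k : KY z u v x y)
    (q : QT z u v a b)
    (t : TU z u v a b r s) :
    z * (s * y * s⁻¹ * y⁻¹⁻¹) = s * y * s⁻¹ * y⁻¹⁻¹ * z ∧ u * (s * y * s⁻¹ * y⁻¹⁻¹) = s * y * s⁻¹ * y⁻¹⁻¹ * u ∧ v * (s * y * s⁻¹ * y⁻¹⁻¹) = s * y * s⁻¹ * y⁻¹⁻¹ * v ∧ a * (s * y * s⁻¹ * y⁻¹⁻¹) = s * y * s⁻¹ * y⁻¹⁻¹ * a ∧ b * (s * y * s⁻¹ * y⁻¹⁻¹) = s * y * s⁻¹ * y⁻¹⁻¹ * b :=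
  ⟨mul_inv_eq_one.1 ((evA_eq_tm ((InvI.cons h.1 (InvI.cons h.2.1 (InvI.cons h.2.2.1 (InvI.cons h.2.2.2.1 (InvI.cons h.2.2.2.2.1 (InvI.cons t.1 (InvI.cons t.2.1 InvI.nil))))))) : InvI [z, u, v, a, b, r, s, x, y] [(nat_lit 0), (nat_lit 1), (nat_lit 2), (nat_lit 3), (nat_lit 4), (nat_lit 5), (nat_lit 6)]) [(.v (nat_lit 0)), (.v (nat_lit 1)), (.v (nat_lit 2)), (.v (nat_lit 3)), (.v (nat_lit 4)), (.v (nat_lit 5)), (.v (nat_lit 6)), (.v (nat_lit 7)), (.inv (.v (nat_lit 7))), (.v (nat_lit 8)), (.inv (.v (nat_lit 8)))] [6,10,6,10,0,9,6,9,6,0] (.mul (.mul (.v (nat_lit 0)) (.mul (.mul (.mul (.v (nat_lit 6)) (.v (nat_lit 8))) (.inv (.v (nat_lit 6)))) (.inv (.inv (.v (nat_lit 8)))))) (.inv (.mul (.mul (.mul (.mul (.v (nat_lit 6)) (.v (nat_lit 8))) (.inv (.v (nat_lit 6)))) (.inv (.inv (.v (nat_lit 8))))) (.v (nat_lit 0))))) (by decide +kernel)).symm.trans (Subgroup.mem_bot.1 (xu3_0 (xu3_r h k q t) (H := ⊥) (List.forall_mem_nil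 _)))),
   mul_inv_eq_one.1 ((evA_eq_tm ((InvI.cons h.1 (InvI.cons h.2.1 (InvI.cons h.2.2.1 (InvI.cons h.2.2.2.1 (InvI.cons h.2.2.2.2.1 (InvI.cons t.1 (InvI.cons t.2.1 InvI.nil))))))) : InvI [z, u, v, a, b, r, s, x, y] [(nat_lit 0), (nat_lit 1), (nat_lit 2), (nat_lit 3), (nat_lit 4), (nat_lit 5), (nat_lit 6)]) [(.v (nat_lit 0)), (.v (nat_lit 1)), (.v (nat_lit 2)), (.v (nat_lit 3)), (.v (nat_lit 4)), (.v (nat_lit 5)), (.v (nat_lit 6)), (.v (nat_lit 7)), (.inv (.v (nat_lit 7))), (.v (nat_lit 8)), (.inv (.v (nat_lit 8)))] [6,10,6,10,1,9,6,9,6,1] (.mul (.mul (.v (nat_lit 1)) (.mul (.mul (.mul (.v (nat_lit 6)) (.v (nat_lit 8))) (.inv (.v (nat_lit 6)))) (.inv (.inv (.v (nat_lit 8)))))) (.inv (.mul (.mul (.mul (.mul (.v (nat_lit 6)) (.v (nat_lit 8))) (.inv (.v (nat_lit 6)))) (.inv (.inv (.v (nat_lit 8))))) (.v (nat_lit 1))))) (by decide +kernel)).symm.trans (Subgroup.mem_bot.1 (xu3_1 (xu3_r h k q t) (H := ⊥) (List.forall_mem_nil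 _)))),
   mul_inv_eq_one.1 ((evA_eq_tm ((InvI.cons h.1 (InvI.cons h.2.1 (InvI.cons h.2.2.1 (InvI.cons h.2.2.2.1 (InvI.cons h.2.2.2.2.1 (InvI.cons t.1 (InvI.cons t.2.1 InvI.nil))))))) : InvI [z, u, v, a, b, r, s, x, y] [(nat_lit 0), (nat_lit 1), (nat_lit 2), (nat_lit 3), (nat_lit 4), (nat_lit 5), (nat_lit 6)]) [(.v (nat_lit 0)), (.v (nat_lit 1)), (.v (nat_lit 2)), (.v (nat_lit 3)), (.v (nat_lit 4)), (.v (nat_lit 5)), (.v (nat_lit 6)), (.v (nat_lit 7)), (.inv (.v (nat_lit 7))), (.v (nat_lit 8)), (.inv (.v (nat_lit 8)))] [6,10,6,10,2,9,6,9,6,2] (.mul (.mul (.v (nat_lit 2)) (.mul (.mul (.mul (.v (nat_lit 6)) (.v (nat_lit 8))) (.inv (.v (nat_lit 6)))) (.inv (.inv (.v (nat_lit 8)))))) (.inv (.mul (.mul (.mul (.mul (.v (nat_lit 6)) (.v (nat_lit 8))) (.inv (.v (nat_lit 6)))) (.inv (.inv (.v (nat_lit 8))))) (.v (nat_lit 2))))) (by decide +kernel)).symm.trans (Subgroup.mem_bot.1 (xu3_2 (xu3_r h k q t) (H := ⊥) (List.forall_mem_nil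 _)))),
   mul_inv_eq_one.1 ((evA_eq_tm ((InvI.cons h.1 (InvI.cons h.2.1 (InvI.cons h.2.2.1 (InvI.cons h.2.2.2.1 (InvI.cons h.2.2.2.2.1 (InvI.cons t.1 (InvI.cons t.2.1 InvI.nil))))))) : InvI [z, u, v, a, b, r, s, x, y] [(nat_lit 0), (nat_lit 1), (nat_lit 2), (nat_lit 3), (nat_lit 4), (nat_lit 5), (nat_lit 6)]) [(.v (nat_lit 0)), (.v (nat_lit 1)), (.v (nat_lit 2)), (.v (nat_lit 3)), (.v (nat_lit 4)), (.v (nat_lit 5)), (.v (nat_lit 6)), (.v (nat_lit 7)), (.inv (.v (nat_lit 7))), (.v (nat_lit 8)), (.inv (.v (nat_lit 8)))] [6,10,6,10,3,9,6,9,6,3] (.mul (.mul (.v (nat_lit 3)) (.mul (.mul (.mul (.v (nat_lit 6)) (.v (nat_lit 8))) (.inv (.v (nat_lit 6)))) (.inv (.inv (.v (nat_lit 8)))))) (.inv (.mul (.mul (.mul (.mul (.v (nat_lit 6)) (.v (nat_lit 8))) (.inv (.v (nat_lit 6)))) (.inv (.inv (.v (nat_lit 8))))) (.v (nat_lit 3))))) (by decide +kernel)).symm.trans (Subgroup.mem_bot.1 (xu3_3 (xu3_r h k q t) (H := ⊥) (List.forall_mem_nil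 _)))),
   mul_inv_eq_one.1 ((evA_eq_tm ((InvI.cons h.1 (InvI.cons h.2.1 (InvI.cons h.2.2.1 (InvI.cons h.2.2.2.1 (InvI.cons h.2.2.2.2.1 (InvI.cons t.1 (InvI.cons t.2.1 InvI.nil))))))) : InvI [z, u, v, a, b, r, s, x, y] [(nat_lit 0), (nat_lit 1), (nat_lit 2), (nat_lit 3), (nat_lit 4), (nat_lit 5), (nat_lit 6)]) [(.v (nat_lit 0)), (.v (nat_lit 1)), (.v (nat_lit 2)), (.v (nat_lit 3)), (.v (nat_lit 4)), (.v (nat_lit 5)), (.v (nat_lit 6)), (.v (nat_lit 7)), (.inv (.v (nat_lit 7))), (.v (nat_lit 8)), (.inv (.v (nat_lit 8)))] [6,10,6,10,4,9,6,9,6,4] (.mul (.mul (.v (nat_lit 4)) (.mul (.mul (.mul (.v (nat_lit 6)) (.v (nat_lit 8))) (.inv (.v (nat_lit 6)))) (.inv (.inv (.v (nat_lit 8)))))) (.inv (.mul (.mul (.mul (.mul (.v (nat_lit 6)) (.v (nat_lit 8))) (.inv (.v (nat_lit 6)))) (.inv (.inv (.v (nat_lit 8))))) (.v (nat_lit 4))))) (by decide +kernel)).symm.trans (Subgroup.mem_bot.1 (xu3_4 (xu3_r h k q t) (H := ⊥) (List.forall_mem_nil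 _))))⟩

end H10.X
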