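import Cfsg.Agent.H10.XE1g

/-! Generated: the involution centralizer of type G2(3). -/

set_option maxRecDepth 100000
set_option maxHeartbeats 4000000
set_option linter.unusedVariables false

open Subgroup
open scoped commutatorElement
namespace H10.X
open H0 H0.PM H16 H19

noncomputable def HG_r_R : List (List ℕ) := [[0,0],
  [1,1],
  [2,2],
  [3,3],
  [4,4],
  [5,5],
  [6,7],
  [7,6],
  [8,9],
  [9,8],
  [6,6,6],
  [3,7,1,6],
  [4,7,2,6],
  [6,1,6,1,6,1],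
  [6,2,6,2,6,2],
  [2,1,2,1],
  [0,4,1,4,1],
  [7,0,6,0],
  [1,0,1,0],
  [2,0,2,0],
  [8,8,8],
  [7,9,6,8],
  [0,9,0,8],
  [2,9,1,8],
  [0,1,2,9,2,8],
  [3,0,3,0],
  [4,0,4,0],
  [5,0,5,0],
  [3,1,3,1],
  [4,2,4,2],
  [4,3,4,3],
  [1,0,4,1,4],
  [2,0,3,2,3],
  [1,5,1,5],
  [5,1,3,5,3],
  [1,2,0,5,2,5],
  [1,2,3,4,5,4,5],
  [6,5,6,5],
  [8,5,8,5]]
theorem HG_r {G : Type*} [Group G] {z u v a b r x y : G}
    (h : Q3 z u v a b x)
    (k : KY z u v x y)
    (t : TB z u v a b r)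
    (rx : r * x * r⁻¹ = x⁻¹)
    (ry : r * y * r⁻¹ = y⁻¹) :
    Rels (nthG [z, u, v, a, b, r, x, x⁻¹, y, y⁻¹]) HG_r_R :=
  rels_of_eqs ((InvI.cons h.1 (InvI.cons h.2.1 (InvI.cons h.2.2.1 (InvI.cons h.2.2.2.1 (InvI.cons h.2.2.2.2.1 (InvI.cons t.2.2.2.2.2.1 InvI.nil)))))) : InvI [z, u, v, a, b, r, x, y] [(nat_lit 0), (nat_lit 1), (nat_lit 2), (nat_lit 3), (nat_lit 4), (nat_lit 5)])
    (AllEq.append (show AllEq [z, u, v, a, b, r, x, y] [((.mul (.v (nat_lit 0)) (.v (nat_lit 0))), .one), ((.mul (.v (nat_lit 1)) (.v (nat_lit 1))), .one), ((.mul (.v (nat_lit 2)) (.v (nat_lit 2))), .one), ((.mul (.v (nat_lit 3)) (.v (nat_lit 3))), .one), ((.mul (.v (nat_lit 4)) (.v (nat_lit 4))), .one), ((.pw (.v (nat_lit 6)) (nat_lit 3)), .one), ((.mul (.mul (.v (nat_lit 6)) (.v (nat_lit 1))) (.inv (.v (nat_lit 6)))), (.v (nat_lit 3))), ((.mul (.mul (.v (nat_lit 6)) (.v (nat_lit 2))) (.inv (.v (nat_lit 6)))), (.v (nat_lit 4))),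 ((.pw (.mul (.v (nat_lit 1)) (.v (nat_lit 6))) (nat_lit 3)), .one), ((.pw (.mul (.v (nat_lit 2)) (.v (nat_lit 6))) (nat_lit 3)), .one), ((.mul (.v (nat_lit 1)) (.v (nat_lit 2))), (.mul (.v (nat_lit 2)) (.v (nat_lit 1)))), ((.mul (.mul (.mul (.v (nat_lit 1)) (.v (nat_lit 4))) (.inv (.v (nat_lit 1)))) (.inv (.v (nat_lit 4)))), (.v (nat_lit 0))), ((.mul (.v (nat_lit 0)) (.v (nat_lit 6))), (.mul (.v (nat_lit 6)) (.v (nat_lit 0)))), ((.mul (.v (nat_lit 0)) (.v (nat_lit 1))), (.mul (.v (nat_lit 1)) (.v (nat_lit 0)))), ((.mul (.v (nat_lit 0)) (.v (nat_lit 2))), (.mul (.v (nat_lit 2)) (.v (nat_lit 0))))] from h)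
    (AllEq.append (show AllEq [z, u, v, a, b, r, x, y] [((.pw (.v (nat_lit 7)) (nat_lit 3)), .one), ((.mul (.v (nat_lit 7)) (.v (nat_lit 6))), (.mul (.v (nat_lit 6)) (.v (nat_lit 7)))), ((.mul (.v (nat_lit 7)) (.v (nat_lit 0))), (.mul (.v (nat_lit 0)) (.v (nat_lit 7)))), ((.mul (.mul (.v (nat_lit 7)) (.v (nat_lit 1))) (.inv (.v (nat_lit 7)))), (.v (nat_lit 2))), ((.mul (.mul (.v (nat_lit 7)) (.v (nat_lit 2))) (.inv (.v (nat_lit 7)))), (.mul (.mul (.v (nat_lit 0)) (.v (nat_lit 1))) (.v (nat_lit 2))))] from k)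
    (AllEq.append (show AllEq [z, u, v, a, b, r, x, y] [((.mul (.v (nat_lit 0)) (.v (nat_lit 0))), .one), ((.mul (.v (nat_lit 1)) (.v (nat_lit 1))), .one), ((.mul (.v (nat_lit 2)) (.v (nat_lit 2))), .one), ((.mul (.v (nat_lit 3)) (.v (nat_lit 3))), .one), ((.mul (.v (nat_lit 4)) (.v (nat_lit 4))), .one), ((.mul (.v (nat_lit 5)) (.v (nat_lit 5))), .one), ((.mul (.v (nat_lit 1)) (.v (nat_lit 2))), (.mul (.v (nat_lit 2)) (.v (nat_lit 1)))), ((.mul (.v (nat_lit 0)) (.v (nat_lit 1))), (.mul (.v (nat_lit 1)) (.v (nat_lit 0)))), ((.mul (.v (nat_lit 0)) (.v (nat_lit 2))), (.mul (.v (nat_lit 2)) (.v (nat_lit 0)))), ((.mul (.v (nat_lit 0)) (.v (nat_lit 3))), (.mul (.v (nat_lit 3)) (.v (nat_lit 0)))), ((.mul (.v (nat_lit 0)) (.v (nat_lit 4))), (.mul (.v (nat_lit 4)) (.v (nat_lit 0)))), ((.mul (.v (nat_lit 0)) (.v (nat_lit 5))), (.mul (.v (nat_lit 5)) (.v (nat_lit 0)))), ((.mul (.v (nat_lit 1)) (.v (nat_lit 3))), (.mul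 (.v (nat_lit 3)) (.v (nat_lit 1)))), ((.mul (.v (nat_lit 2)) (.v (nat_lit 4))), (.mul (.v (nat_lit 4)) (.v (nat_lit 2)))), ((.mul (.v (nat_lit 3)) (.v (nat_lit 4))), (.mul (.v (nat_lit 4)) (.v (nat_lit 3)))), ((.mul (.mul (.v (nat_lit 4)) (.v (nat_lit 1))) (.v (nat_lit 4))), (.mul (.v (nat_lit 1)) (.v (nat_lit 0)))), ((.mul (.mul (.v (nat_lit 3)) (.v (nat_lit 2))) (.v (nat_lit 3))), (.mul (.v (nat_lit 2)) (.v (nat_lit 0)))), ((.mul (.v (nat_lit 5)) (.v (nat_lit 1))), (.mul (.v (nat_lit 1)) (.v (nat_lit 5)))), ((.mul (.mul (.v (nat_lit 3)) (.v (nat_lit 5))) (.v (nat_lit 3))), (.mul (.v (nat_lit 5)) (.v (nat_lit 1)))), ((.mul (.mul (.v (nat_lit 5)) (.v (nat_lit 2))) (.v (nat_lit 5))), (.mul (.mul (.v (nat_lit 1)) (.v (nat_lit 2))) (.v (nat_lit 0)))), ((.mul (.mul (.v (nat_lit 5)) (.v (nat_lit 4))) (.v (nat_lit 5))), (.mul (.mul (.mul (.v (nat_lit 1)) (.v (nat_lit 2))) (.v (nat_lit 3))) (.v (nat_lit 4))))] from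 t)
    (AllEq.append (show AllEq [z, u, v, a, b, r, x, y] [((.mul (.mul (.v (nat_lit 5)) (.v (nat_lit 6))) (.inv (.v (nat_lit 5)))), (.inv (.v (nat_lit 6))))] from ⟨rx, trivial⟩)
    (show AllEq [z, u, v, a, b, r, x, y] [((.mul (.mul (.v (nat_lit 5)) (.v (nat_lit 7))) (.inv (.v (nat_lit 5)))), (.inv (.v (nat_lit 7))))] from ⟨ry, trivial⟩)))))
    [(.v (nat_lit 0)), (.v (nat_lit 1)), (.v (nat_lit 2)), (.v (nat_lit 3)), (.v (nat_lit 4)), (.v (nat_lit 5)), (.v (nat_lit 6)), (.inv (.v (nat_lit 6))), (.v (nat_lit 7)), (.inv (.v (nat_lit 7)))] (by decide +kernel)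
noncomputable abbrev HG_o : Ops := pops (nat_lit 24) (nat_lit 5) (nat_lit 31) (nat_lit 0xbdab49ca307b9ac5a928398a418820)
noncomputable def HG_cs : List ℕ := [(nat_lit 0xa56d794deb8b10e8254d20c4731401), (nat_lit 0xbdab494dee8c0cb61c8353429400a2), (nat_lit 0xbd6d49c9e9890a752e02605ae020c3), (nat_lit 0xb5e958be6e941ab610e84984a19401), (nat_lit 0x93e33a5ea9b1da452e0870cac30801), (nat_lit 0xb5e9594e267b5c81944c0c1405a4e4), (nat_lit 0x698681143705a15a4e4b8b92f628e4), (nat_lit 0x8398b524ed21ae3408b40da40ace2f), (nat_lit 0x9d2f2ada2a7ac504b1c53a0c468c20), (nat_lit 0xaca76bd22c7a46a741663950413420)]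
noncomputable def HG_L : List (List ℕ) := [[(nat_lit 0xbdab49ca307b9ac5a928398a418820), (nat_lit 0xa56d794deb8b10e8254d20c4731401), (nat_lit 0xbdab494dee8c0cb61c8353429400a2), (nat_lit 0xbd6d49c9e9890a752e02605ae020c3), (nat_lit 0xb5e9594e267b5c81944c0c1405a4e4), (nat_lit 0x8398b524ed21ae3408b40da40ace2f), (nat_lit 0xa56d79ca2c7ac70710e64a00a68445), (nat_lit 0xa5ab794e2a79c444c1657010c0b466), (nat_lit 0xad2f69c9e38a18d308ae02d2182887), (nat_lit 0x5b1d04a88838e866945705661b49f1), (nat_lit 0xbd6d494e247a42a3b1c0594d010da8), (nat_lit 0xb5e959c9ed89a034040b2b8e261149), (nat_lit 0x69868288160ddd4ac5ec9c0f25912a), (nat_lit 0x8398b4a8863b6c81841515e25a3e53), (nat_lit 0xaca76a5de98b0ae51c8280c2b3010d), (nat_lit 0xb52f594de28814128cc941dcd2320b), (nat_lit 0x68cc8114120bd319d2eaa9e1622dcc), (nat_lit 0x831cb5248538241121b31c6e67d2d5), (nat_lit 0xade9694de18948203507325635418e), (nat_lit 0x7416c21d2d51ac34145505de1a4672),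 (nat_lit 0x49c8a5c1cd60e46408b303ee18d2b6), (nat_lit 0xade969ca25785201186a691883b970), (nat_lit 0x831cb4a8e02162208ccf44acd9d6f4), (nat_lit 0x6254e5c08538e46104136d628b3e97)],
  [(nat_lit 0xbdab49ca307b9ac5a928398a418820), (nat_lit 0xad2f67c64c9ad1071c8d50ca930820), (nat_lit 0x9c5f2bd2caa91074c16d6184e19420), (nat_lit 0x7ca71ada87ba5aa231c880c4b31420), (nat_lit 0x7416c4a8f625cd4aca638b44f41420), (nat_lit 0x5b1d021d544d476bc5e69205369420), (nat_lit 0x49c8a732125bc719daa6a34b740820), (nat_lit 0x229275c19174cd27d2e3b20b568820)],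
  [(nat_lit 0xbdab49ca307b9ac5a928398a418820), (nat_lit 0x9d2f2ada2a7ac504b1c53a0c468c20), (nat_lit 0xaca76bd22c7a46a741663950413420)]]
noncomputable def HG_WW : List (List (List ℕ)) := [[[],
  [(nat_lit 0)],
  [(nat_lit 1)],
  [(nat_lit 2)],
  [(nat_lit 5)],
  [(nat_lit 7)],
  [(nat_lit 0), (nat_lit 1)],
  [(nat_lit 0), (nat_lit 2)],
  [(nat_lit 0), (nat_lit 5)],
  [(nat_lit 0), (nat_lit 7)],
  [(nat_lit 1), (nat_lit 2)],
  [(nat_lit 1), (nat_lit 5)],
  [(nat_lit 1), (nat_lit 6)],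
  [(nat_lit 1), (nat_lit 7)],
  [(nat_lit 1), (nat_lit 9)],
  [(nat_lit 2), (nat_lit 5)],
  [(nat_lit 2), (nat_lit 6)],
  [(nat_lit 2), (nat_lit 7)],
  [(nat_lit 5), (nat_lit 2)],
  [(nat_lit 7), (nat_lit 3)],
  [(nat_lit 7), (nat_lit 4)],
  [(nat_lit 0), (nat_lit 2), (nat_lit 5)],
  [(nat_lit 1), (nat_lit 2), (nat_lit 7)],
  [(nat_lit 1), (nat_lit 7), (nat_lit 9)]],
  [[],
  [(nat_lit 0), (nat_lit 3)],
  [(nat_lit 0), (nat_lit 4)],
  [(nat_lit 3), (nat_lit 4)],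
  [(nat_lit 5), (nat_lit 7)],
  [(nat_lit 0), (nat_lit 3), (nat_lit 5), (nat_lit 7)],
  [(nat_lit 0), (nat_lit 4), (nat_lit 5), (nat_lit 7)],
  [(nat_lit 0), (nat_lit 5), (nat_lit 7), (nat_lit 4)]],
  [[],
  [(nat_lit 8)],
  [(nat_lit 9)]]]
noncomputable def HG_b3_S0 : List ℕ := [nat_lit 0x1300000700000c004008, nat_lit 0x1700000700001000400a, nat_lit 0x1b00000b000010004006, nat_lit 0x1f000013000018004006, nat_lit 0x1f00000200001c00400a]
noncomputable def HG_b3_S : List (List ℕ) := [HG_b3_S0]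
noncomputable def HG_b3_defs : List ℕ := [(nat_lit 0x20000400200002002000010010000100200000001000000000000000000000)]
noncomputable def HG_b3_recs : List ℕ := [(nat_lit 0x600007010000500007010000300006000000300005000000200004)]
noncomputable def HG_b3_L0 : List ℕ := [nat_lit 0x700000100000b00000200000f000003, nat_lit 0x8000000000013000004000017000005, nat_lit 0x200000400000c00000000001b000006, nat_lit 0x600000500000a000006000010000000, nat_lit 0x100000200001400000100001f000007, nat_lit 0x500000300000e000007000018000001, nat_lit 0x1200000700000900000300001c000002, nat_lit 0x1100000600000d000005000020000004]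
noncomputable def HG_b3_L : List (List ℕ) := [HG_b3_L0]
noncomputable def HG_b3_V : List ℕ := [(nat_lit 0x700000006000000050000000400000003000000020000000100000000)]
noncomputable def HG_b3_D : H26.Dag := ⟨[], [[0,0],
  [1,1],
  [2,2],
  [2,1,2,1],
  [1,0,1,0],
  [2,0,2,0]], [], HG_b3_defs, HG_b3_recs⟩
theorem HG_b3_c : HG_b3_D.checkTab HG_b3_S 8 3 HG_b3_V HG_b3_L = true := by decide +kernel
theorem HG_b3 : Bound HG_r_R 3 8 :=
  bound_dag (Bound.zero HG_r_R) (K := 3) (J := [0,1,2,15,18,19]) (by decide +kernel) HG_b3_c (by decide +kernel)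
noncomputable def HG_b5_S0 : List ℕ := [nat_lit 0x1, nat_lit 0x1, nat_lit 0x1, nat_lit 0x700000100000800400c, nat_lit 0x7000005000008004010, nat_lit 0x700000100000900000800c016, nat_lit 0xb00000100000c00400e, nat_lit 0xb00000900000c004012, nat_lit 0xb00000100000500000c00800a, nat_lit 0xf00000d00001000400e, nat_lit 0xf000015000010004012, nat_lit 0xf00000700000c004014, nat_lit 0xf00000d00001100001000800a]
noncomputable def HG_b5_S : List (List ℕ) := [HG_b5_S0]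
noncomputable def HG_b5_defs : List ℕ := [(nat_lit 0x400001004000000030000000000000)]
noncomputable def HG_b5_recs : List ℕ := [(nat_lit 0x10000300003030000200003020000300003000000300003010000200002020000200002000000200002020000100001010000100001000000100001020000000000010000000000000000000000)]
noncomputable def HG_b5_L0 : List ℕ := [nat_lit 0x100000000000500000000000900000000000700000100000b000002, nat_lit 0xd00000100001100000100001500000100000800000000000f000003, nat_lit 0x1900000200002100000200001d00000200002e00000300000c000000, nat_lit 0x2500000300003100000300002900000300002d000002000010000001]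
noncomputable def HG_b5_L : List (List ℕ) := [HG_b5_L0]
noncomputable def HG_b5_V : List ℕ := [(nat_lit 0x3000000020000000100000000)]
noncomputable def HG_b5_D : H26.Dag := ⟨[], [[0,0],
  [1,1],
  [2,2],
  [3,3],
  [4,4],
  [0,4,1,4,1],
  [3,0,3,0],
  [4,0,4,0],
  [3,1,3,1],
  [4,2,4,2],
  [4,3,4,3],
  [2,0,3,2,3]], [0,1,2], HG_b5_defs, HG_b5_recs⟩
theorem HG_b5_c : HG_b5_D.checkTab HG_b5_S 4 5 HG_b5_V HG_b5_L = true := by decide +kernel
theorem HG_b5 : Bound HG_r_R 5 32 :=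
  bound_dag HG_b3 (K := 5) (J := [0,1,2,3,4,16,25,26,28,29,30,32]) (by decide +kernel) HG_b5_c (by decide +kernel)
noncomputable def HG_b6_S0 : List ℕ := [nat_lit 0x1, nat_lit 0x1, nat_lit 0x1, nat_lit 0x1, nat_lit 0x1, nat_lit 0x700000100000800400c, nat_lit 0x700000500000800800e, nat_lit 0x1900000700000d000008008010, nat_lit 0x7000001000009000005000008010012, nat_lit 0x700001100000d000009000005000008014014]
noncomputable def HG_b6_S : List (List ℕ) := [HG_b6_S0]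
noncomputable def HG_b6_defs : List ℕ := [(nat_lit 0x50000000000000)]
noncomputable def HG_b6_recs : List ℕ := [(nat_lit 0x40000100001020000100001030000100001010000100001000000100001040000000000030000000000020000000000010000000000000000000000)]
noncomputable def HG_b6_L0 : List ℕ := [nat_lit 0x100000000000500000000000900000000000d000000000011000000000007000001, nat_lit 0x1500000100001900000100002100000100001d000001000025000001000008000000]
noncomputable def HG_b6_L : List (List ℕ) := [HG_b6_L0]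
noncomputable def HG_b6_V : List ℕ := [(nat_lit 0x100000000)]
noncomputable def HG_b6_D : H26.Dag := ⟨[], [[0,0],
  [1,1],
  [2,2],
  [3,3],
  [4,4],
  [5,5],
  [5,0,5,0],
  [1,5,1,5],
  [5,1,3,5,3],
  [1,2,0,5,2,5],
  [1,2,3,4,5,4,5]], [0,1,2,3,4], HG_b6_defs, HG_b6_recs⟩
theorem HG_b6_c : HG_b6_D.checkTab HG_b6_S 2 6 HG_b6_V HG_b6_L = true := by decide +kernel
theorem HG_b6 : Bound HG_r_R 6 64 :=
  bound_dag HG_b5 (K := 6) (J := [0,1,2,3,4,5,27,33,34,35,36]) (by decide +kernel) HG_b6_c (by decide +kernel)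
noncomputable def HG_b8_S0 : List ℕ := [nat_lit 0x1, nat_lit 0x1, nat_lit 0x1, nat_lit 0x1, nat_lit 0x1, nat_lit 0x1, nat_lit 0x7000005000008000012, nat_lit 0x7000009000008000014, nat_lit 0x700000100000800c01a, nat_lit 0xb000008006010, nat_lit 0xb00000d00000c008012, nat_lit 0xb00001100000c008014, nat_lit 0xb00000100000c00401a, nat_lit 0xb00001500000800a01e, nat_lit 0x2500002900000b000005000008012016, nat_lit 0x2500002d00000b000009000008012018, nat_lit 0x2600003d000025000014, nat_lit 0x2d00002900003600001d00003500004100801c]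
noncomputable def HG_b8_S : List (List ℕ) := [HG_b8_S0]
noncomputable def HG_b8_defs : List ℕ := [(nat_lit 0x7000000060000000000000)]
noncomputable def HG_b8_recs : List ℕ := [(nat_lit 0x30000200002040000200002020000100001010000100001050000100002000000200002020000200002010000200002070000100002000000100001040000100001030000100001050000000000040000000000030000000000020000000000010000000000000000000000)]
noncomputable def HG_b8_L0 : List ℕ := [nat_lit 0x100000000000500000000000900000000000d00000000001100000000001500000000000700000100000b000002, nat_lit 0x2100000100003900000100003d00000100001900000100001d000001000036000002000026000002000008000000, nat_lit 0x3100000200002900000200002d00000200004500000200004100000200003500000100000c000000000025000001]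
noncomputable def HG_b8_L : List (List ℕ) := [HG_b8_L0]
noncomputable def HG_b8_V : List ℕ := [(nat_lit 0x20000000100000000)]
noncomputable def HG_b8_D : H26.Dag := ⟨[0,1,2,3,4,5,7,6], [[0,0],
  [1,1],
  [2,2],
  [3,3],
  [4,4],
  [5,5],
  [6,7],
  [7,6],
  [6,6,6],
  [3,7,1,6],
  [4,7,2,6],
  [6,1,6,1,6,1],
  [6,2,6,2,6,2],
  [7,0,6,0],
  [1,2,3,4,5,4,5],
  [6,5,6,5]], [0,1,2,3,4,5], HG_b8_defs, HG_b8_recs⟩
theorem HG_b8_c : HG_b8_D.checkTab HG_b8_S 3 8 HG_b8_V HG_b8_L = true := by decide +kernel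
theorem HG_b8 : Bound HG_r_R 8 192 :=
  bound_dag HG_b6 (K := 8) (J := [0,1,2,3,4,5,6,7,10,11,12,13,14,17,36,37]) (by decide +kernel) HG_b8_c (by decide +kernel)
noncomputable def HG_b10_S0 : List ℕ := [nat_lit 0x1, nat_lit 0x1, nat_lit 0x1, nat_lit 0x1, nat_lit 0x1, nat_lit 0x1, nat_lit 0x1, nat_lit 0x700001900000800001a, nat_lit 0x700000100000800001c, nat_lit 0x700000500000800001e, nat_lit 0x21000007000009000008000025004020, nat_lit 0x1e00002900001d000014, nat_lit 0x1e00002500001d000016, nat_lit 0xb000008006018, nat_lit 0xb00001a00000c00801a, nat_lit 0xb00000100000c00801c, nat_lit 0xb00000900000c00801e, nat_lit 0xb00001500000800a024, nat_lit 0xb00000900000500000100000c010020, nat_lit 0x3900004900003a000016, nat_lit 0x4900004100004600003100004500004d008022]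
noncomputable def HG_b10_S : List (List ℕ) := [HG_b10_S0]
noncomputable def HG_b10_defs : List ℕ := [(nat_lit 0x9000000080000000000000)]
noncomputable def HG_b10_recs : List ℕ := [(nat_lit 0x30000200002040000200002020000200002050000100002010000200002000000200002060000200002090000100002040000100001030000100001010000100001020000100001000000100001070000100001060000000000050000000000040000000000030000000000020000000000010000000000000000000000)]
noncomputable def HG_b10_L0 : List ℕ := [nat_lit 0x100000000000500000000000900000000000d00000000001100000000001500000000001900000000001a00000000000700000100000b000002, nat_lit 0x2100000100002900000100002500000100002d00000100003100000100004600000200001e00000100001d000001000036000002000008000000, nat_lit 0x3d00000200004100000200004900000200005100000200004d00000200004500000100003900000200003a00000200000c000000000035000001]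
noncomputable def HG_b10_L : List (List ℕ) := [HG_b10_L0]
noncomputable def HG_b10_V : List ℕ := [(nat_lit 0x20000000100000000)]
noncomputable def HG_b10_D : H26.Dag := ⟨[0,1,2,3,4,5,7,6,9,8], [[0,0],
  [1,1],
  [2,2],
  [3,3],
  [4,4],
  [5,5],
  [6,7],
  [7,6],
  [8,9],
  [9,8],
  [3,7,1,6],
  [4,7,2,6],
  [8,8,8],
  [7,9,6,8],
  [0,9,0,8],
  [2,9,1,8],
  [0,1,2,9,2,8],
  [1,2,3,4,5,4,5],
  [8,5,8,5]], [0,1,2,3,4,5,6,7], HG_b10_defs, HG_b10_recs⟩
theorem HG_b10_c : HG_b10_D.checkTab HG_b10_S 3 10 HG_b10_V HG_b10_L = true := by decide +kernel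
theorem HG_b10 : Bound HG_r_R 10 576 :=
  bound_dag HG_b8 (K := 10) (J := [0,1,2,3,4,5,6,7,8,9,11,12,20,21,22,23,24,36,38]) (by decide +kernel) HG_b10_c (by decide +kernel)
theorem HG_P : PModel (nat_lit 24) (nat_lit 5) (nat_lit 31) (nat_lit 0xbdab49ca307b9ac5a928398a418820) HG_cs HG_r_R HG_L 576 :=
  ⟨PkOK.of (by decide +kernel), by decide +kernel, by decide +kernel, HG_b10, ⟨HG_WW, by decide +kernel⟩,
    ⟨fun c => Nat.mod c (nat_lit 64536), by decide +kernel⟩⟩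
noncomputable def HG_soc_t0 : ST := (.node (nat_lit 17481) (.node (nat_lit 9003) (.node (nat_lit 4791) (.node (nat_lit 2753) (.node (nat_lit 1228) (.node (nat_lit 675) (.node (nat_lit 208) (.node (nat_lit 125) (.leaf (nat_lit 48)) (.leaf (nat_lit 24))) (.node (nat_lit 450) (.leaf (nat_lit 3)) (.node (nat_lit 515) (.leaf (nat_lit 48)) (.leaf (nat_lit 24))))) (.node (nat_lit 916) (.node (nat_lit 708) (.leaf (nat_lit 2)) (.node (nat_lit 914) (.leaf (nat_lit 24)) (.leaf (nat_lit 48)))) (.node (nat_lit 1099) (.leaf (nat_lit 24)) (.node (nat_lit 1110) (.leaf (nat_lit 2)) (.leaf (nat_lit 24)))))) (.node (nat_lit 2055) (.node (nat_lit 1850) (.node (nat_lit 1469) (.leaf (nat_lit 2)) (.node (nat_lit 1671) (.leaf (nat_lit 24)) (.leaf (nat_lit 0)))) (.node (nat_lit 1922) (.leaf (nat_lit 24)) (.node (nat_lit 1982) (.leaf (nat_lit 2)) (.leaf (nat_lit 48))))) (.node (nat_lit 2228) (.node (nat_lit 2056) (.leaf (nat_lit 3))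 (.node (nat_lit 2206) (.leaf (nat_lit 24)) (.leaf (nat_lit 48)))) (.node (nat_lit 2626) (.leaf (nat_lit 2)) (.node (nat_lit 2711) (.leaf (nat_lit 24)) (.leaf (nat_lit 48))))))) (.node (nat_lit 3629) (.node (nat_lit 3041) (.node (nat_lit 2865) (.node (nat_lit 2768) (.leaf (nat_lit 24)) (.node (nat_lit 2862) (.leaf (nat_lit 48)) (.leaf (nat_lit 3)))) (.node (nat_lit 2965) (.leaf (nat_lit 48)) (.node (nat_lit 2968) (.leaf (nat_lit 3)) (.leaf (nat_lit 48))))) (.node (nat_lit 3437) (.node (nat_lit 3385) (.leaf (nat_lit 24)) (.node (nat_lit 3408) (.leaf (nat_lit 3)) (.leaf (nat_lit 48)))) (.node (nat_lit 3523) (.leaf (nat_lit 24)) (.node (nat_lit 3551) (.leaf (nat_lit 2)) (.leaf (nat_lit 48)))))) (.node (nat_lit 4239) (.node (nat_lit 3880) (.node (nat_lit 3696) (.leaf (nat_lit 24)) (.node (nat_lit 3734) (.leaf (nat_lit 2)) (.leaf (nat_lit 24)))) (.node (nat_lit 4216) (.leaf (nat_lit 2)) (.node (nat_lit 4234) (.leaf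 (nat_lit 24)) (.leaf (nat_lit 0))))) (.node (nat_lit 4588) (.node (nat_lit 4313) (.leaf (nat_lit 24)) (.node (nat_lit 4488) (.leaf (nat_lit 48)) (.leaf (nat_lit 24)))) (.node (nat_lit 4600) (.leaf (nat_lit 2)) (.node (nat_lit 4671) (.leaf (nat_lit 48)) (.leaf (nat_lit 24)))))))) (.node (nat_lit 6521) (.node (nat_lit 5733) (.node (nat_lit 5152) (.node (nat_lit 4986) (.node (nat_lit 4813) (.leaf (nat_lit 48)) (.leaf (nat_lit 24))) (.node (nat_lit 5005) (.leaf (nat_lit 2)) (.node (nat_lit 5014) (.leaf (nat_lit 48)) (.leaf (nat_lit 24))))) (.node (nat_lit 5365) (.node (nat_lit 5250) (.leaf (nat_lit 2)) (.node (nat_lit 5354) (.leaf (nat_lit 48)) (.leaf (nat_lit 3)))) (.node (nat_lit 5500) (.leaf (nat_lit 24)) (.node (nat_lit 5694) (.leaf (nat_lit 48)) (.leaf (nat_lit 2)))))) (.node (nat_lit 6053) (.node (nat_lit 5844) (.node (nat_lit 5735) (.leaf (nat_lit 3)) (.node (nat_lit 5840) (.leaf (nat_lit 2)) (.leaf (nat_lit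 48)))) (.node (nat_lit 5921) (.leaf (nat_lit 2)) (.node (nat_lit 6023) (.leaf (nat_lit 48)) (.leaf (nat_lit 3))))) (.node (nat_lit 6400) (.node (nat_lit 6263) (.leaf (nat_lit 24)) (.node (nat_lit 6267) (.leaf (nat_lit 48)) (.leaf (nat_lit 24)))) (.node (nat_lit 6454) (.leaf (nat_lit 2)) (.node (nat_lit 6476) (.leaf (nat_lit 24)) (.leaf (nat_lit 48))))))) (.node (nat_lit 7758) (.node (nat_lit 7315) (.node (nat_lit 6882) (.node (nat_lit 6744) (.leaf (nat_lit 24)) (.node (nat_lit 6868) (.leaf (nat_lit 48)) (.leaf (nat_lit 2)))) (.node (nat_lit 7267) (.leaf (nat_lit 24)) (.node (nat_lit 7312) (.leaf (nat_lit 48)) (.leaf (nat_lit 2))))) (.node (nat_lit 7588) (.node (nat_lit 7578) (.leaf (nat_lit 24)) (.node (nat_lit 7586) (.leaf (nat_lit 3)) (.leaf (nat_lit 2)))) (.node (nat_lit 7608) (.leaf (nat_lit 3)) (.node (nat_lit 7626) (.leaf (nat_lit 48)) (.leaf (nat_lit 24)))))) (.node (nat_lit 8541) (.node (nat_lit 8047)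 (.node (nat_lit 7767) (.leaf (nat_lit 2)) (.node (nat_lit 7971) (.leaf (nat_lit 24)) (.leaf (nat_lit 2)))) (.node (nat_lit 8509) (.leaf (nat_lit 24)) (.node (nat_lit 8520) (.leaf (nat_lit 48)) (.leaf (nat_lit 3))))) (.node (nat_lit 8862) (.node (nat_lit 8596) (.leaf (nat_lit 24)) (.node (nat_lit 8632) (.leaf (nat_lit 0)) (.leaf (nat_lit 48)))) (.node (nat_lit 8893) (.leaf (nat_lit 2)) (.node (nat_lit 8895) (.leaf (nat_lit 24)) (.leaf (nat_lit 48))))))))) (.node (nat_lit 13435) (.node (nat_lit 11224) (.node (nat_lit 9779) (.node (nat_lit 9412) (.node (nat_lit 9322) (.node (nat_lit 9044) (.leaf (nat_lit 2)) (.leaf (nat_lit 24))) (.node (nat_lit 9342) (.leaf (nat_lit 0)) (.node (nat_lit 9349) (.leaf (nat_lit 24)) (.leaf (nat_lit 2))))) (.node (nat_lit 9558) (.node (nat_lit 9450) (.leaf (nat_lit 24)) (.node (nat_lit 9509) (.leaf (nat_lit 3)) (.leaf (nat_lit 24)))) (.node (nat_lit 9685) (.leaf (nat_lit 48)) (.node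 (nat_lit 9730) (.leaf (nat_lit 24)) (.leaf (nat_lit 0)))))) (.node (nat_lit 10686) (.node (nat_lit 10290) (.node (nat_lit 10163) (.leaf (nat_lit 48)) (.node (nat_lit 10279) (.leaf (nat_lit 24)) (.leaf (nat_lit 48)))) (.node (nat_lit 10356) (.leaf (nat_lit 24)) (.node (nat_lit 10546) (.leaf (nat_lit 2)) (.leaf (nat_lit 24))))) (.node (nat_lit 10903) (.node (nat_lit 10786) (.leaf (nat_lit 2)) (.node (nat_lit 10844) (.leaf (nat_lit 48)) (.leaf (nat_lit 2)))) (.node (nat_lit 11082) (.leaf (nat_lit 48)) (.node (nat_lit 11207) (.leaf (nat_lit 24)) (.leaf (nat_lit 48))))))) (.node (nat_lit 12182) (.node (nat_lit 11888) (.node (nat_lit 11730) (.node (nat_lit 11474) (.leaf (nat_lit 24)) (.node (nat_lit 11685) (.leaf (nat_lit 48)) (.leaf (nat_lit 24)))) (.node (nat_lit 11851) (.leaf (nat_lit 2)) (.node (nat_lit 11852) (.leaf (nat_lit 48)) (.leaf (nat_lit 3))))) (.node (nat_lit 11980) (.node (nat_lit 11907) (.leaf (nat_lit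 48)) (.node (nat_lit 11923) (.leaf (nat_lit 24)) (.leaf (nat_lit 2)))) (.node (nat_lit 12044) (.leaf (nat_lit 3)) (.node (nat_lit 12077) (.leaf (nat_lit 24)) (.leaf (nat_lit 2)))))) (.node (nat_lit 12924) (.node (nat_lit 12728) (.node (nat_lit 12198) (.leaf (nat_lit 48)) (.node (nat_lit 12703) (.leaf (nat_lit 24)) (.leaf (nat_lit 0)))) (.node (nat_lit 12818) (.leaf (nat_lit 24)) (.node (nat_lit 12857) (.leaf (nat_lit 48)) (.leaf (nat_lit 24))))) (.node (nat_lit 13094) (.node (nat_lit 13007) (.leaf (nat_lit 2)) (.node (nat_lit 13059) (.leaf (nat_lit 48)) (.leaf (nat_lit 24)))) (.node (nat_lit 13358) (.leaf (nat_lit 48)) (.node (nat_lit 13376) (.leaf (nat_lit 24)) (.leaf (nat_lit 48)))))))) (.node (nat_lit 15758) (.node (nat_lit 15158) (.node (nat_lit 13931) (.node (nat_lit 13598) (.node (nat_lit 13461) (.leaf (nat_lit 24)) (.node (nat_lit 13486) (.leaf (nat_lit 48)) (.leaf (nat_lit 24)))) (.node (nat_lit 13751)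 (.leaf (nat_lit 2)) (.node (nat_lit 13789) (.leaf (nat_lit 24)) (.leaf (nat_lit 48))))) (.node (nat_lit 14058) (.node (nat_lit 13946) (.leaf (nat_lit 24)) (.node (nat_lit 13987) (.leaf (nat_lit 48)) (.leaf (nat_lit 2)))) (.node (nat_lit 15086) (.leaf (nat_lit 24)) (.node (nat_lit 15122) (.leaf (nat_lit 48)) (.leaf (nat_lit 2)))))) (.node (nat_lit 15575) (.node (nat_lit 15408) (.node (nat_lit 15188) (.leaf (nat_lit 24)) (.node (nat_lit 15368) (.leaf (nat_lit 48)) (.leaf (nat_lit 24)))) (.node (nat_lit 15508) (.leaf (nat_lit 3)) (.node (nat_lit 15533) (.leaf (nat_lit 2)) (.leaf (nat_lit 24))))) (.node (nat_lit 15637) (.node (nat_lit 15587) (.leaf (nat_lit 48)) (.node (nat_lit 15598) (.leaf (nat_lit 24)) (.leaf (nat_lit 48)))) (.node (nat_lit 15641) (.leaf (nat_lit 24)) (.node (nat_lit 15687) (.leaf (nat_lit 3)) (.leaf (nat_lit 48))))))) (.node (nat_lit 16823) (.node (nat_lit 16051) (.node (nat_lit 15849) (.node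 (nat_lit 15761) (.leaf (nat_lit 24)) (.node (nat_lit 15836) (.leaf (nat_lit 48)) (.leaf (nat_lit 24)))) (.node (nat_lit 15863) (.leaf (nat_lit 3)) (.node (nat_lit 15942) (.leaf (nat_lit 24)) (.leaf (nat_lit 48))))) (.node (nat_lit 16277) (.node (nat_lit 16086) (.leaf (nat_lit 3)) (.node (nat_lit 16215) (.leaf (nat_lit 24)) (.leaf (nat_lit 0)))) (.node (nat_lit 16475) (.leaf (nat_lit 24)) (.node (nat_lit 16740) (.leaf (nat_lit 48)) (.leaf (nat_lit 24)))))) (.node (nat_lit 17222) (.node (nat_lit 17075) (.node (nat_lit 16871) (.leaf (nat_lit 2)) (.node (nat_lit 17036) (.leaf (nat_lit 24)) (.leaf (nat_lit 3)))) (.node (nat_lit 17160) (.leaf (nat_lit 24)) (.node (nat_lit 17195) (.leaf (nat_lit 48)) (.leaf (nat_lit 3))))) (.node (nat_lit 17398) (.node (nat_lit 17278) (.leaf (nat_lit 48)) (.node (nat_lit 17330) (.leaf (nat_lit 24)) (.leaf (nat_lit 2)))) (.node (nat_lit 17474) (.leaf (nat_lit 24)) (.node (nat_lit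 17477) (.leaf (nat_lit 48)) (.leaf (nat_lit 2)))))))))) (.node (nat_lit 26038) (.node (nat_lit 22615) (.node (nat_lit 19687) (.node (nat_lit 18361) (.node (nat_lit 17854) (.node (nat_lit 17603) (.node (nat_lit 17574) (.leaf (nat_lit 24)) (.leaf (nat_lit 2))) (.node (nat_lit 17686) (.leaf (nat_lit 48)) (.node (nat_lit 17813) (.leaf (nat_lit 24)) (.leaf (nat_lit 48))))) (.node (nat_lit 18247) (.node (nat_lit 18061) (.leaf (nat_lit 24)) (.node (nat_lit 18076) (.leaf (nat_lit 2)) (.leaf (nat_lit 3)))) (.node (nat_lit 18281) (.leaf (nat_lit 24)) (.node (nat_lit 18300) (.leaf (nat_lit 48)) (.leaf (nat_lit 3)))))) (.node (nat_lit 19159) (.node (nat_lit 18705) (.node (nat_lit 18405) (.leaf (nat_lit 2)) (.node (nat_lit 18637) (.leaf (nat_lit 24)) (.leaf (nat_lit 2)))) (.node (nat_lit 18929) (.leaf (nat_lit 48)) (.node (nat_lit 18977) (.leaf (nat_lit 24)) (.leaf (nat_lit 48))))) (.node (nat_lit 19219) (.node (nat_lit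 19168) (.leaf (nat_lit 2)) (.node (nat_lit 19179) (.leaf (nat_lit 24)) (.leaf (nat_lit 48)))) (.node (nat_lit 19447) (.leaf (nat_lit 24)) (.node (nat_lit 19552) (.leaf (nat_lit 2)) (.leaf (nat_lit 24))))))) (.node (nat_lit 21384) (.node (nat_lit 20596) (.node (nat_lit 20012) (.node (nat_lit 19841) (.leaf (nat_lit 48)) (.node (nat_lit 20009) (.leaf (nat_lit 24)) (.leaf (nat_lit 2)))) (.node (nat_lit 20489) (.leaf (nat_lit 24)) (.node (nat_lit 20594) (.leaf (nat_lit 48)) (.leaf (nat_lit 24))))) (.node (nat_lit 21212) (.node (nat_lit 20834) (.leaf (nat_lit 2)) (.node (nat_lit 21209) (.leaf (nat_lit 24)) (.leaf (nat_lit 48)))) (.node (nat_lit 21338) (.leaf (nat_lit 24)) (.node (nat_lit 21339) (.leaf (nat_lit 48)) (.leaf (nat_lit 24)))))) (.node (nat_lit 22214) (.node (nat_lit 21579) (.node (nat_lit 21410) (.leaf (nat_lit 48)) (.node (nat_lit 21562) (.leaf (nat_lit 24)) (.leaf (nat_lit 48)))) (.node (nat_lit 21658)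 (.leaf (nat_lit 24)) (.node (nat_lit 21790) (.leaf (nat_lit 2)) (.leaf (nat_lit 24))))) (.node (nat_lit 22404) (.node (nat_lit 22260) (.leaf (nat_lit 48)) (.node (nat_lit 22371) (.leaf (nat_lit 24)) (.leaf (nat_lit 48)))) (.node (nat_lit 22417) (.leaf (nat_lit 3)) (.node (nat_lit 22551) (.leaf (nat_lit 24)) (.leaf (nat_lit 48)))))))) (.node (nat_lit 24500) (.node (nat_lit 23626) (.node (nat_lit 23227) (.node (nat_lit 22982) (.node (nat_lit 22953) (.leaf (nat_lit 24)) (.node (nat_lit 22976) (.leaf (nat_lit 0)) (.leaf (nat_lit 24)))) (.node (nat_lit 23053) (.leaf (nat_lit 48)) (.node (nat_lit 23198) (.leaf (nat_lit 2)) (.leaf (nat_lit 24))))) (.node (nat_lit 23464) (.node (nat_lit 23256) (.leaf (nat_lit 48)) (.node (nat_lit 23422) (.leaf (nat_lit 24)) (.leaf (nat_lit 48)))) (.node (nat_lit 23551) (.leaf (nat_lit 24)) (.node (nat_lit 23553) (.leaf (nat_lit 48)) (.leaf (nat_lit 24)))))) (.node (nat_lit 24119)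 (.node (nat_lit 23844) (.node (nat_lit 23660) (.leaf (nat_lit 48)) (.node (nat_lit 23750) (.leaf (nat_lit 2)) (.leaf (nat_lit 24)))) (.node (nat_lit 23904) (.leaf (nat_lit 2)) (.node (nat_lit 23926) (.leaf (nat_lit 48)) (.leaf (nat_lit 24))))) (.node (nat_lit 24420) (.node (nat_lit 24204) (.leaf (nat_lit 3)) (.node (nat_lit 24307) (.leaf (nat_lit 2)) (.leaf (nat_lit 24)))) (.node (nat_lit 24436) (.leaf (nat_lit 48)) (.node (nat_lit 24463) (.leaf (nat_lit 24)) (.leaf (nat_lit 2))))))) (.node (nat_lit 25357) (.node (nat_lit 24824) (.node (nat_lit 24568) (.node (nat_lit 24506) (.leaf (nat_lit 48)) (.node (nat_lit 24565) (.leaf (nat_lit 24)) (.leaf (nat_lit 2)))) (.node (nat_lit 24635) (.leaf (nat_lit 48)) (.node (nat_lit 24809) (.leaf (nat_lit 24)) (.leaf (nat_lit 48))))) (.node (nat_lit 24967) (.node (nat_lit 24864) (.leaf (nat_lit 2)) (.node (nat_lit 24877) (.leaf (nat_lit 24)) (.leaf (nat_lit 3)))) (.node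 (nat_lit 25160) (.leaf (nat_lit 24)) (.node (nat_lit 25226) (.leaf (nat_lit 48)) (.leaf (nat_lit 24)))))) (.node (nat_lit 25721) (.node (nat_lit 25602) (.node (nat_lit 25574) (.leaf (nat_lit 2)) (.node (nat_lit 25575) (.leaf (nat_lit 24)) (.leaf (nat_lit 0)))) (.node (nat_lit 25620) (.leaf (nat_lit 24)) (.node (nat_lit 25682) (.leaf (nat_lit 2)) (.leaf (nat_lit 24))))) (.node (nat_lit 25920) (.node (nat_lit 25777) (.leaf (nat_lit 0)) (.node (nat_lit 25848) (.leaf (nat_lit 48)) (.leaf (nat_lit 2)))) (.node (nat_lit 25992) (.leaf (nat_lit 24)) (.node (nat_lit 26011) (.leaf (nat_lit 48)) (.leaf (nat_lit 2))))))))) (.node (nat_lit 29270) (.node (nat_lit 27705) (.node (nat_lit 26830) (.node (nat_lit 26380) (.node (nat_lit 26196) (.node (nat_lit 26140) (.leaf (nat_lit 24)) (.leaf (nat_lit 48))) (.node (nat_lit 26245) (.leaf (nat_lit 24)) (.node (nat_lit 26367) (.leaf (nat_lit 0)) (.leaf (nat_lit 24))))) (.node (nat_lit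 26583) (.node (nat_lit 26432) (.leaf (nat_lit 48)) (.node (nat_lit 26566) (.leaf (nat_lit 2)) (.leaf (nat_lit 24)))) (.node (nat_lit 26628) (.leaf (nat_lit 48)) (.node (nat_lit 26709) (.leaf (nat_lit 24)) (.leaf (nat_lit 48)))))) (.node (nat_lit 27226) (.node (nat_lit 27073) (.node (nat_lit 26836) (.leaf (nat_lit 2)) (.node (nat_lit 26846) (.leaf (nat_lit 24)) (.leaf (nat_lit 2)))) (.node (nat_lit 27098) (.leaf (nat_lit 24)) (.node (nat_lit 27223) (.leaf (nat_lit 48)) (.leaf (nat_lit 24))))) (.node (nat_lit 27640) (.node (nat_lit 27278) (.leaf (nat_lit 48)) (.node (nat_lit 27311) (.leaf (nat_lit 3)) (.leaf (nat_lit 24)))) (.node (nat_lit 27675) (.leaf (nat_lit 0)) (.node (nat_lit 27694) (.leaf (nat_lit 2)) (.leaf (nat_lit 48))))))) (.node (nat_lit 28619) (.node (nat_lit 28091) (.node (nat_lit 27832) (.node (nat_lit 27754) (.leaf (nat_lit 24)) (.node (nat_lit 27818) (.leaf (nat_lit 2)) (.leaf (nat_lit 3))))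 (.node (nat_lit 28038) (.leaf (nat_lit 48)) (.node (nat_lit 28086) (.leaf (nat_lit 24)) (.leaf (nat_lit 2))))) (.node (nat_lit 28443) (.node (nat_lit 28138) (.leaf (nat_lit 48)) (.node (nat_lit 28326) (.leaf (nat_lit 3)) (.leaf (nat_lit 24)))) (.node (nat_lit 28506) (.leaf (nat_lit 48)) (.node (nat_lit 28607) (.leaf (nat_lit 24)) (.leaf (nat_lit 2)))))) (.node (nat_lit 29025) (.node (nat_lit 28675) (.node (nat_lit 28651) (.leaf (nat_lit 0)) (.node (nat_lit 28664) (.leaf (nat_lit 48)) (.leaf (nat_lit 24)))) (.node (nat_lit 28688) (.leaf (nat_lit 48)) (.node (nat_lit 28841) (.leaf (nat_lit 24)) (.leaf (nat_lit 48))))) (.node (nat_lit 29229) (.node (nat_lit 29030) (.leaf (nat_lit 24)) (.node (nat_lit 29073) (.leaf (nat_lit 2)) (.leaf (nat_lit 24)))) (.node (nat_lit 29236) (.leaf (nat_lit 2)) (.node (nat_lit 29262) (.leaf (nat_lit 24)) (.leaf (nat_lit 0)))))))) (.node (nat_lit 31443) (.node (nat_lit 30022) (.node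 (nat_lit 29541) (.node (nat_lit 29471) (.node (nat_lit 29443) (.leaf (nat_lit 48)) (.node (nat_lit 29461) (.leaf (nat_lit 24)) (.leaf (nat_lit 48)))) (.node (nat_lit 29492) (.leaf (nat_lit 24)) (.node (nat_lit 29498) (.leaf (nat_lit 48)) (.leaf (nat_lit 24))))) (.node (nat_lit 29651) (.node (nat_lit 29564) (.leaf (nat_lit 48)) (.node (nat_lit 29627) (.leaf (nat_lit 24)) (.leaf (nat_lit 48)))) (.node (nat_lit 29857) (.leaf (nat_lit 2)) (.node (nat_lit 30017) (.leaf (nat_lit 0)) (.leaf (nat_lit 2)))))) (.node (nat_lit 30409) (.node (nat_lit 30197) (.node (nat_lit 30041) (.leaf (nat_lit 24)) (.node (nat_lit 30134) (.leaf (nat_lit 2)) (.leaf (nat_lit 24)))) (.node (nat_lit 30319) (.leaf (nat_lit 3)) (.node (nat_lit 30348) (.leaf (nat_lit 48)) (.leaf (nat_lit 2))))) (.node (nat_lit 30840) (.node (nat_lit 30464) (.leaf (nat_lit 3)) (.node (nat_lit 30760) (.leaf (nat_lit 0)) (.leaf (nat_lit 24)))) (.node (nat_lit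 31125) (.leaf (nat_lit 48)) (.node (nat_lit 31424) (.leaf (nat_lit 2)) (.leaf (nat_lit 3))))))) (.node (nat_lit 32162) (.node (nat_lit 31696) (.node (nat_lit 31586) (.node (nat_lit 31473) (.leaf (nat_lit 24)) (.node (nat_lit 31509) (.leaf (nat_lit 48)) (.leaf (nat_lit 24)))) (.node (nat_lit 31596) (.leaf (nat_lit 2)) (.node (nat_lit 31659) (.leaf (nat_lit 24)) (.leaf (nat_lit 48))))) (.node (nat_lit 32014) (.node (nat_lit 31853) (.leaf (nat_lit 24)) (.node (nat_lit 31954) (.leaf (nat_lit 48)) (.leaf (nat_lit 24)))) (.node (nat_lit 32094) (.leaf (nat_lit 48)) (.node (nat_lit 32112) (.leaf (nat_lit 2)) (.leaf (nat_lit 24)))))) (.node (nat_lit 32601) (.node (nat_lit 32300) (.node (nat_lit 32192) (.leaf (nat_lit 3)) (.node (nat_lit 32250) (.leaf (nat_lit 48)) (.leaf (nat_lit 3)))) (.node (nat_lit 32308) (.leaf (nat_lit 2)) (.node (nat_lit 32570) (.leaf (nat_lit 24)) (.leaf (nat_lit 48))))) (.node (nat_lit 32693)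 (.node (nat_lit 32627) (.leaf (nat_lit 24)) (.node (nat_lit 32649) (.leaf (nat_lit 2)) (.leaf (nat_lit 24)))) (.node (nat_lit 32755) (.leaf (nat_lit 2)) (.node (nat_lit 32773) (.leaf (nat_lit 24)) (.leaf (nat_lit 2)))))))))))
noncomputable def HG_soc_t1 : ST := (.node (nat_lit 15037) (.node (nat_lit 8160) (.node (nat_lit 3645) (.node (nat_lit 1831) (.node (nat_lit 1157) (.node (nat_lit 508) (.node (nat_lit 284) (.node (nat_lit 37) (.leaf (nat_lit 192)) (.leaf (nat_lit 24))) (.node (nat_lit 401) (.leaf (nat_lit 192)) (.leaf (nat_lit 24)))) (.node (nat_lit 750) (.node (nat_lit 747) (.leaf (nat_lit 192)) (.leaf (nat_lit 24))) (.node (nat_lit 867) (.leaf (nat_lit 192)) (.node (nat_lit 963) (.leaf (nat_lit 24)) (.leaf (nat_lit 192)))))) (.node (nat_lit 1313) (.node (nat_lit 1224) (.node (nat_lit 1220) (.leaf (nat_lit 24)) (.leaf (nat_lit 192))) (.node (nat_lit 1291) (.leaf (nat_lit 24)) (.leaf (nat_lit 192))))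 (.node (nat_lit 1497) (.node (nat_lit 1433) (.leaf (nat_lit 24)) (.leaf (nat_lit 192))) (.node (nat_lit 1705) (.leaf (nat_lit 24)) (.node (nat_lit 1719) (.leaf (nat_lit 192)) (.leaf (nat_lit 24))))))) (.node (nat_lit 2502) (.node (nat_lit 2223) (.node (nat_lit 2078) (.node (nat_lit 2067) (.leaf (nat_lit 192)) (.leaf (nat_lit 48))) (.node (nat_lit 2086) (.leaf (nat_lit 192)) (.leaf (nat_lit 24)))) (.node (nat_lit 2405) (.node (nat_lit 2310) (.leaf (nat_lit 48)) (.leaf (nat_lit 192))) (.node (nat_lit 2422) (.leaf (nat_lit 24)) (.node (nat_lit 2451) (.leaf (nat_lit 192)) (.leaf (nat_lit 24)))))) (.node (nat_lit 2847) (.node (nat_lit 2615) (.node (nat_lit 2585) (.leaf (nat_lit 192)) (.leaf (nat_lit 24))) (.node (nat_lit 2823) (.leaf (nat_lit 192)) (.leaf (nat_lit 24)))) (.node (nat_lit 2905) (.node (nat_lit 2880) (.leaf (nat_lit 0)) (.leaf (nat_lit 48))) (.node (nat_lit 3044) (.leaf (nat_lit 24)) (.node (nat_lit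 3598) (.leaf (nat_lit 192)) (.leaf (nat_lit 24)))))))) (.node (nat_lit 6034) (.node (nat_lit 4900) (.node (nat_lit 4056) (.node (nat_lit 3907) (.node (nat_lit 3730) (.leaf (nat_lit 192)) (.leaf (nat_lit 24))) (.node (nat_lit 3945) (.leaf (nat_lit 192)) (.leaf (nat_lit 24)))) (.node (nat_lit 4371) (.node (nat_lit 4168) (.leaf (nat_lit 192)) (.leaf (nat_lit 24))) (.node (nat_lit 4566) (.leaf (nat_lit 192)) (.node (nat_lit 4882) (.leaf (nat_lit 24)) (.leaf (nat_lit 192)))))) (.node (nat_lit 5574) (.node (nat_lit 5360) (.node (nat_lit 4921) (.leaf (nat_lit 48)) (.leaf (nat_lit 24))) (.node (nat_lit 5389) (.leaf (nat_lit 192)) (.leaf (nat_lit 24)))) (.node (nat_lit 5868) (.node (nat_lit 5644) (.leaf (nat_lit 192)) (.leaf (nat_lit 24))) (.node (nat_lit 5922) (.leaf (nat_lit 192)) (.node (nat_lit 5935) (.leaf (nat_lit 24)) (.leaf (nat_lit 192))))))) (.node (nat_lit 7356) (.node (nat_lit 6576) (.node (nat_lit 6309)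 (.node (nat_lit 6112) (.leaf (nat_lit 24)) (.leaf (nat_lit 192))) (.node (nat_lit 6352) (.leaf (nat_lit 24)) (.leaf (nat_lit 192)))) (.node (nat_lit 7111) (.node (nat_lit 6908) (.leaf (nat_lit 24)) (.leaf (nat_lit 192))) (.node (nat_lit 7179) (.leaf (nat_lit 24)) (.node (nat_lit 7333) (.leaf (nat_lit 192)) (.leaf (nat_lit 24)))))) (.node (nat_lit 7738) (.node (nat_lit 7493) (.node (nat_lit 7477) (.leaf (nat_lit 192)) (.leaf (nat_lit 48))) (.node (nat_lit 7700) (.leaf (nat_lit 24)) (.leaf (nat_lit 192)))) (.node (nat_lit 8010) (.node (nat_lit 7860) (.leaf (nat_lit 24)) (.leaf (nat_lit 192))) (.node (nat_lit 8132) (.leaf (nat_lit 24)) (.node (nat_lit 8139) (.leaf (nat_lit 192)) (.leaf (nat_lit 24))))))))) (.node (nat_lit 11919) (.node (nat_lit 9982) (.node (nat_lit 9347) (.node (nat_lit 8749) (.node (nat_lit 8318) (.node (nat_lit 8270) (.leaf (nat_lit 48)) (.leaf (nat_lit 24))) (.node (nat_lit 8506) (.leaf (nat_lit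 192)) (.leaf (nat_lit 24)))) (.node (nat_lit 8987) (.node (nat_lit 8750) (.leaf (nat_lit 192)) (.leaf (nat_lit 24))) (.node (nat_lit 9202) (.leaf (nat_lit 192)) (.node (nat_lit 9209) (.leaf (nat_lit 24)) (.leaf (nat_lit 192)))))) (.node (nat_lit 9529) (.node (nat_lit 9464) (.node (nat_lit 9458) (.leaf (nat_lit 24)) (.leaf (nat_lit 192))) (.node (nat_lit 9499) (.leaf (nat_lit 24)) (.leaf (nat_lit 192)))) (.node (nat_lit 9654) (.node (nat_lit 9533) (.leaf (nat_lit 24)) (.leaf (nat_lit 192))) (.node (nat_lit 9793) (.leaf (nat_lit 24)) (.node (nat_lit 9942) (.leaf (nat_lit 192)) (.leaf (nat_lit 24))))))) (.node (nat_lit 11074) (.node (nat_lit 10504) (.node (nat_lit 10283) (.node (nat_lit 10098) (.leaf (nat_lit 192)) (.leaf (nat_lit 24))) (.node (nat_lit 10469) (.leaf (nat_lit 48)) (.leaf (nat_lit 192)))) (.node (nat_lit 10733) (.node (nat_lit 10576) (.leaf (nat_lit 24)) (.leaf (nat_lit 48))) (.node (nat_lit 10960)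 (.leaf (nat_lit 24)) (.node (nat_lit 10980) (.leaf (nat_lit 192)) (.leaf (nat_lit 24)))))) (.node (nat_lit 11430) (.node (nat_lit 11295) (.node (nat_lit 11116) (.leaf (nat_lit 192)) (.leaf (nat_lit 24))) (.node (nat_lit 11348) (.leaf (nat_lit 192)) (.leaf (nat_lit 24)))) (.node (nat_lit 11669) (.node (nat_lit 11627) (.leaf (nat_lit 192)) (.leaf (nat_lit 24))) (.node (nat_lit 11674) (.leaf (nat_lit 192)) (.node (nat_lit 11693) (.leaf (nat_lit 48)) (.leaf (nat_lit 24)))))))) (.node (nat_lit 13260) (.node (nat_lit 12525) (.node (nat_lit 12215) (.node (nat_lit 12041) (.node (nat_lit 11931) (.leaf (nat_lit 192)) (.leaf (nat_lit 24))) (.node (nat_lit 12136) (.leaf (nat_lit 192)) (.leaf (nat_lit 24)))) (.node (nat_lit 12354) (.node (nat_lit 12311) (.leaf (nat_lit 192)) (.leaf (nat_lit 48))) (.node (nat_lit 12374) (.leaf (nat_lit 24)) (.node (nat_lit 12419) (.leaf (nat_lit 192)) (.leaf (nat_lit 24)))))) (.node (nat_lit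 12923) (.node (nat_lit 12664) (.node (nat_lit 12610) (.leaf (nat_lit 192)) (.leaf (nat_lit 24))) (.node (nat_lit 12687) (.leaf (nat_lit 192)) (.leaf (nat_lit 24)))) (.node (nat_lit 12964) (.node (nat_lit 12939) (.leaf (nat_lit 192)) (.leaf (nat_lit 24))) (.node (nat_lit 12999) (.leaf (nat_lit 192)) (.node (nat_lit 13184) (.leaf (nat_lit 24)) (.leaf (nat_lit 192))))))) (.node (nat_lit 13734) (.node (nat_lit 13500) (.node (nat_lit 13348) (.node (nat_lit 13276) (.leaf (nat_lit 24)) (.leaf (nat_lit 192))) (.node (nat_lit 13436) (.leaf (nat_lit 24)) (.leaf (nat_lit 192)))) (.node (nat_lit 13617) (.node (nat_lit 13568) (.leaf (nat_lit 24)) (.leaf (nat_lit 192))) (.node (nat_lit 13622) (.leaf (nat_lit 24)) (.node (nat_lit 13713) (.leaf (nat_lit 192)) (.leaf (nat_lit 24)))))) (.node (nat_lit 14126) (.node (nat_lit 13905) (.node (nat_lit 13735) (.leaf (nat_lit 192)) (.leaf (nat_lit 24))) (.node (nat_lit 13969) (.leaf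 (nat_lit 192)) (.node (nat_lit 14108) (.leaf (nat_lit 24)) (.leaf (nat_lit 192))))) (.node (nat_lit 14431) (.node (nat_lit 14184) (.leaf (nat_lit 24)) (.leaf (nat_lit 192))) (.node (nat_lit 14625) (.leaf (nat_lit 24)) (.node (nat_lit 14630) (.leaf (nat_lit 192)) (.leaf (nat_lit 24)))))))))) (.node (nat_lit 22509) (.node (nat_lit 18866) (.node (nat_lit 16948) (.node (nat_lit 15768) (.node (nat_lit 15327) (.node (nat_lit 15263) (.node (nat_lit 15203) (.leaf (nat_lit 192)) (.leaf (nat_lit 48))) (.node (nat_lit 15292) (.leaf (nat_lit 24)) (.leaf (nat_lit 192)))) (.node (nat_lit 15518) (.node (nat_lit 15400) (.leaf (nat_lit 24)) (.leaf (nat_lit 192))) (.node (nat_lit 15604) (.leaf (nat_lit 24)) (.node (nat_lit 15752) (.leaf (nat_lit 192)) (.leaf (nat_lit 24)))))) (.node (nat_lit 16527) (.node (nat_lit 16170) (.node (nat_lit 15911) (.leaf (nat_lit 192)) (.leaf (nat_lit 24))) (.node (nat_lit 16501) (.leaf (nat_lit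 192)) (.leaf (nat_lit 24)))) (.node (nat_lit 16667) (.node (nat_lit 16661) (.leaf (nat_lit 192)) (.leaf (nat_lit 24))) (.node (nat_lit 16894) (.leaf (nat_lit 48)) (.node (nat_lit 16929) (.leaf (nat_lit 192)) (.leaf (nat_lit 24))))))) (.node (nat_lit 18044) (.node (nat_lit 17473) (.node (nat_lit 17128) (.node (nat_lit 17018) (.leaf (nat_lit 192)) (.leaf (nat_lit 24))) (.node (nat_lit 17168) (.leaf (nat_lit 192)) (.leaf (nat_lit 24)))) (.node (nat_lit 17680) (.node (nat_lit 17487) (.leaf (nat_lit 192)) (.leaf (nat_lit 24))) (.node (nat_lit 17854) (.leaf (nat_lit 192)) (.node (nat_lit 17961) (.leaf (nat_lit 24)) (.leaf (nat_lit 192)))))) (.node (nat_lit 18285) (.node (nat_lit 18082) (.node (nat_lit 18063) (.leaf (nat_lit 24)) (.leaf (nat_lit 192))) (.node (nat_lit 18178) (.leaf (nat_lit 24)) (.leaf (nat_lit 192)))) (.node (nat_lit 18403) (.node (nat_lit 18301) (.leaf (nat_lit 24)) (.leaf (nat_lit 192))) (.node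 (nat_lit 18450) (.leaf (nat_lit 24)) (.node (nat_lit 18633) (.leaf (nat_lit 192)) (.leaf (nat_lit 24)))))))) (.node (nat_lit 20063) (.node (nat_lit 19634) (.node (nat_lit 19164) (.node (nat_lit 18964) (.node (nat_lit 18960) (.leaf (nat_lit 192)) (.leaf (nat_lit 48))) (.node (nat_lit 19159) (.leaf (nat_lit 24)) (.leaf (nat_lit 192)))) (.node (nat_lit 19515) (.node (nat_lit 19462) (.leaf (nat_lit 24)) (.leaf (nat_lit 192))) (.node (nat_lit 19538) (.leaf (nat_lit 24)) (.node (nat_lit 19628) (.leaf (nat_lit 192)) (.leaf (nat_lit 24)))))) (.node (nat_lit 19709) (.node (nat_lit 19648) (.node (nat_lit 19637) (.leaf (nat_lit 192)) (.leaf (nat_lit 24))) (.node (nat_lit 19670) (.leaf (nat_lit 192)) (.leaf (nat_lit 48)))) (.node (nat_lit 19764) (.node (nat_lit 19748) (.leaf (nat_lit 192)) (.leaf (nat_lit 24))) (.node (nat_lit 19959) (.leaf (nat_lit 192)) (.node (nat_lit 20013) (.leaf (nat_lit 24)) (.leaf (nat_lit 192)))))))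 (.node (nat_lit 21169) (.node (nat_lit 20793) (.node (nat_lit 20451) (.node (nat_lit 20111) (.leaf (nat_lit 24)) (.leaf (nat_lit 192))) (.node (nat_lit 20560) (.leaf (nat_lit 24)) (.leaf (nat_lit 192)))) (.node (nat_lit 20966) (.node (nat_lit 20844) (.leaf (nat_lit 24)) (.leaf (nat_lit 192))) (.node (nat_lit 20985) (.leaf (nat_lit 24)) (.node (nat_lit 21001) (.leaf (nat_lit 192)) (.leaf (nat_lit 24)))))) (.node (nat_lit 21812) (.node (nat_lit 21490) (.node (nat_lit 21212) (.leaf (nat_lit 192)) (.leaf (nat_lit 24))) (.node (nat_lit 21689) (.leaf (nat_lit 192)) (.leaf (nat_lit 24)))) (.node (nat_lit 22033) (.node (nat_lit 21991) (.leaf (nat_lit 192)) (.leaf (nat_lit 24))) (.node (nat_lit 22277) (.leaf (nat_lit 192)) (.node (nat_lit 22395) (.leaf (nat_lit 24)) (.leaf (nat_lit 192))))))))) (.node (nat_lit 25483) (.node (nat_lit 23955) (.node (nat_lit 23347) (.node (nat_lit 22670) (.node (nat_lit 22663) (.node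 (nat_lit 22568) (.leaf (nat_lit 24)) (.leaf (nat_lit 192))) (.node (nat_lit 22669) (.leaf (nat_lit 48)) (.leaf (nat_lit 24)))) (.node (nat_lit 22861) (.node (nat_lit 22681) (.leaf (nat_lit 192)) (.leaf (nat_lit 24))) (.node (nat_lit 23009) (.leaf (nat_lit 192)) (.node (nat_lit 23211) (.leaf (nat_lit 24)) (.leaf (nat_lit 192)))))) (.node (nat_lit 23554) (.node (nat_lit 23395) (.node (nat_lit 23390) (.leaf (nat_lit 24)) (.leaf (nat_lit 192))) (.node (nat_lit 23515) (.leaf (nat_lit 24)) (.leaf (nat_lit 192)))) (.node (nat_lit 23883) (.node (nat_lit 23705) (.leaf (nat_lit 24)) (.leaf (nat_lit 192))) (.node (nat_lit 23885) (.leaf (nat_lit 24)) (.node (nat_lit 23925) (.leaf (nat_lit 192)) (.leaf (nat_lit 24))))))) (.node (nat_lit 24824) (.node (nat_lit 24240) (.node (nat_lit 24097) (.node (nat_lit 23967) (.leaf (nat_lit 192)) (.leaf (nat_lit 24))) (.node (nat_lit 24166) (.leaf (nat_lit 192)) (.leaf (nat_lit 24))))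 (.node (nat_lit 24575) (.node (nat_lit 24303) (.leaf (nat_lit 192)) (.leaf (nat_lit 24))) (.node (nat_lit 24617) (.leaf (nat_lit 192)) (.node (nat_lit 24802) (.leaf (nat_lit 24)) (.leaf (nat_lit 192)))))) (.node (nat_lit 25138) (.node (nat_lit 24978) (.node (nat_lit 24936) (.leaf (nat_lit 24)) (.leaf (nat_lit 192))) (.node (nat_lit 25034) (.leaf (nat_lit 24)) (.leaf (nat_lit 192)))) (.node (nat_lit 25169) (.node (nat_lit 25150) (.leaf (nat_lit 24)) (.leaf (nat_lit 192))) (.node (nat_lit 25176) (.leaf (nat_lit 24)) (.node (nat_lit 25293) (.leaf (nat_lit 192)) (.leaf (nat_lit 24)))))))) (.node (nat_lit 27135) (.node (nat_lit 26073) (.node (nat_lit 25724) (.node (nat_lit 25532) (.node (nat_lit 25500) (.leaf (nat_lit 192)) (.leaf (nat_lit 24))) (.node (nat_lit 25634) (.leaf (nat_lit 192)) (.leaf (nat_lit 24)))) (.node (nat_lit 25758) (.node (nat_lit 25746) (.leaf (nat_lit 192)) (.leaf (nat_lit 24))) (.node (nat_lit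 25769) (.leaf (nat_lit 192)) (.node (nat_lit 26064) (.leaf (nat_lit 24)) (.leaf (nat_lit 192)))))) (.node (nat_lit 26775) (.node (nat_lit 26239) (.node (nat_lit 26191) (.leaf (nat_lit 24)) (.leaf (nat_lit 192))) (.node (nat_lit 26728) (.leaf (nat_lit 24)) (.leaf (nat_lit 192)))) (.node (nat_lit 26992) (.node (nat_lit 26850) (.leaf (nat_lit 24)) (.leaf (nat_lit 192))) (.node (nat_lit 27076) (.leaf (nat_lit 24)) (.node (nat_lit 27120) (.leaf (nat_lit 192)) (.leaf (nat_lit 24))))))) (.node (nat_lit 27817) (.node (nat_lit 27384) (.node (nat_lit 27335) (.node (nat_lit 27142) (.leaf (nat_lit 192)) (.leaf (nat_lit 24))) (.node (nat_lit 27381) (.leaf (nat_lit 192)) (.leaf (nat_lit 48)))) (.node (nat_lit 27611) (.node (nat_lit 27411) (.leaf (nat_lit 192)) (.leaf (nat_lit 24))) (.node (nat_lit 27617) (.leaf (nat_lit 192)) (.node (nat_lit 27728) (.leaf (nat_lit 24)) (.leaf (nat_lit 192)))))) (.node (nat_lit 28061) (.node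 (nat_lit 27905) (.node (nat_lit 27851) (.leaf (nat_lit 24)) (.leaf (nat_lit 192))) (.node (nat_lit 28035) (.leaf (nat_lit 24)) (.node (nat_lit 28039) (.leaf (nat_lit 192)) (.leaf (nat_lit 24))))) (.node (nat_lit 28298) (.node (nat_lit 28291) (.leaf (nat_lit 192)) (.leaf (nat_lit 24))) (.node (nat_lit 28662) (.leaf (nat_lit 192)) (.node (nat_lit 28796) (.leaf (nat_lit 24)) (.leaf (nat_lit 192)))))))))))
noncomputable def HG_soc_F : Fm := (.all HG_L (.or (.qf (.eq (.v (nat_lit 0)) .one)) (.exF HG_L (fun cs => HG_soc_t1.find (Nat.mod (nth (nat_lit 0) cs (nat_lit 0)) (nat_lit 28815))) (.exF HG_L (fun cs => HG_soc_t0.find (Nat.mod (Nat.add (nth (nat_lit 0) cs (nat_lit 0)) (Nat.mul (nat_lit 7919) (nth (nat_lit 0) cs (nat_lit 1)))) (nat_lit 32778))) (.qf (.or (.eq (.mul (.mul (.v (nat_lit 0)) (.v (nat_lit 2))) (.inv (.v (nat_lit 0)))) (.v (nat_lit 3))) (.or (.eq (.mul (.mul (.v (nat_lit 0)) (.v (nat_lit 2))) (.inv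 (.v (nat_lit 0)))) (.v (nat_lit 3))) (.or (.eq (.mul (.mul (.v (nat_lit 0)) (.mul (.mul (.mul (.v (nat_lit 2)) (.v (nat_lit 1))) (.inv (.v (nat_lit 2)))) (.inv (.v (nat_lit 1))))) (.inv (.v (nat_lit 0)))) (.v (nat_lit 3))) (.or (.eq (.mul (.mul (.v (nat_lit 0)) (.mul (.mul (.mul (.v (nat_lit 2)) (.v (nat_lit 1))) (.inv (.v (nat_lit 2)))) (.inv (.v (nat_lit 1))))) (.inv (.v (nat_lit 0)))) (.v (nat_lit 3))) (.or (.eq (.mul (.mul (.mul (.mul (.mul (.mul (.v (nat_lit 2)) (.v (nat_lit 1))) (.inv (.v (nat_lit 2)))) (.inv (.v (nat_lit 1)))) (.v (nat_lit 0))) (.inv (.mul (.mul (.mul (.v (nat_lit 2)) (.v (nat_lit 1))) (.inv (.v (nat_lit 2)))) (.inv (.v (nat_lit 1)))))) (.inv (.v (nat_lit 0)))) (.v (nat_lit 3))) (.eq (.mul (.mul (.mul (.mul (.mul (.mul (.v (nat_lit 2)) (.v (nat_lit 1))) (.inv (.v (nat_lit 2)))) (.inv (.v (nat_lit 1)))) (.v (nat_lit 0))) (.inv (.mul (.mul (.mul (.v (nat_lit 2)) (.v (nat_lit 1))) (.inv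 (.v (nat_lit 2)))) (.inv (.v (nat_lit 1)))))) (.inv (.v (nat_lit 0)))) (.v (nat_lit 3)))))))))))))
theorem HG_soc_chk : Fm.chk HG_o HG_soc_F HG_cs = true := by decide +kernel
theorem HG_soc {G : Type*} [Group G] {R : ℕ → G → Prop} {z u v a b r x X_ y Y_ : G} {H : Subgroup G}
    (M : Mdl HG_o HG_cs HG_L R [z, u, v, a, b, r, x, X_, y, Y_] H) :
    ∀ y_ ∈ H, y_ = 1 ∨ (∃ q_ ∈ H, ∃ k_ ∈ H, k_ * y_ * k_⁻¹ = z ∨ k_ * y_ * k_⁻¹ = z ∨ k_ * ⁅y_, q_⁆ * k_⁻¹ = z ∨ k_ * ⁅y_, q_⁆ * k_⁻¹ = z ∨ ⁅⁅y_, q_⁆, k_⁆ = z ∨ ⁅⁅y_, q_⁆, k_⁆ = z) :=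
  have h : ∀ y_, InL HG_o R HG_L y_ → y_ = 1 ∨ (Good HG_o R HG_L → prods HG_o HG_L HG_o.one ≠ [] → ∃ q_, InL HG_o R HG_L q_ ∧ (Good HG_o R HG_L → prods HG_o HG_L HG_o.one ≠ [] → ∃ k_, InL HG_o R HG_L k_ ∧ (k_ * y_ * k_⁻¹ = z ∨ k_ * y_ * k_⁻¹ = z ∨ k_ * ⁅y_, q_⁆ * k_⁻¹ = z ∨ k_ * ⁅y_, q_⁆ * k_⁻¹ = z ∨ ⁅⁅y_, q_⁆, k_⁆ = z ∨ ⁅⁅y_, q_⁆, k_⁆ = z))) :=
    Fm.sound M.μ HG_soc_F HG_soc_chk M.reps
  (fun y_ h0 => (Or.imp (fun h1 => h1) (fun h1 => (Exists.imp (fun q_ h2 => ⟨M.H.iff.1 h2.1, (Exists.imp (fun k_ h3 => ⟨M.H.iff.1 h3.1, h3.2⟩) (h2.2 M.H.good M.H.ne))⟩) (h1 M.H.good M.H.ne))) (h y_ (M.H.iff.2 h0))))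
theorem HG_mdl {G : Type*} [Group G] {z u v a b r x y : G}
    (h : Q3 z u v a b x)
    (k : KY z u v x y)
    (t : TB z u v a b r)
    (rx : r * x * r⁻¹ = x⁻¹)
    (ry : r * y * r⁻¹ = y⁻¹)
    (n1 : z ≠ 1) :
    ∃ R, Mdl HG_o HG_cs HG_L R [z, u, v, a, b, r, x, x⁻¹, y, y⁻¹] (sp [z, u, v, a, b, r, x, x⁻¹, y, y⁻¹]) ∧ #(sp [z, u, v, a, b, r, x, x⁻¹, y, y⁻¹]) = 576 :=
  mdl_of HG_P rfl (HG_r h k t rx ry) (.v (nat_lit 0)) (.v (nat_lit 0)) n1 n1 
    fun _ ms _ M hl => match ms, M, (hl : ms.length = 10) with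
      | [_, _, _, _, _, _, _, _, _, _], M, _ => HG_soc M
noncomputable def HG_lQ : List ℕ := [(nat_lit 0xbdab49ca307b9ac5a928398a418820), (nat_lit 0xa56d794deb8b10e8254d20c4731401), (nat_lit 0xbdab494dee8c0cb61c8353429400a2), (nat_lit 0xbd6d49c9e9890a752e02605ae020c3), (nat_lit 0xb5e958be6e941ab610e84984a19401), (nat_lit 0x93e33a5ea9b1da452e0870cac30801), (nat_lit 0xa56d79ca2c7ac70710e64a00a68445), (nat_lit 0xa5ab794e2a79c444c1657010c0b466), (nat_lit 0xad2f67c64c9ad1071c8d50ca930820), (nat_lit 0x9c5f2bd2caa91074c16d6184e19420), (nat_lit 0xbd6d494e247a42a3b1c0594d010da8), (nat_lit 0xb5e957c6509b8cc5a5432340740445), (nat_lit 0x93e33bd2c7aa46a239865b410404a2), (nat_lit 0xb52f58be479a849231c5581b00a0c3), (nat_lit 0x945f3a5ed0ab0ae5a922201a70a066), (nat_lit 0xade967c664924aa3b9828050b03466), (nat_lit 0x7ca71ada87ba5aa231c880c4b31420), (nat_lit 0x9c5f2a5ea4b28c93b1c38202b68045), (nat_lit 0xa5ab79c9e78a809239818086b2990d),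 (nat_lit 0xad2f68be6b9306e829263a024680a2), (nat_lit 0x9be32bd2abb384c8254538504034c3), (nat_lit 0x8ce4fb56e4a29093b98d598b018801), (nat_lit 0xb52f57c66a91c044ae01608ce28da8), (nat_lit 0x945f3bd2acb400b710e151469119a8), (nat_lit 0xade968be4999027541607146c1190d), (nat_lit 0x7ca71b56e9a1c64541666342e40045), (nat_lit 0x7ce51adaeea2c50610e5505a902066), (nat_lit 0x9be32a5eceaac3061c80488ca28d0d), (nat_lit 0x8ca6fb568cbc0ab71c824810a0b4c3), (nat_lit 0x8ce4fada8ab90c74ae037200c684a2), (nat_lit 0x7ce51b568bbb82c8292020867299a8), (nat_lit 0x8ca6fadaf0a300e5a541394c410d0d)]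
noncomputable def HG_lQ_W : List (List ℕ) := [[],
  [(nat_lit 0)],
  [(nat_lit 1)],
  [(nat_lit 2)],
  [(nat_lit 3)],
  [(nat_lit 4)],
  [(nat_lit 0), (nat_lit 1)],
  [(nat_lit 0), (nat_lit 2)],
  [(nat_lit 0), (nat_lit 3)],
  [(nat_lit 0), (nat_lit 4)],
  [(nat_lit 1), (nat_lit 2)],
  [(nat_lit 1), (nat_lit 3)],
  [(nat_lit 1), (nat_lit 4)],
  [(nat_lit 2), (nat_lit 3)],
  [(nat_lit 2), (nat_lit 4)],
  [(nat_lit 3), (nat_lit 2)],
  [(nat_lit 3), (nat_lit 4)],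
  [(nat_lit 4), (nat_lit 1)],
  [(nat_lit 0), (nat_lit 1), (nat_lit 2)],
  [(nat_lit 0), (nat_lit 1), (nat_lit 3)],
  [(nat_lit 0), (nat_lit 2), (nat_lit 4)],
  [(nat_lit 0), (nat_lit 3), (nat_lit 4)],
  [(nat_lit 1), (nat_lit 2), (nat_lit 3)],
  [(nat_lit 1), (nat_lit 2), (nat_lit 4)],
  [(nat_lit 1), (nat_lit 3), (nat_lit 2)],
  [(nat_lit 1), (nat_lit 3), (nat_lit 4)],
  [(nat_lit 2), (nat_lit 3), (nat_lit 4)],
  [(nat_lit 2), (nat_lit 4), (nat_lit 1)],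
  [(nat_lit 3), (nat_lit 2), (nat_lit 4)],
  [(nat_lit 3), (nat_lit 4), (nat_lit 1)],
  [(nat_lit 1), (nat_lit 2), (nat_lit 3), (nat_lit 4)],
  [(nat_lit 1), (nat_lit 3), (nat_lit 2), (nat_lit 4)]]
noncomputable def HG_lQ_h (c : ℕ) : ℕ := Nat.mod c (nat_lit 201)
theorem HG_lQ_E {G : Type*} [Group G] {R : ℕ → G → Prop} {z u v a b r x y : G} {H : Subgroup G}
    (M : Mdl HG_o HG_cs HG_L R [z, u, v, a, b, r, x, x⁻¹, y, y⁻¹] H) :
    EnumS R HG_lQ (sp [z, u, v, a, b]) :=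
  enumS_sp M.μ.1 (M.reps.tms M.μ.1 [(.v (nat_lit 0)), (.v (nat_lit 1)), (.v (nat_lit 2)), (.v (nat_lit 3)), (.v (nat_lit 4))] (cs' := [(nat_lit 0xa56d794deb8b10e8254d20c4731401), (nat_lit 0xbdab494dee8c0cb61c8353429400a2), (nat_lit 0xbd6d49c9e9890a752e02605ae020c3), (nat_lit 0xb5e958be6e941ab610e84984a19401), (nat_lit 0x93e33a5ea9b1da452e0870cac30801)]) (by decide +kernel))
    (Ws := HG_lQ_W) (by decide +kernel) (by decide +kernel)
theorem HG_lQ_c {G : Type*} [Group G] {R : ℕ → G → Prop} {z u v a b r x y : G} {H : Subgroup G}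
    (M : Mdl HG_o HG_cs HG_L R [z, u, v, a, b, r, x, x⁻¹, y, y⁻¹] H) :
    #(sp [z, u, v, a, b]) = 32 :=
  (HG_lQ_E M).card M.μ (h := HG_lQ_h) (by decide +kernel)
noncomputable def HG_lT : List ℕ := [(nat_lit 0xbdab49ca307b9ac5a928398a418820), (nat_lit 0xa56d794deb8b10e8254d20c4731401), (nat_lit 0xbdab494dee8c0cb61c8353429400a2), (nat_lit 0xbd6d49c9e9890a752e02605ae020c3), (nat_lit 0xb5e958be6e941ab610e84984a19401), (nat_lit 0x93e33a5ea9b1da452e0870cac30801), (nat_lit 0xb5e9594e267b5c81944c0c1405a4e4), (nat_lit 0xa56d79ca2c7ac70710e64a00a68445), (nat_lit 0xa5ab794e2a79c444c1657010c0b466), (nat_lit 0xad2f67c64c9ad1071c8d50ca930820), (nat_lit 0x9c5f2bd2caa91074c16d6184e19420), (nat_lit 0xad2f69c9e38a18d308ae02d2182887), (nat_lit 0xbd6d494e247a42a3b1c0594d010da8), (nat_lit 0xb5e957c6509b8cc5a5432340740445), (nat_lit 0x93e33bd2c7aa46a239865b410404a2), (nat_lit 0xb5e959c9ed89a034040b2b8e261149), (nat_lit 0xb52f58be479a849231c5581b00a0c3),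 (nat_lit 0x945f3a5ed0ab0ae5a922201a70a066), (nat_lit 0xb52f594de28814128cc941dcd2320b), (nat_lit 0xade967c664924aa3b9828050b03466), (nat_lit 0x7ca71ada87ba5aa231c880c4b31420), (nat_lit 0xbdab48be4d999c34002c141255a887), (nat_lit 0x9c5f2a5ea4b28c93b1c38202b68045), (nat_lit 0x9be32ada82b85c028ccc6ad4882487), (nat_lit 0xade9694de18948203507325635418e), (nat_lit 0xbdab47c66693608188ab0388161d2a), (nat_lit 0x7ca71bd2a3b34e83144402561541cc), (nat_lit 0xa5ab79c9e78a809239818086b2990d), (nat_lit 0xad2f68be6b9306e829263a024680a2), (nat_lit 0xad2f694e2878d66680301308571d2a), (nat_lit 0x9be32bd2abb384c8254538504034c3), (nat_lit 0xade969ca25785201186a691883b970), (nat_lit 0x8ce4fb56e4a29093b98d598b018801), (nat_lit 0xa56d77c66890d866840e2ad42824e4), (nat_lit 0x945f3b56e5a01811186e4412d5a8e4), (nat_lit 0xb52f59ca20788e50a1a41aa064adcc), (nat_lit 0xa56d78be439a16d314500b0e071149), (nat_lit 0x8ce4fa5ec6aa08d188a70aa004ad8e),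 (nat_lit 0xb52f57c66a91c044ae01608ce28da8), (nat_lit 0x945f3bd2acb400b710e151469119a8), (nat_lit 0xade968be4999027541607146c1190d), (nat_lit 0x7ca71b56e9a1c64541666342e40045), (nat_lit 0x9be32b56e1a0965035101b88661d49), (nat_lit 0x7ca71a5ecda8d264002a29dc223170), (nat_lit 0x7ce51adaeea2c50610e5505a902066), (nat_lit 0xbd6d48be6191522021aa191c63b20b), (nat_lit 0x9be32a5eceaac3061c80488ca28d0d), (nat_lit 0x9c5f2adae6a214d19449011c13b170), (nat_lit 0xbd6d47c6459848010cc74260d52dcc), (nat_lit 0x7ce51bd2c2a856029870438ed6112a), (nat_lit 0x8ca6fb568cbc0ab71c824810a0b4c3), (nat_lit 0xa5ab77c640989450b50931d8323970), (nat_lit 0x8ce4fada8ab90c74ae037200c684a2), (nat_lit 0x7ce51a5ea1b09c5021ac32d23828e4), (nat_lit 0x93e33adaeda0ce6404041260552d8e), (nat_lit 0x945f3ada80b96020a1ab330e37112a), (nat_lit 0x9c5f2b5688b9883680272a9624c1cc), (nat_lit 0x8ca6fa5ea5b020110ccb6b08871d49), (nat_lit 0xa5ab78be62900e1298646a9684c18e),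 (nat_lit 0x8ca6fbd2c0a95820b50e1c1465a487), (nat_lit 0x93e33b5683bb528308aa09d8023a0b), (nat_lit 0x8ce4fbd2a8b194368409111853ba0b), (nat_lit 0x7ce51b568bbb82c8292020867299a8), (nat_lit 0x8ca6fadaf0a300e5a541394c410d0d)]
noncomputable def HG_lT_W : List (List ℕ) := [[],
  [(nat_lit 0)],
  [(nat_lit 1)],
  [(nat_lit 2)],
  [(nat_lit 3)],
  [(nat_lit 4)],
  [(nat_lit 5)],
  [(nat_lit 0), (nat_lit 1)],
  [(nat_lit 0), (nat_lit 2)],
  [(nat_lit 0), (nat_lit 3)],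
  [(nat_lit 0), (nat_lit 4)],
  [(nat_lit 0), (nat_lit 5)],
  [(nat_lit 1), (nat_lit 2)],
  [(nat_lit 1), (nat_lit 3)],
  [(nat_lit 1), (nat_lit 4)],
  [(nat_lit 1), (nat_lit 5)],
  [(nat_lit 2), (nat_lit 3)],
  [(nat_lit 2), (nat_lit 4)],
  [(nat_lit 2), (nat_lit 5)],
  [(nat_lit 3), (nat_lit 2)],
  [(nat_lit 3), (nat_lit 4)],
  [(nat_lit 3), (nat_lit 5)],
  [(nat_lit 4), (nat_lit 1)],
  [(nat_lit 4), (nat_lit 5)],
  [(nat_lit 5), (nat_lit 2)],
  [(nat_lit 5), (nat_lit 3)],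
  [(nat_lit 5), (nat_lit 4)],
  [(nat_lit 0), (nat_lit 1), (nat_lit 2)],
  [(nat_lit 0), (nat_lit 1), (nat_lit 3)],
  [(nat_lit 0), (nat_lit 1), (nat_lit 5)],
  [(nat_lit 0), (nat_lit 2), (nat_lit 4)],
  [(nat_lit 0), (nat_lit 2), (nat_lit 5)],
  [(nat_lit 0), (nat_lit 3), (nat_lit 4)],
  [(nat_lit 0), (nat_lit 3), (nat_lit 5)],
  [(nat_lit 0), (nat_lit 4), (nat_lit 5)],
  [(nat_lit 0), (nat_lit 5), (nat_lit 2)],
  [(nat_lit 0), (nat_lit 5), (nat_lit 3)],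
  [(nat_lit 0), (nat_lit 5), (nat_lit 4)],
  [(nat_lit 1), (nat_lit 2), (nat_lit 3)],
  [(nat_lit 1), (nat_lit 2), (nat_lit 4)],
  [(nat_lit 1), (nat_lit 3), (nat_lit 2)],
  [(nat_lit 1), (nat_lit 3), (nat_lit 4)],
  [(nat_lit 1), (nat_lit 4), (nat_lit 5)],
  [(nat_lit 1), (nat_lit 5), (nat_lit 4)],
  [(nat_lit 2), (nat_lit 3), (nat_lit 4)],
  [(nat_lit 2), (nat_lit 3), (nat_lit 5)],
  [(nat_lit 2), (nat_lit 4), (nat_lit 1)],
  [(nat_lit 2), (nat_lit 4), (nat_lit 5)],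
  [(nat_lit 2), (nat_lit 5), (nat_lit 3)],
  [(nat_lit 2), (nat_lit 5), (nat_lit 4)],
  [(nat_lit 3), (nat_lit 2), (nat_lit 4)],
  [(nat_lit 3), (nat_lit 2), (nat_lit 5)],
  [(nat_lit 3), (nat_lit 4), (nat_lit 1)],
  [(nat_lit 3), (nat_lit 4), (nat_lit 5)],
  [(nat_lit 3), (nat_lit 5), (nat_lit 4)],
  [(nat_lit 4), (nat_lit 1), (nat_lit 5)],
  [(nat_lit 4), (nat_lit 5), (nat_lit 2)],
  [(nat_lit 4), (nat_lit 5), (nat_lit 3)],
  [(nat_lit 4), (nat_lit 5), (nat_lit 4)],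
  [(nat_lit 5), (nat_lit 2), (nat_lit 4)],
  [(nat_lit 5), (nat_lit 3), (nat_lit 4)],
  [(nat_lit 5), (nat_lit 4), (nat_lit 1)],
  [(nat_lit 5), (nat_lit 4), (nat_lit 5)],
  [(nat_lit 0), (nat_lit 5), (nat_lit 4), (nat_lit 5)]]
noncomputable def HG_lT_h (c : ℕ) : ℕ := Nat.mod c (nat_lit 998)
theorem HG_lT_E {G : Type*} [Group G] {R : ℕ → G → Prop} {z u v a b r x y : G} {H : Subgroup G}
    (M : Mdl HG_o HG_cs HG_L R [z, u, v, a, b, r, x, x⁻¹, y, y⁻¹] H) :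
    EnumS R HG_lT (sp [z, u, v, a, b, r]) :=
  enumS_sp M.μ.1 (M.reps.tms M.μ.1 [(.v (nat_lit 0)), (.v (nat_lit 1)), (.v (nat_lit 2)), (.v (nat_lit 3)), (.v (nat_lit 4)), (.v (nat_lit 5))] (cs' := [(nat_lit 0xa56d794deb8b10e8254d20c4731401), (nat_lit 0xbdab494dee8c0cb61c8353429400a2), (nat_lit 0xbd6d49c9e9890a752e02605ae020c3), (nat_lit 0xb5e958be6e941ab610e84984a19401), (nat_lit 0x93e33a5ea9b1da452e0870cac30801), (nat_lit 0xb5e9594e267b5c81944c0c1405a4e4)]) (by decide +kernel))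
    (Ws := HG_lT_W) (by decide +kernel) (by decide +kernel)
theorem HG_lT_c {G : Type*} [Group G] {R : ℕ → G → Prop} {z u v a b r x y : G} {H : Subgroup G}
    (M : Mdl HG_o HG_cs HG_L R [z, u, v, a, b, r, x, x⁻¹, y, y⁻¹] H) :
    #(sp [z, u, v, a, b, r]) = 64 :=
  (HG_lT_E M).card M.μ (h := HG_lT_h) (by decide +kernel)
noncomputable def HG_lP : List ℕ := [(nat_lit 0xbdab49ca307b9ac5a928398a418820), (nat_lit 0x698681143705a15a4e4b8b92f628e4), (nat_lit 0x9d2f2ada2a7ac504b1c53a0c468c20), (nat_lit 0x8398b524ed21ae3408b40da40ace2f), (nat_lit 0x121a51983305157956c98adcf830e4), (nat_lit 0xaca76bd22c7a46a741663950413420), (nat_lit 0x52e09638e22226d28cd20d2c0bd62f), (nat_lit 0x194466a03504993b5e8e8a56f540e4), (nat_lit 0x6254e82ce3216a2335160ca809de2f)]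
noncomputable def HG_lP_W : List (List ℕ) := [[],
  [(nat_lit 0)],
  [(nat_lit 1)],
  [(nat_lit 0), (nat_lit 0)],
  [(nat_lit 0), (nat_lit 1)],
  [(nat_lit 1), (nat_lit 1)],
  [(nat_lit 0), (nat_lit 0), (nat_lit 1)],
  [(nat_lit 0), (nat_lit 1), (nat_lit 1)],
  [(nat_lit 0), (nat_lit 0), (nat_lit 1), (nat_lit 1)]]
noncomputable def HG_lP_h (c : ℕ) : ℕ := Nat.mod c (nat_lit 50)
theorem HG_lP_E {G : Type*} [Group G] {R : ℕ → G → Prop} {z u v a b r x y : G} {H : Subgroup G}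
    (M : Mdl HG_o HG_cs HG_L R [z, u, v, a, b, r, x, x⁻¹, y, y⁻¹] H) :
    EnumS R HG_lP (sp [x, y]) :=
  enumS_sp M.μ.1 (M.reps.tms M.μ.1 [(.v (nat_lit 6)), (.v (nat_lit 8))] (cs' := [(nat_lit 0x698681143705a15a4e4b8b92f628e4), (nat_lit 0x9d2f2ada2a7ac504b1c53a0c468c20)]) (by decide +kernel))
    (Ws := HG_lP_W) (by decide +kernel) (by decide +kernel)
theorem HG_lP_c {G : Type*} [Group G] {R : ℕ → G → Prop} {z u v a b r x y : G} {H : Subgroup G}
    (M : Mdl HG_o HG_cs HG_L R [z, u, v, a, b, r, x, x⁻¹, y, y⁻¹] H) :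
    #(sp [x, y]) = 9 :=
  (HG_lP_E M).card M.μ (h := HG_lP_h) (by decide +kernel)
noncomputable def HG_lE : List ℕ := [(nat_lit 0xbdab49ca307b9ac5a928398a418820), (nat_lit 0xa56d794deb8b10e8254d20c4731401), (nat_lit 0xbdab494dee8c0cb61c8353429400a2), (nat_lit 0xbd6d49c9e9890a752e02605ae020c3), (nat_lit 0xa56d79ca2c7ac70710e64a00a68445), (nat_lit 0xa5ab794e2a79c444c1657010c0b466), (nat_lit 0xbd6d494e247a42a3b1c0594d010da8), (nat_lit 0xa5ab79c9e78a809239818086b2990d)]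
noncomputable def HG_lE_W : List (List ℕ) := [[],
  [(nat_lit 0)],
  [(nat_lit 1)],
  [(nat_lit 2)],
  [(nat_lit 0), (nat_lit 1)],
  [(nat_lit 0), (nat_lit 2)],
  [(nat_lit 1), (nat_lit 2)],
  [(nat_lit 0), (nat_lit 1), (nat_lit 2)]]
noncomputable def HG_lE_h (c : ℕ) : ℕ := Nat.mod c (nat_lit 14)
theorem HG_lE_E {G : Type*} [Group G] {R : ℕ → G → Prop} {z u v a b r x y : G} {H : Subgroup G}
    (M : Mdl HG_o HG_cs HG_L R [z, u, v, a, b, r, x, x⁻¹, y, y⁻¹] H) :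
    EnumS R HG_lE (sp [z, u, v]) :=
  enumS_sp M.μ.1 (M.reps.tms M.μ.1 [(.v (nat_lit 0)), (.v (nat_lit 1)), (.v (nat_lit 2))] (cs' := [(nat_lit 0xa56d794deb8b10e8254d20c4731401), (nat_lit 0xbdab494dee8c0cb61c8353429400a2), (nat_lit 0xbd6d49c9e9890a752e02605ae020c3)]) (by decide +kernel))
    (Ws := HG_lE_W) (by decide +kernel) (by decide +kernel)
theorem HG_lE_c {G : Type*} [Group G] {R : ℕ → G → Prop} {z u v a b r x y : G} {H : Subgroup G}
    (M : Mdl HG_o HG_cs HG_L R [z, u, v, a, b, r, x, x⁻¹, y, y⁻¹] H) :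
    #(sp [z, u, v]) = 8 :=
  (HG_lE_E M).card M.μ (h := HG_lE_h) (by decide +kernel)
noncomputable def HG_lZ : List ℕ := [(nat_lit 0xbdab49ca307b9ac5a928398a418820), (nat_lit 0xa56d794deb8b10e8254d20c4731401), (nat_lit 0x698681143705a15a4e4b8b92f628e4), (nat_lit 0x9d2f2ada2a7ac504b1c53a0c468c20), (nat_lit 0x40ccd288140d576bca707b15172487), (nat_lit 0x95e93b55e98c0ab539822346741801), (nat_lit 0x8398b524ed21ae3408b40da40ace2f), (nat_lit 0x121a51983305157956c98adcf830e4), (nat_lit 0xaca76bd22c7a46a741663950413420), (nat_lit 0x5b1d04a88838e866945705661b49f1), (nat_lit 0x2b50230c120dd349daaa7c1915b887), (nat_lit 0xb4e55a5dee8a8c962e03209a72a001), (nat_lit 0x52e09638e22226d28cd20d2c0bd62f), (nat_lit 0x194466a03504993b5e8e8a56f540e4), (nat_lit 0x4c16a730853b6481187305ea1a59f1), (nat_lit 0x308a3434160cdd2ad2ec7aa114ac87), (nat_lit 0x6254e82ce3216a2335160ca809de2f), (nat_lit 0x7292c5c08638ac51a1b504ee1951f1)]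
noncomputable def HG_lZ_W : List (List ℕ) := [[],
  [(nat_lit 0)],
  [(nat_lit 1)],
  [(nat_lit 2)],
  [(nat_lit 0), (nat_lit 1)],
  [(nat_lit 0), (nat_lit 2)],
  [(nat_lit 1), (nat_lit 1)],
  [(nat_lit 1), (nat_lit 2)],
  [(nat_lit 2), (nat_lit 2)],
  [(nat_lit 0), (nat_lit 1), (nat_lit 1)],
  [(nat_lit 0), (nat_lit 1), (nat_lit 2)],
  [(nat_lit 0), (nat_lit 2), (nat_lit 2)],
  [(nat_lit 1), (nat_lit 1), (nat_lit 2)],
  [(nat_lit 1), (nat_lit 2), (nat_lit 2)],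
  [(nat_lit 0), (nat_lit 1), (nat_lit 1), (nat_lit 2)],
  [(nat_lit 0), (nat_lit 1), (nat_lit 2), (nat_lit 2)],
  [(nat_lit 1), (nat_lit 1), (nat_lit 2), (nat_lit 2)],
  [(nat_lit 0), (nat_lit 1), (nat_lit 1), (nat_lit 2), (nat_lit 2)]]
noncomputable def HG_lZ_h (c : ℕ) : ℕ := Nat.mod c (nat_lit 61)
theorem HG_lZ_E {G : Type*} [Group G] {R : ℕ → G → Prop} {z u v a b r x y : G} {H : Subgroup G}
    (M : Mdl HG_o HG_cs HG_L R [z, u, v, a, b, r, x, x⁻¹, y, y⁻¹] H) :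
    EnumS R HG_lZ (sp [z, x, y]) :=
  enumS_sp M.μ.1 (M.reps.tms M.μ.1 [(.v (nat_lit 0)), (.v (nat_lit 6)), (.v (nat_lit 8))] (cs' := [(nat_lit 0xa56d794deb8b10e8254d20c4731401), (nat_lit 0x698681143705a15a4e4b8b92f628e4), (nat_lit 0x9d2f2ada2a7ac504b1c53a0c468c20)]) (by decide +kernel))
    (Ws := HG_lZ_W) (by decide +kernel) (by decide +kernel)
theorem HG_lZ_c {G : Type*} [Group G] {R : ℕ → G → Prop} {z u v a b r x y : G} {H : Subgroup G}
    (M : Mdl HG_o HG_cs HG_L R [z, u, v, a, b, r, x, x⁻¹, y, y⁻¹] H) :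
    #(sp [z, x, y]) = 18 :=
  (HG_lZ_E M).card M.μ (h := HG_lZ_h) (by decide +kernel)
noncomputable def HG_lW : List ℕ := [(nat_lit 0xbdab49ca307b9ac5a928398a418820), (nat_lit 0xa56d794deb8b10e8254d20c4731401), (nat_lit 0xb5e9594e267b5c81944c0c1405a4e4), (nat_lit 0x698681143705a15a4e4b8b92f628e4), (nat_lit 0x9d2f2ada2a7ac504b1c53a0c468c20), (nat_lit 0xad2f69c9e38a18d308ae02d2182887), (nat_lit 0x40ccd288140d576bca707b15172487), (nat_lit 0x95e93b55e98c0ab539822346741801), (nat_lit 0x335032882e042cb625553de64a4a2f), (nat_lit 0xa4e57b562878965698700a9804b8e4), (nat_lit 0x7416c4a8f625cd4aca638b44f41420), (nat_lit 0x8398b524ed21ae3408b40da40ace2f), (nat_lit 0x121a51983305157956c98adcf830e4), (nat_lit 0x956d3a5e2578d26121aa0b20072ce4), (nat_lit 0xaca76bd22c7a46a741663950413420), (nat_lit 0x1a1a61140c0aeb07293625247bcdf1), (nat_lit 0xbca74ad9ed8960240ccb025c153087), (nat_lit 0x62e0e524953d077b4e467a0b168801), (nat_lit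 0x5b1d04a88838e866945705661b49f1), (nat_lit 0x2b50230c120dd349daaa7c1915b887), (nat_lit 0x9dab2bd1e2899432b5090396164087), (nat_lit 0xb4e55a5dee8a8c962e03209a72a001), (nat_lit 0x408ad30c2b02a89839973cea495a2f), (nat_lit 0x5a930730f424d12bdaad8886f29820), (nat_lit 0x52e09638e22226d28cd20d2c0bd62f), (nat_lit 0x4b1ca5c0f2254b69d2e288daf32020), (nat_lit 0x194466a03504993b5e8e8a56f540e4), (nat_lit 0x28cc2434290324e52e133d6e4b522f), (nat_lit 0x69448198100a6ea5b1d424ac79d5f1), (nat_lit 0x8254b638973c9b3a56c8794d110c01), (nat_lit 0x4c16a730853b6481187305ea1a59f1), (nat_lit 0x5398982c933d85595e85799111b401), (nat_lit 0x308a3434160cdd2ad2ec7aa114ac87), (nat_lit 0x118656a00a0ba6c4c17225a87addf1), (nat_lit 0x6254e82ce3216a2335160ca809de2f), (nat_lit 0x7292c5c08638ac51a1b504ee1951f1)]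
noncomputable def HG_lW_W : List (List ℕ) := [[],
  [(nat_lit 0)],
  [(nat_lit 1)],
  [(nat_lit 2)],
  [(nat_lit 3)],
  [(nat_lit 0), (nat_lit 1)],
  [(nat_lit 0), (nat_lit 2)],
  [(nat_lit 0), (nat_lit 3)],
  [(nat_lit 1), (nat_lit 2)],
  [(nat_lit 1), (nat_lit 3)],
  [(nat_lit 2), (nat_lit 1)],
  [(nat_lit 2), (nat_lit 2)],
  [(nat_lit 2), (nat_lit 3)],
  [(nat_lit 3), (nat_lit 1)],
  [(nat_lit 3), (nat_lit 3)],
  [(nat_lit 0), (nat_lit 1), (nat_lit 2)],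
  [(nat_lit 0), (nat_lit 1), (nat_lit 3)],
  [(nat_lit 0), (nat_lit 2), (nat_lit 1)],
  [(nat_lit 0), (nat_lit 2), (nat_lit 2)],
  [(nat_lit 0), (nat_lit 2), (nat_lit 3)],
  [(nat_lit 0), (nat_lit 3), (nat_lit 1)],
  [(nat_lit 0), (nat_lit 3), (nat_lit 3)],
  [(nat_lit 1), (nat_lit 2), (nat_lit 3)],
  [(nat_lit 2), (nat_lit 1), (nat_lit 3)],
  [(nat_lit 2), (nat_lit 2), (nat_lit 3)],
  [(nat_lit 2), (nat_lit 3), (nat_lit 1)],
  [(nat_lit 2), (nat_lit 3), (nat_lit 3)],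
  [(nat_lit 3), (nat_lit 1), (nat_lit 2)],
  [(nat_lit 0), (nat_lit 1), (nat_lit 2), (nat_lit 3)],
  [(nat_lit 0), (nat_lit 2), (nat_lit 1), (nat_lit 3)],
  [(nat_lit 0), (nat_lit 2), (nat_lit 2), (nat_lit 3)],
  [(nat_lit 0), (nat_lit 2), (nat_lit 3), (nat_lit 1)],
  [(nat_lit 0), (nat_lit 2), (nat_lit 3), (nat_lit 3)],
  [(nat_lit 0), (nat_lit 3), (nat_lit 1), (nat_lit 2)],
  [(nat_lit 1), (nat_lit 2), (nat_lit 3), (nat_lit 1)],
  [(nat_lit 0), (nat_lit 1), (nat_lit 2), (nat_lit 3), (nat_lit 1)]]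
noncomputable def HG_lW_h (c : ℕ) : ℕ := Nat.mod c (nat_lit 287)
theorem HG_lW_E {G : Type*} [Group G] {R : ℕ → G → Prop} {z u v a b r x y : G} {H : Subgroup G}
    (M : Mdl HG_o HG_cs HG_L R [z, u, v, a, b, r, x, x⁻¹, y, y⁻¹] H) :
    EnumS R HG_lW (sp [z, r, x, y]) :=
  enumS_sp M.μ.1 (M.reps.tms M.μ.1 [(.v (nat_lit 0)), (.v (nat_lit 5)), (.v (nat_lit 6)), (.v (nat_lit 8))] (cs' := [(nat_lit 0xa56d794deb8b10e8254d20c4731401), (nat_lit 0xb5e9594e267b5c81944c0c1405a4e4), (nat_lit 0x698681143705a15a4e4b8b92f628e4), (nat_lit 0x9d2f2ada2a7ac504b1c53a0c468c20)]) (by decide +kernel))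
    (Ws := HG_lW_W) (by decide +kernel) (by decide +kernel)
theorem HG_lW_c {G : Type*} [Group G] {R : ℕ → G → Prop} {z u v a b r x y : G} {H : Subgroup G}
    (M : Mdl HG_o HG_cs HG_L R [z, u, v, a, b, r, x, x⁻¹, y, y⁻¹] H) :
    #(sp [z, r, x, y]) = 36 :=
  (HG_lW_E M).card M.μ (h := HG_lW_h) (by decide +kernel)
noncomputable def HG_z_F : Fm := (.all HG_L (.qf (.eq (.mul (.v (nat_lit 0)) (.v (nat_lit 1))) (.mul (.v (nat_lit 1)) (.v (nat_lit 0))))))
theorem HG_z_chk : Fm.chk HG_o HG_z_F HG_cs = true := by decide +kernel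
theorem HG_z {G : Type*} [Group G] {R : ℕ → G → Prop} {z u v a b r x y : G} {H : Subgroup G}
    (M : Mdl HG_o HG_cs HG_L R [z, u, v, a, b, r, x, x⁻¹, y, y⁻¹] H) :
    ∀ c ∈ H, c * z = z * c :=
  have h : ∀ c, InL HG_o R HG_L c → c * z = z * c :=
    Fm.sound M.μ HG_z_F HG_z_chk M.reps
  (fun c h0 => (h c (M.H.iff.2 h0)))
noncomputable def HG_y_f_F : Fm := (.qf (.and (.eq (.pw (.v (nat_lit 8)) (nat_lit 3)) .one) (.and (.eq (.mul (.v (nat_lit 8)) (.v (nat_lit 0))) (.mul (.v (nat_lit 0)) (.v (nat_lit 8)))) (.and (.eq (.mul (.mul (.v (nat_lit 8)) (.v (nat_lit 1))) (.v (nat_lit 9))) (.v (nat_lit 2))) (.and (.eq (.mul (.mul (.v (nat_lit 8)) (.v (nat_lit 2))) (.v (nat_lit 9))) (.mul (.mul (.v (nat_lit 0)) (.v (nat_lit 1))) (.v (nat_lit 2)))) (.and (.eq (.mul (.mul (.v (nat_lit 8)) (.v (nat_lit 3))) (.v (nat_lit 9))) (.v (nat_lit 4))) (.and (.eq (.mul (.mul (.v (nat_lit 8)) (.v (nat_lit 4))) (.v (nat_lit 9))) (.mul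 (.mul (.v (nat_lit 0)) (.v (nat_lit 3))) (.v (nat_lit 4)))) (.eq (.mul (.mul (.v (nat_lit 5)) (.v (nat_lit 8))) (.inv (.v (nat_lit 5)))) (.v (nat_lit 9))))))))))
theorem HG_y_f_chk : Fm.chk HG_o HG_y_f_F HG_cs = true := by decide +kernel
theorem HG_y_f {G : Type*} [Group G] {R : ℕ → G → Prop} {z u v a b r x y : G} {H : Subgroup G}
    (M : Mdl HG_o HG_cs HG_L R [z, u, v, a, b, r, x, x⁻¹, y, y⁻¹] H) :
    y ^ 3 = 1 ∧ y * z = z * y ∧ y * u * y⁻¹ = v ∧ y * v * y⁻¹ = z * u * v ∧ y * a * y⁻¹ = b ∧ y * b * y⁻¹ = z * a * b ∧ r * y * r⁻¹ = y⁻¹ :=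
  Fm.sound M.μ HG_y_f_F HG_y_f_chk M.reps
theorem HG_y {G : Type*} [Group G] {R : ℕ → G → Prop} {z u v a b r x y : G} {H : Subgroup G}
    (M : Mdl HG_o HG_cs HG_L R [z, u, v, a, b, r, x, x⁻¹, y, y⁻¹] H) :
    YG z u v a b r y :=
  have h := HG_y_f M
  ⟨h.1, h.2.1, h.2.2.1, h.2.2.2.1, h.2.2.2.2.1, h.2.2.2.2.2.1, h.2.2.2.2.2.2, trivial⟩
noncomputable def HG_x_f_F : Fm := (.qf (.and (.eq (.pw (.v (nat_lit 6)) (nat_lit 3)) .one) (.and (.eq (.mul (.v (nat_lit 6)) (.v (nat_lit 0))) (.mul (.v (nat_lit 0)) (.v (nat_lit 6)))) (.and (.eq (.mul (.mul (.v (nat_lit 6)) (.v (nat_lit 1))) (.v (nat_lit 7))) (.v (nat_lit 3))) (.and (.eq (.mul (.mul (.v (nat_lit 6)) (.v (nat_lit 3))) (.v (nat_lit 7))) (.mul (.v (nat_lit 1)) (.v (nat_lit 3)))) (.and (.eq (.mul (.mul (.v (nat_lit 6)) (.v (nat_lit 2))) (.v (nat_lit 7))) (.v (nat_lit 4))) (.and (.eq (.mul (.mul (.v (nat_lit 6)) (.v (nat_lit 4))) (.v (nat_lit 7))) (.mul (.v (nat_lit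 2)) (.v (nat_lit 4)))) (.eq (.mul (.mul (.v (nat_lit 5)) (.v (nat_lit 6))) (.inv (.v (nat_lit 5)))) (.v (nat_lit 7))))))))))
theorem HG_x_f_chk : Fm.chk HG_o HG_x_f_F HG_cs = true := by decide +kernel
theorem HG_x_f {G : Type*} [Group G] {R : ℕ → G → Prop} {z u v a b r x y : G} {H : Subgroup G}
    (M : Mdl HG_o HG_cs HG_L R [z, u, v, a, b, r, x, x⁻¹, y, y⁻¹] H) :
    x ^ 3 = 1 ∧ x * z = z * x ∧ x * u * x⁻¹ = a ∧ x * a * x⁻¹ = u * a ∧ x * v * x⁻¹ = b ∧ x * b * x⁻¹ = v * b ∧ r * x * r⁻¹ = x⁻¹ :=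
  Fm.sound M.μ HG_x_f_F HG_x_f_chk M.reps
theorem HG_x {G : Type*} [Group G] {R : ℕ → G → Prop} {z u v a b r x y : G} {H : Subgroup G}
    (M : Mdl HG_o HG_cs HG_L R [z, u, v, a, b, r, x, x⁻¹, y, y⁻¹] H) :
    ZG z u v a b r x :=
  have h := HG_x_f M
  ⟨h.1, h.2.1, h.2.2.1, h.2.2.2.1, h.2.2.2.2.1, h.2.2.2.2.2.1, h.2.2.2.2.2.2, trivial⟩
noncomputable def HG_cQ_F : Fm := (.all HG_L (.imp (.eq (.mul (.v (nat_lit 0)) (.v (nat_lit 2))) (.mul (.v (nat_lit 2)) (.v (nat_lit 0)))) (.imp (.eq (.mul (.v (nat_lit 0)) (.v (nat_lit 3))) (.mul (.v (nat_lit 3)) (.v (nat_lit 0)))) (.imp (.eq (.mul (.v (nat_lit 0)) (.v (nat_lit 4))) (.mul (.v (nat_lit 4)) (.v (nat_lit 0)))) (.imp (.eq (.mul (.v (nat_lit 0)) (.v (nat_lit 5))) (.mul (.v (nat_lit 5)) (.v (nat_lit 0)))) (.qf (.mem (.v (nat_lit 0)) HG_lQ)))))))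
theorem HG_cQ_chk : Fm.chk HG_o HG_cQ_F HG_cs = true := by decide +kernel
theorem HG_cQ {G : Type*} [Group G] {R : ℕ → G → Prop} {z u v a b r x y : G} {H : Subgroup G}
    (M : Mdl HG_o HG_cs HG_L R [z, u, v, a, b, r, x, x⁻¹, y, y⁻¹] H) :
    ∀ c ∈ H, c * u = u * c → c * v = v * c → c * a = a * c → c * b = b * c → c ∈ sp [z, u, v, a, b] :=
  have h : ∀ c, InL HG_o R HG_L c → c * u = u * c → c * v = v * c → c * a = a * c → c * b = b * c → InS R HG_lQ (c) :=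
    Fm.sound M.μ HG_cQ_F HG_cQ_chk M.reps
  (fun c h0 => (fun h1 => (fun h2 => (fun h3 => (fun h4 => ((HG_lQ_E M).iff.1 (((((h c (M.H.iff.2 h0)) h1) h2) h3) h4)))))))
noncomputable def HG_nQ_F : Fm := (.all HG_L (.qf (.and (.mem (.mul (.mul (.v (nat_lit 0)) (.v (nat_lit 2))) (.inv (.v (nat_lit 0)))) HG_lQ) (.and (.mem (.mul (.mul (.v (nat_lit 0)) (.v (nat_lit 3))) (.inv (.v (nat_lit 0)))) HG_lQ) (.and (.mem (.mul (.mul (.v (nat_lit 0)) (.v (nat_lit 4))) (.inv (.v (nat_lit 0)))) HG_lQ) (.mem (.mul (.mul (.v (nat_lit 0)) (.v (nat_lit 5))) (.inv (.v (nat_lit 0)))) HG_lQ))))))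
theorem HG_nQ_chk : Fm.chk HG_o HG_nQ_F HG_cs = true := by decide +kernel
theorem HG_nQ {G : Type*} [Group G] {R : ℕ → G → Prop} {z u v a b r x y : G} {H : Subgroup G}
    (M : Mdl HG_o HG_cs HG_L R [z, u, v, a, b, r, x, x⁻¹, y, y⁻¹] H) :
    ∀ c ∈ H, c * u * c⁻¹ ∈ sp [z, u, v, a, b] ∧ c * v * c⁻¹ ∈ sp [z, u, v, a, b] ∧ c * a * c⁻¹ ∈ sp [z, u, v, a, b] ∧ c * b * c⁻¹ ∈ sp [z, u, v, a, b] :=
  have h : ∀ c, InL HG_o R HG_L c → InS R HG_lQ (c * u * c⁻¹) ∧ InS R HG_lQ (c * v * c⁻¹) ∧ InS R HG_lQ (c * a * c⁻¹) ∧ InS R HG_lQ (c * b * c⁻¹) :=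
    Fm.sound M.μ HG_nQ_F HG_nQ_chk M.reps
  (fun c h0 => ((and_congr (HG_lQ_E M).iff (and_congr (HG_lQ_E M).iff (and_congr (HG_lQ_E M).iff (HG_lQ_E M).iff))).1 (h c (M.H.iff.2 h0))))
noncomputable def HG_E_F : Fm := (.all HG_L (.imp (.eq (.mul (.v (nat_lit 0)) (.v (nat_lit 2))) (.mul (.v (nat_lit 2)) (.v (nat_lit 0)))) (.imp (.eq (.mul (.v (nat_lit 0)) (.v (nat_lit 3))) (.mul (.v (nat_lit 3)) (.v (nat_lit 0)))) (.qf (.or (.eq (.v (nat_lit 0)) .one) (.or (.eq (.v (nat_lit 0)) (.v (nat_lit 1))) (.or (.eq (.v (nat_lit 0)) (.v (nat_lit 2))) (.or (.eq (.v (nat_lit 0)) (.v (nat_lit 3))) (.or (.eq (.v (nat_lit 0)) (.mul (.v (nat_lit 1)) (.v (nat_lit 2)))) (.or (.eq (.v (nat_lit 0)) (.mul (.v (nat_lit 1)) (.v (nat_lit 3)))) (.or (.eq (.v (nat_lit 0)) (.mul (.v (nat_lit 2)) (.v (nat_lit 3)))) (.eq (.v (nat_lit 0)) (.mul (.mul (.v (nat_lit 1)) (.v (nat_lit 2))) (.v (nat_lit 3)))))))))))))))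
theorem HG_E_chk : Fm.chk HG_o HG_E_F HG_cs = true := by decide +kernel
theorem HG_E {G : Type*} [Group G] {R : ℕ → G → Prop} {z u v a b r x y : G} {H : Subgroup G}
    (M : Mdl HG_o HG_cs HG_L R [z, u, v, a, b, r, x, x⁻¹, y, y⁻¹] H) :
    ∀ c ∈ H, c * u = u * c → c * v = v * c → c = 1 ∨ c = z ∨ c = u ∨ c = v ∨ c = z * u ∨ c = z * v ∨ c = u * v ∨ c = z * u * v :=
  have h : ∀ c, InL HG_o R HG_L c → c * u = u * c → c * v = v * c → c = 1 ∨ c = z ∨ c = u ∨ c = v ∨ c = z * u ∨ c = z * v ∨ c = u * v ∨ c = z * u * v :=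
    Fm.sound M.μ HG_E_F HG_E_chk M.reps
  (fun c h0 => (h c (M.H.iff.2 h0)))
noncomputable def HG_CP_F : Fm := (.all HG_L (.imp (.eq (.mul (.v (nat_lit 0)) (.v (nat_lit 7))) (.mul (.v (nat_lit 7)) (.v (nat_lit 0)))) (.imp (.eq (.mul (.v (nat_lit 0)) (.v (nat_lit 9))) (.mul (.v (nat_lit 9)) (.v (nat_lit 0)))) (.and (.qf (.mem (.v (nat_lit 0)) HG_lZ)) (.and (.imp (.eq (.mul (.v (nat_lit 0)) (.v (nat_lit 0))) .one) (.qf (.or (.eq (.v (nat_lit 0)) .one) (.eq (.v (nat_lit 0)) (.v (nat_lit 1)))))) (.imp (.eq (.mul (.v (nat_lit 0)) (.v (nat_lit 6))) (.mul (.v (nat_lit 6)) (.v (nat_lit 0)))) (.imp (.eq (.pw (.v (nat_lit 0)) (nat_lit 9)) .one) (.qf (.eq (.v (nat_lit 0)) .one)))))))))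
theorem HG_CP_chk : Fm.chk HG_o HG_CP_F HG_cs = true := by decide +kernel
theorem HG_CP {G : Type*} [Group G] {R : ℕ → G → Prop} {z u v a b r x y : G} {H : Subgroup G}
    (M : Mdl HG_o HG_cs HG_L R [z, u, v, a, b, r, x, x⁻¹, y, y⁻¹] H) :
    ∀ c ∈ H, c * x = x * c → c * y = y * c → c ∈ sp [z, x, y] ∧ (c * c = 1 → c = 1 ∨ c = z) ∧ (c * r = r * c → c ^ 9 = 1 → c = 1) :=
  have h : ∀ c, InL HG_o R HG_L c → c * x = x * c → c * y = y * c → InS R HG_lZ (c) ∧ (c * c = 1 → c = 1 ∨ c = z) ∧ (c * r = r * c → c ^ 9 = 1 → c = 1) :=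
    Fm.sound M.μ HG_CP_F HG_CP_chk M.reps
  (fun c h0 => (fun h1 => (fun h2 => (And.imp (fun h3 => ((HG_lZ_E M).iff.1 h3)) (fun h3 => h3) (((h c (M.H.iff.2 h0)) h1) h2)))))
noncomputable def HG_NP_F : Fm := (.all HG_L (.imp (.mem (.mul (.mul (.v (nat_lit 0)) (.v (nat_lit 7))) (.inv (.v (nat_lit 0)))) HG_lP) (.imp (.mem (.mul (.mul (.v (nat_lit 0)) (.v (nat_lit 9))) (.inv (.v (nat_lit 0)))) HG_lP) (.qf (.mem (.v (nat_lit 0)) HG_lW)))))
theorem HG_NP_chk : Fm.chk HG_o HG_NP_F HG_cs = true := by decide +kernel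
theorem HG_NP {G : Type*} [Group G] {R : ℕ → G → Prop} {z u v a b r x y : G} {H : Subgroup G}
    (M : Mdl HG_o HG_cs HG_L R [z, u, v, a, b, r, x, x⁻¹, y, y⁻¹] H) :
    ∀ c ∈ H, c * x * c⁻¹ ∈ sp [x, y] → c * y * c⁻¹ ∈ sp [x, y] → c ∈ sp [z, r, x, y] :=
  have h : ∀ c, InL HG_o R HG_L c → InS R HG_lP (c * x * c⁻¹) → InS R HG_lP (c * y * c⁻¹) → InS R HG_lW (c) :=
    Fm.sound M.μ HG_NP_F HG_NP_chk M.reps
  (fun c h0 => (fun h1 => (fun h2 => ((HG_lW_E M).iff.1 (((h c (M.H.iff.2 h0)) ((HG_lP_E M).iff.2 h1)) ((HG_lP_E M).iff.2 h2))))))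
noncomputable def HG_W_F : Fm := (.allS HG_lW (.qf (.and (.mem (.mul (.mul (.v (nat_lit 0)) (.v (nat_lit 7))) (.inv (.v (nat_lit 0)))) HG_lP) (.mem (.mul (.mul (.v (nat_lit 0)) (.v (nat_lit 9))) (.inv (.v (nat_lit 0)))) HG_lP))))
theorem HG_W_chk : Fm.chk HG_o HG_W_F HG_cs = true := by decide +kernel
theorem HG_W {G : Type*} [Group G] {R : ℕ → G → Prop} {z u v a b r x y : G} {H : Subgroup G}
    (M : Mdl HG_o HG_cs HG_L R [z, u, v, a, b, r, x, x⁻¹, y, y⁻¹] H) :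
    ∀ c ∈ sp [z, r, x, y], c * x * c⁻¹ ∈ sp [x, y] ∧ c * y * c⁻¹ ∈ sp [x, y] :=
  have h : ∀ c, InS R HG_lW c → InS R HG_lP (c * x * c⁻¹) ∧ InS R HG_lP (c * y * c⁻¹) :=
    Fm.sound M.μ HG_W_F HG_W_chk M.reps
  (fun c h0 => ((and_congr (HG_lP_E M).iff (HG_lP_E M).iff).1 (h c ((HG_lW_E M).iff.2 h0))))
noncomputable def HG_ab_F : Fm := (.allS HG_lP (.and (.qf (.eq (.pw (.v (nat_lit 0)) (nat_lit 3)) .one)) (.and (.qf (.eq (.mul (.mul (.v (nat_lit 6)) (.v (nat_lit 0))) (.inv (.v (nat_lit 6)))) (.inv (.v (nat_lit 0))))) (.allS HG_lZ (.qf (.eq (.mul (.v (nat_lit 1)) (.v (nat_lit 0))) (.mul (.v (nat_lit 0)) (.v (nat_lit 1)))))))))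
theorem HG_ab_chk : Fm.chk HG_o HG_ab_F HG_cs = true := by decide +kernel
theorem HG_ab {G : Type*} [Group G] {R : ℕ → G → Prop} {z u v a b r x y : G} {H : Subgroup G}
    (M : Mdl HG_o HG_cs HG_L R [z, u, v, a, b, r, x, x⁻¹, y, y⁻¹] H) :
    ∀ c ∈ sp [x, y], c ^ 3 = 1 ∧ r * c * r⁻¹ = c⁻¹ ∧ (∀ d ∈ sp [z, x, y], c * d = d * c) :=
  have h : ∀ c, InS R HG_lP c → c ^ 3 = 1 ∧ r * c * r⁻¹ = c⁻¹ ∧ (∀ d, InS R HG_lZ d → c * d = d * c) :=
    Fm.sound M.μ HG_ab_F HG_ab_chk M.reps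
  (fun c h0 => (And.imp (fun h1 => h1) (fun h1 => (And.imp (fun h2 => h2) (fun h2 => (fun d h3 => (h2 d ((HG_lZ_E M).iff.2 h3)))) h1)) (h c ((HG_lP_E M).iff.2 h0))))
noncomputable def HG_c_F : Fm := (.all HG_L (.imp (.eq (.mul (.mul (.v (nat_lit 6)) (.v (nat_lit 0))) (.inv (.v (nat_lit 6)))) (.inv (.v (nat_lit 0)))) (.imp (.eq (.pw (.v (nat_lit 0)) (nat_lit 9)) .one) (.qf (.or (.eq (.v (nat_lit 0)) .one) (.or (.or (.eq (.v (nat_lit 0)) (.mul (.mul (.mul (.v (nat_lit 2)) (.v (nat_lit 5))) (.v (nat_lit 7))) (.v (nat_lit 9)))) (.eq (.inv (.v (nat_lit 0))) (.mul (.mul (.mul (.v (nat_lit 2)) (.v (nat_lit 5))) (.v (nat_lit 7))) (.v (nat_lit 9))))) (.or (.or (.eq (.v (nat_lit 0)) (.v (nat_lit 7))) (.eq (.inv (.v (nat_lit 0))) (.v (nat_lit 7)))) (.or (.or (.eq (.v (nat_lit 0)) (.v (nat_lit 9))) (.eq (.inv (.v (nat_lit 0))) (.v (nat_lit 9)))) (.or (.or (.eq (.v (nat_lit 0)) (.mul (.v (nat_lit 4)) (.v (nat_lit 8))))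 (.eq (.inv (.v (nat_lit 0))) (.mul (.v (nat_lit 4)) (.v (nat_lit 8))))) (.or (.or (.eq (.v (nat_lit 0)) (.mul (.v (nat_lit 7)) (.v (nat_lit 9)))) (.eq (.inv (.v (nat_lit 0))) (.mul (.v (nat_lit 7)) (.v (nat_lit 9))))) (.or (.or (.eq (.v (nat_lit 0)) (.mul (.v (nat_lit 7)) (.v (nat_lit 10)))) (.eq (.inv (.v (nat_lit 0))) (.mul (.v (nat_lit 7)) (.v (nat_lit 10))))) (.or (.or (.eq (.v (nat_lit 0)) (.mul (.mul (.v (nat_lit 1)) (.v (nat_lit 3))) (.v (nat_lit 10)))) (.eq (.inv (.v (nat_lit 0))) (.mul (.mul (.v (nat_lit 1)) (.v (nat_lit 3))) (.v (nat_lit 10))))) (.or (.or (.eq (.v (nat_lit 0)) (.mul (.mul (.v (nat_lit 2)) (.v (nat_lit 5))) (.v (nat_lit 8)))) (.eq (.inv (.v (nat_lit 0))) (.mul (.mul (.v (nat_lit 2)) (.v (nat_lit 5))) (.v (nat_lit 8))))) (.or (.or (.eq (.v (nat_lit 0)) (.mul (.mul (.v (nat_lit 2)) (.v (nat_lit 5))) (.v (nat_lit 10)))) (.eq (.inv (.v (nat_lit 0))) (.mul (.mul (.v (nat_lit 2)) (.v (nat_lit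 5))) (.v (nat_lit 10))))) (.or (.or (.eq (.v (nat_lit 0)) (.mul (.mul (.v (nat_lit 2)) (.v (nat_lit 7))) (.v (nat_lit 5)))) (.eq (.inv (.v (nat_lit 0))) (.mul (.mul (.v (nat_lit 2)) (.v (nat_lit 7))) (.v (nat_lit 5))))) (.or (.or (.eq (.v (nat_lit 0)) (.mul (.mul (.v (nat_lit 2)) (.v (nat_lit 9))) (.v (nat_lit 5)))) (.eq (.inv (.v (nat_lit 0))) (.mul (.mul (.v (nat_lit 2)) (.v (nat_lit 9))) (.v (nat_lit 5))))) (.or (.eq (.v (nat_lit 0)) (.mul (.mul (.mul (.v (nat_lit 2)) (.v (nat_lit 7))) (.v (nat_lit 10))) (.v (nat_lit 2)))) (.eq (.inv (.v (nat_lit 0))) (.mul (.mul (.mul (.v (nat_lit 2)) (.v (nat_lit 7))) (.v (nat_lit 10))) (.v (nat_lit 2)))))))))))))))))))))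
theorem HG_c_chk : Fm.chk HG_o HG_c_F HG_cs = true := by decide +kernel
theorem HG_c {G : Type*} [Group G] {R : ℕ → G → Prop} {z u v a b r x y : G} {H : Subgroup G}
    (M : Mdl HG_o HG_cs HG_L R [z, u, v, a, b, r, x, x⁻¹, y, y⁻¹] H) :
    ∀ c ∈ H, r * c * r⁻¹ = c⁻¹ → c ^ 9 = 1 → c = 1 ∨ (c = u * b * x * y ∨ c⁻¹ = u * b * x * y) ∨ (c = x ∨ c⁻¹ = x) ∨ (c = y ∨ c⁻¹ = y) ∨ (c = a * x⁻¹ ∨ c⁻¹ = a * x⁻¹) ∨ (c = x * y ∨ c⁻¹ = x * y) ∨ (c = x * y⁻¹ ∨ c⁻¹ = x * y⁻¹) ∨ (c = z * v * y⁻¹ ∨ c⁻¹ = z * v * y⁻¹) ∨ (c = u * b * x⁻¹ ∨ c⁻¹ = u * b * x⁻¹) ∨ (c = u * b * y⁻¹ ∨ c⁻¹ = u * b * y⁻¹) ∨ (c = u * x * b ∨ c⁻¹ = u * x * b) ∨ (c = u * y * b ∨ c⁻¹ = u * y * b) ∨ c = u * x * y⁻¹ * u ∨ c⁻¹ = u * x * y⁻¹ * u :=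
  have h : ∀ c, InL HG_o R HG_L c → r * c * r⁻¹ = c⁻¹ → c ^ 9 = 1 → c = 1 ∨ (c = u * b * x * y ∨ c⁻¹ = u * b * x * y) ∨ (c = x ∨ c⁻¹ = x) ∨ (c = y ∨ c⁻¹ = y) ∨ (c = a * x⁻¹ ∨ c⁻¹ = a * x⁻¹) ∨ (c = x * y ∨ c⁻¹ = x * y) ∨ (c = x * y⁻¹ ∨ c⁻¹ = x * y⁻¹) ∨ (c = z * v * y⁻¹ ∨ c⁻¹ = z * v * y⁻¹) ∨ (c = u * b * x⁻¹ ∨ c⁻¹ = u * b * x⁻¹) ∨ (c = u * b * y⁻¹ ∨ c⁻¹ = u * b * y⁻¹) ∨ (c = u * x * b ∨ c⁻¹ = u * x * b) ∨ (c = u * y * b ∨ c⁻¹ = u * y * b) ∨ c = u * x * y⁻¹ * u ∨ c⁻¹ = u * x * y⁻¹ * u :=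
    Fm.sound M.μ HG_c_F HG_c_chk M.reps
  (fun c h0 => (h c (M.H.iff.2 h0)))
noncomputable def HG_nE_F : Fm := (.qf (.and (.not (.mem (.v (nat_lit 3)) HG_lE)) (.and (.and (.mem (.mul (.mul (.v (nat_lit 0)) (.v (nat_lit 0))) (.inv (.v (nat_lit 0)))) HG_lE) (.and (.mem (.mul (.mul (.v (nat_lit 0)) (.v (nat_lit 1))) (.inv (.v (nat_lit 0)))) HG_lE) (.mem (.mul (.mul (.v (nat_lit 0)) (.v (nat_lit 2))) (.inv (.v (nat_lit 0)))) HG_lE))) (.and (.and (.mem (.mul (.mul (.v (nat_lit 1)) (.v (nat_lit 0))) (.inv (.v (nat_lit 1)))) HG_lE) (.and (.mem (.mul (.mul (.v (nat_lit 1)) (.v (nat_lit 1))) (.inv (.v (nat_lit 1)))) HG_lE) (.mem (.mul (.mul (.v (nat_lit 1)) (.v (nat_lit 2))) (.inv (.v (nat_lit 1)))) HG_lE))) (.and (.and (.mem (.mul (.mul (.v (nat_lit 2)) (.v (nat_lit 0))) (.inv (.v (nat_lit 2)))) HG_lE) (.and (.mem (.mul (.mul (.v (nat_lit 2)) (.v (nat_lit 1))) (.inv (.v (nat_lit 2)))) HG_lE) (.mem (.mul (.mul (.v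 (nat_lit 2)) (.v (nat_lit 2))) (.inv (.v (nat_lit 2)))) HG_lE))) (.and (.and (.mem (.mul (.mul (.v (nat_lit 3)) (.v (nat_lit 0))) (.inv (.v (nat_lit 3)))) HG_lE) (.and (.mem (.mul (.mul (.v (nat_lit 3)) (.v (nat_lit 1))) (.inv (.v (nat_lit 3)))) HG_lE) (.mem (.mul (.mul (.v (nat_lit 3)) (.v (nat_lit 2))) (.inv (.v (nat_lit 3)))) HG_lE))) (.and (.and (.mem (.mul (.mul (.v (nat_lit 4)) (.v (nat_lit 0))) (.inv (.v (nat_lit 4)))) HG_lE) (.and (.mem (.mul (.mul (.v (nat_lit 4)) (.v (nat_lit 1))) (.inv (.v (nat_lit 4)))) HG_lE) (.mem (.mul (.mul (.v (nat_lit 4)) (.v (nat_lit 2))) (.inv (.v (nat_lit 4)))) HG_lE))) (.and (.and (.mem (.mul (.mul (.v (nat_lit 5)) (.v (nat_lit 0))) (.inv (.v (nat_lit 5)))) HG_lE) (.and (.mem (.mul (.mul (.v (nat_lit 5)) (.v (nat_lit 1))) (.inv (.v (nat_lit 5)))) HG_lE) (.mem (.mul (.mul (.v (nat_lit 5)) (.v (nat_lit 2))) (.inv (.v (nat_lit 5)))) HG_lE))) (.and (.mem (.mul (.mul (.v (nat_lit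 8)) (.v (nat_lit 0))) (.v (nat_lit 9))) HG_lE) (.and (.mem (.mul (.mul (.v (nat_lit 8)) (.v (nat_lit 1))) (.v (nat_lit 9))) HG_lE) (.mem (.mul (.mul (.v (nat_lit 8)) (.v (nat_lit 2))) (.v (nat_lit 9))) HG_lE)))))))))))
theorem HG_nE_chk : Fm.chk HG_o HG_nE_F HG_cs = true := by decide +kernel
theorem HG_nE {G : Type*} [Group G] {R : ℕ → G → Prop} {z u v a b r x y : G} {H : Subgroup G}
    (M : Mdl HG_o HG_cs HG_L R [z, u, v, a, b, r, x, x⁻¹, y, y⁻¹] H) :
    a ∉ sp [z, u, v] ∧ (z * z * z⁻¹ ∈ sp [z, u, v] ∧ z * u * z⁻¹ ∈ sp [z, u, v] ∧ z * v * z⁻¹ ∈ sp [z, u, v]) ∧ (u * z * u⁻¹ ∈ sp [z, u, v] ∧ u * u * u⁻¹ ∈ sp [z, u, v] ∧ u * v * u⁻¹ ∈ sp [z, u, v]) ∧ (v * z * v⁻¹ ∈ sp [z, u, v] ∧ v * u * v⁻¹ ∈ sp [z, u, v] ∧ v * v * v⁻¹ ∈ sp [z, u, v]) ∧ (a * z * a⁻¹ ∈ sp [z, u, v] ∧ a * u * a⁻¹ ∈ sp [z, u, v] ∧ a * v * a⁻¹ ∈ sp [z, u, v]) ∧ (b * z * b⁻¹ ∈ sp [z, u, v] ∧ b * u * b⁻¹ ∈ sp [z, u, v] ∧ b * v * b⁻¹ ∈ sp [z, u,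 v]) ∧ (r * z * r⁻¹ ∈ sp [z, u, v] ∧ r * u * r⁻¹ ∈ sp [z, u, v] ∧ r * v * r⁻¹ ∈ sp [z, u, v]) ∧ y * z * y⁻¹ ∈ sp [z, u, v] ∧ y * u * y⁻¹ ∈ sp [z, u, v] ∧ y * v * y⁻¹ ∈ sp [z, u, v] :=
  have h : ¬ InS R HG_lE (a) ∧ (InS R HG_lE (z * z * z⁻¹) ∧ InS R HG_lE (z * u * z⁻¹) ∧ InS R HG_lE (z * v * z⁻¹)) ∧ (InS R HG_lE (u * z * u⁻¹) ∧ InS R HG_lE (u * u * u⁻¹) ∧ InS R HG_lE (u * v * u⁻¹)) ∧ (InS R HG_lE (v * z * v⁻¹) ∧ InS R HG_lE (v * u * v⁻¹) ∧ InS R HG_lE (v * v * v⁻¹)) ∧ (InS R HG_lE (a * z * a⁻¹) ∧ InS R HG_lE (a * u * a⁻¹) ∧ InS R HG_lE (a * v * a⁻¹)) ∧ (InS R HG_lE (b * z * b⁻¹) ∧ InS R HG_lE (b * u * b⁻¹) ∧ InS R HG_lE (b * v * b⁻¹)) ∧ (InS R HG_lE (r * z * r⁻¹) ∧ InS R HG_lE (r * u * r⁻¹) ∧ InS R HG_lE (r * v * r⁻¹)) ∧ InS R HG_lE (y * z * y⁻¹) ∧ InS R HG_lE (y * u * y⁻¹) ∧ InS R HG_lE (y * v * y⁻¹) :=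
    Fm.sound M.μ HG_nE_F HG_nE_chk M.reps
  ((and_congr (not_congr (HG_lE_E M).iff) (and_congr (and_congr (HG_lE_E M).iff (and_congr (HG_lE_E M).iff (HG_lE_E M).iff)) (and_congr (and_congr (HG_lE_E M).iff (and_congr (HG_lE_E M).iff (HG_lE_E M).iff)) (and_congr (and_congr (HG_lE_E M).iff (and_congr (HG_lE_E M).iff (HG_lE_E M).iff)) (and_congr (and_congr (HG_lE_E M).iff (and_congr (HG_lE_E M).iff (HG_lE_E M).iff)) (and_congr (and_congr (HG_lE_E M).iff (and_congr (HG_lE_E M).iff (HG_lE_E M).iff)) (and_congr (and_congr (HG_lE_E M).iff (and_congr (HG_lE_E M).iff (HG_lE_E M).iff)) (and_congr (HG_lE_E M).iff (and_congr (HG_lE_E M).iff (HG_lE_E M).iff))))))))).1 h)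
noncomputable def HG_cls_t0 : ST := (.node (nat_lit 105) (.node (nat_lit 60) (.node (nat_lit 45) (.node (nat_lit 20) (.leaf (nat_lit 17)) (.node (nat_lit 31) (.leaf (nat_lit 336)) (.leaf (nat_lit 389)))) (.node (nat_lit 49) (.leaf (nat_lit 3)) (.node (nat_lit 51) (.leaf (nat_lit 27)) (.leaf (nat_lit 51))))) (.node (nat_lit 71) (.node (nat_lit 65) (.leaf (nat_lit 0)) (.node (nat_lit 69) (.leaf (nat_lit 528)) (.leaf (nat_lit 384)))) (.node (nat_lit 91) (.node (nat_lit 87) (.leaf (nat_lit 96)) (.leaf (nat_lit 209))) (.node (nat_lit 98) (.leaf (nat_lit 75)) (.leaf (nat_lit 240)))))) (.node (nat_lit 148) (.node (nat_lit 123) (.node (nat_lit 108) (.leaf (nat_lit 48)) (.node (nat_lit 118) (.leaf (nat_lit 192)) (.leaf (nat_lit 432)))) (.node (nat_lit 128) (.leaf (nat_lit 401)) (.node (nat_lit 131) (.leaf (nat_lit 24)) (.leaf (nat_lit 288))))) (.node (nat_lit 171) (.node (nat_lit 153) (.leaf (nat_lit 480)) (.node (nat_lit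 170) (.leaf (nat_lit 197)) (.leaf (nat_lit 72)))) (.node (nat_lit 196) (.node (nat_lit 176) (.leaf (nat_lit 0)) (.leaf (nat_lit 5))) (.node (nat_lit 200) (.leaf (nat_lit 48)) (.leaf (nat_lit 144)))))))
noncomputable def HG_cls_F : Fm := (.allS HG_lT (.imp (.eq (.mul (.v (nat_lit 0)) (.v (nat_lit 0))) .one) (.or (.qf (.eq (.v (nat_lit 0)) .one)) (.or (.qf (.eq (.v (nat_lit 0)) (.v (nat_lit 1)))) (.exF HG_L (fun cs => HG_cls_t0.find (Nat.mod (nth (nat_lit 0) cs (nat_lit 0)) (nat_lit 205))) (.qf (.or (.eq (.mul (.mul (.v (nat_lit 0)) (.v (nat_lit 1))) (.inv (.v (nat_lit 0)))) (.v (nat_lit 3))) (.eq (.mul (.mul (.v (nat_lit 0)) (.v (nat_lit 1))) (.inv (.v (nat_lit 0)))) (.v (nat_lit 7))))))))))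
theorem HG_cls_chk : Fm.chk HG_o HG_cls_F HG_cs = true := by decide +kernel
theorem HG_cls {G : Type*} [Group G] {R : ℕ → G → Prop} {z u v a b r x y : G} {H : Subgroup G}
    (M : Mdl HG_o HG_cs HG_L R [z, u, v, a, b, r, x, x⁻¹, y, y⁻¹] H) :
    ∀ c ∈ sp [z, u, v, a, b, r], c * c = 1 → c = 1 ∨ c = z ∨ (∃ k ∈ H, k * c * k⁻¹ = u ∨ k * c * k⁻¹ = r) :=
  have h : ∀ c, InS R HG_lT c → c * c = 1 → c = 1 ∨ c = z ∨ (Good HG_o R HG_L → prods HG_o HG_L HG_o.one ≠ [] → ∃ k, InL HG_o R HG_L k ∧ (k * c * k⁻¹ = u ∨ k * c * k⁻¹ = r)) :=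
    Fm.sound M.μ HG_cls_F HG_cls_chk M.reps
  (fun c h0 => (fun h1 => (Or.imp (fun h2 => h2) (fun h2 => (Or.imp (fun h3 => h3) (fun h3 => (Exists.imp (fun k h4 => ⟨M.H.iff.1 h4.1, h4.2⟩) (h3 M.H.good M.H.ne))) h2)) ((h c ((HG_lT_E M).iff.2 h0)) h1))))
noncomputable def HG_e_F : Fm := (.qf (.and (.not (.eq (.v (nat_lit 1)) .one)) (.and (.not (.eq (.v (nat_lit 0)) (.v (nat_lit 1)))) (.and (.not (.eq (.v (nat_lit 5)) .one)) (.and (.not (.eq (.v (nat_lit 0)) (.v (nat_lit 5)))) (.and (.not (.eq (.mul (.v (nat_lit 1)) (.v (nat_lit 4))) (.mul (.v (nat_lit 4)) (.v (nat_lit 1))))) (.and (.not (.eq (.pw (.v (nat_lit 6)) (nat_lit 2)) .one)) (.and (.eq (.mul (.mul (.mul (.v (nat_lit 8)) (.v (nat_lit 1))) (.v (nat_lit 9))) (.inv (.v (nat_lit 1)))) (.mul (.v (nat_lit 2)) (.v (nat_lit 1)))) (.and (.eq (.mul (.mul (.mul (.mul (.v (nat_lit 4)) (.v (nat_lit 8))) (.v (nat_lit 8))) (.v (nat_lit 1))) (.inv (.mul (.mul (.v (nat_lit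 4)) (.v (nat_lit 8))) (.v (nat_lit 8))))) (.mul (.v (nat_lit 2)) (.v (nat_lit 1)))) (.eq (.mul (.v (nat_lit 5)) (.v (nat_lit 0))) (.mul (.v (nat_lit 0)) (.v (nat_lit 5)))))))))))))
theorem HG_e_chk : Fm.chk HG_o HG_e_F HG_cs = true := by decide +kernel
theorem HG_e {G : Type*} [Group G] {R : ℕ → G → Prop} {z u v a b r x y : G} {H : Subgroup G}
    (M : Mdl HG_o HG_cs HG_L R [z, u, v, a, b, r, x, x⁻¹, y, y⁻¹] H) :
    u ≠ 1 ∧ z ≠ u ∧ r ≠ 1 ∧ z ≠ r ∧ u * b ≠ b * u ∧ x ^ 2 ≠ 1 ∧ y * u * y⁻¹ * u⁻¹ = v * u ∧ b * y * y * u * (b * y * y)⁻¹ = v * u ∧ r * z = z * r :=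
  Fm.sound M.μ HG_e_F HG_e_chk M.reps
noncomputable def HG_q2_f_F : Fm := (.qf (.and (.eq (.mul (.v (nat_lit 0)) (.v (nat_lit 0))) .one) (.and (.eq (.mul (.v (nat_lit 1)) (.v (nat_lit 1))) .one) (.and (.eq (.mul (.mul (.mul (.v (nat_lit 0)) (.v (nat_lit 1))) (.v (nat_lit 2))) (.mul (.mul (.v (nat_lit 0)) (.v (nat_lit 1))) (.v (nat_lit 2)))) .one) (.and (.eq (.mul (.v (nat_lit 3)) (.v (nat_lit 3))) .one) (.and (.eq (.mul (.mul (.mul (.v (nat_lit 0)) (.v (nat_lit 3))) (.v (nat_lit 4))) (.mul (.mul (.v (nat_lit 0)) (.v (nat_lit 3))) (.v (nat_lit 4)))) .one) (.and (.eq (.pw (.v (nat_lit 6)) (nat_lit 3)) .one) (.and (.eq (.mul (.mul (.v (nat_lit 6)) (.v (nat_lit 1))) (.v (nat_lit 7))) (.v (nat_lit 3))) (.and (.eq (.mul (.mul (.v (nat_lit 6)) (.mul (.mul (.v (nat_lit 0)) (.v (nat_lit 1))) (.v (nat_lit 2)))) (.v (nat_lit 7))) (.mul (.mul (.v (nat_lit 0)) (.v (nat_lit 3))) (.v (nat_lit 4)))) (.and (.eq (.pw (.mul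 (.v (nat_lit 1)) (.v (nat_lit 6))) (nat_lit 3)) .one) (.and (.eq (.pw (.mul (.mul (.mul (.v (nat_lit 0)) (.v (nat_lit 1))) (.v (nat_lit 2))) (.v (nat_lit 6))) (nat_lit 3)) .one) (.and (.eq (.mul (.v (nat_lit 1)) (.mul (.mul (.v (nat_lit 0)) (.v (nat_lit 1))) (.v (nat_lit 2)))) (.mul (.mul (.mul (.v (nat_lit 0)) (.v (nat_lit 1))) (.v (nat_lit 2))) (.v (nat_lit 1)))) (.and (.eq (.mul (.mul (.mul (.v (nat_lit 1)) (.mul (.mul (.v (nat_lit 0)) (.v (nat_lit 3))) (.v (nat_lit 4)))) (.inv (.v (nat_lit 1)))) (.inv (.mul (.mul (.v (nat_lit 0)) (.v (nat_lit 3))) (.v (nat_lit 4))))) (.v (nat_lit 0))) (.and (.eq (.mul (.v (nat_lit 0)) (.v (nat_lit 6))) (.mul (.v (nat_lit 6)) (.v (nat_lit 0)))) (.and (.eq (.mul (.v (nat_lit 0)) (.v (nat_lit 1))) (.mul (.v (nat_lit 1)) (.v (nat_lit 0)))) (.eq (.mul (.v (nat_lit 0)) (.mul (.mul (.v (nat_lit 0)) (.v (nat_lit 1))) (.v (nat_lit 2)))) (.mul (.mul (.mul (.v (nat_lit 0)) (.v (nat_lit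 1))) (.v (nat_lit 2))) (.v (nat_lit 0)))))))))))))))))))
theorem HG_q2_f_chk : Fm.chk HG_o HG_q2_f_F HG_cs = true := by decide +kernel
theorem HG_q2_f {G : Type*} [Group G] {R : ℕ → G → Prop} {z u v a b r x y : G} {H : Subgroup G}
    (M : Mdl HG_o HG_cs HG_L R [z, u, v, a, b, r, x, x⁻¹, y, y⁻¹] H) :
    z * z = 1 ∧ u * u = 1 ∧ z * u * v * (z * u * v) = 1 ∧ a * a = 1 ∧ z * a * b * (z * a * b) = 1 ∧ x ^ 3 = 1 ∧ x * u * x⁻¹ = a ∧ x * (z * u * v) * x⁻¹ = z * a * b ∧ (u * x) ^ 3 = 1 ∧ (z * u * v * x) ^ 3 = 1 ∧ u * (z * u * v) = z * u * v * u ∧ ⁅u, z * a * b⁆ = z ∧ z * x = x * z ∧ z * u = u * z ∧ z * (z * u * v) = z * u * v * z :=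
  Fm.sound M.μ HG_q2_f_F HG_q2_f_chk M.reps
theorem HG_q2 {G : Type*} [Group G] {R : ℕ → G → Prop} {z u v a b r x y : G} {H : Subgroup G}
    (M : Mdl HG_o HG_cs HG_L R [z, u, v, a, b, r, x, x⁻¹, y, y⁻¹] H) :
    Q3 z u (z * u * v) a (z * a * b) x :=
  have h := HG_q2_f M
  ⟨h.1, h.2.1, h.2.2.1, h.2.2.2.1, h.2.2.2.2.1, h.2.2.2.2.2.1, h.2.2.2.2.2.2.1, h.2.2.2.2.2.2.2.1, h.2.2.2.2.2.2.2.2.1, h.2.2.2.2.2.2.2.2.2.1, h.2.2.2.2.2.2.2.2.2.2.1, h.2.2.2.2.2.2.2.2.2.2.2.1, h.2.2.2.2.2.2.2.2.2.2.2.2.1, h.2.2.2.2.2.2.2.2.2.2.2.2.2.1, h.2.2.2.2.2.2.2.2.2.2.2.2.2.2, trivial⟩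
noncomputable def HG_k2_f_F : Fm := (.qf (.and (.eq (.pw (.v (nat_lit 9)) (nat_lit 3)) .one) (.and (.eq (.mul (.v (nat_lit 9)) (.v (nat_lit 6))) (.mul (.v (nat_lit 6)) (.v (nat_lit 9)))) (.and (.eq (.mul (.v (nat_lit 9)) (.v (nat_lit 0))) (.mul (.v (nat_lit 0)) (.v (nat_lit 9)))) (.and (.eq (.mul (.mul (.v (nat_lit 9)) (.v (nat_lit 1))) (.inv (.v (nat_lit 9)))) (.mul (.mul (.v (nat_lit 0)) (.v (nat_lit 1))) (.v (nat_lit 2)))) (.eq (.mul (.mul (.v (nat_lit 9)) (.mul (.mul (.v (nat_lit 0)) (.v (nat_lit 1))) (.v (nat_lit 2)))) (.inv (.v (nat_lit 9)))) (.mul (.mul (.v (nat_lit 0)) (.v (nat_lit 1))) (.mul (.mul (.v (nat_lit 0)) (.v (nat_lit 1))) (.v (nat_lit 2))))))))))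
theorem HG_k2_f_chk : Fm.chk HG_o HG_k2_f_F HG_cs = true := by decide +kernel
theorem HG_k2_f {G : Type*} [Group G] {R : ℕ → G → Prop} {z u v a b r x y : G} {H : Subgroup G}
    (M : Mdl HG_o HG_cs HG_L R [z, u, v, a, b, r, x, x⁻¹, y, y⁻¹] H) :
    y⁻¹ ^ 3 = 1 ∧ y⁻¹ * x = x * y⁻¹ ∧ y⁻¹ * z = z * y⁻¹ ∧ y⁻¹ * u * y⁻¹⁻¹ = z * u * v ∧ y⁻¹ * (z * u * v) * y⁻¹⁻¹ = z * u * (z * u * v) :=
  Fm.sound M.μ HG_k2_f_F HG_k2_f_chk M.reps
theorem HG_k2 {G : Type*} [Group G] {R : ℕ → G → Prop} {z u v a b r x y : G} {H : Subgroup G}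
    (M : Mdl HG_o HG_cs HG_L R [z, u, v, a, b, r, x, x⁻¹, y, y⁻¹] H) :
    KY z u (z * u * v) x y⁻¹ :=
  have h := HG_k2_f M
  ⟨h.1, h.2.1, h.2.2.1, h.2.2.2.1, h.2.2.2.2, trivial⟩
noncomputable def HG_t2_f_F : Fm := (.qf (.and (.eq (.mul (.v (nat_lit 0)) (.v (nat_lit 0))) .one) (.and (.eq (.mul (.v (nat_lit 1)) (.v (nat_lit 1))) .one) (.and (.eq (.mul (.mul (.mul (.v (nat_lit 0)) (.v (nat_lit 1))) (.v (nat_lit 2))) (.mul (.mul (.v (nat_lit 0)) (.v (nat_lit 1))) (.v (nat_lit 2)))) .one) (.and (.eq (.mul (.v (nat_lit 3)) (.v (nat_lit 3))) .one) (.and (.eq (.mul (.mul (.mul (.v (nat_lit 0)) (.v (nat_lit 3))) (.v (nat_lit 4))) (.mul (.mul (.v (nat_lit 0)) (.v (nat_lit 3))) (.v (nat_lit 4)))) .one) (.and (.eq (.mul (.mul (.v (nat_lit 5)) (.v (nat_lit 0))) (.mul (.v (nat_lit 5)) (.v (nat_lit 0)))) .one) (.and (.eq (.mul (.v (nat_lit 1)) (.mul (.mul (.v (nat_lit 0)) (.v (nat_lit 1))) (.v (nat_lit 2)))) (.mul (.mul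 (.mul (.v (nat_lit 0)) (.v (nat_lit 1))) (.v (nat_lit 2))) (.v (nat_lit 1)))) (.and (.eq (.mul (.v (nat_lit 0)) (.v (nat_lit 1))) (.mul (.v (nat_lit 1)) (.v (nat_lit 0)))) (.and (.eq (.mul (.v (nat_lit 0)) (.mul (.mul (.v (nat_lit 0)) (.v (nat_lit 1))) (.v (nat_lit 2)))) (.mul (.mul (.mul (.v (nat_lit 0)) (.v (nat_lit 1))) (.v (nat_lit 2))) (.v (nat_lit 0)))) (.and (.eq (.mul (.v (nat_lit 0)) (.v (nat_lit 3))) (.mul (.v (nat_lit 3)) (.v (nat_lit 0)))) (.and (.eq (.mul (.v (nat_lit 0)) (.mul (.mul (.v (nat_lit 0)) (.v (nat_lit 3))) (.v (nat_lit 4)))) (.mul (.mul (.mul (.v (nat_lit 0)) (.v (nat_lit 3))) (.v (nat_lit 4))) (.v (nat_lit 0)))) (.and (.eq (.mul (.v (nat_lit 0)) (.mul (.v (nat_lit 5)) (.v (nat_lit 0)))) (.mul (.mul (.v (nat_lit 5)) (.v (nat_lit 0))) (.v (nat_lit 0)))) (.and (.eq (.mul (.v (nat_lit 1)) (.v (nat_lit 3))) (.mul (.v (nat_lit 3)) (.v (nat_lit 1)))) (.and (.eq (.mul (.mul (.mul (.v (nat_lit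 0)) (.v (nat_lit 1))) (.v (nat_lit 2))) (.mul (.mul (.v (nat_lit 0)) (.v (nat_lit 3))) (.v (nat_lit 4)))) (.mul (.mul (.mul (.v (nat_lit 0)) (.v (nat_lit 3))) (.v (nat_lit 4))) (.mul (.mul (.v (nat_lit 0)) (.v (nat_lit 1))) (.v (nat_lit 2))))) (.and (.eq (.mul (.v (nat_lit 3)) (.mul (.mul (.v (nat_lit 0)) (.v (nat_lit 3))) (.v (nat_lit 4)))) (.mul (.mul (.mul (.v (nat_lit 0)) (.v (nat_lit 3))) (.v (nat_lit 4))) (.v (nat_lit 3)))) (.and (.eq (.mul (.mul (.mul (.mul (.v (nat_lit 0)) (.v (nat_lit 3))) (.v (nat_lit 4))) (.v (nat_lit 1))) (.mul (.mul (.v (nat_lit 0)) (.v (nat_lit 3))) (.v (nat_lit 4)))) (.mul (.v (nat_lit 1)) (.v (nat_lit 0)))) (.and (.eq (.mul (.mul (.v (nat_lit 3)) (.mul (.mul (.v (nat_lit 0)) (.v (nat_lit 1))) (.v (nat_lit 2)))) (.v (nat_lit 3))) (.mul (.mul (.mul (.v (nat_lit 0)) (.v (nat_lit 1))) (.v (nat_lit 2))) (.v (nat_lit 0)))) (.and (.eq (.mul (.mul (.v (nat_lit 5)) (.v (nat_lit 0)))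 (.v (nat_lit 1))) (.mul (.v (nat_lit 1)) (.mul (.v (nat_lit 5)) (.v (nat_lit 0))))) (.and (.eq (.mul (.mul (.v (nat_lit 3)) (.mul (.v (nat_lit 5)) (.v (nat_lit 0)))) (.v (nat_lit 3))) (.mul (.mul (.v (nat_lit 5)) (.v (nat_lit 0))) (.v (nat_lit 1)))) (.and (.eq (.mul (.mul (.mul (.v (nat_lit 5)) (.v (nat_lit 0))) (.mul (.mul (.v (nat_lit 0)) (.v (nat_lit 1))) (.v (nat_lit 2)))) (.mul (.v (nat_lit 5)) (.v (nat_lit 0)))) (.mul (.mul (.v (nat_lit 1)) (.mul (.mul (.v (nat_lit 0)) (.v (nat_lit 1))) (.v (nat_lit 2)))) (.v (nat_lit 0)))) (.eq (.mul (.mul (.mul (.v (nat_lit 5)) (.v (nat_lit 0))) (.mul (.mul (.v (nat_lit 0)) (.v (nat_lit 3))) (.v (nat_lit 4)))) (.mul (.v (nat_lit 5)) (.v (nat_lit 0)))) (.mul (.mul (.mul (.v (nat_lit 1)) (.mul (.mul (.v (nat_lit 0)) (.v (nat_lit 1))) (.v (nat_lit 2)))) (.v (nat_lit 3))) (.mul (.mul (.v (nat_lit 0)) (.v (nat_lit 3))) (.v (nat_lit 4))))))))))))))))))))))))))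
theorem HG_t2_f_chk : Fm.chk HG_o HG_t2_f_F HG_cs = true := by decide +kernel
theorem HG_t2_f {G : Type*} [Group G] {R : ℕ → G → Prop} {z u v a b r x y : G} {H : Subgroup G}
    (M : Mdl HG_o HG_cs HG_L R [z, u, v, a, b, r, x, x⁻¹, y, y⁻¹] H) :
    z * z = 1 ∧ u * u = 1 ∧ z * u * v * (z * u * v) = 1 ∧ a * a = 1 ∧ z * a * b * (z * a * b) = 1 ∧ r * z * (r * z) = 1 ∧ u * (z * u * v) = z * u * v * u ∧ z * u = u * z ∧ z * (z * u * v) = z * u * v * z ∧ z * a = a * z ∧ z * (z * a * b) = z * a * b * z ∧ z * (r * z) = r * z * z ∧ u * a = a * u ∧ z * u * v * (z * a * b) = z * a * b * (z * u * v) ∧ a * (z * a * b) = z * a * b * a ∧ z * a * b * u * (z * a * b) = u * z ∧ a * (z * u * v) * a = z * u * v * z ∧ r * z * u = u * (r * z) ∧ a * (r * z) * a = r * z * u ∧ r * z * (z * u * v) * (r * z) = u * (z * u * v) * z ∧ r * z * (z * a * b) * (r * z) = u * (z * u * v) * a * (z * a * b) :=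
  Fm.sound M.μ HG_t2_f_F HG_t2_f_chk M.reps
theorem HG_t2 {G : Type*} [Group G] {R : ℕ → G → Prop} {z u v a b r x y : G} {H : Subgroup G}
    (M : Mdl HG_o HG_cs HG_L R [z, u, v, a, b, r, x, x⁻¹, y, y⁻¹] H) :
    TB z u (z * u * v) a (z * a * b) (r * z) :=
  have h := HG_t2_f M
  ⟨h.1, h.2.1, h.2.2.1, h.2.2.2.1, h.2.2.2.2.1, h.2.2.2.2.2.1, h.2.2.2.2.2.2.1, h.2.2.2.2.2.2.2.1, h.2.2.2.2.2.2.2.2.1, h.2.2.2.2.2.2.2.2.2.1, h.2.2.2.2.2.2.2.2.2.2.1, h.2.2.2.2.2.2.2.2.2.2.2.1, h.2.2.2.2.2.2.2.2.2.2.2.2.1, h.2.2.2.2.2.2.2.2.2.2.2.2.2.1, h.2.2.2.2.2.2.2.2.2.2.2.2.2.2.1, h.2.2.2.2.2.2.2.2.2.2.2.2.2.2.2.1, h.2.2.2.2.2.2.2.2.2.2.2.2.2.2.2.2.1, h.2.2.2.2.2.2.2.2.2.2.2.2.2.2.2.2.2.1, h.2.2.2.2.2.2.2.2.2.2.2.2.2.2.2.2.2.2.1, h.2.2.2.2.2.2.2.2.2.2.2.2.2.2.2.2.2.2.2.1, h.2.2.2.2.2.2.2.2.2.2.2.2.2.2.2.2.2.2.2.2, trivial⟩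
noncomputable def HG_r2_F : Fm := (.qf (.and (.eq (.mul (.mul (.mul (.v (nat_lit 5)) (.v (nat_lit 0))) (.v (nat_lit 6))) (.inv (.mul (.v (nat_lit 5)) (.v (nat_lit 0))))) (.v (nat_lit 7))) (.eq (.mul (.mul (.mul (.v (nat_lit 5)) (.v (nat_lit 0))) (.v (nat_lit 9))) (.inv (.mul (.v (nat_lit 5)) (.v (nat_lit 0))))) (.inv (.v (nat_lit 9))))))
theorem HG_r2_chk : Fm.chk HG_o HG_r2_F HG_cs = true := by decide +kernel
theorem HG_r2 {G : Type*} [Group G] {R : ℕ → G → Prop} {z u v a b r x y : G} {H : Subgroup G}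
    (M : Mdl HG_o HG_cs HG_L R [z, u, v, a, b, r, x, x⁻¹, y, y⁻¹] H) :
    r * z * x * (r * z)⁻¹ = x⁻¹ ∧ r * z * y⁻¹ * (r * z)⁻¹ = y⁻¹⁻¹ :=
  Fm.sound M.μ HG_r2_F HG_r2_chk M.reps
noncomputable def pb_tw_r_R : List (List ℕ) := [[0,0],
  [1,1],
  [2,2],
  [3,3],
  [4,4],
  [5,5],
  [6,7],
  [7,6],
  [2,1,2,1],
  [1,0,1,0],
  [2,0,2,0],
  [3,0,3,0],
  [4,0,4,0],
  [5,0,5,0],
  [3,1,3,1],
  [4,2,4,2],
  [4,3,4,3],
  [1,0,4,1,4],
  [2,0,3,2,3],
  [1,5,1,5],
  [5,1,3,5,3],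
  [1,2,0,5,2,5],
  [1,2,3,4,5,4,5],
  [6,6,6],
  [1,7,0,6],
  [0,1,7,1,6],
  [2,7,2,6],
  [3,7,5,6],
  [4,5,4,7,3,6],
  [6,4,6,4]]
theorem pb_tw_r {G : Type*} [Group G] {z u v a b r p : G}
    (t : TB z u v a b r)
    (w : PB z u v a b r p) :
    Rels (nthG [z, u, v, a, b, r, p, p⁻¹]) pb_tw_r_R :=
  rels_of_eqs ((InvI.cons t.1 (InvI.cons t.2.1 (InvI.cons t.2.2.1 (InvI.cons t.2.2.2.1 (InvI.cons t.2.2.2.2.1 (InvI.cons t.2.2.2.2.2.1 InvI.nil)))))) : InvI [z, u, v, a, b, r, p] [(nat_lit 0), (nat_lit 1), (nat_lit 2), (nat_lit 3), (nat_lit 4), (nat_lit 5)])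
    (AllEq.append (show AllEq [z, u, v, a, b, r, p] [((.mul (.v (nat_lit 0)) (.v (nat_lit 0))), .one), ((.mul (.v (nat_lit 1)) (.v (nat_lit 1))), .one), ((.mul (.v (nat_lit 2)) (.v (nat_lit 2))), .one), ((.mul (.v (nat_lit 3)) (.v (nat_lit 3))), .one), ((.mul (.v (nat_lit 4)) (.v (nat_lit 4))), .one), ((.mul (.v (nat_lit 5)) (.v (nat_lit 5))), .one), ((.mul (.v (nat_lit 1)) (.v (nat_lit 2))), (.mul (.v (nat_lit 2)) (.v (nat_lit 1)))), ((.mul (.v (nat_lit 0)) (.v (nat_lit 1))), (.mul (.v (nat_lit 1)) (.v (nat_lit 0)))), ((.mul (.v (nat_lit 0)) (.v (nat_lit 2))), (.mul (.v (nat_lit 2)) (.v (nat_lit 0)))), ((.mul (.v (nat_lit 0)) (.v (nat_lit 3))), (.mul (.v (nat_lit 3)) (.v (nat_lit 0)))), ((.mul (.v (nat_lit 0)) (.v (nat_lit 4))), (.mul (.v (nat_lit 4)) (.v (nat_lit 0)))), ((.mul (.v (nat_lit 0)) (.v (nat_lit 5))), (.mul (.v (nat_lit 5)) (.v (nat_lit 0)))), ((.mul (.v (nat_lit 1)) (.v (nat_lit 3))), (.mul (.v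 (nat_lit 3)) (.v (nat_lit 1)))), ((.mul (.v (nat_lit 2)) (.v (nat_lit 4))), (.mul (.v (nat_lit 4)) (.v (nat_lit 2)))), ((.mul (.v (nat_lit 3)) (.v (nat_lit 4))), (.mul (.v (nat_lit 4)) (.v (nat_lit 3)))), ((.mul (.mul (.v (nat_lit 4)) (.v (nat_lit 1))) (.v (nat_lit 4))), (.mul (.v (nat_lit 1)) (.v (nat_lit 0)))), ((.mul (.mul (.v (nat_lit 3)) (.v (nat_lit 2))) (.v (nat_lit 3))), (.mul (.v (nat_lit 2)) (.v (nat_lit 0)))), ((.mul (.v (nat_lit 5)) (.v (nat_lit 1))), (.mul (.v (nat_lit 1)) (.v (nat_lit 5)))), ((.mul (.mul (.v (nat_lit 3)) (.v (nat_lit 5))) (.v (nat_lit 3))), (.mul (.v (nat_lit 5)) (.v (nat_lit 1)))), ((.mul (.mul (.v (nat_lit 5)) (.v (nat_lit 2))) (.v (nat_lit 5))), (.mul (.mul (.v (nat_lit 1)) (.v (nat_lit 2))) (.v (nat_lit 0)))), ((.mul (.mul (.v (nat_lit 5)) (.v (nat_lit 4))) (.v (nat_lit 5))), (.mul (.mul (.mul (.v (nat_lit 1)) (.v (nat_lit 2))) (.v (nat_lit 3))) (.v (nat_lit 4))))] from t)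
    (show AllEq [z, u, v, a, b, r, p] [((.pw (.v (nat_lit 6)) (nat_lit 3)), .one), ((.mul (.mul (.v (nat_lit 6)) (.v (nat_lit 0))) (.inv (.v (nat_lit 6)))), (.v (nat_lit 1))), ((.mul (.mul (.v (nat_lit 6)) (.v (nat_lit 1))) (.inv (.v (nat_lit 6)))), (.mul (.v (nat_lit 0)) (.v (nat_lit 1)))), ((.mul (.mul (.v (nat_lit 6)) (.v (nat_lit 2))) (.inv (.v (nat_lit 6)))), (.v (nat_lit 2))), ((.mul (.mul (.v (nat_lit 6)) (.v (nat_lit 5))) (.inv (.v (nat_lit 6)))), (.v (nat_lit 3))), ((.mul (.mul (.v (nat_lit 6)) (.v (nat_lit 3))) (.inv (.v (nat_lit 6)))), (.mul (.mul (.v (nat_lit 4)) (.v (nat_lit 5))) (.v (nat_lit 4)))), ((.pw (.mul (.v (nat_lit 4)) (.v (nat_lit 6))) (nat_lit 2)), .one)] from w))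
    [(.v (nat_lit 0)), (.v (nat_lit 1)), (.v (nat_lit 2)), (.v (nat_lit 3)), (.v (nat_lit 4)), (.v (nat_lit 5)), (.v (nat_lit 6)), (.inv (.v (nat_lit 6)))] (by decide +kernel)
noncomputable def pb_tw_0_S0 : List ℕ := [nat_lit 0xf00000700000c004012, nat_lit 0x2300001b00001300c012, nat_lit 0x2000005008010, nat_lit 0x9000018000020000012]
noncomputable def pb_tw_0_S : List (List ℕ) := [pb_tw_0_S0]
noncomputable def pb_tw_0_defs : List ℕ := [(nat_lit 0x5000060060000500700004005000030030000200300001005000000060000000000000)]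
noncomputable def pb_tw_0_recs : List ℕ := [(nat_lit 0x30000700008060000800003060000200008070000200003)]
noncomputable def pb_tw_0_T : List (List ℕ × ℕ) := [([6,3,5,6,3,5,6,3,5], (nat_lit 0xc00001400001c00002400000e00001f00001700000f000007))]
noncomputable def pb_tw_0_D : H26.Dag := ⟨[0,1,2,3,4,5,7,6], [[0,0],
  [1,1],
  [2,2],
  [3,3],
  [4,4],
  [5,5],
  [6,7],
  [7,6],
  [6,6,6],
  [3,7,5,6]], [], pb_tw_0_defs, pb_tw_0_recs⟩
theorem pb_tw_0_c : pb_tw_0_D.check pb_tw_0_S pb_tw_0_T = true := by decide +kernel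
theorem pb_tw_0 {G : Type*} [Group G] {g : ℕ → G} (hR : Rels g pb_tw_r_R) {H : Subgroup G}
    (hH : ∀ k ∈ [], g k ∈ H) : evA g [6,3,5,6,3,5,6,3,5] ∈ H :=
  mem_dag (K := 8) (J := [0,1,2,3,4,5,6,7,23,27]) (D := pb_tw_0_D) (by decide +kernel) pb_tw_0_c (by decide +kernel) hR hH
noncomputable def pb_tw_1_S0 : List ℕ := [nat_lit 0xf00000700000c008012, nat_lit 0x17000002000014004010, nat_lit 0x1f00000600001c008014]
noncomputable def pb_tw_1_S : List (List ℕ) := [pb_tw_1_S0]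
noncomputable def pb_tw_1_defs : List ℕ := [(nat_lit 0x70000500700004003000030030000200500001005000000010000000000000)]
noncomputable def pb_tw_1_recs : List ℕ := [(nat_lit 0x600007010000400005010000200003)]
noncomputable def pb_tw_1_T : List (List ℕ × ℕ) := [([1,5,3,7,0,6,3,5], (nat_lit 0xc00001400001c00000900001f00001700000f000007))]
noncomputable def pb_tw_1_D : H26.Dag := ⟨[0,1,2,3,4,5,7,6], [[0,0],
  [1,1],
  [2,2],
  [3,3],
  [4,4],
  [5,5],
  [6,7],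
  [7,6],
  [3,1,3,1],
  [1,5,1,5],
  [1,7,0,6]], [], pb_tw_1_defs, pb_tw_1_recs⟩
theorem pb_tw_1_c : pb_tw_1_D.check pb_tw_1_S pb_tw_1_T = true := by decide +kernel
theorem pb_tw_1 {G : Type*} [Group G] {g : ℕ → G} (hR : Rels g pb_tw_r_R) {H : Subgroup G}
    (hH : ∀ k ∈ [], g k ∈ H) : evA g [1,5,3,7,0,6,3,5] ∈ H :=
  mem_dag (K := 8) (J := [0,1,2,3,4,5,6,7,14,19,24]) (D := pb_tw_1_D) (by decide +kernel) pb_tw_1_c (by decide +kernel) hR hH
noncomputable def pb_tw_2_S0 : List ℕ := [nat_lit 0x2700000700000c004012, nat_lit 0x27000010000018008016, nat_lit 0x2b000013000001008010, nat_lit 0x1f00000500000900c014, nat_lit 0x2300001b00002c00000d00a018]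
noncomputable def pb_tw_2_S : List (List ℕ) := [pb_tw_2_S0]
noncomputable def pb_tw_2_defs : List ℕ := [(nat_lit 0x400500001001000060030000500700004005000030030000200100001005000000000000000000000)]
noncomputable def pb_tw_2_recs : List ℕ := [(nat_lit 0x60000700008010000a0000703000090000a010000500009000000200009)]
noncomputable def pb_tw_2_T : List (List ℕ × ℕ) := [([0,1,5,3,7,1,6,3,5], (nat_lit 0xc00001400001c00002400001200001f00001700000f000007))]
noncomputable def pb_tw_2_D : H26.Dag := ⟨[0,1,2,3,4,5,7,6], [[0,0],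
  [1,1],
  [2,2],
  [3,3],
  [4,4],
  [5,5],
  [6,7],
  [7,6],
  [3,0,3,0],
  [5,0,5,0],
  [3,1,3,1],
  [1,5,1,5],
  [0,1,7,1,6]], [], pb_tw_2_defs, pb_tw_2_recs⟩
theorem pb_tw_2_c : pb_tw_2_D.check pb_tw_2_S pb_tw_2_T = true := by decide +kernel
theorem pb_tw_2 {G : Type*} [Group G] {g : ℕ → G} (hR : Rels g pb_tw_r_R) {H : Subgroup G}
    (hH : ∀ k ∈ [], g k ∈ H) : evA g [0,1,5,3,7,1,6,3,5] ∈ H :=
  mem_dag (K := 8) (J := [0,1,2,3,4,5,6,7,11,13,14,19,25]) (D := pb_tw_2_D) (by decide +kernel) pb_tw_2_c (by decide +kernel) hR hH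
noncomputable def pb_tw_3_S0 : List ℕ := [nat_lit 0x33000010000018004010, nat_lit 0x1f00000100003300000700000c006014, nat_lit 0x37000013000005000028012012, nat_lit 0x3b00001c000024004016, nat_lit 0x2b00000d00003b000038010018, nat_lit 0x2f00000900001100801a]
noncomputable def pb_tw_3_S : List (List ℕ) := [pb_tw_3_S0]
noncomputable def pb_tw_3_defs : List ℕ := [(nat_lit 0x1000040000000400200001007000090010000800300007000000060050000500700004002000030030000200100001005000000000000000000000)]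
noncomputable def pb_tw_3_recs : List ℕ := [(nat_lit 0x20000a0000b060000d0000a07000080000e02000090000d02000020000701000050000c)]
noncomputable def pb_tw_3_T : List (List ℕ × ℕ) := [([0,1,2,5,3,7,2,1,0,6,3,5], (nat_lit 0xc00001400001c00002400002c00001500002f00002700001f00001700000f000007))]
noncomputable def pb_tw_3_D : H26.Dag := ⟨[0,1,2,3,4,5,7,6], [[0,0],
  [1,1],
  [2,2],
  [3,3],
  [4,4],
  [5,5],
  [6,7],
  [7,6],
  [2,1,2,1],
  [2,0,3,2,3],
  [1,2,0,5,2,5],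
  [1,7,0,6],
  [0,1,7,1,6],
  [2,7,2,6]], [], pb_tw_3_defs, pb_tw_3_recs⟩
theorem pb_tw_3_c : pb_tw_3_D.check pb_tw_3_S pb_tw_3_T = true := by decide +kernel
theorem pb_tw_3 {G : Type*} [Group G] {g : ℕ → G} (hR : Rels g pb_tw_r_R) {H : Subgroup G}
    (hH : ∀ k ∈ [], g k ∈ H) : evA g [0,1,2,5,3,7,2,1,0,6,3,5] ∈ H :=
  mem_dag (K := 8) (J := [0,1,2,3,4,5,6,7,8,18,21,24,25,26]) (D := pb_tw_3_D) (by decide +kernel) pb_tw_3_c (by decide +kernel) hR hH
noncomputable def pb_tw_4_S0 : List ℕ := [nat_lit 0x1300000b00000800001000e012, nat_lit 0x17000001000013004010, nat_lit 0x2300001b00001300c016, nat_lit 0x1f000006000009008014]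
noncomputable def pb_tw_4_S : List (List ℕ) := [pb_tw_4_S0]
noncomputable def pb_tw_4_defs : List ℕ := [(nat_lit 0x5000060070000500700004003000030030000200500001005000000030000000000000)]
noncomputable def pb_tw_4_recs : List ℕ := [(nat_lit 0x800007060000200008010000200005010000300004)]
noncomputable def pb_tw_4_T : List (List ℕ × ℕ) := [([3,5,3,7,0,5,6,3,5], (nat_lit 0xc00001400001c00002400000d00001f00001700000f000007))]
noncomputable def pb_tw_4_D : H26.Dag := ⟨[0,1,2,3,4,5,7,6], [[0,0],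
  [1,1],
  [2,2],
  [3,3],
  [4,4],
  [5,5],
  [6,7],
  [7,6],
  [3,1,3,1],
  [5,1,3,5,3],
  [1,7,0,6],
  [3,7,5,6]], [], pb_tw_4_defs, pb_tw_4_recs⟩
theorem pb_tw_4_c : pb_tw_4_D.check pb_tw_4_S pb_tw_4_T = true := by decide +kernel
theorem pb_tw_4 {G : Type*} [Group G] {g : ℕ → G} (hR : Rels g pb_tw_r_R) {H : Subgroup G}
    (hH : ∀ k ∈ [], g k ∈ H) : evA g [3,5,3,7,0,5,6,3,5] ∈ H :=
  mem_dag (K := 8) (J := [0,1,2,3,4,5,6,7,14,20,24,27]) (D := pb_tw_4_D) (by decide +kernel) pb_tw_4_c (by decide +kernel) hR hH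
noncomputable def pb_tw_5_S0 : List ℕ := [nat_lit 0x37000008000010004012, nat_lit 0x3b00000700000c004014, nat_lit 0x4b000013000005008012, nat_lit 0x4700000f00003c00000900401e, nat_lit 0x4f00001300000b00003801201e, nat_lit 0x57000013000044004018, nat_lit 0x5b00005000001200801c, nat_lit 0x5f00001700000100001901001a, nat_lit 0x6300001f00006000401c, nat_lit 0x1500005700005c00001d000021000063016022, nat_lit 0x25000043000040008016, nat_lit 0x29000028000030004018, nat_lit 0x2d00002900001f00001700004800000e016022, nat_lit 0x5300004c00003100c010, nat_lit 0x6700002b00002300001b000058004024, nat_lit 0x1900005b000058000039000067000034004022, nat_lit 0x3d00001100004f00005400003600a020]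
noncomputable def pb_tw_5_S : List (List ℕ) := [pb_tw_5_S0]
noncomputable def pb_tw_5_defs : List ℕ := [(nat_lit 0x40000a0010000700100005005000040040000400200004001000040000000400500003004000020020000200500001003000000030000a004000090060000800300007003000060050000500700004004000030030000200300001005000000000000000000000)]
noncomputable def pb_tw_5_recs : List ℕ := [(nat_lit 0x50000b0000c020000c0000d050001500019000000b0001402000120000b030000b0000f040000f00007020000700010050001700018040001600017010000d00016030001000015050000d00013010001200011030000e0001200000020000e00000030000d)]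
noncomputable def pb_tw_5_T : List (List ℕ × ℕ) := [([0,3,4,5,3,4,5,3,7,3,6,3,5], (nat_lit 0xc00001400001c00002400002c00003400004200002f00002700001f00001700000f000007))]
noncomputable def pb_tw_5_D : H26.Dag := ⟨[0,1,2,3,4,5,7,6], [[0,0],
  [1,1],
  [2,2],
  [3,3],
  [4,4],
  [5,5],
  [6,7],
  [7,6],
  [2,0,2,0],
  [3,0,3,0],
  [5,0,5,0],
  [4,2,4,2],
  [4,3,4,3],
  [1,0,4,1,4],
  [1,5,1,5],
  [5,1,3,5,3],
  [1,2,0,5,2,5],
  [1,2,3,4,5,4,5],
  [4,5,4,7,3,6]], [], pb_tw_5_defs, pb_tw_5_recs⟩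
theorem pb_tw_5_c : pb_tw_5_D.check pb_tw_5_S pb_tw_5_T = true := by decide +kernel
theorem pb_tw_5 {G : Type*} [Group G] {g : ℕ → G} (hR : Rels g pb_tw_r_R) {H : Subgroup G}
    (hH : ∀ k ∈ [], g k ∈ H) : evA g [0,3,4,5,3,4,5,3,7,3,6,3,5] ∈ H :=
  mem_dag (K := 8) (J := [0,1,2,3,4,5,6,7,10,11,13,15,16,17,19,20,21,22,28]) (D := pb_tw_5_D) (by decide +kernel) pb_tw_5_c (by decide +kernel) hR hH
noncomputable def pb_tw_6_S0 : List ℕ := [nat_lit 0x3700000c000014004010, nat_lit 0x3f00000800001000c026, nat_lit 0x4300000b00003c004012, nat_lit 0x4300001400001c004014, nat_lit 0x57000054006020, nat_lit 0x5700001b00004c00a02a, nat_lit 0x5b000028000030008010, nat_lit 0x5b00001f000050008012, nat_lit 0x63000023000054000026, nat_lit 0x67000064006020, nat_lit 0x6b00002b00002300000d01201a, nat_lit 0x6f00002b000060004014, nat_lit 0x7300006c00002a008018, nat_lit 0x3300003c000009000031010016, nat_lit 0x7700002b000068008026,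 nat_lit 0x7b00001900001e004014, nat_lit 0x83000033000040008018, nat_lit 0x4100008300003600007300007000002e00401e, nat_lit 0x4500000600004800c024, nat_lit 0x4900005f00006800402a, nat_lit 0x1500001200002100002500004d004028, nat_lit 0x8700000200004c000022, nat_lit 0x4f00001700004800005100005501201c, nat_lit 0x3a00004d00005100005500005900003d00007b00e01e, nat_lit 0x7f00005d00007700000e, nat_lit 0x6100007f00000e]
noncomputable def pb_tw_6_S : List (List ℕ) := [pb_tw_6_S0]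
noncomputable def pb_tw_6_defs : List ℕ := [(nat_lit 0x60000d0050000c0060000b0040000b0070000a0050000a0040000a0010000a0070000800600008004000080000000700700006006000060000000500600004002000030040000200500000004000000030000000100000000000090030000800300007005000060040000500400004005000030030000200300001000000000060000000000000)]
noncomputable def pb_tw_6_recs : List ℕ := [(nat_lit 0x70000b0000aff0000a0001fff0000b0001d02000210001301000120002105000110001204000190001106000110001702000170000f010000f0002003000130001e05000190001d040001c0000c01000100001c03000170001b05000100001a070001800019030001400018040001300016030000b00016040001200015070001400015030000600010000000e0001006000030000f00000040000d)]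
noncomputable def pb_tw_6_T : List (List ℕ × ℕ) := [([6,3,5,4,3,0,6,3,5,4,3,0], (nat_lit 0xc00001400001c00002400002c00006600002f00002700001f00001700000f000007))]
noncomputable def pb_tw_6_D : H26.Dag := ⟨[0,1,2,3,4,5,7,6], [[0,0],
  [1,1],
  [2,2],
  [3,3],
  [4,4],
  [5,5],
  [6,7],
  [7,6],
  [3,0,3,0],
  [4,0,4,0],
  [4,3,4,3],
  [1,0,4,1,4],
  [1,5,1,5],
  [5,1,3,5,3],
  [1,2,0,5,2,5],
  [1,2,3,4,5,4,5],
  [6,6,6],
  [1,7,0,6],
  [2,7,2,6],
  [3,7,5,6],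
  [4,5,4,7,3,6],
  [6,4,6,4]], [], pb_tw_6_defs, pb_tw_6_recs⟩
theorem pb_tw_6_c : pb_tw_6_D.check pb_tw_6_S pb_tw_6_T = true := by decide +kernel
theorem pb_tw_6 {G : Type*} [Group G] {g : ℕ → G} (hR : Rels g pb_tw_r_R) {H : Subgroup G}
    (hH : ∀ k ∈ [], g k ∈ H) : evA g [6,3,5,4,3,0,6,3,5,4,3,0] ∈ H :=
  mem_dag (K := 8) (J := [0,1,2,3,4,5,6,7,11,12,16,17,19,20,21,22,23,24,26,27,28,29]) (D := pb_tw_6_D) (by decide +kernel) pb_tw_6_c (by decide +kernel) hR hH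
theorem pb_tw {G : Type*} [Group G] {z u v a b r p : G}
    (t : TB z u v a b r)
    (w : PB z u v a b r p) :
    (r * a * p) ^ 3 = 1 ∧ r * a * p * z * (r * a * p)⁻¹ = u ∧ r * a * p * u * (r * a * p)⁻¹ = z * u ∧ r * a * p * (z * u * v) * (r * a * p)⁻¹ = z * u * v ∧ r * a * p * (r * z) * (r * a * p)⁻¹ = a ∧ r * a * p * a * (r * a * p)⁻¹ = z * a * b * (r * z) * (z * a * b) ∧ (z * a * b * (r * a * p)) ^ 2 = 1 :=
  ⟨mul_inv_eq_one.1 ((evA_eq_tm ((InvI.cons t.1 (InvI.cons t.2.1 (InvI.cons t.2.2.1 (InvI.cons t.2.2.2.1 (InvI.cons t.2.2.2.2.1 (InvI.cons t.2.2.2.2.2.1 InvI.nil)))))) : InvI [z, u, v, a, b, r, p] [(nat_lit 0), (nat_lit 1), (nat_lit 2), (nat_lit 3), (nat_lit 4), (nat_lit 5)]) [(.v (nat_lit 0)), (.v (nat_lit 1)), (.v (nat_lit 2)), (.v (nat_lit 3)), (.v (nat_lit 4)), (.v (nat_lit 5)), (.v (nat_lit 6)), (.inv (.v (nat_lit 6)))] [6,3,5,6,3,5,6,3,5] (.mul (.pw (.mul (.mul (.v (nat_lit 5)) (.v (nat_lit 3)))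 (.v (nat_lit 6))) (nat_lit 3)) (.inv .one)) (by decide +kernel)).symm.trans (Subgroup.mem_bot.1 (pb_tw_0 (pb_tw_r t w) (H := ⊥) (List.forall_mem_nil _)))),
   mul_inv_eq_one.1 ((evA_eq_tm ((InvI.cons t.1 (InvI.cons t.2.1 (InvI.cons t.2.2.1 (InvI.cons t.2.2.2.1 (InvI.cons t.2.2.2.2.1 (InvI.cons t.2.2.2.2.2.1 InvI.nil)))))) : InvI [z, u, v, a, b, r, p] [(nat_lit 0), (nat_lit 1), (nat_lit 2), (nat_lit 3), (nat_lit 4), (nat_lit 5)]) [(.v (nat_lit 0)), (.v (nat_lit 1)), (.v (nat_lit 2)), (.v (nat_lit 3)), (.v (nat_lit 4)), (.v (nat_lit 5)), (.v (nat_lit 6)), (.inv (.v (nat_lit 6)))] [1,5,3,7,0,6,3,5] (.mul (.mul (.mul (.mul (.mul (.v (nat_lit 5)) (.v (nat_lit 3))) (.v (nat_lit 6))) (.v (nat_lit 0))) (.inv (.mul (.mul (.v (nat_lit 5)) (.v (nat_lit 3))) (.v (nat_lit 6))))) (.inv (.v (nat_lit 1)))) (by decide +kernel)).symm.trans (Subgroup.mem_bot.1 (pb_tw_1 (pb_tw_r t w) (H := ⊥) (List.forall_mem_nil _)))),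
   mul_inv_eq_one.1 ((evA_eq_tm ((InvI.cons t.1 (InvI.cons t.2.1 (InvI.cons t.2.2.1 (InvI.cons t.2.2.2.1 (InvI.cons t.2.2.2.2.1 (InvI.cons t.2.2.2.2.2.1 InvI.nil)))))) : InvI [z, u, v, a, b, r, p] [(nat_lit 0), (nat_lit 1), (nat_lit 2), (nat_lit 3), (nat_lit 4), (nat_lit 5)]) [(.v (nat_lit 0)), (.v (nat_lit 1)), (.v (nat_lit 2)), (.v (nat_lit 3)), (.v (nat_lit 4)), (.v (nat_lit 5)), (.v (nat_lit 6)), (.inv (.v (nat_lit 6)))] [0,1,5,3,7,1,6,3,5] (.mul (.mul (.mul (.mul (.mul (.v (nat_lit 5)) (.v (nat_lit 3))) (.v (nat_lit 6))) (.v (nat_lit 1))) (.inv (.mul (.mul (.v (nat_lit 5)) (.v (nat_lit 3))) (.v (nat_lit 6))))) (.inv (.mul (.v (nat_lit 0)) (.v (nat_lit 1))))) (by decide +kernel)).symm.trans (Subgroup.mem_bot.1 (pb_tw_2 (pb_tw_r t w) (H := ⊥) (List.forall_mem_nil _)))),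
   mul_inv_eq_one.1 ((evA_eq_tm ((InvI.cons t.1 (InvI.cons t.2.1 (InvI.cons t.2.2.1 (InvI.cons t.2.2.2.1 (InvI.cons t.2.2.2.2.1 (InvI.cons t.2.2.2.2.2.1 InvI.nil)))))) : InvI [z, u, v, a, b, r, p] [(nat_lit 0), (nat_lit 1), (nat_lit 2), (nat_lit 3), (nat_lit 4), (nat_lit 5)]) [(.v (nat_lit 0)), (.v (nat_lit 1)), (.v (nat_lit 2)), (.v (nat_lit 3)), (.v (nat_lit 4)), (.v (nat_lit 5)), (.v (nat_lit 6)), (.inv (.v (nat_lit 6)))] [0,1,2,5,3,7,2,1,0,6,3,5] (.mul (.mul (.mul (.mul (.mul (.v (nat_lit 5)) (.v (nat_lit 3))) (.v (nat_lit 6))) (.mul (.mul (.v (nat_lit 0)) (.v (nat_lit 1))) (.v (nat_lit 2)))) (.inv (.mul (.mul (.v (nat_lit 5)) (.v (nat_lit 3))) (.v (nat_lit 6))))) (.inv (.mul (.mul (.v (nat_lit 0)) (.v (nat_lit 1))) (.v (nat_lit 2))))) (by decide +kernel)).symm.trans (Subgroup.mem_bot.1 (pb_tw_3 (pb_tw_r t w) (H := ⊥) (List.forall_mem_nil _)))),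
   mul_inv_eq_one.1 ((evA_eq_tm ((InvI.cons t.1 (InvI.cons t.2.1 (InvI.cons t.2.2.1 (InvI.cons t.2.2.2.1 (InvI.cons t.2.2.2.2.1 (InvI.cons t.2.2.2.2.2.1 InvI.nil)))))) : InvI [z, u, v, a, b, r, p] [(nat_lit 0), (nat_lit 1), (nat_lit 2), (nat_lit 3), (nat_lit 4), (nat_lit 5)]) [(.v (nat_lit 0)), (.v (nat_lit 1)), (.v (nat_lit 2)), (.v (nat_lit 3)), (.v (nat_lit 4)), (.v (nat_lit 5)), (.v (nat_lit 6)), (.inv (.v (nat_lit 6)))] [3,5,3,7,0,5,6,3,5] (.mul (.mul (.mul (.mul (.mul (.v (nat_lit 5)) (.v (nat_lit 3))) (.v (nat_lit 6))) (.mul (.v (nat_lit 5)) (.v (nat_lit 0)))) (.inv (.mul (.mul (.v (nat_lit 5)) (.v (nat_lit 3))) (.v (nat_lit 6))))) (.inv (.v (nat_lit 3)))) (by decide +kernel)).symm.trans (Subgroup.mem_bot.1 (pb_tw_4 (pb_tw_r t w) (H := ⊥) (List.forall_mem_nil _)))),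
   mul_inv_eq_one.1 ((evA_eq_tm ((InvI.cons t.1 (InvI.cons t.2.1 (InvI.cons t.2.2.1 (InvI.cons t.2.2.2.1 (InvI.cons t.2.2.2.2.1 (InvI.cons t.2.2.2.2.2.1 InvI.nil)))))) : InvI [z, u, v, a, b, r, p] [(nat_lit 0), (nat_lit 1), (nat_lit 2), (nat_lit 3), (nat_lit 4), (nat_lit 5)]) [(.v (nat_lit 0)), (.v (nat_lit 1)), (.v (nat_lit 2)), (.v (nat_lit 3)), (.v (nat_lit 4)), (.v (nat_lit 5)), (.v (nat_lit 6)), (.inv (.v (nat_lit 6)))] [0,3,4,5,3,4,5,3,7,3,6,3,5] (.mul (.mul (.mul (.mul (.mul (.v (nat_lit 5)) (.v (nat_lit 3))) (.v (nat_lit 6))) (.v (nat_lit 3))) (.inv (.mul (.mul (.v (nat_lit 5)) (.v (nat_lit 3))) (.v (nat_lit 6))))) (.inv (.mul (.mul (.mul (.mul (.v (nat_lit 0)) (.v (nat_lit 3))) (.v (nat_lit 4))) (.mul (.v (nat_lit 5)) (.v (nat_lit 0)))) (.mul (.mul (.v (nat_lit 0)) (.v (nat_lit 3))) (.v (nat_lit 4)))))) (by decide +kernel)).symm.trans (Subgroup.mem_bot.1 (pb_tw_5 (pb_tw_r t w) (H := ⊥) (List.forall_mem_nil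 _)))),
   mul_inv_eq_one.1 ((evA_eq_tm ((InvI.cons t.1 (InvI.cons t.2.1 (InvI.cons t.2.2.1 (InvI.cons t.2.2.2.1 (InvI.cons t.2.2.2.2.1 (InvI.cons t.2.2.2.2.2.1 InvI.nil)))))) : InvI [z, u, v, a, b, r, p] [(nat_lit 0), (nat_lit 1), (nat_lit 2), (nat_lit 3), (nat_lit 4), (nat_lit 5)]) [(.v (nat_lit 0)), (.v (nat_lit 1)), (.v (nat_lit 2)), (.v (nat_lit 3)), (.v (nat_lit 4)), (.v (nat_lit 5)), (.v (nat_lit 6)), (.inv (.v (nat_lit 6)))] [6,3,5,4,3,0,6,3,5,4,3,0] (.mul (.pw (.mul (.mul (.mul (.v (nat_lit 0)) (.v (nat_lit 3))) (.v (nat_lit 4))) (.mul (.mul (.v (nat_lit 5)) (.v (nat_lit 3))) (.v (nat_lit 6)))) (nat_lit 2)) (.inv .one)) (by decide +kernel)).symm.trans (Subgroup.mem_bot.1 (pb_tw_6 (pb_tw_r t w) (H := ⊥) (List.forall_mem_nil _))))⟩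
noncomputable def m1c_r_R : List (List ℕ) := [[0,0],
  [1,1],
  [2,2],
  [3,3],
  [4,4],
  [5,5],
  [6,7],
  [7,6],
  [8,9],
  [9,8],
  [2,1,2,1],
  [1,0,1,0],
  [2,0,2,0],
  [3,0,3,0],
  [4,0,4,0],
  [5,0,5,0],
  [3,1,3,1],
  [4,2,4,2],
  [4,3,4,3],
  [1,0,4,1,4],
  [2,0,3,2,3],
  [1,5,1,5],
  [5,1,3,5,3],
  [1,2,0,5,2,5],
  [1,2,3,4,5,4,5],
  [8,8,8],
  [1,9,0,8],
  [0,1,9,1,8],
  [2,9,2,8],
  [3,9,5,8],
  [4,5,4,9,3,8],
  [8,4,8,4],
  [6,6,6],
  [0,7,0,6],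
  [2,7,1,6],
  [0,1,2,7,2,6],
  [4,7,3,6],
  [0,3,4,7,4,6],
  [6,5,6,5]]
theorem m1c_r {G : Type*} [Group G] {z u v a b r y p : G}
    (t : TB z u v a b r)
    (w : PB z u v a b r p)
    (n : YG z u v a b r y) :
    Rels (nthG [z, u, v, a, b, r, y, y⁻¹, p, p⁻¹]) m1c_r_R :=
  rels_of_eqs ((InvI.cons t.1 (InvI.cons t.2.1 (InvI.cons t.2.2.1 (InvI.cons t.2.2.2.1 (InvI.cons t.2.2.2.2.1 (InvI.cons t.2.2.2.2.2.1 InvI.nil)))))) : InvI [z, u, v, a, b, r, y, p] [(nat_lit 0), (nat_lit 1), (nat_lit 2), (nat_lit 3), (nat_lit 4), (nat_lit 5)])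
    (AllEq.append (show AllEq [z, u, v, a, b, r, y, p] [((.mul (.v (nat_lit 0)) (.v (nat_lit 0))), .one), ((.mul (.v (nat_lit 1)) (.v (nat_lit 1))), .one), ((.mul (.v (nat_lit 2)) (.v (nat_lit 2))), .one), ((.mul (.v (nat_lit 3)) (.v (nat_lit 3))), .one), ((.mul (.v (nat_lit 4)) (.v (nat_lit 4))), .one), ((.mul (.v (nat_lit 5)) (.v (nat_lit 5))), .one), ((.mul (.v (nat_lit 1)) (.v (nat_lit 2))), (.mul (.v (nat_lit 2)) (.v (nat_lit 1)))), ((.mul (.v (nat_lit 0)) (.v (nat_lit 1))), (.mul (.v (nat_lit 1)) (.v (nat_lit 0)))), ((.mul (.v (nat_lit 0)) (.v (nat_lit 2))), (.mul (.v (nat_lit 2)) (.v (nat_lit 0)))), ((.mul (.v (nat_lit 0)) (.v (nat_lit 3))), (.mul (.v (nat_lit 3)) (.v (nat_lit 0)))), ((.mul (.v (nat_lit 0)) (.v (nat_lit 4))), (.mul (.v (nat_lit 4)) (.v (nat_lit 0)))), ((.mul (.v (nat_lit 0)) (.v (nat_lit 5))), (.mul (.v (nat_lit 5)) (.v (nat_lit 0)))), ((.mul (.v (nat_lit 1)) (.v (nat_lit 3))), (.mul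 (.v (nat_lit 3)) (.v (nat_lit 1)))), ((.mul (.v (nat_lit 2)) (.v (nat_lit 4))), (.mul (.v (nat_lit 4)) (.v (nat_lit 2)))), ((.mul (.v (nat_lit 3)) (.v (nat_lit 4))), (.mul (.v (nat_lit 4)) (.v (nat_lit 3)))), ((.mul (.mul (.v (nat_lit 4)) (.v (nat_lit 1))) (.v (nat_lit 4))), (.mul (.v (nat_lit 1)) (.v (nat_lit 0)))), ((.mul (.mul (.v (nat_lit 3)) (.v (nat_lit 2))) (.v (nat_lit 3))), (.mul (.v (nat_lit 2)) (.v (nat_lit 0)))), ((.mul (.v (nat_lit 5)) (.v (nat_lit 1))), (.mul (.v (nat_lit 1)) (.v (nat_lit 5)))), ((.mul (.mul (.v (nat_lit 3)) (.v (nat_lit 5))) (.v (nat_lit 3))), (.mul (.v (nat_lit 5)) (.v (nat_lit 1)))), ((.mul (.mul (.v (nat_lit 5)) (.v (nat_lit 2))) (.v (nat_lit 5))), (.mul (.mul (.v (nat_lit 1)) (.v (nat_lit 2))) (.v (nat_lit 0)))), ((.mul (.mul (.v (nat_lit 5)) (.v (nat_lit 4))) (.v (nat_lit 5))), (.mul (.mul (.mul (.v (nat_lit 1)) (.v (nat_lit 2))) (.v (nat_lit 3))) (.v (nat_lit 4))))] from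 t)
    (AllEq.append (show AllEq [z, u, v, a, b, r, y, p] [((.pw (.v (nat_lit 7)) (nat_lit 3)), .one), ((.mul (.mul (.v (nat_lit 7)) (.v (nat_lit 0))) (.inv (.v (nat_lit 7)))), (.v (nat_lit 1))), ((.mul (.mul (.v (nat_lit 7)) (.v (nat_lit 1))) (.inv (.v (nat_lit 7)))), (.mul (.v (nat_lit 0)) (.v (nat_lit 1)))), ((.mul (.mul (.v (nat_lit 7)) (.v (nat_lit 2))) (.inv (.v (nat_lit 7)))), (.v (nat_lit 2))), ((.mul (.mul (.v (nat_lit 7)) (.v (nat_lit 5))) (.inv (.v (nat_lit 7)))), (.v (nat_lit 3))), ((.mul (.mul (.v (nat_lit 7)) (.v (nat_lit 3))) (.inv (.v (nat_lit 7)))), (.mul (.mul (.v (nat_lit 4)) (.v (nat_lit 5))) (.v (nat_lit 4)))), ((.pw (.mul (.v (nat_lit 4)) (.v (nat_lit 7))) (nat_lit 2)), .one)] from w)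
    (show AllEq [z, u, v, a, b, r, y, p] [((.pw (.v (nat_lit 6)) (nat_lit 3)), .one), ((.mul (.v (nat_lit 6)) (.v (nat_lit 0))), (.mul (.v (nat_lit 0)) (.v (nat_lit 6)))), ((.mul (.mul (.v (nat_lit 6)) (.v (nat_lit 1))) (.inv (.v (nat_lit 6)))), (.v (nat_lit 2))), ((.mul (.mul (.v (nat_lit 6)) (.v (nat_lit 2))) (.inv (.v (nat_lit 6)))), (.mul (.mul (.v (nat_lit 0)) (.v (nat_lit 1))) (.v (nat_lit 2)))), ((.mul (.mul (.v (nat_lit 6)) (.v (nat_lit 3))) (.inv (.v (nat_lit 6)))), (.v (nat_lit 4))), ((.mul (.mul (.v (nat_lit 6)) (.v (nat_lit 4))) (.inv (.v (nat_lit 6)))), (.mul (.mul (.v (nat_lit 0)) (.v (nat_lit 3))) (.v (nat_lit 4)))), ((.mul (.mul (.v (nat_lit 5)) (.v (nat_lit 6))) (.inv (.v (nat_lit 5)))), (.inv (.v (nat_lit 6))))] from n)))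
    [(.v (nat_lit 0)), (.v (nat_lit 1)), (.v (nat_lit 2)), (.v (nat_lit 3)), (.v (nat_lit 4)), (.v (nat_lit 5)), (.v (nat_lit 6)), (.inv (.v (nat_lit 6))), (.v (nat_lit 7)), (.inv (.v (nat_lit 7)))] (by decide +kernel)
noncomputable def m1c_0_S0 : List ℕ := [nat_lit 0xf00000700000c00801e, nat_lit 0x17000002000014000018, nat_lit 0x4300001b00003c00c01e, nat_lit 0x4700001f00004000c020, nat_lit 0xa00003b00000500004000000d006022, nat_lit 0x4b000048000011004014, nat_lit 0x53000023000044004018, nat_lit 0x1600001900005300005001001a, nat_lit 0x1d00004b00002800001c, nat_lit 0x5700002b00005000c01e, nat_lit 0x2f000021000025008020, nat_lit 0x5b000034006016, nat_lit 0x5f000038006016, nat_lit 0x5f00002a00005700005c00c01a, nat_lit 0x2d000035000032008018]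
noncomputable def m1c_0_S : List (List ℕ) := [m1c_0_S0]
noncomputable def m1c_0_defs : List ℕ := [(nat_lit 0x90000b0090000a0000000a001000080000000800200007001000070000000600200005000000040080000b0080000a007000090070000800800007008000060070000500700004008000030080000200700001007000000000000000000000)]
noncomputable def m1c_0_recs : List ℕ := [(nat_lit 0xd0000c010001600017090000d00017090000c0001601000150000b060001300015020000900013080001300012090001000014010001000012020001100010060000f00011060000e00010010000400005000000200003)]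
noncomputable def m1c_0_T : List (List ℕ × ℕ) := [([0,7,8,7,8,7,8,0,9,6,9,6,9,6], (nat_lit 0xc00001400001c00002400002c00003400003a00003700002f00002700001f00001700000f000007))]
noncomputable def m1c_0_D : H26.Dag := ⟨[0,1,2,3,4,5,7,6,9,8], [[0,0],
  [1,1],
  [2,2],
  [3,3],
  [4,4],
  [5,5],
  [6,7],
  [7,6],
  [8,9],
  [9,8],
  [2,1,2,1],
  [8,8,8],
  [1,9,0,8],
  [0,1,9,1,8],
  [2,9,2,8],
  [0,7,0,6],
  [2,7,1,6],
  [0,1,2,7,2,6]], [], m1c_0_defs, m1c_0_recs⟩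
theorem m1c_0_c : m1c_0_D.check m1c_0_S m1c_0_T = true := by decide +kernel
theorem m1c_0 {G : Type*} [Group G] {g : ℕ → G} (hR : Rels g m1c_r_R) {H : Subgroup G}
    (hH : ∀ k ∈ [], g k ∈ H) : evA g [0,7,8,7,8,7,8,0,9,6,9,6,9,6] ∈ H :=
  mem_dag (K := 10) (J := [0,1,2,3,4,5,6,7,8,9,10,25,26,27,28,33,34,35]) (D := m1c_0_D) (by decide +kernel) m1c_0_c (by decide +kernel) hR hH
noncomputable def m1c_1_S0 : List ℕ := [nat_lit 0x4300000b00003c00c01e, nat_lit 0x4700000f00004000c020, nat_lit 0x200003b000008000040000005006022, nat_lit 0x4b000048000009004014, nat_lit 0x53000013000044004018, nat_lit 0xe00001100005300005001001a, nat_lit 0x1500004b00001800001c, nat_lit 0x5700001b00005000c01e, nat_lit 0x1f00001900001d008020, nat_lit 0x5b000024006016, nat_lit 0x5f000028006016, nat_lit 0x5f00002200005700005c00c01a, nat_lit 0x2500002d00002a008018, nat_lit 0x2f00003100002c00801e, nat_lit 0x33000035000038000018]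
noncomputable def m1c_1_S : List (List ℕ) := [m1c_1_S0]
noncomputable def m1c_1_defs : List ℕ := [(nat_lit 0x9000070090000600000006001000040000000400200003001000030000000200200001000000000080000b0080000a007000090070000800800007008000060070000500700004008000030080000200700001007000000010000000000000)]
noncomputable def m1c_1_recs : List ℕ := [(nat_lit 0x10000d0000c000000a0000b000000900008010001600017090000900017090000800016010001500007060001300015020000500013080001300012090001000014010001000012020001100010060000f00011060000e00010)]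
noncomputable def m1c_1_T : List (List ℕ × ℕ) := [([1,7,8,7,8,7,8,1,9,6,9,6,9,6], (nat_lit 0xc00001400001c00002400002c00003400003a00003700002f00002700001f00001700000f000007))]
noncomputable def m1c_1_D : H26.Dag := ⟨[0,1,2,3,4,5,7,6,9,8], [[0,0],
  [1,1],
  [2,2],
  [3,3],
  [4,4],
  [5,5],
  [6,7],
  [7,6],
  [8,9],
  [9,8],
  [2,1,2,1],
  [8,8,8],
  [1,9,0,8],
  [0,1,9,1,8],
  [2,9,2,8],
  [0,7,0,6],
  [2,7,1,6],
  [0,1,2,7,2,6]], [], m1c_1_defs, m1c_1_recs⟩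
theorem m1c_1_c : m1c_1_D.check m1c_1_S m1c_1_T = true := by decide +kernel
theorem m1c_1 {G : Type*} [Group G] {g : ℕ → G} (hR : Rels g m1c_r_R) {H : Subgroup G}
    (hH : ∀ k ∈ [], g k ∈ H) : evA g [1,7,8,7,8,7,8,1,9,6,9,6,9,6] ∈ H :=
  mem_dag (K := 10) (J := [0,1,2,3,4,5,6,7,8,9,10,25,26,27,28,33,34,35]) (D := m1c_1_D) (by decide +kernel) m1c_1_c (by decide +kernel) hR hH
noncomputable def m1c_2_S0 : List ℕ := [nat_lit 0xf00000700000c00801c, nat_lit 0x3b000013000001000018004018, nat_lit 0x3f00003c000006004016, nat_lit 0x4700001b00004400c01c, nat_lit 0x1f00000900003f00004400000d00601e, nat_lit 0x4b000048000011004014, nat_lit 0x4f00002300004c00401a, nat_lit 0x53000027000015000019004018, nat_lit 0x2b00005000001d00005300003001001e, nat_lit 0x3700002100003400001a]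
noncomputable def m1c_2_S : List (List ℕ) := [m1c_2_S0]
noncomputable def m1c_2_defs : List ℕ := [(nat_lit 0x90020000800200006001000060020000400100004000000040080000b0080000a007000090070000800800007008000060070000500700004008000030080000200700001007000000020000000000000)]
noncomputable def m1c_2_recs : List ℕ := [(nat_lit 0x20000c0000d020000b0000a01000130001409000120001301000070001202000110000706000100001100000050000f01000050000e010000200003)]
noncomputable def m1c_2_T : List (List ℕ × ℕ) := [([2,7,8,7,8,7,8,2,9,6,9,6,9,6], (nat_lit 0xc00001400001c00002400002c00003400002500003700002f00002700001f00001700000f000007))]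
noncomputable def m1c_2_D : H26.Dag := ⟨[0,1,2,3,4,5,7,6,9,8], [[0,0],
  [1,1],
  [2,2],
  [3,3],
  [4,4],
  [5,5],
  [6,7],
  [7,6],
  [8,9],
  [9,8],
  [2,1,2,1],
  [1,0,1,0],
  [0,1,9,1,8],
  [2,9,2,8],
  [2,7,1,6],
  [0,1,2,7,2,6]], [], m1c_2_defs, m1c_2_recs⟩
theorem m1c_2_c : m1c_2_D.check m1c_2_S m1c_2_T = true := by decide +kernel
theorem m1c_2 {G : Type*} [Group G] {g : ℕ → G} (hR : Rels g m1c_r_R) {H : Subgroup G}
    (hH : ∀ k ∈ [], g k ∈ H) : evA g [2,7,8,7,8,7,8,2,9,6,9,6,9,6] ∈ H :=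
  mem_dag (K := 10) (J := [0,1,2,3,4,5,6,7,8,9,10,11,27,28,34,35]) (D := m1c_2_D) (by decide +kernel) m1c_2_c (by decide +kernel) hR hH
theorem m1c {G : Type*} [Group G] {z u v a b r y p : G}
    (t : TB z u v a b r)
    (w : PB z u v a b r p)
    (n : YG z u v a b r y) :
    (y * p⁻¹) ^ 3 * z = z * (y * p⁻¹) ^ 3 ∧ (y * p⁻¹) ^ 3 * u = u * (y * p⁻¹) ^ 3 ∧ (y * p⁻¹) ^ 3 * v = v * (y * p⁻¹) ^ 3 :=
  ⟨mul_inv_eq_one.1 ((evA_eq_tm ((InvI.cons t.1 (InvI.cons t.2.1 (InvI.cons t.2.2.1 (InvI.cons t.2.2.2.1 (InvI.cons t.2.2.2.2.1 (InvI.cons t.2.2.2.2.2.1 InvI.nil)))))) : InvI [z, u, v, a, b, r, y, p] [(nat_lit 0), (nat_lit 1), (nat_lit 2), (nat_lit 3), (nat_lit 4), (nat_lit 5)]) [(.v (nat_lit 0)), (.v (nat_lit 1)), (.v (nat_lit 2)), (.v (nat_lit 3)), (.v (nat_lit 4)), (.v (nat_lit 5)), (.v (nat_lit 6)), (.inv (.v (nat_lit 6))), (.v (nat_lit 7)), (.inv (.v (nat_lit 7)))] [0,7,8,7,8,7,8,0,9,6,9,6,9,6] (.mul (.mul (.pw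 (.mul (.v (nat_lit 6)) (.inv (.v (nat_lit 7)))) (nat_lit 3)) (.v (nat_lit 0))) (.inv (.mul (.v (nat_lit 0)) (.pw (.mul (.v (nat_lit 6)) (.inv (.v (nat_lit 7)))) (nat_lit 3))))) (by decide +kernel)).symm.trans (Subgroup.mem_bot.1 (m1c_0 (m1c_r t w n) (H := ⊥) (List.forall_mem_nil _)))),
   mul_inv_eq_one.1 ((evA_eq_tm ((InvI.cons t.1 (InvI.cons t.2.1 (InvI.cons t.2.2.1 (InvI.cons t.2.2.2.1 (InvI.cons t.2.2.2.2.1 (InvI.cons t.2.2.2.2.2.1 InvI.nil)))))) : InvI [z, u, v, a, b, r, y, p] [(nat_lit 0), (nat_lit 1), (nat_lit 2), (nat_lit 3), (nat_lit 4), (nat_lit 5)]) [(.v (nat_lit 0)), (.v (nat_lit 1)), (.v (nat_lit 2)), (.v (nat_lit 3)), (.v (nat_lit 4)), (.v (nat_lit 5)), (.v (nat_lit 6)), (.inv (.v (nat_lit 6))), (.v (nat_lit 7)), (.inv (.v (nat_lit 7)))] [1,7,8,7,8,7,8,1,9,6,9,6,9,6] (.mul (.mul (.pw (.mul (.v (nat_lit 6)) (.inv (.v (nat_lit 7)))) (nat_lit 3)) (.v (nat_lit 1))) (.inv (.mul (.v (nat_lit 1)) (.pw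 (.mul (.v (nat_lit 6)) (.inv (.v (nat_lit 7)))) (nat_lit 3))))) (by decide +kernel)).symm.trans (Subgroup.mem_bot.1 (m1c_1 (m1c_r t w n) (H := ⊥) (List.forall_mem_nil _)))),
   mul_inv_eq_one.1 ((evA_eq_tm ((InvI.cons t.1 (InvI.cons t.2.1 (InvI.cons t.2.2.1 (InvI.cons t.2.2.2.1 (InvI.cons t.2.2.2.2.1 (InvI.cons t.2.2.2.2.2.1 InvI.nil)))))) : InvI [z, u, v, a, b, r, y, p] [(nat_lit 0), (nat_lit 1), (nat_lit 2), (nat_lit 3), (nat_lit 4), (nat_lit 5)]) [(.v (nat_lit 0)), (.v (nat_lit 1)), (.v (nat_lit 2)), (.v (nat_lit 3)), (.v (nat_lit 4)), (.v (nat_lit 5)), (.v (nat_lit 6)), (.inv (.v (nat_lit 6))), (.v (nat_lit 7)), (.inv (.v (nat_lit 7)))] [2,7,8,7,8,7,8,2,9,6,9,6,9,6] (.mul (.mul (.pw (.mul (.v (nat_lit 6)) (.inv (.v (nat_lit 7)))) (nat_lit 3)) (.v (nat_lit 2))) (.inv (.mul (.v (nat_lit 2)) (.pw (.mul (.v (nat_lit 6)) (.inv (.v (nat_lit 7)))) (nat_lit 3))))) (by decide +kernel)).symm.trans (Subgroup.mem_bot.1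 (m1c_2 (m1c_r t w n) (H := ⊥) (List.forall_mem_nil _))))⟩
noncomputable def m11_r_R : List (List ℕ) := [[0,0],
  [1,1],
  [2,2],
  [3,3],
  [4,4],
  [5,5],
  [6,7],
  [7,6],
  [8,9],
  [9,8],
  [2,1,2,1],
  [1,0,1,0],
  [2,0,2,0],
  [3,0,3,0],
  [4,0,4,0],
  [5,0,5,0],
  [3,1,3,1],
  [4,2,4,2],
  [4,3,4,3],
  [1,0,4,1,4],
  [2,0,3,2,3],
  [1,5,1,5],
  [5,1,3,5,3],
  [1,2,0,5,2,5],
  [1,2,3,4,5,4,5],
  [8,8,8],
  [1,9,0,8],
  [0,1,9,1,8],
  [2,9,2,8],
  [3,9,5,8],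
  [4,5,4,9,3,8],
  [8,4,8,4],
  [6,6,6],
  [0,7,0,6],
  [2,7,1,6],
  [0,1,2,7,2,6],
  [4,7,3,6],
  [0,3,4,7,4,6],
  [6,5,6,5],
  [0,9,6,9,6,9,6]]
theorem m11_r {G : Type*} [Group G] {z u v a b r y p : G}
    (t : TB z u v a b r)
    (w : PB z u v a b r p)
    (n : YG z u v a b r y)
    (e : (y * p⁻¹) ^ 3 = z) :
    Rels (nthG [z, u, v, a, b, r, y, y⁻¹, p, p⁻¹]) m11_r_R :=
  rels_of_eqs ((InvI.cons t.1 (InvI.cons t.2.1 (InvI.cons t.2.2.1 (InvI.cons t.2.2.2.1 (InvI.cons t.2.2.2.2.1 (InvI.cons t.2.2.2.2.2.1 InvI.nil)))))) : InvI [z, u, v, a, b, r, y, p] [(nat_lit 0), (nat_lit 1), (nat_lit 2), (nat_lit 3), (nat_lit 4), (nat_lit 5)])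
    (AllEq.append (show AllEq [z, u, v, a, b, r, y, p] [((.mul (.v (nat_lit 0)) (.v (nat_lit 0))), .one), ((.mul (.v (nat_lit 1)) (.v (nat_lit 1))), .one), ((.mul (.v (nat_lit 2)) (.v (nat_lit 2))), .one), ((.mul (.v (nat_lit 3)) (.v (nat_lit 3))), .one), ((.mul (.v (nat_lit 4)) (.v (nat_lit 4))), .one), ((.mul (.v (nat_lit 5)) (.v (nat_lit 5))), .one), ((.mul (.v (nat_lit 1)) (.v (nat_lit 2))), (.mul (.v (nat_lit 2)) (.v (nat_lit 1)))), ((.mul (.v (nat_lit 0)) (.v (nat_lit 1))), (.mul (.v (nat_lit 1)) (.v (nat_lit 0)))), ((.mul (.v (nat_lit 0)) (.v (nat_lit 2))), (.mul (.v (nat_lit 2)) (.v (nat_lit 0)))), ((.mul (.v (nat_lit 0)) (.v (nat_lit 3))), (.mul (.v (nat_lit 3)) (.v (nat_lit 0)))), ((.mul (.v (nat_lit 0)) (.v (nat_lit 4))), (.mul (.v (nat_lit 4)) (.v (nat_lit 0)))), ((.mul (.v (nat_lit 0)) (.v (nat_lit 5))), (.mul (.v (nat_lit 5)) (.v (nat_lit 0)))), ((.mul (.v (nat_lit 1)) (.v (nat_lit 3))), (.mul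 (.v (nat_lit 3)) (.v (nat_lit 1)))), ((.mul (.v (nat_lit 2)) (.v (nat_lit 4))), (.mul (.v (nat_lit 4)) (.v (nat_lit 2)))), ((.mul (.v (nat_lit 3)) (.v (nat_lit 4))), (.mul (.v (nat_lit 4)) (.v (nat_lit 3)))), ((.mul (.mul (.v (nat_lit 4)) (.v (nat_lit 1))) (.v (nat_lit 4))), (.mul (.v (nat_lit 1)) (.v (nat_lit 0)))), ((.mul (.mul (.v (nat_lit 3)) (.v (nat_lit 2))) (.v (nat_lit 3))), (.mul (.v (nat_lit 2)) (.v (nat_lit 0)))), ((.mul (.v (nat_lit 5)) (.v (nat_lit 1))), (.mul (.v (nat_lit 1)) (.v (nat_lit 5)))), ((.mul (.mul (.v (nat_lit 3)) (.v (nat_lit 5))) (.v (nat_lit 3))), (.mul (.v (nat_lit 5)) (.v (nat_lit 1)))), ((.mul (.mul (.v (nat_lit 5)) (.v (nat_lit 2))) (.v (nat_lit 5))), (.mul (.mul (.v (nat_lit 1)) (.v (nat_lit 2))) (.v (nat_lit 0)))), ((.mul (.mul (.v (nat_lit 5)) (.v (nat_lit 4))) (.v (nat_lit 5))), (.mul (.mul (.mul (.v (nat_lit 1)) (.v (nat_lit 2))) (.v (nat_lit 3))) (.v (nat_lit 4))))] from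 t)
    (AllEq.append (show AllEq [z, u, v, a, b, r, y, p] [((.pw (.v (nat_lit 7)) (nat_lit 3)), .one), ((.mul (.mul (.v (nat_lit 7)) (.v (nat_lit 0))) (.inv (.v (nat_lit 7)))), (.v (nat_lit 1))), ((.mul (.mul (.v (nat_lit 7)) (.v (nat_lit 1))) (.inv (.v (nat_lit 7)))), (.mul (.v (nat_lit 0)) (.v (nat_lit 1)))), ((.mul (.mul (.v (nat_lit 7)) (.v (nat_lit 2))) (.inv (.v (nat_lit 7)))), (.v (nat_lit 2))), ((.mul (.mul (.v (nat_lit 7)) (.v (nat_lit 5))) (.inv (.v (nat_lit 7)))), (.v (nat_lit 3))), ((.mul (.mul (.v (nat_lit 7)) (.v (nat_lit 3))) (.inv (.v (nat_lit 7)))), (.mul (.mul (.v (nat_lit 4)) (.v (nat_lit 5))) (.v (nat_lit 4)))), ((.pw (.mul (.v (nat_lit 4)) (.v (nat_lit 7))) (nat_lit 2)), .one)] from w)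
    (AllEq.append (show AllEq [z, u, v, a, b, r, y, p] [((.pw (.v (nat_lit 6)) (nat_lit 3)), .one), ((.mul (.v (nat_lit 6)) (.v (nat_lit 0))), (.mul (.v (nat_lit 0)) (.v (nat_lit 6)))), ((.mul (.mul (.v (nat_lit 6)) (.v (nat_lit 1))) (.inv (.v (nat_lit 6)))), (.v (nat_lit 2))), ((.mul (.mul (.v (nat_lit 6)) (.v (nat_lit 2))) (.inv (.v (nat_lit 6)))), (.mul (.mul (.v (nat_lit 0)) (.v (nat_lit 1))) (.v (nat_lit 2)))), ((.mul (.mul (.v (nat_lit 6)) (.v (nat_lit 3))) (.inv (.v (nat_lit 6)))), (.v (nat_lit 4))), ((.mul (.mul (.v (nat_lit 6)) (.v (nat_lit 4))) (.inv (.v (nat_lit 6)))), (.mul (.mul (.v (nat_lit 0)) (.v (nat_lit 3))) (.v (nat_lit 4)))), ((.mul (.mul (.v (nat_lit 5)) (.v (nat_lit 6))) (.inv (.v (nat_lit 5)))), (.inv (.v (nat_lit 6))))] from n)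
    (show AllEq [z, u, v, a, b, r, y, p] [((.pw (.mul (.v (nat_lit 6)) (.inv (.v (nat_lit 7)))) (nat_lit 3)), (.v (nat_lit 0)))] from ⟨e, trivial⟩))))
    [(.v (nat_lit 0)), (.v (nat_lit 1)), (.v (nat_lit 2)), (.v (nat_lit 3)), (.v (nat_lit 4)), (.v (nat_lit 5)), (.v (nat_lit 6)), (.inv (.v (nat_lit 6))), (.v (nat_lit 7)), (.inv (.v (nat_lit 7)))] (by decide +kernel)
noncomputable def m11_0_S0 : List ℕ := [nat_lit 0xf00000b00000700c014, nat_lit 0x1700001300000700c016, nat_lit 0x1b00001000000200000500c018, nat_lit 0x2300001f00801c, nat_lit 0x3300002f00002b00002700000200000d014024, nat_lit 0x2700000f00001c008016, nat_lit 0x2700000f00000b00001400c018, nat_lit 0x3700001500002c00001e, nat_lit 0x600000d00001100003300002f00001d000037018024, nat_lit 0x18000022000015000000, nat_lit 0x2200000a000002, nat_lit 0x2600001a000002, nat_lit 0x2600002c00000c, nat_lit 0x14000026000027000012, nat_lit 0x36000002000000, nat_lit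 0x3b00002d00003c008016, nat_lit 0x3f00002900001700003c00c018, nat_lit 0x4200003d00004100c014, nat_lit 0x4300003100801c, nat_lit 0x4f00004b00004700003f000017000049014024, nat_lit 0x4700004500004800001e, nat_lit 0x3b00004900004d00004f00004b000051000047018024, nat_lit 0x3c00005600003f000012, nat_lit 0x1400005a000006000012, nat_lit 0x5d00003a000000]
noncomputable def m11_0_S : List (List ℕ) := [m11_0_S0]
noncomputable def m11_0_defs : List ℕ := [(nat_lit 0x600012009000110060000f0060000a0090000500900004006000060060000b0090000a0060000900900003006000070060000000900002000000040090000100100002000000010010000000000000)]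
noncomputable def m11_0_recs : List ℕ := [(nat_lit 0xff0000000001ff0000500004ff0000f0000e000001100011090001000013060000400010000000f0000f010000e0000f000000e0000e000000000001ff0000300001060000a00004010000400004010000500005ff0000900004ff0000600005000000a0000d01000040000900000060000909000080000c060000000008010000500006080000000005000000000003)]
noncomputable def m11_0_T : List (List ℕ × ℕ) := [([0], (nat_lit 0x61))]
noncomputable def m11_0_D : H26.Dag := ⟨[0,1,2,3,4,5,7,6,9,8], [[0,0],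
  [1,1],
  [2,2],
  [3,3],
  [4,4],
  [5,5],
  [6,7],
  [7,6],
  [8,9],
  [9,8],
  [1,0,1,0],
  [1,9,0,8],
  [0,1,9,1,8],
  [2,9,2,8],
  [6,6,6],
  [0,7,0,6],
  [2,7,1,6],
  [0,1,2,7,2,6],
  [0,9,6,9,6,9,6]], [], m11_0_defs, m11_0_recs⟩
theorem m11_0_c : m11_0_D.check m11_0_S m11_0_T = true := by decide +kernel
theorem m11_0 {G : Type*} [Group G] {g : ℕ → G} (hR : Rels g m11_r_R) {H : Subgroup G}
    (hH : ∀ k ∈ [], g k ∈ H) : evA g [0] ∈ H :=
  mem_dag (K := 10) (J := [0,1,2,3,4,5,6,7,8,9,11,26,27,28,32,33,34,35,39]) (D := m11_0_D) (by decide +kernel) m11_0_c (by decide +kernel) hR hH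
theorem m11 {G : Type*} [Group G] {z u v a b r y p : G}
    (t : TB z u v a b r)
    (w : PB z u v a b r p)
    (n : YG z u v a b r y)
    (e : (y * p⁻¹) ^ 3 = z) :
    z = 1 :=
  mul_inv_eq_one.1 ((evA_eq_tm ((InvI.cons t.1 (InvI.cons t.2.1 (InvI.cons t.2.2.1 (InvI.cons t.2.2.2.1 (InvI.cons t.2.2.2.2.1 (InvI.cons t.2.2.2.2.2.1 InvI.nil)))))) : InvI [z, u, v, a, b, r, y, p] [(nat_lit 0), (nat_lit 1), (nat_lit 2), (nat_lit 3), (nat_lit 4), (nat_lit 5)]) [(.v (nat_lit 0)), (.v (nat_lit 1)), (.v (nat_lit 2)), (.v (nat_lit 3)), (.v (nat_lit 4)), (.v (nat_lit 5)), (.v (nat_lit 6)), (.inv (.v (nat_lit 6))), (.v (nat_lit 7)), (.inv (.v (nat_lit 7)))] [0] (.mul (.v (nat_lit 0)) (.inv .one)) (by decide +kernel)).symm.trans (Subgroup.mem_bot.1 (m11_0 (m11_r t w n e) (H := ⊥) (List.forall_mem_nil _))))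
noncomputable def m12_r_R : List (List ℕ) := [[0,0],
  [1,1],
  [2,2],
  [3,3],
  [4,4],
  [5,5],
  [6,7],
  [7,6],
  [8,9],
  [9,8],
  [2,1,2,1],
  [1,0,1,0],
  [2,0,2,0],
  [3,0,3,0],
  [4,0,4,0],
  [5,0,5,0],
  [3,1,3,1],
  [4,2,4,2],
  [4,3,4,3],
  [1,0,4,1,4],
  [2,0,3,2,3],
  [1,5,1,5],
  [5,1,3,5,3],
  [1,2,0,5,2,5],
  [1,2,3,4,5,4,5],
  [8,8,8],
  [1,9,0,8],
  [0,1,9,1,8],
  [2,9,2,8],
  [3,9,5,8],
  [4,5,4,9,3,8],
  [8,4,8,4],
  [6,6,6],
  [0,7,0,6],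
  [2,7,1,6],
  [0,1,2,7,2,6],
  [4,7,3,6],
  [0,3,4,7,4,6],
  [6,5,6,5],
  [1,9,6,9,6,9,6]]
theorem m12_r {G : Type*} [Group G] {z u v a b r y p : G}
    (t : TB z u v a b r)
    (w : PB z u v a b r p)
    (n : YG z u v a b r y)
    (e : (y * p⁻¹) ^ 3 = u) :
    Rels (nthG [z, u, v, a, b, r, y, y⁻¹, p, p⁻¹]) m12_r_R :=
  rels_of_eqs ((InvI.cons t.1 (InvI.cons t.2.1 (InvI.cons t.2.2.1 (InvI.cons t.2.2.2.1 (InvI.cons t.2.2.2.2.1 (InvI.cons t.2.2.2.2.2.1 InvI.nil)))))) : InvI [z, u, v, a, b, r, y, p] [(nat_lit 0), (nat_lit 1), (nat_lit 2), (nat_lit 3), (nat_lit 4), (nat_lit 5)])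
    (AllEq.append (show AllEq [z, u, v, a, b, r, y, p] [((.mul (.v (nat_lit 0)) (.v (nat_lit 0))), .one), ((.mul (.v (nat_lit 1)) (.v (nat_lit 1))), .one), ((.mul (.v (nat_lit 2)) (.v (nat_lit 2))), .one), ((.mul (.v (nat_lit 3)) (.v (nat_lit 3))), .one), ((.mul (.v (nat_lit 4)) (.v (nat_lit 4))), .one), ((.mul (.v (nat_lit 5)) (.v (nat_lit 5))), .one), ((.mul (.v (nat_lit 1)) (.v (nat_lit 2))), (.mul (.v (nat_lit 2)) (.v (nat_lit 1)))), ((.mul (.v (nat_lit 0)) (.v (nat_lit 1))), (.mul (.v (nat_lit 1)) (.v (nat_lit 0)))), ((.mul (.v (nat_lit 0)) (.v (nat_lit 2))), (.mul (.v (nat_lit 2)) (.v (nat_lit 0)))), ((.mul (.v (nat_lit 0)) (.v (nat_lit 3))), (.mul (.v (nat_lit 3)) (.v (nat_lit 0)))), ((.mul (.v (nat_lit 0)) (.v (nat_lit 4))), (.mul (.v (nat_lit 4)) (.v (nat_lit 0)))), ((.mul (.v (nat_lit 0)) (.v (nat_lit 5))), (.mul (.v (nat_lit 5)) (.v (nat_lit 0)))), ((.mul (.v (nat_lit 1)) (.v (nat_lit 3))), (.mul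 (.v (nat_lit 3)) (.v (nat_lit 1)))), ((.mul (.v (nat_lit 2)) (.v (nat_lit 4))), (.mul (.v (nat_lit 4)) (.v (nat_lit 2)))), ((.mul (.v (nat_lit 3)) (.v (nat_lit 4))), (.mul (.v (nat_lit 4)) (.v (nat_lit 3)))), ((.mul (.mul (.v (nat_lit 4)) (.v (nat_lit 1))) (.v (nat_lit 4))), (.mul (.v (nat_lit 1)) (.v (nat_lit 0)))), ((.mul (.mul (.v (nat_lit 3)) (.v (nat_lit 2))) (.v (nat_lit 3))), (.mul (.v (nat_lit 2)) (.v (nat_lit 0)))), ((.mul (.v (nat_lit 5)) (.v (nat_lit 1))), (.mul (.v (nat_lit 1)) (.v (nat_lit 5)))), ((.mul (.mul (.v (nat_lit 3)) (.v (nat_lit 5))) (.v (nat_lit 3))), (.mul (.v (nat_lit 5)) (.v (nat_lit 1)))), ((.mul (.mul (.v (nat_lit 5)) (.v (nat_lit 2))) (.v (nat_lit 5))), (.mul (.mul (.v (nat_lit 1)) (.v (nat_lit 2))) (.v (nat_lit 0)))), ((.mul (.mul (.v (nat_lit 5)) (.v (nat_lit 4))) (.v (nat_lit 5))), (.mul (.mul (.mul (.v (nat_lit 1)) (.v (nat_lit 2))) (.v (nat_lit 3))) (.v (nat_lit 4))))] from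 t)
    (AllEq.append (show AllEq [z, u, v, a, b, r, y, p] [((.pw (.v (nat_lit 7)) (nat_lit 3)), .one), ((.mul (.mul (.v (nat_lit 7)) (.v (nat_lit 0))) (.inv (.v (nat_lit 7)))), (.v (nat_lit 1))), ((.mul (.mul (.v (nat_lit 7)) (.v (nat_lit 1))) (.inv (.v (nat_lit 7)))), (.mul (.v (nat_lit 0)) (.v (nat_lit 1)))), ((.mul (.mul (.v (nat_lit 7)) (.v (nat_lit 2))) (.inv (.v (nat_lit 7)))), (.v (nat_lit 2))), ((.mul (.mul (.v (nat_lit 7)) (.v (nat_lit 5))) (.inv (.v (nat_lit 7)))), (.v (nat_lit 3))), ((.mul (.mul (.v (nat_lit 7)) (.v (nat_lit 3))) (.inv (.v (nat_lit 7)))), (.mul (.mul (.v (nat_lit 4)) (.v (nat_lit 5))) (.v (nat_lit 4)))), ((.pw (.mul (.v (nat_lit 4)) (.v (nat_lit 7))) (nat_lit 2)), .one)] from w)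
    (AllEq.append (show AllEq [z, u, v, a, b, r, y, p] [((.pw (.v (nat_lit 6)) (nat_lit 3)), .one), ((.mul (.v (nat_lit 6)) (.v (nat_lit 0))), (.mul (.v (nat_lit 0)) (.v (nat_lit 6)))), ((.mul (.mul (.v (nat_lit 6)) (.v (nat_lit 1))) (.inv (.v (nat_lit 6)))), (.v (nat_lit 2))), ((.mul (.mul (.v (nat_lit 6)) (.v (nat_lit 2))) (.inv (.v (nat_lit 6)))), (.mul (.mul (.v (nat_lit 0)) (.v (nat_lit 1))) (.v (nat_lit 2)))), ((.mul (.mul (.v (nat_lit 6)) (.v (nat_lit 3))) (.inv (.v (nat_lit 6)))), (.v (nat_lit 4))), ((.mul (.mul (.v (nat_lit 6)) (.v (nat_lit 4))) (.inv (.v (nat_lit 6)))), (.mul (.mul (.v (nat_lit 0)) (.v (nat_lit 3))) (.v (nat_lit 4)))), ((.mul (.mul (.v (nat_lit 5)) (.v (nat_lit 6))) (.inv (.v (nat_lit 5)))), (.inv (.v (nat_lit 6))))] from n)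
    (show AllEq [z, u, v, a, b, r, y, p] [((.pw (.mul (.v (nat_lit 6)) (.inv (.v (nat_lit 7)))) (nat_lit 3)), (.v (nat_lit 1)))] from ⟨e, trivial⟩))))
    [(.v (nat_lit 0)), (.v (nat_lit 1)), (.v (nat_lit 2)), (.v (nat_lit 3)), (.v (nat_lit 4)), (.v (nat_lit 5)), (.v (nat_lit 6)), (.inv (.v (nat_lit 6))), (.v (nat_lit 7)), (.inv (.v (nat_lit 7)))] (by decide +kernel)
noncomputable def m12_0_S0 : List ℕ := [nat_lit 0xf00000b00000700c014, nat_lit 0x1700001300000200c016, nat_lit 0x2300001f00801a, nat_lit 0x2700000200000900801c, nat_lit 0x2b00001800000600000900c01e, nat_lit 0x2f000007000009008020, nat_lit 0x37000033008022, nat_lit 0x3b000007000019008026, nat_lit 0x4300003f000018000006000019010028, nat_lit 0xb000007000019000021000043016028, nat_lit 0x2500000b00001c008016, nat_lit 0x4b00003000401a, nat_lit 0x2400001500002d008020, nat_lit 0x4f00000b00003000801c, nat_lit 0xe000015000035000018, nat_lit 0x5300002a00001b00003000c01e,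 nat_lit 0x5700001b00003c008024, nat_lit 0x5b00004000002a00001b00003c010028, nat_lit 0x2200001d00004500c014, nat_lit 0x6700006300005f00004f00000b00003c01402a, nat_lit 0x7300006f008022, nat_lit 0x43000025000051008024, nat_lit 0x7f00007b00007700002f00000c00005101402a, nat_lit 0x6700006300005f00004f00005100005900002a, nat_lit 0x5f00004f00005100005900007f00007b00002a, nat_lit 0x4200004d00005e00005a00c01c, nat_lit 0x41000066000055000000, nat_lit 0x1d00006a00004a000002, nat_lit 0x3c00006a00004300000e, nat_lit 0x1900006e00005b00000e, nat_lit 0x72000025000000, nat_lit 0x2f000072000054000010, nat_lit 0xa00007600002c000010, nat_lit 0x7e00003e000002, nat_lit 0x82000012000002, nat_lit 0x2400008900002300801c, nat_lit 0x3100008d00003200c018, nat_lit 0x9100004b00000c00006c00401e, nat_lit 0x77000085000078000026, nat_lit 0x62000099000061008014, nat_lit 0x4700003a00006000009d000062000028, nat_lit 0x5f0000360000780000a1000024,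 nat_lit 0x480000a500005f00000c, nat_lit 0xd0000aa000036000000, nat_lit 0x90000ae00002f000012, nat_lit 0x240000ae00002d000010, nat_lit 0xb200007a000000, nat_lit 0xb6000096000002, nat_lit 0x87000083008022, nat_lit 0xc200008d0000c1008024, nat_lit 0x8f00008b00006f00006c0000bd0000c101402a, nat_lit 0xca0000c50000c900001c, nat_lit 0x330000200000c10000c90000cd00008f00008b01402a, nat_lit 0x340000d200006f00000c, nat_lit 0xd60000b9000000]
noncomputable def m12_0_S : List (List ℕ) := [m12_0_S0]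
noncomputable def m12_0_defs : List ℕ := [(nat_lit 0x6000220090001b00600020006000070060001e0090001d0060000b0060001b006000020080000200600018009000170060001300700004007000060090000f0090000200800001006000090070000f00200004007000010060000c00600000009000010090000400900003008000070080000000000001001000040000000300200002001000010020000000000000)]
noncomputable def m12_0_recs : List ℕ := [(nat_lit 0xff0000200000ff0001b0000c010002300023090002100023000002100021060000700021010001a00007000000200000ff0001200007ff0000100000ff0000b00008ff0001300009ff0001100017000001d00011020001700017020001d0001d010001a00012000001200012000000700007010000800008010000b0000bff0000a00008ff000140000b000000200001ff0000400000ff0000f00001ff000160000dff000100000eff0001c00015010001d00017010001f00019090001c0001f000001c0001006000020001c090000e00019010001600010020000e00016000000e00015010000b00014020001300009000000b00013020001200007080000b0001201000060000f000000f00002020000d00010010000d0000e06000000000d02000080000b01000080000a000000800009080000000008000000000005010000000003)]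
noncomputable def m12_0_T : List (List ℕ × ℕ) := [([0], (nat_lit 0xd9))]
noncomputable def m12_0_D : H26.Dag := ⟨[0,1,2,3,4,5,7,6,9,8], [[0,0],
  [1,1],
  [2,2],
  [3,3],
  [4,4],
  [5,5],
  [6,7],
  [7,6],
  [8,9],
  [9,8],
  [2,1,2,1],
  [1,0,1,0],
  [2,0,2,0],
  [8,8,8],
  [1,9,0,8],
  [0,1,9,1,8],
  [2,9,2,8],
  [6,6,6],
  [0,7,0,6],
  [2,7,1,6],
  [0,1,2,7,2,6],
  [1,9,6,9,6,9,6]], [], m12_0_defs, m12_0_recs⟩
theorem m12_0_c : m12_0_D.check m12_0_S m12_0_T = true := by decide +kernel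
theorem m12_0 {G : Type*} [Group G] {g : ℕ → G} (hR : Rels g m12_r_R) {H : Subgroup G}
    (hH : ∀ k ∈ [], g k ∈ H) : evA g [0] ∈ H :=
  mem_dag (K := 10) (J := [0,1,2,3,4,5,6,7,8,9,10,11,12,25,26,27,28,32,33,34,35,39]) (D := m12_0_D) (by decide +kernel) m12_0_c (by decide +kernel) hR hH
theorem m12 {G : Type*} [Group G] {z u v a b r y p : G}
    (t : TB z u v a b r)
    (w : PB z u v a b r p)
    (n : YG z u v a b r y)
    (e : (y * p⁻¹) ^ 3 = u) :
    z = 1 :=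
  mul_inv_eq_one.1 ((evA_eq_tm ((InvI.cons t.1 (InvI.cons t.2.1 (InvI.cons t.2.2.1 (InvI.cons t.2.2.2.1 (InvI.cons t.2.2.2.2.1 (InvI.cons t.2.2.2.2.2.1 InvI.nil)))))) : InvI [z, u, v, a, b, r, y, p] [(nat_lit 0), (nat_lit 1), (nat_lit 2), (nat_lit 3), (nat_lit 4), (nat_lit 5)]) [(.v (nat_lit 0)), (.v (nat_lit 1)), (.v (nat_lit 2)), (.v (nat_lit 3)), (.v (nat_lit 4)), (.v (nat_lit 5)), (.v (nat_lit 6)), (.inv (.v (nat_lit 6))), (.v (nat_lit 7)), (.inv (.v (nat_lit 7)))] [0] (.mul (.v (nat_lit 0)) (.inv .one)) (by decide +kernel)).symm.trans (Subgroup.mem_bot.1 (m12_0 (m12_r t w n e) (H := ⊥) (List.forall_mem_nil _))))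
noncomputable def m13_r_R : List (List ℕ) := [[0,0],
  [1,1],
  [2,2],
  [3,3],
  [4,4],
  [5,5],
  [6,7],
  [7,6],
  [8,9],
  [9,8],
  [2,1,2,1],
  [1,0,1,0],
  [2,0,2,0],
  [3,0,3,0],
  [4,0,4,0],
  [5,0,5,0],
  [3,1,3,1],
  [4,2,4,2],
  [4,3,4,3],
  [1,0,4,1,4],
  [2,0,3,2,3],
  [1,5,1,5],
  [5,1,3,5,3],
  [1,2,0,5,2,5],
  [1,2,3,4,5,4,5],
  [8,8,8],
  [1,9,0,8],
  [0,1,9,1,8],
  [2,9,2,8],
  [3,9,5,8],
  [4,5,4,9,3,8],
  [8,4,8,4],
  [6,6,6],
  [0,7,0,6],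
  [2,7,1,6],
  [0,1,2,7,2,6],
  [4,7,3,6],
  [0,3,4,7,4,6],
  [6,5,6,5],
  [2,9,6,9,6,9,6]]
theorem m13_r {G : Type*} [Group G] {z u v a b r y p : G}
    (t : TB z u v a b r)
    (w : PB z u v a b r p)
    (n : YG z u v a b r y)
    (e : (y * p⁻¹) ^ 3 = v) :
    Rels (nthG [z, u, v, a, b, r, y, y⁻¹, p, p⁻¹]) m13_r_R :=
  rels_of_eqs ((InvI.cons t.1 (InvI.cons t.2.1 (InvI.cons t.2.2.1 (InvI.cons t.2.2.2.1 (InvI.cons t.2.2.2.2.1 (InvI.cons t.2.2.2.2.2.1 InvI.nil)))))) : InvI [z, u, v, a, b, r, y, p] [(nat_lit 0), (nat_lit 1), (nat_lit 2), (nat_lit 3), (nat_lit 4), (nat_lit 5)])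
    (AllEq.append (show AllEq [z, u, v, a, b, r, y, p] [((.mul (.v (nat_lit 0)) (.v (nat_lit 0))), .one), ((.mul (.v (nat_lit 1)) (.v (nat_lit 1))), .one), ((.mul (.v (nat_lit 2)) (.v (nat_lit 2))), .one), ((.mul (.v (nat_lit 3)) (.v (nat_lit 3))), .one), ((.mul (.v (nat_lit 4)) (.v (nat_lit 4))), .one), ((.mul (.v (nat_lit 5)) (.v (nat_lit 5))), .one), ((.mul (.v (nat_lit 1)) (.v (nat_lit 2))), (.mul (.v (nat_lit 2)) (.v (nat_lit 1)))), ((.mul (.v (nat_lit 0)) (.v (nat_lit 1))), (.mul (.v (nat_lit 1)) (.v (nat_lit 0)))), ((.mul (.v (nat_lit 0)) (.v (nat_lit 2))), (.mul (.v (nat_lit 2)) (.v (nat_lit 0)))), ((.mul (.v (nat_lit 0)) (.v (nat_lit 3))), (.mul (.v (nat_lit 3)) (.v (nat_lit 0)))), ((.mul (.v (nat_lit 0)) (.v (nat_lit 4))), (.mul (.v (nat_lit 4)) (.v (nat_lit 0)))), ((.mul (.v (nat_lit 0)) (.v (nat_lit 5))), (.mul (.v (nat_lit 5)) (.v (nat_lit 0)))), ((.mul (.v (nat_lit 1)) (.v (nat_lit 3))), (.mul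 (.v (nat_lit 3)) (.v (nat_lit 1)))), ((.mul (.v (nat_lit 2)) (.v (nat_lit 4))), (.mul (.v (nat_lit 4)) (.v (nat_lit 2)))), ((.mul (.v (nat_lit 3)) (.v (nat_lit 4))), (.mul (.v (nat_lit 4)) (.v (nat_lit 3)))), ((.mul (.mul (.v (nat_lit 4)) (.v (nat_lit 1))) (.v (nat_lit 4))), (.mul (.v (nat_lit 1)) (.v (nat_lit 0)))), ((.mul (.mul (.v (nat_lit 3)) (.v (nat_lit 2))) (.v (nat_lit 3))), (.mul (.v (nat_lit 2)) (.v (nat_lit 0)))), ((.mul (.v (nat_lit 5)) (.v (nat_lit 1))), (.mul (.v (nat_lit 1)) (.v (nat_lit 5)))), ((.mul (.mul (.v (nat_lit 3)) (.v (nat_lit 5))) (.v (nat_lit 3))), (.mul (.v (nat_lit 5)) (.v (nat_lit 1)))), ((.mul (.mul (.v (nat_lit 5)) (.v (nat_lit 2))) (.v (nat_lit 5))), (.mul (.mul (.v (nat_lit 1)) (.v (nat_lit 2))) (.v (nat_lit 0)))), ((.mul (.mul (.v (nat_lit 5)) (.v (nat_lit 4))) (.v (nat_lit 5))), (.mul (.mul (.mul (.v (nat_lit 1)) (.v (nat_lit 2))) (.v (nat_lit 3))) (.v (nat_lit 4))))] from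 t)
    (AllEq.append (show AllEq [z, u, v, a, b, r, y, p] [((.pw (.v (nat_lit 7)) (nat_lit 3)), .one), ((.mul (.mul (.v (nat_lit 7)) (.v (nat_lit 0))) (.inv (.v (nat_lit 7)))), (.v (nat_lit 1))), ((.mul (.mul (.v (nat_lit 7)) (.v (nat_lit 1))) (.inv (.v (nat_lit 7)))), (.mul (.v (nat_lit 0)) (.v (nat_lit 1)))), ((.mul (.mul (.v (nat_lit 7)) (.v (nat_lit 2))) (.inv (.v (nat_lit 7)))), (.v (nat_lit 2))), ((.mul (.mul (.v (nat_lit 7)) (.v (nat_lit 5))) (.inv (.v (nat_lit 7)))), (.v (nat_lit 3))), ((.mul (.mul (.v (nat_lit 7)) (.v (nat_lit 3))) (.inv (.v (nat_lit 7)))), (.mul (.mul (.v (nat_lit 4)) (.v (nat_lit 5))) (.v (nat_lit 4)))), ((.pw (.mul (.v (nat_lit 4)) (.v (nat_lit 7))) (nat_lit 2)), .one)] from w)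
    (AllEq.append (show AllEq [z, u, v, a, b, r, y, p] [((.pw (.v (nat_lit 6)) (nat_lit 3)), .one), ((.mul (.v (nat_lit 6)) (.v (nat_lit 0))), (.mul (.v (nat_lit 0)) (.v (nat_lit 6)))), ((.mul (.mul (.v (nat_lit 6)) (.v (nat_lit 1))) (.inv (.v (nat_lit 6)))), (.v (nat_lit 2))), ((.mul (.mul (.v (nat_lit 6)) (.v (nat_lit 2))) (.inv (.v (nat_lit 6)))), (.mul (.mul (.v (nat_lit 0)) (.v (nat_lit 1))) (.v (nat_lit 2)))), ((.mul (.mul (.v (nat_lit 6)) (.v (nat_lit 3))) (.inv (.v (nat_lit 6)))), (.v (nat_lit 4))), ((.mul (.mul (.v (nat_lit 6)) (.v (nat_lit 4))) (.inv (.v (nat_lit 6)))), (.mul (.mul (.v (nat_lit 0)) (.v (nat_lit 3))) (.v (nat_lit 4)))), ((.mul (.mul (.v (nat_lit 5)) (.v (nat_lit 6))) (.inv (.v (nat_lit 5)))), (.inv (.v (nat_lit 6))))] from n)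
    (show AllEq [z, u, v, a, b, r, y, p] [((.pw (.mul (.v (nat_lit 6)) (.inv (.v (nat_lit 7)))) (nat_lit 3)), (.v (nat_lit 2)))] from ⟨e, trivial⟩))))
    [(.v (nat_lit 0)), (.v (nat_lit 1)), (.v (nat_lit 2)), (.v (nat_lit 3)), (.v (nat_lit 4)), (.v (nat_lit 5)), (.v (nat_lit 6)), (.inv (.v (nat_lit 6))), (.v (nat_lit 7)), (.inv (.v (nat_lit 7)))] (by decide +kernel)
noncomputable def m13_0_S0 : List ℕ := [nat_lit 0x1300001000602e, nat_lit 0x2700002400602e, nat_lit 0x2b000007000018000026, nat_lit 0x3700000b000010000030, nat_lit 0x3b00000b000018000009000028, nat_lit 0x4b000002000044004030, nat_lit 0x5300000900002b00001c002028, nat_lit 0x5b00001b000020004014, nat_lit 0x5b00001b00000700001400004c00c032, nat_lit 0x1500002100a02e, nat_lit 0x5f00001b000024000030, nat_lit 0x6300001d000025000030, nat_lit 0x3f00004400002d00006300001f000024002032, nat_lit 0x3100003f000000, nat_lit 0x67000036000044004016, nat_lit 0x3300003800000e000044000039014032,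 nat_lit 0x7700003300003c00002a, nat_lit 0x7f000043000048008026, nat_lit 0x7f00004300003500006c00c028, nat_lit 0x8300004500004a004016, nat_lit 0x83000047000044000039010028, nat_lit 0x8700004700000d00003700003c00007c00c034, nat_lit 0x5200003d00007800004200007c000055000087010034, nat_lit 0x4600005900004e000000, nat_lit 0x59000083000002, nat_lit 0x6c00005d00007f000012, nat_lit 0x2a00006600002d000004, nat_lit 0x600006600001500000e, nat_lit 0x6000006a00006300000c, nat_lit 0x6e00004b000004, nat_lit 0x7200001f000004, nat_lit 0x87000061000088000030, nat_lit 0x5700001700001000004800008800007d000056016034, nat_lit 0x5800008200007b00000e, nat_lit 0x53000086000012000000, nat_lit 0x2c00008900001a000010, nat_lit 0x8e00007a000004, nat_lit 0x4f00007500007000002a, nat_lit 0x8b00009600006f000027000030000074006034, nat_lit 0x6f00002700009100003000007400009900008b00a034, nat_lit 0x5000009d00006f000010, nat_lit 0x140000a200002700000e,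 nat_lit 0xa6000007000000]
noncomputable def m13_0_S : List (List ℕ) := [m13_0_S0]
noncomputable def m13_0_defs : List ℕ := [(nat_lit 0x7000130060001100100011009000100070000e0080000c0060000b00800009009000080010000800600007006000060020000600700005000000050080000400200004009000030010000300000003008000020060000200200002009000010080000100700001006000010020000100100001008000000070000000600000001000000000000000000000)]
noncomputable def m13_0_recs : List ℕ := [(nat_lit 0xff0000100000ff0000900004ff000130001b080001c00022020001b00013020000100001ff0000600001ff0000a00014ff0000e00005ff0001e00015020002100021020000100006020000400009ff0000700006ff0001200009ff0001800017ff0001000008010001100011ff0001a0001fff0001100020090001e00021080001900020000001a00020010001a0001f00000110001f020000e0001d06000190000c000001000019000000300008ff000080000f020001000018020000800017070001600010070001200016010000700016090000600014070001000012000000a0000e02000030000d01000050000a070000800009070000300004)]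
noncomputable def m13_0_T : List (List ℕ × ℕ) := [([0], (nat_lit 0xa9))]
noncomputable def m13_0_D : H26.Dag := ⟨[0,1,2,3,4,5,7,6,9,8], [[0,0],
  [1,1],
  [2,2],
  [3,3],
  [4,4],
  [5,5],
  [6,7],
  [7,6],
  [8,9],
  [9,8],
  [2,1,2,1],
  [1,0,1,0],
  [2,0,2,0],
  [3,0,3,0],
  [3,1,3,1],
  [2,0,3,2,3],
  [1,5,1,5],
  [1,2,0,5,2,5],
  [8,8,8],
  [1,9,0,8],
  [0,1,9,1,8],
  [2,9,2,8],
  [3,9,5,8],
  [6,6,6],
  [2,7,1,6],
  [0,1,2,7,2,6],
  [2,9,6,9,6,9,6]], [], m13_0_defs, m13_0_recs⟩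
theorem m13_0_c : m13_0_D.check m13_0_S m13_0_T = true := by decide +kernel
theorem m13_0 {G : Type*} [Group G] {g : ℕ → G} (hR : Rels g m13_r_R) {H : Subgroup G}
    (hH : ∀ k ∈ [], g k ∈ H) : evA g [0] ∈ H :=
  mem_dag (K := 10) (J := [0,1,2,3,4,5,6,7,8,9,10,11,12,13,16,20,21,23,25,26,27,28,29,32,34,35,39]) (D := m13_0_D) (by decide +kernel) m13_0_c (by decide +kernel) hR hH
theorem m13 {G : Type*} [Group G] {z u v a b r y p : G}
    (t : TB z u v a b r)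
    (w : PB z u v a b r p)
    (n : YG z u v a b r y)
    (e : (y * p⁻¹) ^ 3 = v) :
    z = 1 :=
  mul_inv_eq_one.1 ((evA_eq_tm ((InvI.cons t.1 (InvI.cons t.2.1 (InvI.cons t.2.2.1 (InvI.cons t.2.2.2.1 (InvI.cons t.2.2.2.2.1 (InvI.cons t.2.2.2.2.2.1 InvI.nil)))))) : InvI [z, u, v, a, b, r, y, p] [(nat_lit 0), (nat_lit 1), (nat_lit 2), (nat_lit 3), (nat_lit 4), (nat_lit 5)]) [(.v (nat_lit 0)), (.v (nat_lit 1)), (.v (nat_lit 2)), (.v (nat_lit 3)), (.v (nat_lit 4)), (.v (nat_lit 5)), (.v (nat_lit 6)), (.inv (.v (nat_lit 6))), (.v (nat_lit 7)), (.inv (.v (nat_lit 7)))] [0] (.mul (.v (nat_lit 0)) (.inv .one)) (by decide +kernel)).symm.trans (Subgroup.mem_bot.1 (m13_0 (m13_r t w n e) (H := ⊥) (List.forall_mem_nil _))))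
noncomputable def m14_r_R : List (List ℕ) := [[0,0],
  [1,1],
  [2,2],
  [3,3],
  [4,4],
  [5,5],
  [6,7],
  [7,6],
  [8,9],
  [9,8],
  [2,1,2,1],
  [1,0,1,0],
  [2,0,2,0],
  [3,0,3,0],
  [4,0,4,0],
  [5,0,5,0],
  [3,1,3,1],
  [4,2,4,2],
  [4,3,4,3],
  [1,0,4,1,4],
  [2,0,3,2,3],
  [1,5,1,5],
  [5,1,3,5,3],
  [1,2,0,5,2,5],
  [1,2,3,4,5,4,5],
  [8,8,8],
  [1,9,0,8],
  [0,1,9,1,8],
  [2,9,2,8],
  [3,9,5,8],
  [4,5,4,9,3,8],
  [8,4,8,4],
  [6,6,6],
  [0,7,0,6],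
  [2,7,1,6],
  [0,1,2,7,2,6],
  [4,7,3,6],
  [0,3,4,7,4,6],
  [6,5,6,5],
  [0,1,9,6,9,6,9,6]]
theorem m14_r {G : Type*} [Group G] {z u v a b r y p : G}
    (t : TB z u v a b r)
    (w : PB z u v a b r p)
    (n : YG z u v a b r y)
    (e : (y * p⁻¹) ^ 3 = z * u) :
    Rels (nthG [z, u, v, a, b, r, y, y⁻¹, p, p⁻¹]) m14_r_R :=
  rels_of_eqs ((InvI.cons t.1 (InvI.cons t.2.1 (InvI.cons t.2.2.1 (InvI.cons t.2.2.2.1 (InvI.cons t.2.2.2.2.1 (InvI.cons t.2.2.2.2.2.1 InvI.nil)))))) : InvI [z, u, v, a, b, r, y, p] [(nat_lit 0), (nat_lit 1), (nat_lit 2), (nat_lit 3), (nat_lit 4), (nat_lit 5)])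
    (AllEq.append (show AllEq [z, u, v, a, b, r, y, p] [((.mul (.v (nat_lit 0)) (.v (nat_lit 0))), .one), ((.mul (.v (nat_lit 1)) (.v (nat_lit 1))), .one), ((.mul (.v (nat_lit 2)) (.v (nat_lit 2))), .one), ((.mul (.v (nat_lit 3)) (.v (nat_lit 3))), .one), ((.mul (.v (nat_lit 4)) (.v (nat_lit 4))), .one), ((.mul (.v (nat_lit 5)) (.v (nat_lit 5))), .one), ((.mul (.v (nat_lit 1)) (.v (nat_lit 2))), (.mul (.v (nat_lit 2)) (.v (nat_lit 1)))), ((.mul (.v (nat_lit 0)) (.v (nat_lit 1))), (.mul (.v (nat_lit 1)) (.v (nat_lit 0)))), ((.mul (.v (nat_lit 0)) (.v (nat_lit 2))), (.mul (.v (nat_lit 2)) (.v (nat_lit 0)))), ((.mul (.v (nat_lit 0)) (.v (nat_lit 3))), (.mul (.v (nat_lit 3)) (.v (nat_lit 0)))), ((.mul (.v (nat_lit 0)) (.v (nat_lit 4))), (.mul (.v (nat_lit 4)) (.v (nat_lit 0)))), ((.mul (.v (nat_lit 0)) (.v (nat_lit 5))), (.mul (.v (nat_lit 5)) (.v (nat_lit 0)))), ((.mul (.v (nat_lit 1)) (.v (nat_lit 3))), (.mul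 (.v (nat_lit 3)) (.v (nat_lit 1)))), ((.mul (.v (nat_lit 2)) (.v (nat_lit 4))), (.mul (.v (nat_lit 4)) (.v (nat_lit 2)))), ((.mul (.v (nat_lit 3)) (.v (nat_lit 4))), (.mul (.v (nat_lit 4)) (.v (nat_lit 3)))), ((.mul (.mul (.v (nat_lit 4)) (.v (nat_lit 1))) (.v (nat_lit 4))), (.mul (.v (nat_lit 1)) (.v (nat_lit 0)))), ((.mul (.mul (.v (nat_lit 3)) (.v (nat_lit 2))) (.v (nat_lit 3))), (.mul (.v (nat_lit 2)) (.v (nat_lit 0)))), ((.mul (.v (nat_lit 5)) (.v (nat_lit 1))), (.mul (.v (nat_lit 1)) (.v (nat_lit 5)))), ((.mul (.mul (.v (nat_lit 3)) (.v (nat_lit 5))) (.v (nat_lit 3))), (.mul (.v (nat_lit 5)) (.v (nat_lit 1)))), ((.mul (.mul (.v (nat_lit 5)) (.v (nat_lit 2))) (.v (nat_lit 5))), (.mul (.mul (.v (nat_lit 1)) (.v (nat_lit 2))) (.v (nat_lit 0)))), ((.mul (.mul (.v (nat_lit 5)) (.v (nat_lit 4))) (.v (nat_lit 5))), (.mul (.mul (.mul (.v (nat_lit 1)) (.v (nat_lit 2))) (.v (nat_lit 3))) (.v (nat_lit 4))))] from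 t)
    (AllEq.append (show AllEq [z, u, v, a, b, r, y, p] [((.pw (.v (nat_lit 7)) (nat_lit 3)), .one), ((.mul (.mul (.v (nat_lit 7)) (.v (nat_lit 0))) (.inv (.v (nat_lit 7)))), (.v (nat_lit 1))), ((.mul (.mul (.v (nat_lit 7)) (.v (nat_lit 1))) (.inv (.v (nat_lit 7)))), (.mul (.v (nat_lit 0)) (.v (nat_lit 1)))), ((.mul (.mul (.v (nat_lit 7)) (.v (nat_lit 2))) (.inv (.v (nat_lit 7)))), (.v (nat_lit 2))), ((.mul (.mul (.v (nat_lit 7)) (.v (nat_lit 5))) (.inv (.v (nat_lit 7)))), (.v (nat_lit 3))), ((.mul (.mul (.v (nat_lit 7)) (.v (nat_lit 3))) (.inv (.v (nat_lit 7)))), (.mul (.mul (.v (nat_lit 4)) (.v (nat_lit 5))) (.v (nat_lit 4)))), ((.pw (.mul (.v (nat_lit 4)) (.v (nat_lit 7))) (nat_lit 2)), .one)] from w)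
    (AllEq.append (show AllEq [z, u, v, a, b, r, y, p] [((.pw (.v (nat_lit 6)) (nat_lit 3)), .one), ((.mul (.v (nat_lit 6)) (.v (nat_lit 0))), (.mul (.v (nat_lit 0)) (.v (nat_lit 6)))), ((.mul (.mul (.v (nat_lit 6)) (.v (nat_lit 1))) (.inv (.v (nat_lit 6)))), (.v (nat_lit 2))), ((.mul (.mul (.v (nat_lit 6)) (.v (nat_lit 2))) (.inv (.v (nat_lit 6)))), (.mul (.mul (.v (nat_lit 0)) (.v (nat_lit 1))) (.v (nat_lit 2)))), ((.mul (.mul (.v (nat_lit 6)) (.v (nat_lit 3))) (.inv (.v (nat_lit 6)))), (.v (nat_lit 4))), ((.mul (.mul (.v (nat_lit 6)) (.v (nat_lit 4))) (.inv (.v (nat_lit 6)))), (.mul (.mul (.v (nat_lit 0)) (.v (nat_lit 3))) (.v (nat_lit 4)))), ((.mul (.mul (.v (nat_lit 5)) (.v (nat_lit 6))) (.inv (.v (nat_lit 5)))), (.inv (.v (nat_lit 6))))] from n)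
    (show AllEq [z, u, v, a, b, r, y, p] [((.pw (.mul (.v (nat_lit 6)) (.inv (.v (nat_lit 7)))) (nat_lit 3)), (.mul (.v (nat_lit 0)) (.v (nat_lit 1))))] from ⟨e, trivial⟩))))
    [(.v (nat_lit 0)), (.v (nat_lit 1)), (.v (nat_lit 2)), (.v (nat_lit 3)), (.v (nat_lit 4)), (.v (nat_lit 5)), (.v (nat_lit 6)), (.inv (.v (nat_lit 6))), (.v (nat_lit 7)), (.inv (.v (nat_lit 7)))] (by decide +kernel)
noncomputable def m14_0_S0 : List ℕ := [nat_lit 0x17000014006020, nat_lit 0x2300000700000c004016, nat_lit 0x27000007000010004018, nat_lit 0x2b000007000014000022, nat_lit 0x2f000007000018008022, nat_lit 0x3300000700001c00001a, nat_lit 0x3700000b000010004014, nat_lit 0x3f00000b00001c00001500001c, nat_lit 0x4300000f000018008024, nat_lit 0x4700000f00001c00001e, nat_lit 0x5300000200004c004024, nat_lit 0x5b00001500001d008016, nat_lit 0x5b00001500003300002400201c, nat_lit 0x67000023000028004014, nat_lit 0x67000006000038004018,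 nat_lit 0x6700002300000700001800005400c026, nat_lit 0x2900003d00a020, nat_lit 0x6b00000600003c008022, nat_lit 0x6b00006800003e008024, nat_lit 0x6f00000a00004800001a, nat_lit 0x7300000e00004c004016, nat_lit 0x3900004100005100c022, nat_lit 0x7700001200005800001a, nat_lit 0x7f00001a00004800004d00001c, nat_lit 0x8700001e00007c008022, nat_lit 0x8b00002200005800005900001c, nat_lit 0x8f00004d00005d008016, nat_lit 0x8f00004d00006f00003500201c, nat_lit 0x93000026000060008024, nat_lit 0x9300002600001500001d000088010026, nat_lit 0x9700004f00001300001c00001500001d000088018028, nat_lit 0x7f00005600005200004b00005000009800007a00008700a028, nat_lit 0x1d00007d00005e000000, nat_lit 0x2e00007d000069000002, nat_lit 0x4000007d00007f000010, nat_lit 0x1500008200004e000002, nat_lit 0x3100008600006e000010, nat_lit 0xc00008a00001a000002, nat_lit 0x5f00008e00009400000c, nat_lit 0x6b00009200003e00000c, nat_lit 0x1700009600004400000c,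 nat_lit 0x9a000072000002, nat_lit 0x9a000076000004, nat_lit 0x9d000046000000, nat_lit 0x9d00004a000002, nat_lit 0x9d00006b00000c, nat_lit 0x570000a200008c000012, nat_lit 0xba000066000000, nat_lit 0xa90000a50000aa004014, nat_lit 0x610000c1000062008016, nat_lit 0x9b0000ae00008400001a, nat_lit 0x9b0000b100009c0000ca00001c, nat_lit 0x9f0000be00005a000057000017000020000064006028, nat_lit 0x9b0000b600000600000b0000200000640000d100009f00a028, nat_lit 0xbd0000d50000ce000000, nat_lit 0x780000da000083000010, nat_lit 0x300000de00003b00000e, nat_lit 0x330000e2000040000012, nat_lit 0x7b0000e600008800000c, nat_lit 0xea000062000000, nat_lit 0xea000079000010, nat_lit 0xf10000ed0000f200001a, nat_lit 0xf10000c50000f20000f500001c, nat_lit 0x5f00001b0000140000500000980000f90000f50000f1016028]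
noncomputable def m14_0_S1 : List ℕ := [nat_lit 0x600000fe00007b00000e, nat_lit 0x1c000102000033000010, nat_lit 0x106000007000000]
noncomputable def m14_0_S : List (List ℕ) := [m14_0_S0, m14_0_S1]
noncomputable def m14_0_defs : List ℕ := [(nat_lit 0x70001500800014006000130070001100000011008000100070000f0080000e0080000d0070000c0080000b0010000a00800009007000080020000800600007007000060000000600800005002000050090000400100004008000030070000300800002007000020020000200800001007000010060000100200001001000010090000000800000007000000060000000200000001000000000000000000000)]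
noncomputable def m14_0_recs : List ℕ := [(nat_lit 0xff0001e0001700000250002501000250002508000250001e000001e0001eff000210001eff0000f0000cff0000200001ff0000e0000bff000200001dff0001500026080001800027000002000026010002000026010001e0001e010002100021000001d00015ff0002200015060000800014010001400014000000e00014020002100017010001700017ff0001000005ff000140001aff0002400017ff0000300000ff0001900008ff0001100006ff0000d00002ff0002300016ff0001b0000cff0000f0001f090002100025020002100024010001700024090001900023010001f00023000001d00022000001e00021000001b0001f01000150001d060001c0000d00000120001c01000110001b01000140001a000000e0001a070001900012070001400019000000d00019010000900019090000800016010000f00016070001200014020000600011010000500010000000c0000f01000030000d01000060000c00000050000b00000040000a000000300009000000200008070000400005),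
  (nat_lit 0xff0000100000ff0000c00006)]
noncomputable def m14_0_T : List (List ℕ × ℕ) := [([0], (nat_lit 0x109))]
noncomputable def m14_0_D : H26.Dag := ⟨[0,1,2,3,4,5,7,6,9,8], [[0,0],
  [1,1],
  [2,2],
  [3,3],
  [4,4],
  [5,5],
  [6,7],
  [7,6],
  [8,9],
  [9,8],
  [2,1,2,1],
  [1,0,1,0],
  [2,0,2,0],
  [1,9,0,8],
  [0,1,9,1,8],
  [2,9,2,8],
  [6,6,6],
  [0,7,0,6],
  [2,7,1,6],
  [0,1,2,7,2,6],
  [0,1,9,6,9,6,9,6]], [], m14_0_defs, m14_0_recs⟩
theorem m14_0_c : m14_0_D.check m14_0_S m14_0_T = true := by decide +kernel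
theorem m14_0 {G : Type*} [Group G] {g : ℕ → G} (hR : Rels g m14_r_R) {H : Subgroup G}
    (hH : ∀ k ∈ [], g k ∈ H) : evA g [0] ∈ H :=
  mem_dag (K := 10) (J := [0,1,2,3,4,5,6,7,8,9,10,11,12,26,27,28,32,33,34,35,39]) (D := m14_0_D) (by decide +kernel) m14_0_c (by decide +kernel) hR hH
theorem m14 {G : Type*} [Group G] {z u v a b r y p : G}
    (t : TB z u v a b r)
    (w : PB z u v a b r p)
    (n : YG z u v a b r y)
    (e : (y * p⁻¹) ^ 3 = z * u) :
    z = 1 :=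
  mul_inv_eq_one.1 ((evA_eq_tm ((InvI.cons t.1 (InvI.cons t.2.1 (InvI.cons t.2.2.1 (InvI.cons t.2.2.2.1 (InvI.cons t.2.2.2.2.1 (InvI.cons t.2.2.2.2.2.1 InvI.nil)))))) : InvI [z, u, v, a, b, r, y, p] [(nat_lit 0), (nat_lit 1), (nat_lit 2), (nat_lit 3), (nat_lit 4), (nat_lit 5)]) [(.v (nat_lit 0)), (.v (nat_lit 1)), (.v (nat_lit 2)), (.v (nat_lit 3)), (.v (nat_lit 4)), (.v (nat_lit 5)), (.v (nat_lit 6)), (.inv (.v (nat_lit 6))), (.v (nat_lit 7)), (.inv (.v (nat_lit 7)))] [0] (.mul (.v (nat_lit 0)) (.inv .one)) (by decide +kernel)).symm.trans (Subgroup.mem_bot.1 (m14_0 (m14_r t w n e) (H := ⊥) (List.forall_mem_nil _))))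
noncomputable def m15_r_R : List (List ℕ) := [[0,0],
  [1,1],
  [2,2],
  [3,3],
  [4,4],
  [5,5],
  [6,7],
  [7,6],
  [8,9],
  [9,8],
  [2,1,2,1],
  [1,0,1,0],
  [2,0,2,0],
  [3,0,3,0],
  [4,0,4,0],
  [5,0,5,0],
  [3,1,3,1],
  [4,2,4,2],
  [4,3,4,3],
  [1,0,4,1,4],
  [2,0,3,2,3],
  [1,5,1,5],
  [5,1,3,5,3],
  [1,2,0,5,2,5],
  [1,2,3,4,5,4,5],
  [8,8,8],
  [1,9,0,8],
  [0,1,9,1,8],
  [2,9,2,8],
  [3,9,5,8],
  [4,5,4,9,3,8],
  [8,4,8,4],
  [6,6,6],
  [0,7,0,6],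
  [2,7,1,6],
  [0,1,2,7,2,6],
  [4,7,3,6],
  [0,3,4,7,4,6],
  [6,5,6,5],
  [0,2,9,6,9,6,9,6]]
theorem m15_r {G : Type*} [Group G] {z u v a b r y p : G}
    (t : TB z u v a b r)
    (w : PB z u v a b r p)
    (n : YG z u v a b r y)
    (e : (y * p⁻¹) ^ 3 = z * v) :
    Rels (nthG [z, u, v, a, b, r, y, y⁻¹, p, p⁻¹]) m15_r_R :=
  rels_of_eqs ((InvI.cons t.1 (InvI.cons t.2.1 (InvI.cons t.2.2.1 (InvI.cons t.2.2.2.1 (InvI.cons t.2.2.2.2.1 (InvI.cons t.2.2.2.2.2.1 InvI.nil)))))) : InvI [z, u, v, a, b, r, y, p] [(nat_lit 0), (nat_lit 1), (nat_lit 2), (nat_lit 3), (nat_lit 4), (nat_lit 5)])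
    (AllEq.append (show AllEq [z, u, v, a, b, r, y, p] [((.mul (.v (nat_lit 0)) (.v (nat_lit 0))), .one), ((.mul (.v (nat_lit 1)) (.v (nat_lit 1))), .one), ((.mul (.v (nat_lit 2)) (.v (nat_lit 2))), .one), ((.mul (.v (nat_lit 3)) (.v (nat_lit 3))), .one), ((.mul (.v (nat_lit 4)) (.v (nat_lit 4))), .one), ((.mul (.v (nat_lit 5)) (.v (nat_lit 5))), .one), ((.mul (.v (nat_lit 1)) (.v (nat_lit 2))), (.mul (.v (nat_lit 2)) (.v (nat_lit 1)))), ((.mul (.v (nat_lit 0)) (.v (nat_lit 1))), (.mul (.v (nat_lit 1)) (.v (nat_lit 0)))), ((.mul (.v (nat_lit 0)) (.v (nat_lit 2))), (.mul (.v (nat_lit 2)) (.v (nat_lit 0)))), ((.mul (.v (nat_lit 0)) (.v (nat_lit 3))), (.mul (.v (nat_lit 3)) (.v (nat_lit 0)))), ((.mul (.v (nat_lit 0)) (.v (nat_lit 4))), (.mul (.v (nat_lit 4)) (.v (nat_lit 0)))), ((.mul (.v (nat_lit 0)) (.v (nat_lit 5))), (.mul (.v (nat_lit 5)) (.v (nat_lit 0)))), ((.mul (.v (nat_lit 1)) (.v (nat_lit 3))), (.mul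 (.v (nat_lit 3)) (.v (nat_lit 1)))), ((.mul (.v (nat_lit 2)) (.v (nat_lit 4))), (.mul (.v (nat_lit 4)) (.v (nat_lit 2)))), ((.mul (.v (nat_lit 3)) (.v (nat_lit 4))), (.mul (.v (nat_lit 4)) (.v (nat_lit 3)))), ((.mul (.mul (.v (nat_lit 4)) (.v (nat_lit 1))) (.v (nat_lit 4))), (.mul (.v (nat_lit 1)) (.v (nat_lit 0)))), ((.mul (.mul (.v (nat_lit 3)) (.v (nat_lit 2))) (.v (nat_lit 3))), (.mul (.v (nat_lit 2)) (.v (nat_lit 0)))), ((.mul (.v (nat_lit 5)) (.v (nat_lit 1))), (.mul (.v (nat_lit 1)) (.v (nat_lit 5)))), ((.mul (.mul (.v (nat_lit 3)) (.v (nat_lit 5))) (.v (nat_lit 3))), (.mul (.v (nat_lit 5)) (.v (nat_lit 1)))), ((.mul (.mul (.v (nat_lit 5)) (.v (nat_lit 2))) (.v (nat_lit 5))), (.mul (.mul (.v (nat_lit 1)) (.v (nat_lit 2))) (.v (nat_lit 0)))), ((.mul (.mul (.v (nat_lit 5)) (.v (nat_lit 4))) (.v (nat_lit 5))), (.mul (.mul (.mul (.v (nat_lit 1)) (.v (nat_lit 2))) (.v (nat_lit 3))) (.v (nat_lit 4))))] from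 t)
    (AllEq.append (show AllEq [z, u, v, a, b, r, y, p] [((.pw (.v (nat_lit 7)) (nat_lit 3)), .one), ((.mul (.mul (.v (nat_lit 7)) (.v (nat_lit 0))) (.inv (.v (nat_lit 7)))), (.v (nat_lit 1))), ((.mul (.mul (.v (nat_lit 7)) (.v (nat_lit 1))) (.inv (.v (nat_lit 7)))), (.mul (.v (nat_lit 0)) (.v (nat_lit 1)))), ((.mul (.mul (.v (nat_lit 7)) (.v (nat_lit 2))) (.inv (.v (nat_lit 7)))), (.v (nat_lit 2))), ((.mul (.mul (.v (nat_lit 7)) (.v (nat_lit 5))) (.inv (.v (nat_lit 7)))), (.v (nat_lit 3))), ((.mul (.mul (.v (nat_lit 7)) (.v (nat_lit 3))) (.inv (.v (nat_lit 7)))), (.mul (.mul (.v (nat_lit 4)) (.v (nat_lit 5))) (.v (nat_lit 4)))), ((.pw (.mul (.v (nat_lit 4)) (.v (nat_lit 7))) (nat_lit 2)), .one)] from w)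
    (AllEq.append (show AllEq [z, u, v, a, b, r, y, p] [((.pw (.v (nat_lit 6)) (nat_lit 3)), .one), ((.mul (.v (nat_lit 6)) (.v (nat_lit 0))), (.mul (.v (nat_lit 0)) (.v (nat_lit 6)))), ((.mul (.mul (.v (nat_lit 6)) (.v (nat_lit 1))) (.inv (.v (nat_lit 6)))), (.v (nat_lit 2))), ((.mul (.mul (.v (nat_lit 6)) (.v (nat_lit 2))) (.inv (.v (nat_lit 6)))), (.mul (.mul (.v (nat_lit 0)) (.v (nat_lit 1))) (.v (nat_lit 2)))), ((.mul (.mul (.v (nat_lit 6)) (.v (nat_lit 3))) (.inv (.v (nat_lit 6)))), (.v (nat_lit 4))), ((.mul (.mul (.v (nat_lit 6)) (.v (nat_lit 4))) (.inv (.v (nat_lit 6)))), (.mul (.mul (.v (nat_lit 0)) (.v (nat_lit 3))) (.v (nat_lit 4)))), ((.mul (.mul (.v (nat_lit 5)) (.v (nat_lit 6))) (.inv (.v (nat_lit 5)))), (.inv (.v (nat_lit 6))))] from n)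
    (show AllEq [z, u, v, a, b, r, y, p] [((.pw (.mul (.v (nat_lit 6)) (.inv (.v (nat_lit 7)))) (nat_lit 3)), (.mul (.v (nat_lit 0)) (.v (nat_lit 2))))] from ⟨e, trivial⟩))))
    [(.v (nat_lit 0)), (.v (nat_lit 1)), (.v (nat_lit 2)), (.v (nat_lit 3)), (.v (nat_lit 4)), (.v (nat_lit 5)), (.v (nat_lit 6)), (.inv (.v (nat_lit 6))), (.v (nat_lit 7)), (.inv (.v (nat_lit 7)))] (by decide +kernel)
noncomputable def m15_0_S0 : List ℕ := [nat_lit 0x17000014006022, nat_lit 0x1f00001c00601a, nat_lit 0x2300000700000c004016, nat_lit 0x27000007000010004018, nat_lit 0x2b000007000014000024, nat_lit 0x2f00002c006022, nat_lit 0x2f000007000018008024, nat_lit 0x3300000700001c00001c, nat_lit 0x3700003400601a, nat_lit 0x3f00000b000014000026, nat_lit 0x4700000b00001c00001d00001e, nat_lit 0x4b00004800601a, nat_lit 0x4b00000b00002000801c, nat_lit 0x4b00000b00000800003800c01e, nat_lit 0x53000050006022, nat_lit 0x5300000f000018008026,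 nat_lit 0x5700000f00001c000020, nat_lit 0x5b00005800601a, nat_lit 0x67000002000060004026, nat_lit 0x73000031000036004016, nat_lit 0x7300001f00000c00000901001e, nat_lit 0x7b000023000028004014, nat_lit 0x7b00000a00003c004018, nat_lit 0x7b00002300000700001800006800c028, nat_lit 0x7f00000a000040000024, nat_lit 0x7f00002300002c000026, nat_lit 0x83000080006022, nat_lit 0x8300000a000044008024, nat_lit 0x8300007c00005e008026, nat_lit 0x8300007c00005600000e000054010028, nat_lit 0x3900007500006a008026, nat_lit 0x87000012000060004016, nat_lit 0x8f00001a000068004018, nat_lit 0x8f000016000088004026, nat_lit 0x9b000026000064008020, nat_lit 0xa30000a000601a, nat_lit 0xab000032000078000024, nat_lit 0xab000036000098000026, nat_lit 0xaf00007a00006200009c00c01e, nat_lit 0xb3000042000070008026, nat_lit 0xb300004200001d0000290000a8010028, nat_lit 0xb700005f00006400801c, nat_lit 0xbb000089000099008014, nat_lit 0xbb00006300006000007d01001e,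 nat_lit 0xc30000c0006022, nat_lit 0xc700006700006c000020, nat_lit 0xcb0000c800601a, nat_lit 0xcb00007100006e0000a400c01e, nat_lit 0x8d0000bd0000ba00801c, nat_lit 0xcf0000b50000c1008018, nat_lit 0xd30000d00000c600009f00004300004c0000ac00602a, nat_lit 0xc700005d00005a00003b00004c0000ac0000c90000d300a02a, nat_lit 0x6c0000cd0000c7000010, nat_lit 0x1a0000d2000081000000, nat_lit 0x3e0000d2000071000002, nat_lit 0x10000d200004a00000c, nat_lit 0x150000d600008600000c, nat_lit 0x540000da00008300000e, nat_lit 0x390000da00006a00000c, nat_lit 0x630000de0000b8000010, nat_lit 0x8b0000e20000ad000010, nat_lit 0x5b0000e6000051000010, nat_lit 0xea000066000004, nat_lit 0xee0000a6000000]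
noncomputable def m15_0_S1 : List ℕ := [nat_lit 0xf20000bb000002, nat_lit 0xf20000aa000004, nat_lit 0xf600004e000000, nat_lit 0x950000c90000d300006b00001700002000007800009101e02a, nat_lit 0x9800010e0000ab00000c, nat_lit 0x10a000112000032000000, nat_lit 0x2100011200002e000010, nat_lit 0x2000011500005b000012, nat_lit 0x5000115000046000010, nat_lit 0x9300011a0000a800000c, nat_lit 0x1300011e00005000000e, nat_lit 0x6f0001220000b400000c, nat_lit 0x1260000a100012d000004, nat_lit 0x12a0000fa000004, nat_lit 0x6300012a0000b0000010, nat_lit 0x12e00009e000002, nat_lit 0x13a000105000004, nat_lit 0xc30000fd0001010001410000c4006028, nat_lit 0xb10001450000b2008026, nat_lit 0x6f00001b0000140000110001350000640000c000e02a, nat_lit 0x14d00013d00014e00014900001e, nat_lit 0x14d00006f00001b0000140000640000c000015101a02a, nat_lit 0x13200014e00015500014d00c020, nat_lit 0x7000015900009300000e, nat_lit 0x1c00015e000033000010, nat_lit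 0x162000007000000]
noncomputable def m15_0_S : List (List ℕ) := [m15_0_S0, m15_0_S1]
noncomputable def m15_0_defs : List ℕ := [(nat_lit 0x70001a0000001a0090001900800019007000180060001800100018009000170070001500900013006000120070001100900010008000100090000f0060000d0070000c0020000b0090000a0010000a007000080060000800200008006000070010000700700006008000050020000500900004001000040090000300800003007000030060000300900002008000020070000200600002002000020090000100800001007000010060000100200001001000010090000000800000007000000060000000200000001000000000000000000000)]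
noncomputable def m15_0_recs : List ℕ := [(nat_lit 0x1800018020000a00013ff0001c00016ff0002e00022ff0002d00018ff0001f00013ff0000800003ff000210000aff0001700004ff0002000014ff000230000bff0001900005ff0001a00031080002a00034020002700033000003100027010002800032090003100032020001a00031070002f0003008000210002e020002b0002e00000180002d02000290002c010001b0002c01000260002b02000250002a000001d0002a090002700028020001800026070002100023000001900023000001700021010001f00013020001400020010001900020000001000020070001f00020020000a0001f000000f0001f07000190001e000000e0001e01000090001e08000080001c000000d0001c070001700019090001500016020000600015010000500014070001300014010000d00012000000700012090001100012000000c0001102000040000f090000c0000d01000060000c00000050000b070000a0000b00000040000a000000300009000000200008090000600007070000400005),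
  (nat_lit 0xff0000100000ff0000c00006ff0001b00024020002f0002f000002f0002f080002f0001b010002f0002f020003000030020002200018010001b0001bff0002b00018020000a00004020001b00024ff0002c0001bff0001300004ff0002900024ff0001500006ff0000300000ff000110000cff0000700016ff000120000dff0002a00025000000d00016020002b00022010001800022)]
noncomputable def m15_0_T : List (List ℕ × ℕ) := [([0], (nat_lit 0x165))]
noncomputable def m15_0_D : H26.Dag := ⟨[0,1,2,3,4,5,7,6,9,8], [[0,0],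
  [1,1],
  [2,2],
  [3,3],
  [4,4],
  [5,5],
  [6,7],
  [7,6],
  [8,9],
  [9,8],
  [2,1,2,1],
  [1,0,1,0],
  [2,0,2,0],
  [8,8,8],
  [1,9,0,8],
  [0,1,9,1,8],
  [2,9,2,8],
  [6,6,6],
  [0,7,0,6],
  [2,7,1,6],
  [0,1,2,7,2,6],
  [0,2,9,6,9,6,9,6]], [], m15_0_defs, m15_0_recs⟩
theorem m15_0_c : m15_0_D.check m15_0_S m15_0_T = true := by decide +kernel
theorem m15_0 {G : Type*} [Group G] {g : ℕ → G} (hR : Rels g m15_r_R) {H : Subgroup G}
    (hH : ∀ k ∈ [], g k ∈ H) : evA g [0] ∈ H :=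
  mem_dag (K := 10) (J := [0,1,2,3,4,5,6,7,8,9,10,11,12,25,26,27,28,32,33,34,35,39]) (D := m15_0_D) (by decide +kernel) m15_0_c (by decide +kernel) hR hH
theorem m15 {G : Type*} [Group G] {z u v a b r y p : G}
    (t : TB z u v a b r)
    (w : PB z u v a b r p)
    (n : YG z u v a b r y)
    (e : (y * p⁻¹) ^ 3 = z * v) :
    z = 1 :=
  mul_inv_eq_one.1 ((evA_eq_tm ((InvI.cons t.1 (InvI.cons t.2.1 (InvI.cons t.2.2.1 (InvI.cons t.2.2.2.1 (InvI.cons t.2.2.2.2.1 (InvI.cons t.2.2.2.2.2.1 InvI.nil)))))) : InvI [z, u, v, a, b, r, y, p] [(nat_lit 0), (nat_lit 1), (nat_lit 2), (nat_lit 3), (nat_lit 4), (nat_lit 5)]) [(.v (nat_lit 0)), (.v (nat_lit 1)), (.v (nat_lit 2)), (.v (nat_lit 3)), (.v (nat_lit 4)), (.v (nat_lit 5)), (.v (nat_lit 6)), (.inv (.v (nat_lit 6))), (.v (nat_lit 7)), (.inv (.v (nat_lit 7)))] [0] (.mul (.v (nat_lit 0)) (.inv .one)) (by decide +kernel)).symm.trans (Subgroup.mem_bot.1 (m15_0 (m15_r t w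 n e) (H := ⊥) (List.forall_mem_nil _))))
noncomputable def m16_r_R : List (List ℕ) := [[0,0],
  [1,1],
  [2,2],
  [3,3],
  [4,4],
  [5,5],
  [6,7],
  [7,6],
  [8,9],
  [9,8],
  [2,1,2,1],
  [1,0,1,0],
  [2,0,2,0],
  [3,0,3,0],
  [4,0,4,0],
  [5,0,5,0],
  [3,1,3,1],
  [4,2,4,2],
  [4,3,4,3],
  [1,0,4,1,4],
  [2,0,3,2,3],
  [1,5,1,5],
  [5,1,3,5,3],
  [1,2,0,5,2,5],
  [1,2,3,4,5,4,5],
  [8,8,8],
  [1,9,0,8],
  [0,1,9,1,8],
  [2,9,2,8],
  [3,9,5,8],
  [4,5,4,9,3,8],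
  [8,4,8,4],
  [6,6,6],
  [0,7,0,6],
  [2,7,1,6],
  [0,1,2,7,2,6],
  [4,7,3,6],
  [0,3,4,7,4,6],
  [6,5,6,5],
  [1,2,9,6,9,6,9,6]]
theorem m16_r {G : Type*} [Group G] {z u v a b r y p : G}
    (t : TB z u v a b r)
    (w : PB z u v a b r p)
    (n : YG z u v a b r y)
    (e : (y * p⁻¹) ^ 3 = u * v) :
    Rels (nthG [z, u, v, a, b, r, y, y⁻¹, p, p⁻¹]) m16_r_R :=
  rels_of_eqs ((InvI.cons t.1 (InvI.cons t.2.1 (InvI.cons t.2.2.1 (InvI.cons t.2.2.2.1 (InvI.cons t.2.2.2.2.1 (InvI.cons t.2.2.2.2.2.1 InvI.nil)))))) : InvI [z, u, v, a, b, r, y, p] [(nat_lit 0), (nat_lit 1), (nat_lit 2), (nat_lit 3), (nat_lit 4), (nat_lit 5)])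
    (AllEq.append (show AllEq [z, u, v, a, b, r, y, p] [((.mul (.v (nat_lit 0)) (.v (nat_lit 0))), .one), ((.mul (.v (nat_lit 1)) (.v (nat_lit 1))), .one), ((.mul (.v (nat_lit 2)) (.v (nat_lit 2))), .one), ((.mul (.v (nat_lit 3)) (.v (nat_lit 3))), .one), ((.mul (.v (nat_lit 4)) (.v (nat_lit 4))), .one), ((.mul (.v (nat_lit 5)) (.v (nat_lit 5))), .one), ((.mul (.v (nat_lit 1)) (.v (nat_lit 2))), (.mul (.v (nat_lit 2)) (.v (nat_lit 1)))), ((.mul (.v (nat_lit 0)) (.v (nat_lit 1))), (.mul (.v (nat_lit 1)) (.v (nat_lit 0)))), ((.mul (.v (nat_lit 0)) (.v (nat_lit 2))), (.mul (.v (nat_lit 2)) (.v (nat_lit 0)))), ((.mul (.v (nat_lit 0)) (.v (nat_lit 3))), (.mul (.v (nat_lit 3)) (.v (nat_lit 0)))), ((.mul (.v (nat_lit 0)) (.v (nat_lit 4))), (.mul (.v (nat_lit 4)) (.v (nat_lit 0)))), ((.mul (.v (nat_lit 0)) (.v (nat_lit 5))), (.mul (.v (nat_lit 5)) (.v (nat_lit 0)))), ((.mul (.v (nat_lit 1)) (.v (nat_lit 3))), (.mul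 (.v (nat_lit 3)) (.v (nat_lit 1)))), ((.mul (.v (nat_lit 2)) (.v (nat_lit 4))), (.mul (.v (nat_lit 4)) (.v (nat_lit 2)))), ((.mul (.v (nat_lit 3)) (.v (nat_lit 4))), (.mul (.v (nat_lit 4)) (.v (nat_lit 3)))), ((.mul (.mul (.v (nat_lit 4)) (.v (nat_lit 1))) (.v (nat_lit 4))), (.mul (.v (nat_lit 1)) (.v (nat_lit 0)))), ((.mul (.mul (.v (nat_lit 3)) (.v (nat_lit 2))) (.v (nat_lit 3))), (.mul (.v (nat_lit 2)) (.v (nat_lit 0)))), ((.mul (.v (nat_lit 5)) (.v (nat_lit 1))), (.mul (.v (nat_lit 1)) (.v (nat_lit 5)))), ((.mul (.mul (.v (nat_lit 3)) (.v (nat_lit 5))) (.v (nat_lit 3))), (.mul (.v (nat_lit 5)) (.v (nat_lit 1)))), ((.mul (.mul (.v (nat_lit 5)) (.v (nat_lit 2))) (.v (nat_lit 5))), (.mul (.mul (.v (nat_lit 1)) (.v (nat_lit 2))) (.v (nat_lit 0)))), ((.mul (.mul (.v (nat_lit 5)) (.v (nat_lit 4))) (.v (nat_lit 5))), (.mul (.mul (.mul (.v (nat_lit 1)) (.v (nat_lit 2))) (.v (nat_lit 3))) (.v (nat_lit 4))))] from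 t)
    (AllEq.append (show AllEq [z, u, v, a, b, r, y, p] [((.pw (.v (nat_lit 7)) (nat_lit 3)), .one), ((.mul (.mul (.v (nat_lit 7)) (.v (nat_lit 0))) (.inv (.v (nat_lit 7)))), (.v (nat_lit 1))), ((.mul (.mul (.v (nat_lit 7)) (.v (nat_lit 1))) (.inv (.v (nat_lit 7)))), (.mul (.v (nat_lit 0)) (.v (nat_lit 1)))), ((.mul (.mul (.v (nat_lit 7)) (.v (nat_lit 2))) (.inv (.v (nat_lit 7)))), (.v (nat_lit 2))), ((.mul (.mul (.v (nat_lit 7)) (.v (nat_lit 5))) (.inv (.v (nat_lit 7)))), (.v (nat_lit 3))), ((.mul (.mul (.v (nat_lit 7)) (.v (nat_lit 3))) (.inv (.v (nat_lit 7)))), (.mul (.mul (.v (nat_lit 4)) (.v (nat_lit 5))) (.v (nat_lit 4)))), ((.pw (.mul (.v (nat_lit 4)) (.v (nat_lit 7))) (nat_lit 2)), .one)] from w)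
    (AllEq.append (show AllEq [z, u, v, a, b, r, y, p] [((.pw (.v (nat_lit 6)) (nat_lit 3)), .one), ((.mul (.v (nat_lit 6)) (.v (nat_lit 0))), (.mul (.v (nat_lit 0)) (.v (nat_lit 6)))), ((.mul (.mul (.v (nat_lit 6)) (.v (nat_lit 1))) (.inv (.v (nat_lit 6)))), (.v (nat_lit 2))), ((.mul (.mul (.v (nat_lit 6)) (.v (nat_lit 2))) (.inv (.v (nat_lit 6)))), (.mul (.mul (.v (nat_lit 0)) (.v (nat_lit 1))) (.v (nat_lit 2)))), ((.mul (.mul (.v (nat_lit 6)) (.v (nat_lit 3))) (.inv (.v (nat_lit 6)))), (.v (nat_lit 4))), ((.mul (.mul (.v (nat_lit 6)) (.v (nat_lit 4))) (.inv (.v (nat_lit 6)))), (.mul (.mul (.v (nat_lit 0)) (.v (nat_lit 3))) (.v (nat_lit 4)))), ((.mul (.mul (.v (nat_lit 5)) (.v (nat_lit 6))) (.inv (.v (nat_lit 5)))), (.inv (.v (nat_lit 6))))] from n)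
    (show AllEq [z, u, v, a, b, r, y, p] [((.pw (.mul (.v (nat_lit 6)) (.inv (.v (nat_lit 7)))) (nat_lit 3)), (.mul (.v (nat_lit 1)) (.v (nat_lit 2))))] from ⟨e, trivial⟩))))
    [(.v (nat_lit 0)), (.v (nat_lit 1)), (.v (nat_lit 2)), (.v (nat_lit 3)), (.v (nat_lit 4)), (.v (nat_lit 5)), (.v (nat_lit 6)), (.inv (.v (nat_lit 6))), (.v (nat_lit 7)), (.inv (.v (nat_lit 7)))] (by decide +kernel)
noncomputable def m16_0_S0 : List ℕ := [nat_lit 0x23000020006040, nat_lit 0x2b000028006032, nat_lit 0x2f00000700000c004016, nat_lit 0x33000007000010004018, nat_lit 0x3700000700001400401a, nat_lit 0x3b00000700001800401c, nat_lit 0x3f00000700001c00401e, nat_lit 0x43000007000020000042, nat_lit 0x47000007000024008042, nat_lit 0x4b000007000028000034, nat_lit 0x5300000b000010004014, nat_lit 0x5700000b000014004020, nat_lit 0x5b00000900002f00003c00c026, nat_lit 0x5f00000b00001c00802a, nat_lit 0x6300000b000020000044, nat_lit 0x6700000b000028000025000036,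 nat_lit 0x6b000068006032, nat_lit 0x6b00000b00002c008034, nat_lit 0x6b00000b00000800005000c036, nat_lit 0x6f00000d00003300003800c028, nat_lit 0x7f00007c006040, nat_lit 0x7f00000f000024008044, nat_lit 0x8300000f000028000038, nat_lit 0x8700000f00002c008038, nat_lit 0x8b00001100004d004018, nat_lit 0x8b000013000008000034010028, nat_lit 0x8f000013000018004024, nat_lit 0x9300001300000c00006001002c, nat_lit 0x97000013000020000048, nat_lit 0x9f00009c006032, nat_lit 0x9f00001300002c00803a, nat_lit 0xa3000015000031004016, nat_lit 0xa3000017000008000030010026, nat_lit 0xaf0000ac006040, nat_lit 0xb300001700002c00403e, nat_lit 0xbf00003500006d004020, nat_lit 0xbf00003500005f00005800c02c, nat_lit 0xcb00001b00002800003a, nat_lit 0xcf0000cc006032, nat_lit 0xdf0000dc006032, nat_lit 0xe30000020000d4004044, nat_lit 0xe70000020000d8004048, nat_lit 0xef00002500003d008016, nat_lit 0xf700002b00000c000009010036, nat_lit 0x10700002f000034004014,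 nat_lit 0x10700000a000054004018, nat_lit 0x10700002f0000070000240000e400c046, nat_lit 0xa10000b900a040, nat_lit 0xbb00001b00000c0000540000b500a02e, nat_lit 0x10b00002f000038004020, nat_lit 0x10f00002f00004000802a, nat_lit 0x10f00000a00005400002a00007801002e, nat_lit 0x11300000a000064000042, nat_lit 0x11300002f000044000044, nat_lit 0x117000114006040, nat_lit 0x1170001080000b200000e000080010046, nat_lit 0x510000dd0000da008044, nat_lit 0x11b00000e00007400401c, nat_lit 0x11b00003300003c004022, nat_lit 0x11f00000e00007800401e, nat_lit 0x11f0000b10000c100802a, nat_lit 0x11f00000e00000f00000c00006001002e, nat_lit 0x12300000e000084000034, nat_lit 0x127000124006032]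
noncomputable def m16_0_S1 : List ℕ := [nat_lit 0x12b00003700003c004024, nat_lit 0x12b0000370000070000240000e800c04a, nat_lit 0xa500010500a040, nat_lit 0x12f00001200009400401e, nat_lit 0x12f00003700003000011001002c, nat_lit 0x133000012000098000042, nat_lit 0x133000037000044000048, nat_lit 0x137000134006040, nat_lit 0x13700012c0001020000160000b001004a, nat_lit 0x8500012100011e008048, nat_lit 0x13b00001200009c000034, nat_lit 0x1430000160000a800401e, nat_lit 0x147000101000109000048, nat_lit 0x720000d800013100c024, nat_lit 0x14b000148006040, nat_lit 0x14b00003b000048008048, nat_lit 0x1530000c90000ce004014, nat_lit 0x15300001a0000bc004018, nat_lit 0x15300003f00000700001000002901402e, nat_lit 0x15700001a0000c000401a, nat_lit 0x1570000c9000111004020, nat_lit 0x1570000c900010f00010c00c02c, nat_lit 0x15b00001a0000c8008042, nat_lit 0x15b00003f00004400a04c, nat_lit 0x1630000d50000e1008014, nat_lit 0x16300001e0000d4004016,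 nat_lit 0x16700001e0000dc000034, nat_lit 0x16b000168006032, nat_lit 0x16f0000220000e4004018, nat_lit 0x1730000260000f4000044, nat_lit 0x17b00002a000070004020, nat_lit 0x17b0000b500010700010c00c028, nat_lit 0x17f0000b50000b200011c00c026, nat_lit 0x18300002a0000840000f9000036, nat_lit 0x187000184006032, nat_lit 0x18b00002e00008c004014, nat_lit 0x18b000057000009000108010028, nat_lit 0x18f00002e000098000044, nat_lit 0x18f000057000064000048, nat_lit 0x19300002e0000a0008034, nat_lit 0x19300002e00001100014000c036, nat_lit 0x19700003200014400802a, nat_lit 0x19b00005b00006c00403e, nat_lit 0x19f000032000150008034, nat_lit 0x19f00005b00006800a03e, nat_lit 0x19f0000320000160000b800c036, nat_lit 0x1a700005f00006400a04c, nat_lit 0x1ab0000360000d0008034, nat_lit 0x1ab00003600001900016000c036, nat_lit 0x1af00003a0000dc000038, nat_lit 0x1b30001b0006032, nat_lit 0x1bb00003e000174000042, nat_lit 0x1bf0001bc006040, nat_lit 0x1c30000420001b800403a,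 nat_lit 0x1c7000046000100000042, nat_lit 0x1c700004a000178000044, nat_lit 0x1cb000046000104008042, nat_lit 0x1cf00006f00000f00000c0000600001a4010030, nat_lit 0x1d700006f00007c000048, nat_lit 0x19a0000d10000e10001e900c026, nat_lit 0x1db00004e00013c000038, nat_lit 0x1df00004e000140008038, nat_lit 0x1df00006f00008800803a, nat_lit 0x1df0001d00001e60001a30001ac01003c]
noncomputable def m16_0_S2 : List ℕ := [nat_lit 0x1e30000e5000181004016, nat_lit 0x1e300007300000d0000b1010026, nat_lit 0x1e70000e50000ea00003100019801002e, nat_lit 0x1e700007300007000004e0000c5000155014030, nat_lit 0x1eb0000ed0000f600006d00c028, nat_lit 0x1eb0000cd0000ca00003f00003c00014400c030, nat_lit 0x1ef00007700007c00a04c, nat_lit 0x1fb0001f8006032, nat_lit 0x1fb0000e20000d20001b400c036, nat_lit 0x1c900022100021e008034, nat_lit 0x1ff0000520001f4004048, nat_lit 0x2030000560000ec008034, nat_lit 0x2070000f9000185008016, nat_lit 0x20700005a0000f0008018,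 nat_lit 0x2070000f90001230000b1002036, nat_lit 0x20b0002080002360000aa0001b801002e, nat_lit 0x213000210006040, nat_lit 0x21300005a00002500003d0001c0010046, nat_lit 0x1d1000245000242008044, nat_lit 0x2170000870000290000b5010036, nat_lit 0x21b0001f90001fe0001c200002c, nat_lit 0x21b0000870000740001e800020e01403c, nat_lit 0x22300005e000104008044, nat_lit 0x22700006600011c004024, nat_lit 0x22700006600000e00008000020000c04a, nat_lit 0x22900026100a040, nat_lit 0x22b0000660000b10000c101002c, nat_lit 0x22b00006200004e0000c500015501002e, nat_lit 0x22b00022800025e0000ea000031000198014030, nat_lit 0x1c300006b00005c00019800027101403c, nat_lit 0x2750001d6004032, nat_lit 0x22f0000620001d8000042, nat_lit 0x23300008b00009c000038, nat_lit 0x23300022c00027a00003a, nat_lit 0x23700006a0000a4008020, nat_lit 0x23b00008f000013000010000029000149014030, nat_lit 0x23f00008f0000a000403e, nat_lit 0x243000211000216004022, nat_lit 0x24300006e0001a4004024,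 nat_lit 0x24300006e0000f50000f20000c2000205010030, nat_lit 0x24700009300009800a04c, nat_lit 0x24b00009300009c00003a, nat_lit 0x23e0002850002820002a5004028, nat_lit 0x2a900020b00020800801e, nat_lit 0x24f00024c006032, nat_lit 0x24f00008d00014d00025500c036, nat_lit 0x24f00024400029e00020600024d01003c, nat_lit 0x2530001950001ee008014, nat_lit 0x2570000720000e000403e, nat_lit 0x25b0000720000dc00a03e, nat_lit 0x25f0002a50002ae00023200a02c, nat_lit 0x26700007600026000403a, nat_lit 0x26700009f00009000023c00028e01403c, nat_lit 0x26b00007a00010400404c, nat_lit 0x27300007e00019800401e, nat_lit 0x2730000a30000a800802a, nat_lit 0x27300028900023700023c01002c, nat_lit 0x27300008200010c00017d00017a0001d4014030, nat_lit 0x27700012d000295004018, nat_lit 0x2770000a70000150000e900018101402e, nat_lit 0x1120000ce00014100014a0001800002ed00c030, nat_lit 0x27b0002dd0002e2004020, nat_lit 0x27b00012d00029500029a00c028, nat_lit 0x27f0000a700001700002c0000fc00c03c]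
noncomputable def m16_0_S3 : List ℕ := [nat_lit 0x27f0000a700001700001400008c00018d018030, nat_lit 0x2830000a70000b400003a, nat_lit 0x2830002800002fe00403e, nat_lit 0x28700008a00000600009500009900803c, nat_lit 0x28b0000b700001700001c0000c401403c, nat_lit 0x28f00014500028d00401c, nat_lit 0x28f0000bb0000c4004022, nat_lit 0x28f000269000272004024, nat_lit 0x28f00026900026e00015200012f00012c010030, nat_lit 0x29300014d00020d00401c, nat_lit 0x29300014d0001520002f200c026, nat_lit 0x2930000bf0000bc0000f100011f00011c010030, nat_lit 0x29f0001bd0001fd00401a, nat_lit 0x2a70000d30000d8004020, nat_lit 0x2a70001650001620001f400c028, nat_lit 0x2ab0000be000191004048, nat_lit 0x2ab00016500016300011900c026, nat_lit 0x2af0000d30000dc000169000036, nat_lit 0x2b30000d30000e0008034, nat_lit 0x2b700033500033a004014, nat_lit 0x2bb00010a00032100804c, nat_lit 0x2c3000169000345008016, nat_lit 0x2c30001c5000226008018, nat_lit 0x2d300009e0002c800403a,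 nat_lit 0x2db0002d8006040, nat_lit 0x2df0000b900020500c048, nat_lit 0x2df00017100016f00013d00c028, nat_lit 0x2e700010500032100604c, nat_lit 0x2f70000f700007900026800c02c, nat_lit 0x2f70000ae0000810002740002e601403c, nat_lit 0x2fb0000fb000100000048, nat_lit 0x30b00025d000265000048, nat_lit 0x1ea0001f400037d00c024, nat_lit 0x30f00011b00012800403e, nat_lit 0x3130000f600003600001900015c010046, nat_lit 0x3170000fa00005a0000270000200000e00002d800604e, nat_lit 0x31b00012f00013400a04c, nat_lit 0x31f000116000258000034, nat_lit 0x3230002150001eb0000ed00031401004a, nat_lit 0x32700012e000284000034, nat_lit 0x32b000135000254008020, nat_lit 0x32b00013900036900c044, nat_lit 0x3650003a5008040, nat_lit 0x33300015a00029c000034, nat_lit 0x33300015e00016800003a, nat_lit 0x33b00016a0002c800802a, nat_lit 0x34300016e00033c00403a, nat_lit 0x3470001760002f4008038, nat_lit 0x34b00017700004f0000340000b10000ba0002e401404e, nat_lit 0x34f00017f00018800403e,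 nat_lit 0x353000196000258000038, nat_lit 0x35700031d00036d000048, nat_lit 0x2eb0000eb0000e80002e80003cd01403c, nat_lit 0x35b00019700019c00003a, nat_lit 0x35b00027100027500403e, nat_lit 0x35b0001a600032800039e000036, nat_lit 0x2ff0001030000890003050003dd01404a, nat_lit 0x35f0001ae00033000401a, nat_lit 0x35f0001b600028c004020, nat_lit 0x3630002f90002f6000315000351010046, nat_lit 0x3630001a300006d00010d00031c01004a, nat_lit 0x34300016b0001190003910003f101403c, nat_lit 0x3f50003ba004032, nat_lit 0x3670001a70001a40002990002e901404a]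
noncomputable def m16_0_S4 : List ℕ := [nat_lit 0x36b0001ba0001b000003a, nat_lit 0x3730001bf0001b10003600003e601404a, nat_lit 0x3770001bf0000a900023500023a0000bd0002b400a04e, nat_lit 0x37b0001de00034c0003c20002e30000b900024d00204e, nat_lit 0x37f0001e2000304000034, nat_lit 0x387000384006032, nat_lit 0x3870001ea0001f800a03e, nat_lit 0x38b0001fa00022000a04c, nat_lit 0x38b0001f60001a100019e000270010046, nat_lit 0x38f000202000350000034, nat_lit 0x39300020a00035c000038, nat_lit 0x39300020e00025500403e, nat_lit 0x39700021a0001f800003a, nat_lit 0x40200022600043100c01a, nat_lit 0x39b00037d0003810002bd0002530002a1014030, nat_lit 0x2d30000df0000710002a100043901403c, nat_lit 0x43d00035e004032, nat_lit 0x39f00039c00044200003a, nat_lit 0x3b200016a0002c800044500c02c, nat_lit 0x3a30002250001c600016900033c01002e, nat_lit 0x3ed0003fa00044d00c038, nat_lit 0x3ab0003a8006040, nat_lit 0x3ab000359000356000346000340010046, nat_lit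 0x3af00022e0002f0000042, nat_lit 0x3b7000249000370008034, nat_lit 0x3b70002490001ce00034800c036, nat_lit 0x3bb000246000374004022, nat_lit 0x3bb0002420003b4004048, nat_lit 0x3bf00021b000220000048, nat_lit 0x3c300025a000304000411000036, nat_lit 0x3c70003c4006032, nat_lit 0x3c700025a000308008034, nat_lit 0x3cb00027e000384000034, nat_lit 0x3cf00023b00024000003a, nat_lit 0x3cf00028e0002d100403e, nat_lit 0x3c600018a0002c90002cd00048900403c, nat_lit 0x3d300048500048d00042500a02c, nat_lit 0x3d30002920000760002a50002b100803c, nat_lit 0x24300025000049500003e, nat_lit 0x3d70002a200025800003a, nat_lit 0x3d700043900043d00403e, nat_lit 0x3db0002b60003c0000044, nat_lit 0x3db0002ba00040d000048, nat_lit 0x37a0001d900037c0004a900c026, nat_lit 0x3df0002be000384000038, nat_lit 0x3e300039500031f000341002036, nat_lit 0x3eb0003e8006040, nat_lit 0x3eb0002c20002dc008048, nat_lit 0x3f30003f0006040, nat_lit 0x3f30002c60002d0008048,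 nat_lit 0x3f70002630001290001f10001db0001d800038800a04e, nat_lit 0x3fb00026700026c000048, nat_lit 0x3ff0002d600030400003a, nat_lit 0x4070002da00035c000034, nat_lit 0x4070002e600037500403e, nat_lit 0x40b0002ea00049a000034, nat_lit 0x40f00030e0002a000033200038c01004a, nat_lit 0x41300031200031900c038, nat_lit 0x4130003e90003e600040500046900c046, nat_lit 0x46d0004e900a040, nat_lit 0x417000326000394000034, nat_lit 0x41700032e00031000003a, nat_lit 0x41700029300029800403e, nat_lit 0x41700032a00040c0004de000036]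
noncomputable def m16_0_S5 : List ℕ := [nat_lit 0x41b0003ad00044a00802a, nat_lit 0x423000346000340008042, nat_lit 0x42300035500035a0001f70000510002040003b000604e, nat_lit 0x427000409006040, nat_lit 0x42700034a0002dc008042, nat_lit 0x42b0002b70002c0000038, nat_lit 0x42b00034e0003a0000501000036, nat_lit 0x42f00051500051a008018, nat_lit 0x43300043000051e00050200044901002e, nat_lit 0x38a00033400052100c038, nat_lit 0x5250003130000f20000bb0000d00002a400042000a04e, nat_lit 0x4370002c30002cc000042, nat_lit 0x43b0002c30002d0008042, nat_lit 0x43b00035a0003ac008044, nat_lit 0x43f0002c70002cc00a04c, nat_lit 0x43f0003b500044d0004510003520004e50004ed00604e, nat_lit 0x3b70003b400053d00053a00803a, nat_lit 0x52e000541000462000000, nat_lit 0x541000466000002, nat_lit 0x54500052e000000, nat_lit 0x54500043700000e, nat_lit 0x3a700035900055100054e00054a0003be00e046, nat_lit 0x55500045500000c, nat_lit 0x5360005590002f30000f300000500010400030400404e,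 nat_lit 0x41200055d00053600045a008014, nat_lit 0x506000561000475000000, nat_lit 0x47a00056500050a000012, nat_lit 0x45d00056900047e000000, nat_lit 0x56e000307000010, nat_lit 0x4d200055d0005320004c5006028, nat_lit 0x4430002d30002d8000048, nat_lit 0x447000444006040, nat_lit 0x44f00036200044c004048, nat_lit 0x4530002eb0002f0000048, nat_lit 0x2ff00057100058500003e, nat_lit 0x4f200042a00035b0003580003d10004540005890003e200204e, nat_lit 0x3dd00058d0004fe000000, nat_lit 0x4d600058d0004f2000002, nat_lit 0x3d500058d0004f6000006, nat_lit 0x3d900058d0004fa000008, nat_lit 0x35c00058d000417000010, nat_lit 0x305000592000492000006, nat_lit 0x309000592000496000008, nat_lit 0x42d0005950004da000008, nat_lit 0x1a900059a000386000008, nat_lit 0x27500059e000297000012, nat_lit 0x1a50005a200032a000002, nat_lit 0xb40005a600038f000010, nat_lit 0x2fb0005aa0003dc00000e, nat_lit 0x2fe0005aa00024f000012, nat_lit 0x2510005ae00037200000a,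 nat_lit 0x410005b20000fe000010, nat_lit 0x910005b500022b00000a, nat_lit 0x3230005ba0003fd00000c, nat_lit 0xab0005be0003aa00000e, nat_lit 0x5c20004ad000002, nat_lit 0x5c20004a6000004, nat_lit 0x940005c500030200000a, nat_lit 0x5c50002fe000012, nat_lit 0x3370005ca0003fc00000e, nat_lit 0x1bf0005ce00031800000c, nat_lit 0x18f0005d200023000000e, nat_lit 0x3990005d6000367000008, nat_lit 0x1250005da0003a2000006]
noncomputable def m16_0_S6 : List ℕ := [nat_lit 0x970005e600033d00000e, nat_lit 0x5ee0004ce000008, nat_lit 0x3770005f200038e000012, nat_lit 0x3530005f60003cc000012, nat_lit 0x36b0005f9000526000012, nat_lit 0x31f0005fe0003e0000012, nat_lit 0x2570006020004b5000012, nat_lit 0x36200060900050d00000e, nat_lit 0x60e000482000002, nat_lit 0x61200052a00000e, nat_lit 0x6160004b2000004, nat_lit 0x61a0003e3000000, nat_lit 0x61e000512000000, nat_lit 0x44f00063100045000c01c, nat_lit 0x4be00063100036200057900057d00804a, nat_lit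 0x6390004be000450004024, nat_lit 0x57d0006390004ba008048, nat_lit 0x58100063500063d0006390004ba00604a, nat_lit 0x49e0003e800064500c048, nat_lit 0x6420006450006490004a200044401604a, nat_lit 0x64100064d00064200c01a, nat_lit 0x64600065100064500c01c, nat_lit 0x64a000655000649008042, nat_lit 0x44f0002db0002c100049d00065901404a, nat_lit 0x5e10005dd0002fb0005e90002480003d800065d00804e, nat_lit 0x63e00066100047200041d0004e101403c, nat_lit 0x4e100066500063900803e, nat_lit 0x669000422000404000038, nat_lit 0x66d0003eb00062d00039500062a00a046, nat_lit 0x6210003ca0003ec00066e000672016046, nat_lit 0x416000675000415000034, nat_lit 0x4ca0006790004c9000044, nat_lit 0x3ef00025b00009700009c0002640003f800067d00004e, nat_lit 0x6810004c100057500c044, nat_lit 0x6850004ca004040, nat_lit 0x62500043600043200041900068900604a, nat_lit 0x60600040000068d00041f00e03e, nat_lit 0x2a400069100033700000c, nat_lit 0xd000069600015f000012, nat_lit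 0x1c00069a00003f00000a, nat_lit 0x69e000007000000]
noncomputable def m16_0_S : List (List ℕ) := [m16_0_S0, m16_0_S1, m16_0_S2, m16_0_S3, m16_0_S4, m16_0_S5, m16_0_S6]
noncomputable def m16_0_defs : List ℕ := [(nat_lit 0x60000a0030000a0010000a00600009000000090090000800400008002000080090000700800007003000070010000700900006008000060070000600400006003000060020000600900005008000050070000500600005005000050010000500900004008000040060000400500004004000040020000400900003008000030070000300600003005000030040000300300003009000020080000200600002005000020040000200300002002000020090000100800001007000010060000100500001004000010030000100200001001000010090000000800000007000000060000000500000004000000030000000200000001000000000000000000000),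
  (nat_lit 0x40001f0090001e0080001e0030001e0070001d0030001d0050001c0010001c0090001b0080001b0060001b0050001b0040001b0070001a0060001a0030001a0070001900600019005000190090001800800018009000170070001700400017009000160080001600500016009000150060001500200015009000140080001400400014003000140060001300600012002000110090001000800010001000100090000f0070000f0030000f0020000f0090000e0070000e0060000e0050000e0090000d0080000d0070000d0060000d0050000d0040000d0090000c0080000c0050000c0040000c0070000b0060000b0050000b0030000b0020000b0070000a),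
  (nat_lit 0x4000400060003e0030003d0090003c0060003a0030003a00500039008000380030003800700037006000370030003700700036006000360050003600000036008000350050003500200035009000340080003400400034003000340060003300300033008000310090002f0040002f0040002e0030002d0050002c00800029004000290030002900200029005000280070002700600027003000270070002600500026009000250080002500100025009000240080002400700024004000240080002300500023001000230080002200600022005000220040002200700021006000210030002100100021007000200060002000500020000000200090001f),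
  (nat_lit 0x80009a006000990080009800700096006000960070009500600095000000950080009400600093008000910050008f0080008e0080008b009000880080008800600086004000840090008300300083006000800070007d0060007d0050007d0080007c0050007c0080007b008000790080007800700077009000750080007500800072001000710080006f0040006f0090006e008000690040006900700068003000670080006500600065008000630080005f0090005d0090005c0030005a00700059005000590060005700800056003000530010005100800050007000500080004c0070004b007000480070004700800046006000460090004000800040),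
  (nat_lit 0x6000ba004000b6003000b5007000b4006000b4007000b1007000b0006000b0005000af000000af008000ad007000ac007000ab009000a8005000a6008000a4002000a2007000a10080009d0080009c0080009b)]
noncomputable def m16_0_recs : List ℕ := [(nat_lit 0x90004800049010002000048020001700047010002e00047000001d00047020000e00046000001c0004601000440001e020001f00045070004400045020001000044000001800044020001d00043010000f00043010000d0004205000410002e070004100034070003800041000001400041010000c00041080000b0003d01000190003b07000350003907000340003809000360003709000320003303000090003205000150002f01000240002f040000a0002c070002a0002b040000b00028000001600028050000a00027090002600027040000700025030001700024030000500023030000c00022000001b00022020000a0002102000090002001000080001f070001e0001f020000d0001b01000130001a000000a0001a09000190001a000001200019020000700018010000600017010000e0001601000040001501000030001401000090001200000080001100000070001000000060000f00000050000e00000040000d00000030000c00000020000b09000090000a070000700008),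
  (nat_lit 0x30006a00077050002100077020004f00077020004e00076010007500063040001e00075050006800073000004000072020005d00071000003f00071090006d00070070006e0006f000005c0006e090006b0006c02000360006b01000570006a00000330006a050001800069010002d00067040001900067000005300067040001a00066010005000065010004f0006400000270006404000180006302000250006303000410006201000220006209000600006100000480006001000460005f02000420005e010001b0005e020003c0005c00000380005b09000590005a010003600059000003400058020001e00058050001000056000003100056050004200055010004b00055000002f00055050001400054000002e00054010001d0005403000110005207000510005203000510002504000350005100000290005001000260004e030004c0002a040002b0004d070004c0004d04000100004c00000250004c03000430004b00000240004b070004a0003507000390004a030000e0004a),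
  (nat_lit 0x90003e0009f02000680009e010008e0009e040009d0004b050005f0009d00000900009d04000740009c030008e0009c01000290009c00000650009c05000400009a08000540009909000970009903000600009704000360009604000370009502000750009403000850009301000860009309000920009305000810009200000920008203000260009205000250009105000780009003000680009002000500009004000270008f04000540008e03000280008d030006d0008c02000260008c00000750008b080006d0008a080008a0007004000650008a02000550008a030002e0008a07000890007c070007f0008903000460008901000400008808000550008605000570008608000410008501000830006e020006f00084070008300084020006d00082090004100081020003b00081010006000081000003a00080070007c0007f000007d0006b010006c0007e090007d0007e050001e0007b04000500007a02000240007a040005500079020006500079040004100078000005f00078),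
  (nat_lit 0x60009d000d908000ce000d808000d8000d004000c6000d802000ae000d801000a2000d700000cb000d706000d6000bf00000a0000d60400070000d60300066000d608000d5000ba04000b9000d50200095000d40400061000d306000b8000d202000bc000d109000ce000d001000b1000ce0300059000cc01000a6000cc06000ca0007806000b7000ca0300094000ca01000a0000c904000c4000c80100095000c7050004c000c608000b5000c50200056000c40400049000c303000c200075040007c000c2040003f000be0800074000bd0500099000bd07000a3000b90200052000b70600078000b707000b5000b609000b1000b4020007d000b001000ab000b006000a3000ae010007c000ad0000037000ac0000059000ab010004c000aa0700062000aa020007c000a90100035000a90000077000a70500046000a4010009d000a40000079000a4050004a000a30300065000a30200030000a3000008e000a30800030000a20400033000a1040003e000a0030002c000a005000620009f),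
  (nat_lit 0xf40010504000a50010503000c30010501000e4001050700104000ec07000ee0010408000a30010404000e20010301000f40010204000bd0010101000d60010103000c0000ff040009a000fe07000e1000fd03000b3000fc07000fb000fc03000b6000fa07000f9000fa09000aa000f802000e0000f701000f6000be04000de000f602000ef000f604000b4000f50300095000f508000f4000900400093000f403000e3000f405000f3000d30400099000f3030008f000f301000e0000f200000c1000f109000f0000f100000df000f00400087000ef07000ec000ee02000dc000ee01000d1000ed00000db000ed00000bb000eb02000cf000ea07000e9000ea08000e8000ae02000ce000e805000e7000cc03000b1000e708000b1000e608000e6000b40400091000e600000e5000da030007d000e50400086000e402000d6000e401000d3000e3020009b000e20500087000e2040007d000e109000e0000e101000c0000df0700085000de07000ac000dd06000cb000dc030006b000da),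
  (nat_lit 0xff000940004cff00069000c4ff0008b00063ff000c50006fff000fe000cd090003e00024ff000620000402000ef000be01000be000beff000ca0002aff000d9000c8ff0002200015ff0004800019ff0009900057ff000240009fff000f6000beff0007800005ff0009d00050ff0002f0008aff000490001aff000bd00086ff000930003eff000e30002cff000a400065ff000a500070ff000c300066ff000e400101ff000f4000a0ff000d6001050800114000bf04000bb0011407001120011307001100011104000b50011002000fc000ff0800040000bbff000c1000bbff000eb000f1ff000f000108ff000cf000df02000c00010e06000ea000bcff000bc000e907000b0000db00000b2000db01000d1000b2ff000db0010dff000b2000ed08000ec0010f05000b20010f01000ea0010e00000b30010e00000b20010d07001070010c080010c000c402000cc0010c02001060010b00001060010a02000af0010a00000b60010907000dd0010908000eb0010800000cf0010801000e700106),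
  (nat_lit 0xff0000100000ff0000f00006ff0005700033ff000a8000cd04000ff0010706000e1000ff06000ff000fd01000fd000fb02000fd000fd01000e1000e100000e0000e006000e0001000200100000fa08000fa000e20800103001110900113000ef06000f50011300000f5000f500001120011200000f9000f90000110001100600112000f504000f90011203000f9001100300113001110400111000fa00001130011300000b6000b600000950009502000e0000c70700107000da01000e0000d4ff00109000b6ff000f800095ff000f7000c7ff0010c000daff000f2000d4ff000b5000dd040009a000cdff000aa00025)]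
noncomputable def m16_0_T : List (List ℕ × ℕ) := [([0], (nat_lit 0x6a1))]
noncomputable def m16_0_D : H26.Dag := ⟨[0,1,2,3,4,5,7,6,9,8], [[0,0],
  [1,1],
  [2,2],
  [3,3],
  [4,4],
  [5,5],
  [6,7],
  [7,6],
  [8,9],
  [9,8],
  [2,1,2,1],
  [1,0,1,0],
  [2,0,2,0],
  [3,0,3,0],
  [4,0,4,0],
  [5,0,5,0],
  [3,1,3,1],
  [4,2,4,2],
  [4,3,4,3],
  [1,0,4,1,4],
  [2,0,3,2,3],
  [1,5,1,5],
  [5,1,3,5,3],
  [1,2,0,5,2,5],
  [1,2,3,4,5,4,5],
  [8,8,8],
  [1,9,0,8],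
  [0,1,9,1,8],
  [2,9,2,8],
  [3,9,5,8],
  [4,5,4,9,3,8],
  [8,4,8,4],
  [6,6,6],
  [0,7,0,6],
  [2,7,1,6],
  [0,1,2,7,2,6],
  [4,7,3,6],
  [0,3,4,7,4,6],
  [6,5,6,5],
  [1,2,9,6,9,6,9,6]], [], m16_0_defs, m16_0_recs⟩
theorem m16_0_c : m16_0_D.check m16_0_S m16_0_T = true := by decide +kernel
theorem m16_0 {G : Type*} [Group G] {g : ℕ → G} (hR : Rels g m16_r_R) {H : Subgroup G}
    (hH : ∀ k ∈ [], g k ∈ H) : evA g [0] ∈ H :=
  mem_dag (K := 10) (J := [0,1,2,3,4,5,6,7,8,9,10,11,12,13,14,15,16,17,18,19,20,21,22,23,24,25,26,27,28,29,30,31,32,33,34,35,36,37,38,39]) (D := m16_0_D) (by decide +kernel) m16_0_c (by decide +kernel) hR hH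
theorem m16 {G : Type*} [Group G] {z u v a b r y p : G}
    (t : TB z u v a b r)
    (w : PB z u v a b r p)
    (n : YG z u v a b r y)
    (e : (y * p⁻¹) ^ 3 = u * v) :
    z = 1 :=
  mul_inv_eq_one.1 ((evA_eq_tm ((InvI.cons t.1 (InvI.cons t.2.1 (InvI.cons t.2.2.1 (InvI.cons t.2.2.2.1 (InvI.cons t.2.2.2.2.1 (InvI.cons t.2.2.2.2.2.1 InvI.nil)))))) : InvI [z, u, v, a, b, r, y, p] [(nat_lit 0), (nat_lit 1), (nat_lit 2), (nat_lit 3), (nat_lit 4), (nat_lit 5)]) [(.v (nat_lit 0)), (.v (nat_lit 1)), (.v (nat_lit 2)), (.v (nat_lit 3)), (.v (nat_lit 4)), (.v (nat_lit 5)), (.v (nat_lit 6)), (.inv (.v (nat_lit 6))), (.v (nat_lit 7)), (.inv (.v (nat_lit 7)))] [0] (.mul (.v (nat_lit 0)) (.inv .one)) (by decide +kernel)).symm.trans (Subgroup.mem_bot.1 (m16_0 (m16_r t w n e) (H := ⊥) (List.forall_mem_nil _))))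
noncomputable def m17_r_R : List (List ℕ) := [[0,0],
  [1,1],
  [2,2],
  [3,3],
  [4,4],
  [5,5],
  [6,7],
  [7,6],
  [8,9],
  [9,8],
  [2,1,2,1],
  [1,0,1,0],
  [2,0,2,0],
  [3,0,3,0],
  [4,0,4,0],
  [5,0,5,0],
  [3,1,3,1],
  [4,2,4,2],
  [4,3,4,3],
  [1,0,4,1,4],
  [2,0,3,2,3],
  [1,5,1,5],
  [5,1,3,5,3],
  [1,2,0,5,2,5],
  [1,2,3,4,5,4,5],
  [8,8,8],
  [1,9,0,8],
  [0,1,9,1,8],
  [2,9,2,8],
  [3,9,5,8],
  [4,5,4,9,3,8],
  [8,4,8,4],
  [6,6,6],
  [0,7,0,6],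
  [2,7,1,6],
  [0,1,2,7,2,6],
  [4,7,3,6],
  [0,3,4,7,4,6],
  [6,5,6,5],
  [0,1,2,9,6,9,6,9,6]]
theorem m17_r {G : Type*} [Group G] {z u v a b r y p : G}
    (t : TB z u v a b r)
    (w : PB z u v a b r p)
    (n : YG z u v a b r y)
    (e : (y * p⁻¹) ^ 3 = z * u * v) :
    Rels (nthG [z, u, v, a, b, r, y, y⁻¹, p, p⁻¹]) m17_r_R :=
  rels_of_eqs ((InvI.cons t.1 (InvI.cons t.2.1 (InvI.cons t.2.2.1 (InvI.cons t.2.2.2.1 (InvI.cons t.2.2.2.2.1 (InvI.cons t.2.2.2.2.2.1 InvI.nil)))))) : InvI [z, u, v, a, b, r, y, p] [(nat_lit 0), (nat_lit 1), (nat_lit 2), (nat_lit 3), (nat_lit 4), (nat_lit 5)])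
    (AllEq.append (show AllEq [z, u, v, a, b, r, y, p] [((.mul (.v (nat_lit 0)) (.v (nat_lit 0))), .one), ((.mul (.v (nat_lit 1)) (.v (nat_lit 1))), .one), ((.mul (.v (nat_lit 2)) (.v (nat_lit 2))), .one), ((.mul (.v (nat_lit 3)) (.v (nat_lit 3))), .one), ((.mul (.v (nat_lit 4)) (.v (nat_lit 4))), .one), ((.mul (.v (nat_lit 5)) (.v (nat_lit 5))), .one), ((.mul (.v (nat_lit 1)) (.v (nat_lit 2))), (.mul (.v (nat_lit 2)) (.v (nat_lit 1)))), ((.mul (.v (nat_lit 0)) (.v (nat_lit 1))), (.mul (.v (nat_lit 1)) (.v (nat_lit 0)))), ((.mul (.v (nat_lit 0)) (.v (nat_lit 2))), (.mul (.v (nat_lit 2)) (.v (nat_lit 0)))), ((.mul (.v (nat_lit 0)) (.v (nat_lit 3))), (.mul (.v (nat_lit 3)) (.v (nat_lit 0)))), ((.mul (.v (nat_lit 0)) (.v (nat_lit 4))), (.mul (.v (nat_lit 4)) (.v (nat_lit 0)))), ((.mul (.v (nat_lit 0)) (.v (nat_lit 5))), (.mul (.v (nat_lit 5)) (.v (nat_lit 0)))), ((.mul (.v (nat_lit 1)) (.v (nat_lit 3))), (.mul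 (.v (nat_lit 3)) (.v (nat_lit 1)))), ((.mul (.v (nat_lit 2)) (.v (nat_lit 4))), (.mul (.v (nat_lit 4)) (.v (nat_lit 2)))), ((.mul (.v (nat_lit 3)) (.v (nat_lit 4))), (.mul (.v (nat_lit 4)) (.v (nat_lit 3)))), ((.mul (.mul (.v (nat_lit 4)) (.v (nat_lit 1))) (.v (nat_lit 4))), (.mul (.v (nat_lit 1)) (.v (nat_lit 0)))), ((.mul (.mul (.v (nat_lit 3)) (.v (nat_lit 2))) (.v (nat_lit 3))), (.mul (.v (nat_lit 2)) (.v (nat_lit 0)))), ((.mul (.v (nat_lit 5)) (.v (nat_lit 1))), (.mul (.v (nat_lit 1)) (.v (nat_lit 5)))), ((.mul (.mul (.v (nat_lit 3)) (.v (nat_lit 5))) (.v (nat_lit 3))), (.mul (.v (nat_lit 5)) (.v (nat_lit 1)))), ((.mul (.mul (.v (nat_lit 5)) (.v (nat_lit 2))) (.v (nat_lit 5))), (.mul (.mul (.v (nat_lit 1)) (.v (nat_lit 2))) (.v (nat_lit 0)))), ((.mul (.mul (.v (nat_lit 5)) (.v (nat_lit 4))) (.v (nat_lit 5))), (.mul (.mul (.mul (.v (nat_lit 1)) (.v (nat_lit 2))) (.v (nat_lit 3))) (.v (nat_lit 4))))] from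 t)
    (AllEq.append (show AllEq [z, u, v, a, b, r, y, p] [((.pw (.v (nat_lit 7)) (nat_lit 3)), .one), ((.mul (.mul (.v (nat_lit 7)) (.v (nat_lit 0))) (.inv (.v (nat_lit 7)))), (.v (nat_lit 1))), ((.mul (.mul (.v (nat_lit 7)) (.v (nat_lit 1))) (.inv (.v (nat_lit 7)))), (.mul (.v (nat_lit 0)) (.v (nat_lit 1)))), ((.mul (.mul (.v (nat_lit 7)) (.v (nat_lit 2))) (.inv (.v (nat_lit 7)))), (.v (nat_lit 2))), ((.mul (.mul (.v (nat_lit 7)) (.v (nat_lit 5))) (.inv (.v (nat_lit 7)))), (.v (nat_lit 3))), ((.mul (.mul (.v (nat_lit 7)) (.v (nat_lit 3))) (.inv (.v (nat_lit 7)))), (.mul (.mul (.v (nat_lit 4)) (.v (nat_lit 5))) (.v (nat_lit 4)))), ((.pw (.mul (.v (nat_lit 4)) (.v (nat_lit 7))) (nat_lit 2)), .one)] from w)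
    (AllEq.append (show AllEq [z, u, v, a, b, r, y, p] [((.pw (.v (nat_lit 6)) (nat_lit 3)), .one), ((.mul (.v (nat_lit 6)) (.v (nat_lit 0))), (.mul (.v (nat_lit 0)) (.v (nat_lit 6)))), ((.mul (.mul (.v (nat_lit 6)) (.v (nat_lit 1))) (.inv (.v (nat_lit 6)))), (.v (nat_lit 2))), ((.mul (.mul (.v (nat_lit 6)) (.v (nat_lit 2))) (.inv (.v (nat_lit 6)))), (.mul (.mul (.v (nat_lit 0)) (.v (nat_lit 1))) (.v (nat_lit 2)))), ((.mul (.mul (.v (nat_lit 6)) (.v (nat_lit 3))) (.inv (.v (nat_lit 6)))), (.v (nat_lit 4))), ((.mul (.mul (.v (nat_lit 6)) (.v (nat_lit 4))) (.inv (.v (nat_lit 6)))), (.mul (.mul (.v (nat_lit 0)) (.v (nat_lit 3))) (.v (nat_lit 4)))), ((.mul (.mul (.v (nat_lit 5)) (.v (nat_lit 6))) (.inv (.v (nat_lit 5)))), (.inv (.v (nat_lit 6))))] from n)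
    (show AllEq [z, u, v, a, b, r, y, p] [((.pw (.mul (.v (nat_lit 6)) (.inv (.v (nat_lit 7)))) (nat_lit 3)), (.mul (.mul (.v (nat_lit 0)) (.v (nat_lit 1))) (.v (nat_lit 2))))] from ⟨e, trivial⟩))))
    [(.v (nat_lit 0)), (.v (nat_lit 1)), (.v (nat_lit 2)), (.v (nat_lit 3)), (.v (nat_lit 4)), (.v (nat_lit 5)), (.v (nat_lit 6)), (.inv (.v (nat_lit 6))), (.v (nat_lit 7)), (.inv (.v (nat_lit 7)))] (by decide +kernel)
noncomputable def m17_0_S0 : List ℕ := [nat_lit 0x17000014006020, nat_lit 0x1f00000700000c004016, nat_lit 0x23000007000010004018, nat_lit 0x27000007000014000022, nat_lit 0x2b000028006020, nat_lit 0x2b000007000018008022, nat_lit 0x3300000b000010004014, nat_lit 0x3700000b000014000024, nat_lit 0x3f00000b00001c00801a, nat_lit 0x3f00000b00000800003000c01c, nat_lit 0x4f00000f00001c00801e, nat_lit 0x5b000002000054004024, nat_lit 0x63000021000026004016, nat_lit 0x6f00001f000024004014, nat_lit 0x6f00001f00000700001800005c00c026,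 nat_lit 0x2d00003900a020, nat_lit 0x73000006000038000022, nat_lit 0x77000074006020, nat_lit 0x7700007000003600000a000048010026, nat_lit 0x7b00000a000044000022, nat_lit 0x7b00003500003d000024, nat_lit 0x1e00005400005100c014, nat_lit 0x7f00007c006020, nat_lit 0x7f00000a000048008022, nat_lit 0x7f00002300002c008024, nat_lit 0x8300000a00004c00001a, nat_lit 0x8700001600006000001a, nat_lit 0x8f00008c006020, nat_lit 0x9300003300003c00001e, nat_lit 0x9300001a00004c00006500001c, nat_lit 0x9b00002600008c000024, nat_lit 0x9f00002200006c008022, nat_lit 0xa7000065000075008016, nat_lit 0xb30000b0006020, nat_lit 0xb300002a00006c008024, nat_lit 0xb300002a000064000032000090010026, nat_lit 0x6d00008d000086008024, nat_lit 0xb700005700001d00005600004e00004300004c0000ac014028, nat_lit 0x9700003700003c0000710000810000a70000ac0000950000b7018028, nat_lit 0x58000099000097000012, nat_lit 0xe00009e000041000000, nat_lit 0x5300009e000056000002,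 nat_lit 0x1400009e00003700000c, nat_lit 0x120000a200004500000e, nat_lit 0x2e0000a600005900000e, nat_lit 0x3d0000a600007b00000c, nat_lit 0x1b0000aa000040000010, nat_lit 0xae00004a000004, nat_lit 0xb200005e000000, nat_lit 0xb2000062000002, nat_lit 0xb5000036000002, nat_lit 0x670000ba00009c00000e, nat_lit 0x6b0000ba0000a000000c, nat_lit 0xce00007a000004, nat_lit 0xd200007e000000, nat_lit 0x8a0000d900008900c016, nat_lit 0x850000dd000086008022, nat_lit 0x920000e100009100c016, nat_lit 0xa30000bd00008800001e, nat_lit 0xbb0000c20000a400001a, nat_lit 0xbb0000c600008800006a00001c, nat_lit 0xbf0000f10000ee0000ea00008700002b00003000008c006028, nat_lit 0xa30000470000090000c900002300003000008c0000f50000bf00a028, nat_lit 0x600000f90000a3000010]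
noncomputable def m17_0_S1 : List ℕ := [nat_lit 0x180000fe00004700000e, nat_lit 0x1b000102000050000010, nat_lit 0x670001060000b000000e, nat_lit 0x10a000091000002, nat_lit 0x8700002b00003000008c0000e500010d0000d60000f50000bf012028, nat_lit 0x60000111000087000010, nat_lit 0x1800011600002b00000e, nat_lit 0x11a000007000000]
noncomputable def m17_0_S : List (List ℕ) := [m17_0_S0, m17_0_S1]
noncomputable def m17_0_defs : List ℕ := [(nat_lit 0x700017008000160060001500700013006000130070001200000012008000110070000f0060000f0090000d0080000c0070000b0060000b0080000a008000080070000800600008007000070060000700200007007000060060000600100006008000050020000500900004001000040090000300800003007000030060000300900002008000020060000200200002009000010070000100600001002000010010000100900000007000000060000000200000001000000000000000000000)]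
noncomputable def m17_0_recs : List ℕ := [(nat_lit 0xff0001100005ff000170002808000220002f00000170002e01000280002e020002100028000002200022000002b0002b000002c0002c000001a0001a020002200019ff000270001aff0002600019010000800008010000a0001600000110001602000110000aff0000f00006ff000080001bff0001f00016ff0001d0000aff0000200000ff0001e00014ff0001c00009ff0000d00004ff0001500025090002a0002d010002b0002202000230002c010001a0002c070002b0002c010002400029000001a00027020002200026000002000024020000e00024070002200023010001700021010001200020010000a0001f00000110001f070001e0001f010001e0000d02000140001e00000100001e02000110001d070001c0001d000000d0001c070001b0001407000160001b01000080001b000000b00018070001400016020000600013010000b0000f00000060000f02000040000d01000030000c00000050000a07000090000a000000400009000000300008000000200007070000400005),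
  (nat_lit 0xff0000100000ff0000a00005ff0001700021010002200019ff0002b00019ff0001300006ff0000300000)]
noncomputable def m17_0_T : List (List ℕ × ℕ) := [([0], (nat_lit 0x11d))]
noncomputable def m17_0_D : H26.Dag := ⟨[0,1,2,3,4,5,7,6,9,8], [[0,0],
  [1,1],
  [2,2],
  [3,3],
  [4,4],
  [5,5],
  [6,7],
  [7,6],
  [8,9],
  [9,8],
  [2,1,2,1],
  [1,0,1,0],
  [2,0,2,0],
  [1,9,0,8],
  [0,1,9,1,8],
  [2,9,2,8],
  [6,6,6],
  [0,7,0,6],
  [2,7,1,6],
  [0,1,2,7,2,6],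
  [0,1,2,9,6,9,6,9,6]], [], m17_0_defs, m17_0_recs⟩
theorem m17_0_c : m17_0_D.check m17_0_S m17_0_T = true := by decide +kernel
theorem m17_0 {G : Type*} [Group G] {g : ℕ → G} (hR : Rels g m17_r_R) {H : Subgroup G}
    (hH : ∀ k ∈ [], g k ∈ H) : evA g [0] ∈ H :=
  mem_dag (K := 10) (J := [0,1,2,3,4,5,6,7,8,9,10,11,12,26,27,28,32,33,34,35,39]) (D := m17_0_D) (by decide +kernel) m17_0_c (by decide +kernel) hR hH
theorem m17 {G : Type*} [Group G] {z u v a b r y p : G}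
    (t : TB z u v a b r)
    (w : PB z u v a b r p)
    (n : YG z u v a b r y)
    (e : (y * p⁻¹) ^ 3 = z * u * v) :
    z = 1 :=
  mul_inv_eq_one.1 ((evA_eq_tm ((InvI.cons t.1 (InvI.cons t.2.1 (InvI.cons t.2.2.1 (InvI.cons t.2.2.2.1 (InvI.cons t.2.2.2.2.1 (InvI.cons t.2.2.2.2.2.1 InvI.nil)))))) : InvI [z, u, v, a, b, r, y, p] [(nat_lit 0), (nat_lit 1), (nat_lit 2), (nat_lit 3), (nat_lit 4), (nat_lit 5)]) [(.v (nat_lit 0)), (.v (nat_lit 1)), (.v (nat_lit 2)), (.v (nat_lit 3)), (.v (nat_lit 4)), (.v (nat_lit 5)), (.v (nat_lit 6)), (.inv (.v (nat_lit 6))), (.v (nat_lit 7)), (.inv (.v (nat_lit 7)))] [0] (.mul (.v (nat_lit 0)) (.inv .one)) (by decide +kernel)).symm.trans (Subgroup.mem_bot.1 (m17_0 (m17_r t w n e) (H := ⊥) (List.forall_mem_nil _))))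
theorem m1 {G : Type*} [Group G] {z u v a b r y p : G}
    (t : TB z u v a b r)
    (w : PB z u v a b r p)
    (n : YG z u v a b r y) (z1 : z ≠ 1)
    (hc : (y * p⁻¹) ^ 3 = 1 ∨ (y * p⁻¹) ^ 3 = z ∨ (y * p⁻¹) ^ 3 = u ∨ (y * p⁻¹) ^ 3 = v ∨ (y * p⁻¹) ^ 3 = z * u ∨ (y * p⁻¹) ^ 3 = z * v ∨ (y * p⁻¹) ^ 3 = u * v ∨ (y * p⁻¹) ^ 3 = z * u * v) :
    (y * p⁻¹) ^ 3 = 1 := by
  rcases hc with e | e | e | e | e | e | e | e
  exacts [e,
    (z1 (m11 t w n e)).elim,
    (z1 (m12 t w n e)).elim,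
    (z1 (m13 t w n e)).elim,
    (z1 (m14 t w n e)).elim,
    (z1 (m15 t w n e)).elim,
    (z1 (m16 t w n e)).elim,
    (z1 (m17 t w n e)).elim]
noncomputable def g0_r_R : List (List ℕ) := [[0,0],
  [1,1],
  [2,2],
  [3,3],
  [4,4],
  [5,5],
  [6,7],
  [7,6],
  [8,9],
  [9,8],
  [2,1,2,1],
  [1,0,1,0],
  [2,0,2,0],
  [3,0,3,0],
  [4,0,4,0],
  [5,0,5,0],
  [3,1,3,1],
  [4,2,4,2],
  [4,3,4,3],
  [1,0,4,1,4],
  [2,0,3,2,3],
  [1,5,1,5],
  [5,1,3,5,3],
  [1,2,0,5,2,5],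
  [1,2,3,4,5,4,5],
  [8,8,8],
  [1,9,0,8],
  [0,1,9,1,8],
  [2,9,2,8],
  [3,9,5,8],
  [4,5,4,9,3,8],
  [8,4,8,4],
  [6,6,6],
  [0,7,0,6],
  [3,7,1,6],
  [1,3,7,3,6],
  [4,7,2,6],
  [2,4,7,4,6],
  [6,5,6,5]]
theorem g0_r {G : Type*} [Group G] {z u v a b r x p : G}
    (t : TB z u v a b r)
    (w : PB z u v a b r p)
    (m : ZG z u v a b r x) :
    Rels (nthG [z, u, v, a, b, r, x, x⁻¹, p, p⁻¹]) g0_r_R :=
  rels_of_eqs ((InvI.cons t.1 (InvI.cons t.2.1 (InvI.cons t.2.2.1 (InvI.cons t.2.2.2.1 (InvI.cons t.2.2.2.2.1 (InvI.cons t.2.2.2.2.2.1 InvI.nil)))))) : InvI [z, u, v, a, b, r, x, p] [(nat_lit 0), (nat_lit 1), (nat_lit 2), (nat_lit 3), (nat_lit 4), (nat_lit 5)])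
    (AllEq.append (show AllEq [z, u, v, a, b, r, x, p] [((.mul (.v (nat_lit 0)) (.v (nat_lit 0))), .one), ((.mul (.v (nat_lit 1)) (.v (nat_lit 1))), .one), ((.mul (.v (nat_lit 2)) (.v (nat_lit 2))), .one), ((.mul (.v (nat_lit 3)) (.v (nat_lit 3))), .one), ((.mul (.v (nat_lit 4)) (.v (nat_lit 4))), .one), ((.mul (.v (nat_lit 5)) (.v (nat_lit 5))), .one), ((.mul (.v (nat_lit 1)) (.v (nat_lit 2))), (.mul (.v (nat_lit 2)) (.v (nat_lit 1)))), ((.mul (.v (nat_lit 0)) (.v (nat_lit 1))), (.mul (.v (nat_lit 1)) (.v (nat_lit 0)))), ((.mul (.v (nat_lit 0)) (.v (nat_lit 2))), (.mul (.v (nat_lit 2)) (.v (nat_lit 0)))), ((.mul (.v (nat_lit 0)) (.v (nat_lit 3))), (.mul (.v (nat_lit 3)) (.v (nat_lit 0)))), ((.mul (.v (nat_lit 0)) (.v (nat_lit 4))), (.mul (.v (nat_lit 4)) (.v (nat_lit 0)))), ((.mul (.v (nat_lit 0)) (.v (nat_lit 5))), (.mul (.v (nat_lit 5)) (.v (nat_lit 0)))), ((.mul (.v (nat_lit 1)) (.v (nat_lit 3))), (.mul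 (.v (nat_lit 3)) (.v (nat_lit 1)))), ((.mul (.v (nat_lit 2)) (.v (nat_lit 4))), (.mul (.v (nat_lit 4)) (.v (nat_lit 2)))), ((.mul (.v (nat_lit 3)) (.v (nat_lit 4))), (.mul (.v (nat_lit 4)) (.v (nat_lit 3)))), ((.mul (.mul (.v (nat_lit 4)) (.v (nat_lit 1))) (.v (nat_lit 4))), (.mul (.v (nat_lit 1)) (.v (nat_lit 0)))), ((.mul (.mul (.v (nat_lit 3)) (.v (nat_lit 2))) (.v (nat_lit 3))), (.mul (.v (nat_lit 2)) (.v (nat_lit 0)))), ((.mul (.v (nat_lit 5)) (.v (nat_lit 1))), (.mul (.v (nat_lit 1)) (.v (nat_lit 5)))), ((.mul (.mul (.v (nat_lit 3)) (.v (nat_lit 5))) (.v (nat_lit 3))), (.mul (.v (nat_lit 5)) (.v (nat_lit 1)))), ((.mul (.mul (.v (nat_lit 5)) (.v (nat_lit 2))) (.v (nat_lit 5))), (.mul (.mul (.v (nat_lit 1)) (.v (nat_lit 2))) (.v (nat_lit 0)))), ((.mul (.mul (.v (nat_lit 5)) (.v (nat_lit 4))) (.v (nat_lit 5))), (.mul (.mul (.mul (.v (nat_lit 1)) (.v (nat_lit 2))) (.v (nat_lit 3))) (.v (nat_lit 4))))] from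 t)
    (AllEq.append (show AllEq [z, u, v, a, b, r, x, p] [((.pw (.v (nat_lit 7)) (nat_lit 3)), .one), ((.mul (.mul (.v (nat_lit 7)) (.v (nat_lit 0))) (.inv (.v (nat_lit 7)))), (.v (nat_lit 1))), ((.mul (.mul (.v (nat_lit 7)) (.v (nat_lit 1))) (.inv (.v (nat_lit 7)))), (.mul (.v (nat_lit 0)) (.v (nat_lit 1)))), ((.mul (.mul (.v (nat_lit 7)) (.v (nat_lit 2))) (.inv (.v (nat_lit 7)))), (.v (nat_lit 2))), ((.mul (.mul (.v (nat_lit 7)) (.v (nat_lit 5))) (.inv (.v (nat_lit 7)))), (.v (nat_lit 3))), ((.mul (.mul (.v (nat_lit 7)) (.v (nat_lit 3))) (.inv (.v (nat_lit 7)))), (.mul (.mul (.v (nat_lit 4)) (.v (nat_lit 5))) (.v (nat_lit 4)))), ((.pw (.mul (.v (nat_lit 4)) (.v (nat_lit 7))) (nat_lit 2)), .one)] from w)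
    (show AllEq [z, u, v, a, b, r, x, p] [((.pw (.v (nat_lit 6)) (nat_lit 3)), .one), ((.mul (.v (nat_lit 6)) (.v (nat_lit 0))), (.mul (.v (nat_lit 0)) (.v (nat_lit 6)))), ((.mul (.mul (.v (nat_lit 6)) (.v (nat_lit 1))) (.inv (.v (nat_lit 6)))), (.v (nat_lit 3))), ((.mul (.mul (.v (nat_lit 6)) (.v (nat_lit 3))) (.inv (.v (nat_lit 6)))), (.mul (.v (nat_lit 1)) (.v (nat_lit 3)))), ((.mul (.mul (.v (nat_lit 6)) (.v (nat_lit 2))) (.inv (.v (nat_lit 6)))), (.v (nat_lit 4))), ((.mul (.mul (.v (nat_lit 6)) (.v (nat_lit 4))) (.inv (.v (nat_lit 6)))), (.mul (.v (nat_lit 2)) (.v (nat_lit 4)))), ((.mul (.mul (.v (nat_lit 5)) (.v (nat_lit 6))) (.inv (.v (nat_lit 5)))), (.inv (.v (nat_lit 6))))] from m)))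
    [(.v (nat_lit 0)), (.v (nat_lit 1)), (.v (nat_lit 2)), (.v (nat_lit 3)), (.v (nat_lit 4)), (.v (nat_lit 5)), (.v (nat_lit 6)), (.inv (.v (nat_lit 6))), (.v (nat_lit 7)), (.inv (.v (nat_lit 7)))] (by decide +kernel)
noncomputable def g0_0_S0 : List ℕ := [nat_lit 0xf00000700000c000016, nat_lit 0x17000002000014008018, nat_lit 0x1f00000600001c008014]
noncomputable def g0_0_S : List (List ℕ) := [g0_0_S0]
noncomputable def g0_0_defs : List ℕ := [(nat_lit 0x90000500900004007000030070000200800001008000000050000000000000)]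
noncomputable def g0_0_recs : List ℕ := [(nat_lit 0x600007010000400005030000200003)]
noncomputable def g0_0_T : List (List ℕ × ℕ) := [([5,8,7,9,0,8,6,9], (nat_lit 0xc00001400001c00000900001f00001700000f000007))]
noncomputable def g0_0_D : H26.Dag := ⟨[0,1,2,3,4,5,7,6,9,8], [[0,0],
  [1,1],
  [2,2],
  [3,3],
  [4,4],
  [5,5],
  [6,7],
  [7,6],
  [8,9],
  [9,8],
  [1,9,0,8],
  [3,9,5,8],
  [3,7,1,6]], [], g0_0_defs, g0_0_recs⟩
theorem g0_0_c : g0_0_D.check g0_0_S g0_0_T = true := by decide +kernel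
theorem g0_0 {G : Type*} [Group G] {g : ℕ → G} (hR : Rels g g0_r_R) {H : Subgroup G}
    (hH : ∀ k ∈ [], g k ∈ H) : evA g [5,8,7,9,0,8,6,9] ∈ H :=
  mem_dag (K := 10) (J := [0,1,2,3,4,5,6,7,8,9,26,29,34]) (D := g0_0_D) (by decide +kernel) g0_0_c (by decide +kernel) hR hH
noncomputable def g0_1_S0 : List ℕ := [nat_lit 0xf00000700000c000014, nat_lit 0x2b00001c000024004014, nat_lit 0x2b00001300002800c018, nat_lit 0x1700000200002800000900601a, nat_lit 0x500000d000020008016]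
noncomputable def g0_1_S : List (List ℕ) := [g0_1_S0]
noncomputable def g0_1_defs : List ℕ := [(nat_lit 0x10000400300002000000060090000500900004007000030070000200800001008000000000000000000000)]
noncomputable def g0_1_recs : List ℕ := [(nat_lit 0x50000700008030000a0000506000090000a09000080000a010000200003)]
noncomputable def g0_1_T : List (List ℕ × ℕ) := [([0,8,7,9,5,0,8,6,9], (nat_lit 0xc00001400001c00002400001200001f00001700000f000007))]
noncomputable def g0_1_D : H26.Dag := ⟨[0,1,2,3,4,5,7,6,9,8], [[0,0],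
  [1,1],
  [2,2],
  [3,3],
  [4,4],
  [5,5],
  [6,7],
  [7,6],
  [8,9],
  [9,8],
  [1,9,0,8],
  [3,9,5,8],
  [3,7,1,6],
  [1,3,7,3,6]], [], g0_1_defs, g0_1_recs⟩
theorem g0_1_c : g0_1_D.check g0_1_S g0_1_T = true := by decide +kernel
theorem g0_1 {G : Type*} [Group G] {g : ℕ → G} (hR : Rels g g0_r_R) {H : Subgroup G}
    (hH : ∀ k ∈ [], g k ∈ H) : evA g [0,8,7,9,5,0,8,6,9] ∈ H :=
  mem_dag (K := 10) (J := [0,1,2,3,4,5,6,7,8,9,26,29,34,35]) (D := g0_1_D) (by decide +kernel) g0_1_c (by decide +kernel) hR hH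
theorem g0 {G : Type*} [Group G] {z u v a b r x p : G}
    (t : TB z u v a b r)
    (w : PB z u v a b r p)
    (m : ZG z u v a b r x) :
    p⁻¹ * x * p * z * (p⁻¹ * x * p)⁻¹ = r ∧ p⁻¹ * x * p * (z * r) * (p⁻¹ * x * p)⁻¹ = z :=
  ⟨mul_inv_eq_one.1 ((evA_eq_tm ((InvI.cons t.1 (InvI.cons t.2.1 (InvI.cons t.2.2.1 (InvI.cons t.2.2.2.1 (InvI.cons t.2.2.2.2.1 (InvI.cons t.2.2.2.2.2.1 InvI.nil)))))) : InvI [z, u, v, a, b, r, x, p] [(nat_lit 0), (nat_lit 1), (nat_lit 2), (nat_lit 3), (nat_lit 4), (nat_lit 5)]) [(.v (nat_lit 0)), (.v (nat_lit 1)), (.v (nat_lit 2)), (.v (nat_lit 3)), (.v (nat_lit 4)), (.v (nat_lit 5)), (.v (nat_lit 6)), (.inv (.v (nat_lit 6))), (.v (nat_lit 7)), (.inv (.v (nat_lit 7)))] [5,8,7,9,0,8,6,9] (.mul (.mul (.mul (.mul (.mul (.inv (.v (nat_lit 7))) (.v (nat_lit 6))) (.v (nat_lit 7))) (.v (nat_lit 0))) (.inv (.mul (.mul (.inv (.v (nat_lit 7))) (.v (nat_lit 6))) (.v (nat_lit 7))))) (.inv (.v (nat_lit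 5)))) (by decide +kernel)).symm.trans (Subgroup.mem_bot.1 (g0_0 (g0_r t w m) (H := ⊥) (List.forall_mem_nil _)))),
   mul_inv_eq_one.1 ((evA_eq_tm ((InvI.cons t.1 (InvI.cons t.2.1 (InvI.cons t.2.2.1 (InvI.cons t.2.2.2.1 (InvI.cons t.2.2.2.2.1 (InvI.cons t.2.2.2.2.2.1 InvI.nil)))))) : InvI [z, u, v, a, b, r, x, p] [(nat_lit 0), (nat_lit 1), (nat_lit 2), (nat_lit 3), (nat_lit 4), (nat_lit 5)]) [(.v (nat_lit 0)), (.v (nat_lit 1)), (.v (nat_lit 2)), (.v (nat_lit 3)), (.v (nat_lit 4)), (.v (nat_lit 5)), (.v (nat_lit 6)), (.inv (.v (nat_lit 6))), (.v (nat_lit 7)), (.inv (.v (nat_lit 7)))] [0,8,7,9,5,0,8,6,9] (.mul (.mul (.mul (.mul (.mul (.inv (.v (nat_lit 7))) (.v (nat_lit 6))) (.v (nat_lit 7))) (.mul (.v (nat_lit 0)) (.v (nat_lit 5)))) (.inv (.mul (.mul (.inv (.v (nat_lit 7))) (.v (nat_lit 6))) (.v (nat_lit 7))))) (.inv (.v (nat_lit 0)))) (by decide +kernel)).symm.trans (Subgroup.mem_bot.1 (g0_1 (g0_r t w m) (H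 := ⊥) (List.forall_mem_nil _))))⟩

end H10.X
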