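import Cfsg.Agent.H10.XD2g

/-! Generated: the group SL2(3) * SL2(3) and the normalizer of a four-group. -/

set_option maxRecDepth 100000
set_option maxHeartbeats 4000000
set_option linter.unusedVariables false

open Subgroup
open scoped commutatorElement
namespace H10.X
open H0 H0.PM H16 H19

def YG {G : Type*} [Group G] (z u v a b r y : G) : Prop :=
  y ^ 3 = 1 ∧
  y * z = z * y ∧
  y * u * y⁻¹ = v ∧
  y * v * y⁻¹ = z * u * v ∧
  y * a * y⁻¹ = b ∧
  y * b * y⁻¹ = z * a * b ∧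
  r * y * r⁻¹ = y⁻¹ ∧ True
def ZG {G : Type*} [Group G] (z u v a b r x : G) : Prop :=
  x ^ 3 = 1 ∧
  x * z = z * x ∧
  x * u * x⁻¹ = a ∧
  x * a * x⁻¹ = u * a ∧
  x * v * x⁻¹ = b ∧
  x * b * x⁻¹ = v * b ∧
  r * x * r⁻¹ = x⁻¹ ∧ True
def TS {G : Type*} [Group G] (z u v a b s : G) : Prop :=
  s * s = 1 ∧
  z * s = s * z ∧
  s * u = u * s ∧
  s * a = a * s ∧
  s * v * s = z * u * v ∧
  s * b * s = z * a * b ∧ True
noncomputable def KM_r_R : List (List ℕ) := [[0,0],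
  [1,1],
  [2,2],
  [3,3],
  [4,4],
  [5,6],
  [6,5],
  [7,8],
  [8,7],
  [5,5,5],
  [3,6,1,5],
  [4,6,2,5],
  [5,1,5,1,5,1],
  [5,2,5,2,5,2],
  [2,1,2,1],
  [0,4,1,4,1],
  [6,0,5,0],
  [1,0,1,0],
  [2,0,2,0],
  [7,7,7],
  [6,8,5,7],
  [0,8,0,7],
  [2,8,1,7],
  [0,1,2,8,2,7]]
theorem KM_r {G : Type*} [Group G] {z u v a b x y : G}
    (h : Q3 z u v a b x)
    (k : KY z u v x y) :
    Rels (nthG [z, u, v, a, b, x, x⁻¹, y, y⁻¹]) KM_r_R :=
  rels_of_eqs ((InvI.cons h.1 (InvI.cons h.2.1 (InvI.cons h.2.2.1 (InvI.cons h.2.2.2.1 (InvI.cons h.2.2.2.2.1 InvI.nil))))) : InvI [z, u, v, a, b, x, y] [(nat_lit 0), (nat_lit 1), (nat_lit 2), (nat_lit 3), (nat_lit 4)])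
    (AllEq.append (show AllEq [z, u, v, a, b, x, y] [((.mul (.v (nat_lit 0)) (.v (nat_lit 0))), .one), ((.mul (.v (nat_lit 1)) (.v (nat_lit 1))), .one), ((.mul (.v (nat_lit 2)) (.v (nat_lit 2))), .one), ((.mul (.v (nat_lit 3)) (.v (nat_lit 3))), .one), ((.mul (.v (nat_lit 4)) (.v (nat_lit 4))), .one), ((.pw (.v (nat_lit 5)) (nat_lit 3)), .one), ((.mul (.mul (.v (nat_lit 5)) (.v (nat_lit 1))) (.inv (.v (nat_lit 5)))), (.v (nat_lit 3))), ((.mul (.mul (.v (nat_lit 5)) (.v (nat_lit 2))) (.inv (.v (nat_lit 5)))), (.v (nat_lit 4))), ((.pw (.mul (.v (nat_lit 1)) (.v (nat_lit 5))) (nat_lit 3)), .one), ((.pw (.mul (.v (nat_lit 2)) (.v (nat_lit 5))) (nat_lit 3)), .one), ((.mul (.v (nat_lit 1)) (.v (nat_lit 2))), (.mul (.v (nat_lit 2)) (.v (nat_lit 1)))), ((.mul (.mul (.mul (.v (nat_lit 1)) (.v (nat_lit 4))) (.inv (.v (nat_lit 1)))) (.inv (.v (nat_lit 4)))), (.v (nat_lit 0))), ((.mul (.v (nat_lit 0)) (.v (nat_lit 5))),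 (.mul (.v (nat_lit 5)) (.v (nat_lit 0)))), ((.mul (.v (nat_lit 0)) (.v (nat_lit 1))), (.mul (.v (nat_lit 1)) (.v (nat_lit 0)))), ((.mul (.v (nat_lit 0)) (.v (nat_lit 2))), (.mul (.v (nat_lit 2)) (.v (nat_lit 0))))] from h)
    (show AllEq [z, u, v, a, b, x, y] [((.pw (.v (nat_lit 6)) (nat_lit 3)), .one), ((.mul (.v (nat_lit 6)) (.v (nat_lit 5))), (.mul (.v (nat_lit 5)) (.v (nat_lit 6)))), ((.mul (.v (nat_lit 6)) (.v (nat_lit 0))), (.mul (.v (nat_lit 0)) (.v (nat_lit 6)))), ((.mul (.mul (.v (nat_lit 6)) (.v (nat_lit 1))) (.inv (.v (nat_lit 6)))), (.v (nat_lit 2))), ((.mul (.mul (.v (nat_lit 6)) (.v (nat_lit 2))) (.inv (.v (nat_lit 6)))), (.mul (.mul (.v (nat_lit 0)) (.v (nat_lit 1))) (.v (nat_lit 2))))] from k))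
    [(.v (nat_lit 0)), (.v (nat_lit 1)), (.v (nat_lit 2)), (.v (nat_lit 3)), (.v (nat_lit 4)), (.v (nat_lit 5)), (.inv (.v (nat_lit 5))), (.v (nat_lit 6)), (.inv (.v (nat_lit 6)))] (by decide +kernel)
noncomputable abbrev KM_o : Ops := pops (nat_lit 24) (nat_lit 5) (nat_lit 31) (nat_lit 0xbdab49ca307b9ac5a928398a418820)
noncomputable def KM_cs : List ℕ := [(nat_lit 0xb5e72ad2115a9287b9ac20c4731401), (nat_lit 0xbdab29d14e5c0e67c4836b029400a2), (nat_lit 0x9d6cfbadcaa44ec940886984919401), (nat_lit 0xbda74ac92d59e05792227058a020c3), (nat_lit 0x951f65dda9a9e2c9920870caa30801), (nat_lit 0xbda8f92e30ab4ec9a4887142a100c3), (nat_lit 0xbd9f55ce30a1dcc91148684c900ca2), (nat_lit 0x620c518af60d69104e507b9ab524e4), (nat_lit 0x8c1cd52588398b720c560d6809c9eb)]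
noncomputable def KM_L : List (List ℕ) := [[(nat_lit 0xbdab49ca307b9ac5a928398a418820), (nat_lit 0xb5e72ad2115a9287b9ac20c4731401), (nat_lit 0xbdab29d14e5c0e67c4836b029400a2), (nat_lit 0xbda74ac92d59e05792227058a020c3), (nat_lit 0x620c518af60d69104e507b9ab524e4), (nat_lit 0x8c1cd52588398b720c560d6809c9eb), (nat_lit 0xb5e74ac9ca7c4835c0e64a00d60445), (nat_lit 0xb5eb29d1a97922259e055010e0b066), (nat_lit 0x43062316d704e500d6915a92f73487), (nat_lit 0x845497350c20c56398b704e41ad16f), (nat_lit 0xbda72ad0877b5c15a540814d110d88), (nat_lit 0x620c219675059ee0dd6aa44f2811a9), (nat_lit 0x8c1c953466220353b0132dde2b2e92), (nat_lit 0x6206530a5403ecd0aee9a9e33241ca), (nat_lit 0x8c14d72445205143819233ee35dab3), (nat_lit 0xb5eb49c8e45a5407b5c1888702990c), (nat_lit 0x4306530ab30dd6a059ee9409489d2d), (nat_lit 0x8454d724c33b0132203515965bbe54), (nat_lit 0x430c2196920aee903ecd992153c54e), (nat_lit 0x845c9534a238192205141aec67de75),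 (nat_lit 0x620623156f0d2a704a64b35d74aa30), (nat_lit 0x8c14973401394cf2086b452ac94ef6), (nat_lit 0x28828032b31d96735de4a25d26aa11), (nat_lit 0x6a4f0244c35200f7302b2caa2a4ed7)],
  [(nat_lit 0xbdab49ca307b9ac5a928398a418820), (nat_lit 0xa49777d92d99208a9e2c5184e19420), (nat_lit 0xbda8b93d2d9c1c5ac5423b0c440c20), (nat_lit 0xbd9757cd4e93606a26233958412020), (nat_lit 0x5beb79d94e911a2a1d258b07041820), (nat_lit 0xa4aab9bce4b41a6bc5235090e2b020)],
  [(nat_lit 0xbdab49ca307b9ac5a928398a418820), (nat_lit 0xaceebb3d4e94088a44ec48cad30820)]]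
noncomputable def KM_WW : List (List (List ℕ)) := [[[],
  [(nat_lit 0)],
  [(nat_lit 1)],
  [(nat_lit 3)],
  [(nat_lit 7)],
  [(nat_lit 8)],
  [(nat_lit 0), (nat_lit 1)],
  [(nat_lit 0), (nat_lit 3)],
  [(nat_lit 0), (nat_lit 7)],
  [(nat_lit 0), (nat_lit 8)],
  [(nat_lit 1), (nat_lit 3)],
  [(nat_lit 1), (nat_lit 7)],
  [(nat_lit 1), (nat_lit 8)],
  [(nat_lit 3), (nat_lit 7)],
  [(nat_lit 3), (nat_lit 8)],
  [(nat_lit 0), (nat_lit 1), (nat_lit 3)],
  [(nat_lit 0), (nat_lit 1), (nat_lit 7)],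
  [(nat_lit 0), (nat_lit 1), (nat_lit 8)],
  [(nat_lit 0), (nat_lit 3), (nat_lit 7)],
  [(nat_lit 0), (nat_lit 3), (nat_lit 8)],
  [(nat_lit 1), (nat_lit 3), (nat_lit 7)],
  [(nat_lit 1), (nat_lit 3), (nat_lit 8)],
  [(nat_lit 1), (nat_lit 7), (nat_lit 3)],
  [(nat_lit 1), (nat_lit 8), (nat_lit 4)]],
  [[],
  [(nat_lit 0), (nat_lit 4)],
  [(nat_lit 1), (nat_lit 5)],
  [(nat_lit 3), (nat_lit 6)],
  [(nat_lit 1), (nat_lit 4), (nat_lit 5)],
  [(nat_lit 6), (nat_lit 4), (nat_lit 1)]],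
  [[],
  [(nat_lit 0), (nat_lit 2)]]]
noncomputable def KM_b5_S0 : List ℕ := [nat_lit 0xb00000700800e, nat_lit 0x1300000f000001008010, nat_lit 0x1b000017000001008012, nat_lit 0x2b00002700002300001f000007014014, nat_lit 0x3b00003700003300002f000007014016, nat_lit 0x3300002f00000c000012, nat_lit 0x3f00001200000d008018, nat_lit 0x4b00004700004300000d00c01a, nat_lit 0x1700000d00001d00004b01201a, nat_lit 0x4f00000200004400801c, nat_lit 0x5300000e00004400801e, nat_lit 0x57000012000044008020, nat_lit 0x5b00000700000d004010, nat_lit 0x2c00003100a00e, nat_lit 0x5f000007000011004012, nat_lit 0x3c00003900a00e, nat_lit 0x6300001400000600000b000020010014, nat_lit 0x2300004100800e, nat_lit 0x4500002800002c000010, nat_lit 0x6700001c00000a00000b000030010016, nat_lit 0x3300004d00800e, nat_lit 0x5100003800003c000012, nat_lit 0x6b00002f000020008018, nat_lit 0x7700007300006f00002000c01a, nat_lit 0x5f00002000005d00007701201a,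 nat_lit 0x6100003a00005800001c, nat_lit 0x2d00006500007300c012, nat_lit 0x6900002500400e, nat_lit 0x7b00001f00007000801e, nat_lit 0x7f00002f000070008020, nat_lit 0x8300003200000e000001000005010014, nat_lit 0x1400007900800e, nat_lit 0x8700003a000012000001000009010016, nat_lit 0x1c00008100800e, nat_lit 0x8b00000a000005008018, nat_lit 0x9300008f00004f00000500c01a, nat_lit 0x1600000500008d00009301201a, nat_lit 0x9100003300008000001c, nat_lit 0x9700000600005000801e, nat_lit 0x9b00000a000050008020, nat_lit 0x4700002500009d004012, nat_lit 0x9f000014000089004012, nat_lit 0x1c00008c0000a5000010, nat_lit 0xaf0000ab0000a70000a300007d014016, nat_lit 0xa70000a300007a00008d000012, nat_lit 0xb10000ac000004, nat_lit 0xb30000ae000064008018, nat_lit 0x5e0000410000b9004012, nat_lit 0xbf0000bb0000b700006400c01a, nat_lit 0x9f0000640000c10000bf01201a, nat_lit 0xb700001400009800001c, nat_lit 0x250000990000c9000010, nat_lit 0xc30000630000b800801e,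 nat_lit 0x7200006e0000990000c90000d1016014, nat_lit 0xc70000ae0000b8008020, nat_lit 0xcf0000cb0000ae000014000089010016, nat_lit 0xa60000dd00800e, nat_lit 0xcb0000af00400e, nat_lit 0xe50000d00000de000012, nat_lit 0xd300009700000600001500801a, nat_lit 0xd700007a00009800801c, nat_lit 0xca0000f100800e, nat_lit 0xdb00008a000098008020, nat_lit 0xbb0000ca0000f9004012]
noncomputable def KM_b5_S1 : List ℕ := [nat_lit 0x9e0000990000f900c018, nat_lit 0xfe0001010000a1000010, nat_lit 0xeb0000e70000e30000df000085014014, nat_lit 0x4b00002100010900c01e, nat_lit 0x5300000e00001800010900401a, nat_lit 0xef000067000109008018, nat_lit 0xf3000067000022008020, nat_lit 0x7600006e00009d0000a1000119016016, nat_lit 0x11d00009500600e, nat_lit 0xf700010a00001c00008c0000dd00c014, nat_lit 0xf70000eb00400e, nat_lit 0xfb00009b00008c0000e900801a, nat_lit 0x940000b600012d000018, nat_lit 0x780000be0000b30000af00012d000014, nat_lit 0x13500006600400e,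 nat_lit 0x13900012e0000b0000010, nat_lit 0x139000131000121000012, nat_lit 0xff00008200009c00801c, nat_lit 0xa200014500800e, nat_lit 0x14900011900011d000012, nat_lit 0x10b000107000103000023000059010016, nat_lit 0x1070001030000460000c1000012, nat_lit 0x15500010c000004, nat_lit 0x15500010700000c, nat_lit 0x10f00007b00001f00006000801a, nat_lit 0x11300005a00007c008020, nat_lit 0x7600007100016500c018, nat_lit 0x16900014d0000ff0000e000c01a, nat_lit 0x117000023000059004012, nat_lit 0x15200017100a00e, nat_lit 0x11b000103000028008018, nat_lit 0x1e00002b000179004012, nat_lit 0x15e00011c00017d000010, nat_lit 0x12700012300011f00002800c01a, nat_lit 0x11700002800018500012701201a, nat_lit 0x18900017200011400001c, nat_lit 0x16500018d00012300c012, nat_lit 0x1910000d600400e, nat_lit 0x12b00002700012000801e, nat_lit 0x2a00006a000071000192000199016014, nat_lit 0x19e00019a000196000010, nat_lit 0x12f000186000036008012, nat_lit 0x13700012b00002700011800801a,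 nat_lit 0xef00004e00006c0001710001a9016014, nat_lit 0x1ae0001aa000175000010, nat_lit 0x13b0001300001a6000032000019010016, nat_lit 0x1330001b500800e, nat_lit 0x13f00001a000054008020, nat_lit 0x2e0000290001bd00c018, nat_lit 0x1c10001420000f30000f000c01a, nat_lit 0x14300004d0000f0004010, nat_lit 0x1470000ee00003300006c00015100c014, nat_lit 0xc000015a0001cd000018, nat_lit 0x1470000ee000052000010, nat_lit 0x14b0001ca0000ef0000510000ed010014, nat_lit 0xf20000d40001d9008012, nat_lit 0x14f0000370000ed008018, nat_lit 0xda0000f60001de0001da0001e1016016, nat_lit 0x1e60001e2000148000012, nat_lit 0x1cd0001e90000c70000b400c01a, nat_lit 0x3b0001500001e5000010, nat_lit 0x15300003e000161004010, nat_lit 0x1b600003f0000390001610001f5002014, nat_lit 0x1f900013b000127008018]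
noncomputable def KM_b5_S2 : List ℕ := [nat_lit 0x15700013300003f00003b000150010014, nat_lit 0x1e600020100800e, nat_lit 0x15b00014100005700004000c01a, nat_lit 0x13c0001b600020900c012, nat_lit 0xef00005600004000020900001a, nat_lit 0x21100011600010d008020, nat_lit 0x15f0001b50001fa004010, nat_lit 0x2060001570001ba0001fa000219002014, nat_lit 0xd500016500018d0001fd000219002016, nat_lit 0x2210000c30000b9004020, nat_lit 0x1630001b600014000801c, nat_lit 0x1670000770000660001c200022900c014, nat_lit 0x1f900016400022d00c01e, nat_lit 0x23100021900022600801c, nat_lit 0x23500022e00022a000010, nat_lit 0x16b0000c30000630000a000801a, nat_lit 0xbf0000c500023d00c01e, nat_lit 0xe80001290001260000e100023d000014, nat_lit 0xdf00008200008c0000a500023d016014, nat_lit 0x2450000e80000ec000010, nat_lit 0x16f00015200011400801c, nat_lit 0x18e00025100800e, nat_lit 0x24900016d000251008012, nat_lit 0x25500012800020e000010, nat_lit 0x2550001fd000219000012,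 nat_lit 0x17300009300009600016a00025100c014, nat_lit 0x23d00025a000265000018, nat_lit 0x1ce00017000026500c01e, nat_lit 0xc800021e00026100026500401a, nat_lit 0x173000093000121000010]
noncomputable def KM_b5_S : List (List ℕ) := [KM_b5_S0, KM_b5_S1, KM_b5_S2]
noncomputable def KM_b5_defs : List ℕ := [(nat_lit 0x21004000260050003a000000190010001900500039001000380050003700100021000000220000002000400025002000320050002b0000002b000000180010002e0040002d000000030010002b0050002a00200029005000280020002000400003000000060000000400100023004000130010000600200017001000160000000b000000070010001c0040001b000000010010000b002000050010000300400001003000010000000e0000000a000000020010001100400010000000000010000e0050000d0020000c0050000b002000010050000900100008005000070010000100600005004000000060000300300000005000010050000000000000),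
  (nat_lit 0x50002400000042004000300050001d0000004e0030000f0010003c0010004c0030000d0010000d00100050005000340030000b0000000f002000490040004a0050000f006000490000000900100048004000470000000800100040004000080000001a0040001e002000410050004000200008)]
noncomputable def KM_b5_recs : List ℕ := [(nat_lit 0x6000360002e02000250003605000350002d050002500035010000c0003404000220002a050002a00032050003300027050002200033020002d0003106000300001e010002d00030030002d0001006000250002d000002e0002704000180002f060002c0001d02000180002c020002a00024ff000240002902000030002b030002700005060002200027060002600011020001300026010001300025060001f0002300000230000c040000400024020000400022050002100005050000600021050002000003050000400020020001b0001f010001b0001e05000130001b050001b0001006000150001c000001c0001704000070001d02000070001a040000e0001905000190000c050000b00019030000a0001805000180000805000070001806000170000d060000e00017060001600009060000a00016020001000015010001000014050001000013000001100005040000a00012020000a0000f04000020000c02000000000e01000000000a020000200006010000200004050000000002),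
  (nat_lit 0x2000480005401000540004e06000430005403000310000e040002c0004204000510003106000530003102000340005302000520003505000340005203000190005102000510002e010004200051060003b00050040003b0004f010004f0001502000140004f050004e0004c050000f0004e03000420003b060004d0003b01000450004d02000160004b030003000014060004a0001401000470004a05000300004705000470001e06000440004800000480004504000090004903000120002f060004600012020000900046060004500042060001a0004504000370004401000440001f020001e0004401000170004306000400002f02000420002fff0002f00041050001a00042040001f0003f050003f0001105000260003f040003c00015030002b0001505000150003e050003e0001c020003e00023010002a0003e05000390003d01000330003d06000230003c060003c0001f02000110003c020003a0003b040003a00014000003a0001201000050003a03000110002e010003600026),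
  (nat_lit 0x30003c0005c040005c0002b000005c00051020005c00027010005b0005c04000570005b03000560005b020005b0005a050005b0004805000440005b030003a0005a060005a00037050005a00038000005a0002f01000270005a030004f0002c050002c00059000005900054010005800059050004f00058000002c0005702000570003001000570003106000540005702000120005600000560003b050005600049040000f00056050005500031050005300055)]
noncomputable def KM_b5_L0 : List ℕ := [nat_lit 0x4300000100000e00000200001200000300000f000004000017000005, nat_lit 0x4400000000002a00000600002e0000070000cd000008000047000009, nat_lit 0x5300000600000d00000000001a00000a00004a00000b00001e00000c, nat_lit 0x5700000700003f00000a0000110000000001f100000d00005600000e, nat_lit 0xb700000800006300000b0000ae00000f00001000000000009f000010, nat_lit 0x2100000900010a00001100006700000e0000a9000010000018000000, nat_lit 0x540000020000290000010001be0000120001a1000013000111000011, nat_lit 0x580000030001c100001200002d00000100013d00000f000141000014,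 nat_lit 0xb80000040000d20000130000da00000d0000ce0000010000bb000015, nat_lit 0x2200000500004b00000c00011a000014000106000015000048000001, nat_lit 0x13f00001200004000000300001900000200015f00001600020a000017, nat_lit 0xc30000130000640000040000ba0000180000490000020000c2000019, nat_lit 0x10d00001100004c00000900021600001700018200001900001d000002, nat_lit 0xc800000f00021d0000160000d90000080001f20000030001e900001a, nat_lit 0xf30000140000ef00001b0000680000050001d600001a000055000003, nat_lit 0xc700000d0000b30000180000ad00000400013e00000700027100001c, nat_lit 0xc500001500023e00001d00026900001c0000aa0000050000a0000004, nat_lit 0x10e00000c00010900000500011600001b00024e00001d000112000006, nat_lit 0x14000000a0001c20000070001bd00000600023a0000180001c500001b, nat_lit 0xc400000b0000d10000080002210000160001a200000600016b00001d, nat_lit 0xf400000e00015b00001700011900000900027600001c000142000007, nat_lit 0xc60000100000bf0000190001d100001a0001050000090000bc000008,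 nat_lit 0x22500001800021e00000d00022200001300016000000a00026200001e, nat_lit 0x21200001b00015c00001400021500000c00025e00001e00020900000a, nat_lit 0x2260000160000b400000f0000b900000b0002390000120001ee00001f, nat_lit 0x24100001d0000c000001500015900001f00018100000c0000c100000b, nat_lit 0x26d00001c0001cd00001f0001d20000150001d500000e0001ea00000d, nat_lit 0x2110000170000f000000e0001150000110001b100001f0001c6000012, nat_lit 0x26e00001a00026500001e00026a00001000027500001400027200000f, nat_lit 0x24200001900023d00001000025900001e00024d00001100016c000013, nat_lit 0x17000001f00026600001c00025a00001d00025d000017000261000016, nat_lit 0x16f00001e0001ce00001a00015a0000190001b200001b0001ed000018]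
noncomputable def KM_b5_L : List (List ℕ) := [KM_b5_L0]
noncomputable def KM_b5_V : List ℕ := [(nat_lit 0x420000005b0000005a0000005c0000003b000000510000002f0000002c00000056000000570000002e0000003c000000300000004f0000003a000000270000002b000000190000003100000012000000180000000f000000110000002d000000150000001400000005000000030000000e0000000a0000001000000000)]
noncomputable def KM_b5_D : H26.Dag := ⟨[0,1,2,3,4,6,5], [[0,0],
  [1,1],
  [2,2],
  [3,3],
  [4,4],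
  [5,6],
  [6,5],
  [5,5,5],
  [3,6,1,5],
  [4,6,2,5],
  [5,1,5,1,5,1],
  [5,2,5,2,5,2],
  [2,1,2,1],
  [0,4,1,4,1],
  [6,0,5,0],
  [1,0,1,0],
  [2,0,2,0]], [], KM_b5_defs, KM_b5_recs⟩
theorem KM_b5_c : KM_b5_D.checkTab KM_b5_S 32 5 KM_b5_V KM_b5_L = true := by decide +kernel
theorem KM_b5 : Bound KM_r_R 5 32 :=
  bound_dag (Bound.zero KM_r_R) (K := 7) (J := [0,1,2,3,4,5,6,9,10,11,12,13,14,15,16,17,18]) (by decide +kernel) KM_b5_c (by decide +kernel)
noncomputable def KM_b7_S0 : List ℕ := [nat_lit 0x1, nat_lit 0x1, nat_lit 0x1, nat_lit 0x1, nat_lit 0x1, nat_lit 0x7000005000008000010, nat_lit 0x7000009000008000012, nat_lit 0x700000100000800c018, nat_lit 0xb00000800600e, nat_lit 0xb00000d00000c008010, nat_lit 0xb00001100000c008012, nat_lit 0xb00000100000c004018, nat_lit 0x2100002500000b000005000008012014, nat_lit 0x2100002900000b000009000008012016, nat_lit 0x22000035000021000012, nat_lit 0x22000031000021000010]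
noncomputable def KM_b7_S : List (List ℕ) := [KM_b7_S0]
noncomputable def KM_b7_defs : List ℕ := [(nat_lit 0x6000000050000000000000)]
noncomputable def KM_b7_recs : List ℕ := [(nat_lit 0x30000200002040000200002020000100001010000100001000000200002020000200002010000200002060000100002000000100001040000100001030000100001040000000000030000000000020000000000010000000000000000000000)]
noncomputable def KM_b7_L0 : List ℕ := [nat_lit 0x100000000000500000000000900000000000d00000000001100000000000700000100000b000002, nat_lit 0x1d000001000031000001000035000001000015000001000019000001000022000002000008000000, nat_lit 0x2d00000200002500000200002900000200003d00000200003900000200000c000000000021000001]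
noncomputable def KM_b7_L : List (List ℕ) := [KM_b7_L0]
noncomputable def KM_b7_V : List ℕ := [(nat_lit 0x20000000100000000)]
noncomputable def KM_b7_D : H26.Dag := ⟨[0,1,2,3,4,6,5], [[0,0],
  [1,1],
  [2,2],
  [3,3],
  [4,4],
  [5,6],
  [6,5],
  [5,5,5],
  [3,6,1,5],
  [4,6,2,5],
  [5,1,5,1,5,1],
  [5,2,5,2,5,2],
  [6,0,5,0]], [0,1,2,3,4], KM_b7_defs, KM_b7_recs⟩
theorem KM_b7_c : KM_b7_D.checkTab KM_b7_S 3 7 KM_b7_V KM_b7_L = true := by decide +kernel
theorem KM_b7 : Bound KM_r_R 7 96 :=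
  bound_dag KM_b5 (K := 7) (J := [0,1,2,3,4,5,6,9,10,11,12,13,16]) (by decide +kernel) KM_b7_c (by decide +kernel)
noncomputable def KM_b9_S0 : List ℕ := [nat_lit 0x1, nat_lit 0x1, nat_lit 0x1, nat_lit 0x1, nat_lit 0x1, nat_lit 0x1, nat_lit 0x7000015000008000018, nat_lit 0x700000100000800001a, nat_lit 0x700000500000800001c, nat_lit 0x1d00000700000900000800002100401e, nat_lit 0x1a000025000019000012, nat_lit 0x1a000021000019000014, nat_lit 0xb000008006016, nat_lit 0xb00001600000c008018, nat_lit 0xb00000100000c00801a, nat_lit 0xb00000900000c00801c, nat_lit 0xb00000900000500000100000c01001e, nat_lit 0x35000041000036000014, nat_lit 0x3500003d000036000012]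
noncomputable def KM_b9_S : List (List ℕ) := [KM_b9_S0]
noncomputable def KM_b9_defs : List ℕ := [(nat_lit 0x8000000070000000000000)]
noncomputable def KM_b9_recs : List ℕ := [(nat_lit 0x30000200002040000200002020000200002010000200002000000200002050000200002080000100002040000100001030000100001010000100001020000100001000000100001060000100001050000000000040000000000030000000000020000000000010000000000000000000000)]
noncomputable def KM_b9_L0 : List ℕ := [nat_lit 0x100000000000500000000000900000000000d00000000001100000000001500000000001600000000000700000100000b000002, nat_lit 0x1d00000100002500000100002100000100002900000100002d00000100001a000001000019000001000032000002000008000000, nat_lit 0x3900000200003d00000200004100000200004900000200004500000200003500000200003600000200000c000000000031000001]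
noncomputable def KM_b9_L : List (List ℕ) := [KM_b9_L0]
noncomputable def KM_b9_V : List ℕ := [(nat_lit 0x20000000100000000)]
noncomputable def KM_b9_D : H26.Dag := ⟨[0,1,2,3,4,6,5,8,7], [[0,0],
  [1,1],
  [2,2],
  [3,3],
  [4,4],
  [5,6],
  [6,5],
  [7,8],
  [8,7],
  [3,6,1,5],
  [4,6,2,5],
  [7,7,7],
  [6,8,5,7],
  [0,8,0,7],
  [2,8,1,7],
  [0,1,2,8,2,7]], [0,1,2,3,4,5,6], KM_b9_defs, KM_b9_recs⟩
theorem KM_b9_c : KM_b9_D.checkTab KM_b9_S 3 9 KM_b9_V KM_b9_L = true := by decide +kernel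
theorem KM_b9 : Bound KM_r_R 9 288 :=
  bound_dag KM_b7 (K := 9) (J := [0,1,2,3,4,5,6,7,8,10,11,19,20,21,22,23]) (by decide +kernel) KM_b9_c (by decide +kernel)
theorem KM_P : PModel (nat_lit 24) (nat_lit 5) (nat_lit 31) (nat_lit 0xbdab49ca307b9ac5a928398a418820) KM_cs KM_r_R KM_L 288 :=
  ⟨PkOK.of (by decide +kernel), by decide +kernel, by decide +kernel, KM_b9, ⟨KM_WW, by decide +kernel⟩,
    ⟨fun c => Nat.mod c (nat_lit 13236), by decide +kernel⟩⟩
noncomputable def KM_soc_t0 : ST := (.node (nat_lit 4903) (.node (nat_lit 2351) (.node (nat_lit 1147) (.node (nat_lit 546) (.node (nat_lit 258) (.node (nat_lit 237) (.node (nat_lit 145) (.leaf (nat_lit 2)) (.node (nat_lit 217) (.leaf (nat_lit 24)) (.leaf (nat_lit 2)))) (.node (nat_lit 247) (.leaf (nat_lit 24)) (.node (nat_lit 251) (.leaf (nat_lit 2)) (.leaf (nat_lit 0))))) (.node (nat_lit 435) (.node (nat_lit 277) (.leaf (nat_lit 144)) (.node (nat_lit 349) (.leaf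 (nat_lit 24)) (.leaf (nat_lit 144)))) (.node (nat_lit 458) (.leaf (nat_lit 2)) (.node (nat_lit 493) (.leaf (nat_lit 144)) (.leaf (nat_lit 2)))))) (.node (nat_lit 773) (.node (nat_lit 728) (.node (nat_lit 587) (.leaf (nat_lit 144)) (.node (nat_lit 682) (.leaf (nat_lit 2)) (.leaf (nat_lit 144)))) (.node (nat_lit 749) (.leaf (nat_lit 24)) (.node (nat_lit 769) (.leaf (nat_lit 144)) (.leaf (nat_lit 2))))) (.node (nat_lit 916) (.node (nat_lit 805) (.leaf (nat_lit 24)) (.node (nat_lit 807) (.leaf (nat_lit 0)) (.leaf (nat_lit 144)))) (.node (nat_lit 966) (.leaf (nat_lit 24)) (.node (nat_lit 1068) (.leaf (nat_lit 0)) (.leaf (nat_lit 144))))))) (.node (nat_lit 1710) (.node (nat_lit 1435) (.node (nat_lit 1300) (.node (nat_lit 1159) (.leaf (nat_lit 24)) (.node (nat_lit 1298) (.leaf (nat_lit 2)) (.leaf (nat_lit 144)))) (.node (nat_lit 1357) (.leaf (nat_lit 24)) (.node (nat_lit 1434) (.leaf (nat_lit 2)) (.leaf (nat_lit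 24))))) (.node (nat_lit 1677) (.node (nat_lit 1580) (.leaf (nat_lit 144)) (.node (nat_lit 1581) (.leaf (nat_lit 24)) (.leaf (nat_lit 144)))) (.node (nat_lit 1686) (.leaf (nat_lit 24)) (.node (nat_lit 1694) (.leaf (nat_lit 2)) (.leaf (nat_lit 24)))))) (.node (nat_lit 2153) (.node (nat_lit 1933) (.node (nat_lit 1753) (.leaf (nat_lit 144)) (.node (nat_lit 1868) (.leaf (nat_lit 2)) (.leaf (nat_lit 144)))) (.node (nat_lit 2007) (.leaf (nat_lit 24)) (.node (nat_lit 2034) (.leaf (nat_lit 144)) (.leaf (nat_lit 2))))) (.node (nat_lit 2272) (.node (nat_lit 2225) (.leaf (nat_lit 144)) (.node (nat_lit 2253) (.leaf (nat_lit 24)) (.leaf (nat_lit 2)))) (.node (nat_lit 2274) (.leaf (nat_lit 144)) (.node (nat_lit 2285) (.leaf (nat_lit 2)) (.leaf (nat_lit 144)))))))) (.node (nat_lit 3849) (.node (nat_lit 2976) (.node (nat_lit 2722) (.node (nat_lit 2584) (.node (nat_lit 2354) (.leaf (nat_lit 24)) (.node (nat_lit 2355) (.leaf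 (nat_lit 2)) (.leaf (nat_lit 24)))) (.node (nat_lit 2627) (.leaf (nat_lit 144)) (.node (nat_lit 2718) (.leaf (nat_lit 2)) (.leaf (nat_lit 144))))) (.node (nat_lit 2851) (.node (nat_lit 2744) (.leaf (nat_lit 24)) (.node (nat_lit 2754) (.leaf (nat_lit 144)) (.leaf (nat_lit 2)))) (.node (nat_lit 2906) (.leaf (nat_lit 144)) (.node (nat_lit 2974) (.leaf (nat_lit 2)) (.leaf (nat_lit 24)))))) (.node (nat_lit 3513) (.node (nat_lit 3397) (.node (nat_lit 3053) (.leaf (nat_lit 144)) (.node (nat_lit 3100) (.leaf (nat_lit 2)) (.leaf (nat_lit 144)))) (.node (nat_lit 3455) (.leaf (nat_lit 0)) (.node (nat_lit 3510) (.leaf (nat_lit 144)) (.leaf (nat_lit 24))))) (.node (nat_lit 3615) (.node (nat_lit 3549) (.leaf (nat_lit 144)) (.node (nat_lit 3583) (.leaf (nat_lit 2)) (.leaf (nat_lit 144)))) (.node (nat_lit 3667) (.leaf (nat_lit 24)) (.node (nat_lit 3802) (.leaf (nat_lit 2)) (.leaf (nat_lit 144))))))) (.node (nat_lit 4272)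 (.node (nat_lit 3943) (.node (nat_lit 3909) (.node (nat_lit 3860) (.leaf (nat_lit 24)) (.node (nat_lit 3876) (.leaf (nat_lit 144)) (.leaf (nat_lit 0)))) (.node (nat_lit 3914) (.leaf (nat_lit 144)) (.node (nat_lit 3918) (.leaf (nat_lit 24)) (.leaf (nat_lit 0))))) (.node (nat_lit 4173) (.node (nat_lit 4162) (.leaf (nat_lit 144)) (.node (nat_lit 4168) (.leaf (nat_lit 0)) (.leaf (nat_lit 2)))) (.node (nat_lit 4218) (.leaf (nat_lit 144)) (.node (nat_lit 4256) (.leaf (nat_lit 24)) (.leaf (nat_lit 2)))))) (.node (nat_lit 4776) (.node (nat_lit 4558) (.node (nat_lit 4336) (.leaf (nat_lit 144)) (.node (nat_lit 4373) (.leaf (nat_lit 0)) (.leaf (nat_lit 144)))) (.node (nat_lit 4582) (.leaf (nat_lit 0)) (.node (nat_lit 4702) (.leaf (nat_lit 24)) (.leaf (nat_lit 2))))) (.node (nat_lit 4802) (.node (nat_lit 4794) (.leaf (nat_lit 144)) (.node (nat_lit 4796) (.leaf (nat_lit 2)) (.leaf (nat_lit 24)))) (.node (nat_lit 4848)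 (.leaf (nat_lit 144)) (.node (nat_lit 4894) (.leaf (nat_lit 0)) (.leaf (nat_lit 24))))))))) (.node (nat_lit 7016) (.node (nat_lit 6093) (.node (nat_lit 5598) (.node (nat_lit 5280) (.node (nat_lit 5052) (.node (nat_lit 5016) (.leaf (nat_lit 144)) (.node (nat_lit 5046) (.leaf (nat_lit 2)) (.leaf (nat_lit 24)))) (.node (nat_lit 5056) (.leaf (nat_lit 144)) (.node (nat_lit 5132) (.leaf (nat_lit 24)) (.leaf (nat_lit 144))))) (.node (nat_lit 5496) (.node (nat_lit 5392) (.leaf (nat_lit 3)) (.node (nat_lit 5396) (.leaf (nat_lit 0)) (.leaf (nat_lit 144)))) (.node (nat_lit 5537) (.leaf (nat_lit 2)) (.node (nat_lit 5586) (.leaf (nat_lit 144)) (.leaf (nat_lit 0)))))) (.node (nat_lit 5776) (.node (nat_lit 5713) (.node (nat_lit 5617) (.leaf (nat_lit 24)) (.node (nat_lit 5648) (.leaf (nat_lit 2)) (.leaf (nat_lit 24)))) (.node (nat_lit 5744) (.leaf (nat_lit 144)) (.node (nat_lit 5752) (.leaf (nat_lit 2)) (.leaf (nat_lit 3)))))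 (.node (nat_lit 5967) (.node (nat_lit 5817) (.leaf (nat_lit 144)) (.node (nat_lit 5868) (.leaf (nat_lit 24)) (.leaf (nat_lit 144)))) (.node (nat_lit 6033) (.leaf (nat_lit 24)) (.node (nat_lit 6087) (.leaf (nat_lit 2)) (.leaf (nat_lit 144))))))) (.node (nat_lit 6530) (.node (nat_lit 6445) (.node (nat_lit 6177) (.node (nat_lit 6099) (.leaf (nat_lit 2)) (.node (nat_lit 6121) (.leaf (nat_lit 24)) (.leaf (nat_lit 144)))) (.node (nat_lit 6320) (.leaf (nat_lit 2)) (.node (nat_lit 6362) (.leaf (nat_lit 24)) (.leaf (nat_lit 144))))) (.node (nat_lit 6478) (.node (nat_lit 6473) (.leaf (nat_lit 2)) (.node (nat_lit 6477) (.leaf (nat_lit 24)) (.leaf (nat_lit 2)))) (.node (nat_lit 6481) (.leaf (nat_lit 24)) (.node (nat_lit 6520) (.leaf (nat_lit 2)) (.leaf (nat_lit 24)))))) (.node (nat_lit 6703) (.node (nat_lit 6602) (.node (nat_lit 6555) (.leaf (nat_lit 144)) (.node (nat_lit 6596) (.leaf (nat_lit 24)) (.leaf (nat_lit 2))))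 (.node (nat_lit 6700) (.leaf (nat_lit 144)) (.node (nat_lit 6701) (.leaf (nat_lit 2)) (.leaf (nat_lit 144))))) (.node (nat_lit 6794) (.node (nat_lit 6765) (.leaf (nat_lit 0)) (.node (nat_lit 6780) (.leaf (nat_lit 2)) (.leaf (nat_lit 144)))) (.node (nat_lit 6860) (.leaf (nat_lit 0)) (.node (nat_lit 6960) (.leaf (nat_lit 144)) (.leaf (nat_lit 2)))))))) (.node (nat_lit 7905) (.node (nat_lit 7594) (.node (nat_lit 7173) (.node (nat_lit 7111) (.node (nat_lit 7073) (.leaf (nat_lit 144)) (.node (nat_lit 7082) (.leaf (nat_lit 0)) (.leaf (nat_lit 24)))) (.node (nat_lit 7122) (.leaf (nat_lit 2)) (.node (nat_lit 7125) (.leaf (nat_lit 24)) (.leaf (nat_lit 2))))) (.node (nat_lit 7374) (.node (nat_lit 7268) (.leaf (nat_lit 24)) (.node (nat_lit 7331) (.leaf (nat_lit 144)) (.leaf (nat_lit 2)))) (.node (nat_lit 7423) (.leaf (nat_lit 144)) (.node (nat_lit 7478) (.leaf (nat_lit 2)) (.leaf (nat_lit 144)))))) (.node (nat_lit 7709)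 (.node (nat_lit 7625) (.node (nat_lit 7602) (.leaf (nat_lit 24)) (.node (nat_lit 7605) (.leaf (nat_lit 2)) (.leaf (nat_lit 144)))) (.node (nat_lit 7665) (.leaf (nat_lit 0)) (.node (nat_lit 7686) (.leaf (nat_lit 144)) (.leaf (nat_lit 0))))) (.node (nat_lit 7824) (.node (nat_lit 7756) (.leaf (nat_lit 144)) (.node (nat_lit 7780) (.leaf (nat_lit 24)) (.leaf (nat_lit 2)))) (.node (nat_lit 7834) (.leaf (nat_lit 24)) (.node (nat_lit 7886) (.leaf (nat_lit 144)) (.leaf (nat_lit 24))))))) (.node (nat_lit 8697) (.node (nat_lit 8289) (.node (nat_lit 8126) (.node (nat_lit 7911) (.leaf (nat_lit 144)) (.node (nat_lit 8017) (.leaf (nat_lit 2)) (.leaf (nat_lit 144)))) (.node (nat_lit 8153) (.leaf (nat_lit 24)) (.node (nat_lit 8242) (.leaf (nat_lit 144)) (.leaf (nat_lit 2))))) (.node (nat_lit 8664) (.node (nat_lit 8491) (.leaf (nat_lit 0)) (.node (nat_lit 8524) (.leaf (nat_lit 144)) (.leaf (nat_lit 0)))) (.node (nat_lit 8673)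 (.leaf (nat_lit 144)) (.node (nat_lit 8695) (.leaf (nat_lit 2)) (.leaf (nat_lit 144)))))) (.node (nat_lit 9026) (.node (nat_lit 8896) (.node (nat_lit 8734) (.leaf (nat_lit 2)) (.node (nat_lit 8790) (.leaf (nat_lit 0)) (.leaf (nat_lit 144)))) (.node (nat_lit 9013) (.leaf (nat_lit 2)) (.node (nat_lit 9017) (.leaf (nat_lit 0)) (.leaf (nat_lit 24))))) (.node (nat_lit 9101) (.node (nat_lit 9079) (.leaf (nat_lit 144)) (.node (nat_lit 9086) (.leaf (nat_lit 24)) (.leaf (nat_lit 144)))) (.node (nat_lit 9264) (.leaf (nat_lit 24)) (.node (nat_lit 9421) (.leaf (nat_lit 144)) (.leaf (nat_lit 24))))))))))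
noncomputable def KM_soc_t1 : ST := (.node (nat_lit 818) (.node (nat_lit 236) (.node (nat_lit 63) (.node (nat_lit 32) (.leaf (nat_lit 144)) (.node (nat_lit 33) (.leaf (nat_lit 48)) (.leaf (nat_lit 144)))) (.node (nat_lit 71) (.node (nat_lit 69) (.leaf (nat_lit 0)) (.leaf (nat_lit 144))) (.node (nat_lit 84) (.leaf (nat_lit 24)) (.leaf (nat_lit 144))))) (.node (nat_lit 533) (.node (nat_lit 260) (.node (nat_lit 239) (.leaf (nat_lit 24)) (.leaf (nat_lit 144))) (.node (nat_lit 264) (.leaf (nat_lit 24)) (.leaf (nat_lit 144)))) (.node (nat_lit 628) (.node (nat_lit 534) (.leaf (nat_lit 48)) (.leaf (nat_lit 144))) (.node (nat_lit 634) (.leaf (nat_lit 48)) (.leaf (nat_lit 144)))))) (.node (nat_lit 1354) (.node (nat_lit 1194) (.node (nat_lit 1023) (.node (nat_lit 827) (.leaf (nat_lit 24)) (.leaf (nat_lit 144))) (.node (nat_lit 1040) (.leaf (nat_lit 48)) (.leaf (nat_lit 144)))) (.node (nat_lit 1316) (.node (nat_lit 1204)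 (.leaf (nat_lit 48)) (.leaf (nat_lit 144))) (.node (nat_lit 1318) (.leaf (nat_lit 24)) (.leaf (nat_lit 144))))) (.node (nat_lit 1510) (.node (nat_lit 1394) (.node (nat_lit 1376) (.leaf (nat_lit 24)) (.leaf (nat_lit 144))) (.node (nat_lit 1405) (.leaf (nat_lit 48)) (.leaf (nat_lit 144)))) (.node (nat_lit 1664) (.node (nat_lit 1520) (.leaf (nat_lit 24)) (.leaf (nat_lit 144))) (.node (nat_lit 1675) (.leaf (nat_lit 24)) (.leaf (nat_lit 144)))))))
noncomputable def KM_soc_F : Fm := (.all KM_L (.or (.qf (.eq (.v (nat_lit 0)) .one)) (.exF KM_L (fun cs => KM_soc_t1.find (Nat.mod (nth (nat_lit 0) cs (nat_lit 0)) (nat_lit 1781))) (.exF KM_L (fun cs => KM_soc_t0.find (Nat.mod (Nat.add (nth (nat_lit 0) cs (nat_lit 0)) (Nat.mul (nat_lit 7919) (nth (nat_lit 0) cs (nat_lit 1)))) (nat_lit 9491))) (.qf (.or (.eq (.mul (.mul (.v (nat_lit 0)) (.v (nat_lit 2))) (.inv (.v (nat_lit 0)))) (.v (nat_lit 3))) (.or (.eq (.mul (.mul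 (.v (nat_lit 0)) (.v (nat_lit 2))) (.inv (.v (nat_lit 0)))) (.v (nat_lit 3))) (.or (.eq (.mul (.mul (.v (nat_lit 0)) (.mul (.mul (.mul (.v (nat_lit 2)) (.v (nat_lit 1))) (.inv (.v (nat_lit 2)))) (.inv (.v (nat_lit 1))))) (.inv (.v (nat_lit 0)))) (.v (nat_lit 3))) (.or (.eq (.mul (.mul (.v (nat_lit 0)) (.mul (.mul (.mul (.v (nat_lit 2)) (.v (nat_lit 1))) (.inv (.v (nat_lit 2)))) (.inv (.v (nat_lit 1))))) (.inv (.v (nat_lit 0)))) (.v (nat_lit 3))) (.or (.eq (.mul (.mul (.mul (.mul (.mul (.mul (.v (nat_lit 2)) (.v (nat_lit 1))) (.inv (.v (nat_lit 2)))) (.inv (.v (nat_lit 1)))) (.v (nat_lit 0))) (.inv (.mul (.mul (.mul (.v (nat_lit 2)) (.v (nat_lit 1))) (.inv (.v (nat_lit 2)))) (.inv (.v (nat_lit 1)))))) (.inv (.v (nat_lit 0)))) (.v (nat_lit 3))) (.eq (.mul (.mul (.mul (.mul (.mul (.mul (.v (nat_lit 2)) (.v (nat_lit 1))) (.inv (.v (nat_lit 2)))) (.inv (.v (nat_lit 1)))) (.v (nat_lit 0))) (.inv (.mul (.mul (.mul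 (.v (nat_lit 2)) (.v (nat_lit 1))) (.inv (.v (nat_lit 2)))) (.inv (.v (nat_lit 1)))))) (.inv (.v (nat_lit 0)))) (.v (nat_lit 3)))))))))))))
theorem KM_soc_chk : Fm.chk KM_o KM_soc_F KM_cs = true := by decide +kernel
theorem KM_soc {G : Type*} [Group G] {R : ℕ → G → Prop} {z u v a b x X_ y Y_ : G} {H : Subgroup G}
    (M : Mdl KM_o KM_cs KM_L R [z, u, v, a, b, x, X_, y, Y_] H) :
    ∀ y_ ∈ H, y_ = 1 ∨ (∃ q_ ∈ H, ∃ k_ ∈ H, k_ * y_ * k_⁻¹ = z ∨ k_ * y_ * k_⁻¹ = z ∨ k_ * ⁅y_, q_⁆ * k_⁻¹ = z ∨ k_ * ⁅y_, q_⁆ * k_⁻¹ = z ∨ ⁅⁅y_, q_⁆, k_⁆ = z ∨ ⁅⁅y_, q_⁆, k_⁆ = z) :=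
  have h : ∀ y_, InL KM_o R KM_L y_ → y_ = 1 ∨ (Good KM_o R KM_L → prods KM_o KM_L KM_o.one ≠ [] → ∃ q_, InL KM_o R KM_L q_ ∧ (Good KM_o R KM_L → prods KM_o KM_L KM_o.one ≠ [] → ∃ k_, InL KM_o R KM_L k_ ∧ (k_ * y_ * k_⁻¹ = z ∨ k_ * y_ * k_⁻¹ = z ∨ k_ * ⁅y_, q_⁆ * k_⁻¹ = z ∨ k_ * ⁅y_, q_⁆ * k_⁻¹ = z ∨ ⁅⁅y_, q_⁆, k_⁆ = z ∨ ⁅⁅y_, q_⁆, k_⁆ = z))) :=
    Fm.sound M.μ KM_soc_F KM_soc_chk M.reps
  (fun y_ h0 => (Or.imp (fun h1 => h1) (fun h1 => (Exists.imp (fun q_ h2 => ⟨M.H.iff.1 h2.1, (Exists.imp (fun k_ h3 => ⟨M.H.iff.1 h3.1, h3.2⟩) (h2.2 M.H.good M.H.ne))⟩) (h1 M.H.good M.H.ne))) (h y_ (M.H.iff.2 h0))))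
theorem KM_mdl {G : Type*} [Group G] {z u v a b x y : G}
    (h : Q3 z u v a b x)
    (k : KY z u v x y)
    (n1 : z ≠ 1) :
    ∃ R, Mdl KM_o KM_cs KM_L R [z, u, v, a, b, x, x⁻¹, y, y⁻¹] (sp [z, u, v, a, b, x, x⁻¹, y, y⁻¹]) ∧ #(sp [z, u, v, a, b, x, x⁻¹, y, y⁻¹]) = 288 :=
  mdl_of KM_P rfl (KM_r h k) (.v (nat_lit 0)) (.v (nat_lit 0)) n1 n1 
    fun _ ms _ M hl => match ms, M, (hl : ms.length = 9) with
      | [_, _, _, _, _, _, _, _, _], M, _ => KM_soc M
noncomputable def KM_lQ : List ℕ := [(nat_lit 0xbdab49ca307b9ac5a928398a418820), (nat_lit 0xb5e72ad2115a9287b9ac20c4731401), (nat_lit 0xbdab29d14e5c0e67c4836b029400a2), (nat_lit 0x9d6cfbadcaa44ec940886984919401), (nat_lit 0xbda74ac92d59e05792227058a020c3), (nat_lit 0x951f65dda9a9e2c9920870caa30801), (nat_lit 0xb5e74ac9ca7c4835c0e64a00d60445), (nat_lit 0xaceebb3d4e94088a44ec48cad30820), (nat_lit 0xb5eb29d1a97922259e055010e0b066), (nat_lit 0xa49777d92d99208a9e2c5184e19420),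 (nat_lit 0x9d6cbbbe11929a6a39233b00440445), (nat_lit 0xbda72ad0877b5c15a540814d110d88), (nat_lit 0x951f75d8879a5c3ab5468b010404a2), (nat_lit 0xacecbbbce4a25c5935428051103066), (nat_lit 0x5be9594ce4b35ccba54888c5031420), (nat_lit 0x9d6efb2c8793542a25c5881900a0c3), (nat_lit 0x951767de119b925aa9a2381840a066), (nat_lit 0xa49767dce4ab5469a5c38203160045), (nat_lit 0xaceefb2e30a3923929a622027600a2), (nat_lit 0xb5eb49c8e45a5407b5c1888702990c), (nat_lit 0x7ae53a5487ba548b35cc818b118801), (nat_lit 0xa49f75da30aa9a29b92520507030c3), (nat_lit 0xacecfbada991201a1e207146a1190c), (nat_lit 0x5be939552db9223b1e067302a40045), (nat_lit 0x9d6ebb3d2da1e2091201508ce28d88), (nat_lit 0x951777d94eac4e09c0814946d11988), (nat_lit 0x7ae93955cab40e5bc4824810d0b0c3), (nat_lit 0x7ae55a4da9b1e06b92235200e604a2), (nat_lit 0x5be55a4d4ebc482b40e56858902066), (nat_lit 0xa49f65ddca9c081ac4e0688c928d0c), (nat_lit 0x7ae9594e30ba920b39a1394c410d0c),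 (nat_lit 0x5be53a5611b39a1ba9202086729988)]
noncomputable def KM_lQ_W : List (List ℕ) := [[],
  [(nat_lit 0)],
  [(nat_lit 1)],
  [(nat_lit 2)],
  [(nat_lit 3)],
  [(nat_lit 4)],
  [(nat_lit 0), (nat_lit 1)],
  [(nat_lit 0), (nat_lit 2)],
  [(nat_lit 0), (nat_lit 3)],
  [(nat_lit 0), (nat_lit 4)],
  [(nat_lit 1), (nat_lit 2)],
  [(nat_lit 1), (nat_lit 3)],
  [(nat_lit 1), (nat_lit 4)],
  [(nat_lit 2), (nat_lit 3)],
  [(nat_lit 2), (nat_lit 4)],
  [(nat_lit 3), (nat_lit 2)],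
  [(nat_lit 3), (nat_lit 4)],
  [(nat_lit 4), (nat_lit 1)],
  [(nat_lit 0), (nat_lit 1), (nat_lit 2)],
  [(nat_lit 0), (nat_lit 1), (nat_lit 3)],
  [(nat_lit 0), (nat_lit 2), (nat_lit 4)],
  [(nat_lit 0), (nat_lit 3), (nat_lit 4)],
  [(nat_lit 1), (nat_lit 2), (nat_lit 3)],
  [(nat_lit 1), (nat_lit 2), (nat_lit 4)],
  [(nat_lit 1), (nat_lit 3), (nat_lit 2)],
  [(nat_lit 1), (nat_lit 3), (nat_lit 4)],
  [(nat_lit 2), (nat_lit 3), (nat_lit 4)],
  [(nat_lit 2), (nat_lit 4), (nat_lit 1)],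
  [(nat_lit 3), (nat_lit 2), (nat_lit 4)],
  [(nat_lit 3), (nat_lit 4), (nat_lit 1)],
  [(nat_lit 1), (nat_lit 2), (nat_lit 3), (nat_lit 4)],
  [(nat_lit 1), (nat_lit 3), (nat_lit 2), (nat_lit 4)]]
noncomputable def KM_lQ_h (c : ℕ) : ℕ := Nat.mod c (nat_lit 223)
theorem KM_lQ_E {G : Type*} [Group G] {R : ℕ → G → Prop} {z u v a b x y : G} {H : Subgroup G}
    (M : Mdl KM_o KM_cs KM_L R [z, u, v, a, b, x, x⁻¹, y, y⁻¹] H) :
    EnumS R KM_lQ (sp [z, u, v, a, b]) :=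
  enumS_sp M.μ.1 (M.reps.tms M.μ.1 [(.v (nat_lit 0)), (.v (nat_lit 1)), (.v (nat_lit 2)), (.v (nat_lit 3)), (.v (nat_lit 4))] (cs' := [(nat_lit 0xb5e72ad2115a9287b9ac20c4731401), (nat_lit 0xbdab29d14e5c0e67c4836b029400a2), (nat_lit 0x9d6cfbadcaa44ec940886984919401), (nat_lit 0xbda74ac92d59e05792227058a020c3), (nat_lit 0x951f65dda9a9e2c9920870caa30801)]) (by decide +kernel))
    (Ws := KM_lQ_W) (by decide +kernel) (by decide +kernel)
theorem KM_lQ_c {G : Type*} [Group G] {R : ℕ → G → Prop} {z u v a b x y : G} {H : Subgroup G}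
    (M : Mdl KM_o KM_cs KM_L R [z, u, v, a, b, x, x⁻¹, y, y⁻¹] H) :
    #(sp [z, u, v, a, b]) = 32 :=
  (KM_lQ_E M).card M.μ (h := KM_lQ_h) (by decide +kernel)
noncomputable def KM_lV : List ℕ := [(nat_lit 0xbdab49ca307b9ac5a928398a418820), (nat_lit 0xb5e72ad2115a9287b9ac20c4731401), (nat_lit 0xbdab29d14e5c0e67c4836b029400a2), (nat_lit 0xb5e74ac9ca7c4835c0e64a00d60445)]
noncomputable def KM_lV_W : List (List ℕ) := [[],
  [(nat_lit 0)],
  [(nat_lit 1)],
  [(nat_lit 0), (nat_lit 1)]]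
noncomputable def KM_lV_h (c : ℕ) : ℕ := Nat.mod c (nat_lit 6)
theorem KM_lV_E {G : Type*} [Group G] {R : ℕ → G → Prop} {z u v a b x y : G} {H : Subgroup G}
    (M : Mdl KM_o KM_cs KM_L R [z, u, v, a, b, x, x⁻¹, y, y⁻¹] H) :
    EnumS R KM_lV (sp [z, u]) :=
  enumS_sp M.μ.1 (M.reps.tms M.μ.1 [(.v (nat_lit 0)), (.v (nat_lit 1))] (cs' := [(nat_lit 0xb5e72ad2115a9287b9ac20c4731401), (nat_lit 0xbdab29d14e5c0e67c4836b029400a2)]) (by decide +kernel))
    (Ws := KM_lV_W) (by decide +kernel) (by decide +kernel)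
theorem KM_lV_c {G : Type*} [Group G] {R : ℕ → G → Prop} {z u v a b x y : G} {H : Subgroup G}
    (M : Mdl KM_o KM_cs KM_L R [z, u, v, a, b, x, x⁻¹, y, y⁻¹] H) :
    #(sp [z, u]) = 4 :=
  (KM_lV_E M).card M.μ (h := KM_lV_h) (by decide +kernel)
noncomputable def KM_lQ2 : List ℕ := [(nat_lit 0xbdab49ca307b9ac5a928398a418820), (nat_lit 0xb5e72ad2115a9287b9ac20c4731401), (nat_lit 0xb5e74ac9ca7c4835c0e64a00d60445), (nat_lit 0xb5eb29d1a97922259e055010e0b066), (nat_lit 0xaceebb3d4e94088a44ec48cad30820), (nat_lit 0xa49777d92d99208a9e2c5184e19420), (nat_lit 0xbdab29d14e5c0e67c4836b029400a2), (nat_lit 0xbda74ac92d59e05792227058a020c3), (nat_lit 0x9d6cfbadcaa44ec940886984919401), (nat_lit 0x951f65dda9a9e2c9920870caa30801), (nat_lit 0xbda72ad0877b5c15a540814d110d88), (nat_lit 0x9d6cbbbe11929a6a39233b00440445), (nat_lit 0x951f75d8879a5c3ab5468b010404a2), (nat_lit 0x9d6efb2c8793542a25c5881900a0c3), (nat_lit 0x951767de119b925aa9a2381840a066),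 (nat_lit 0xacecbbbce4a25c5935428051103066), (nat_lit 0x5be9594ce4b35ccba54888c5031420), (nat_lit 0xa49767dce4ab5469a5c38203160045), (nat_lit 0xb5eb49c8e45a5407b5c1888702990c), (nat_lit 0xaceefb2e30a3923929a622027600a2), (nat_lit 0xa49f75da30aa9a29b92520507030c3), (nat_lit 0x7ae53a5487ba548b35cc818b118801), (nat_lit 0xacecfbada991201a1e207146a1190c), (nat_lit 0xa49f65ddca9c081ac4e0688c928d0c), (nat_lit 0x9d6ebb3d2da1e2091201508ce28d88), (nat_lit 0x7ae55a4da9b1e06b92235200e604a2), (nat_lit 0x7ae93955cab40e5bc4824810d0b0c3), (nat_lit 0x951777d94eac4e09c0814946d11988), (nat_lit 0x5be55a4d4ebc482b40e56858902066), (nat_lit 0x5be939552db9223b1e067302a40045), (nat_lit 0x5be53a5611b39a1ba9202086729988), (nat_lit 0x7ae9594e30ba920b39a1394c410d0c)]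
noncomputable def KM_lQ2_W : List (List ℕ) := [[],
  [(nat_lit 0)],
  [(nat_lit 1)],
  [(nat_lit 2)],
  [(nat_lit 3)],
  [(nat_lit 4)],
  [(nat_lit 0), (nat_lit 1)],
  [(nat_lit 0), (nat_lit 2)],
  [(nat_lit 0), (nat_lit 3)],
  [(nat_lit 0), (nat_lit 4)],
  [(nat_lit 1), (nat_lit 2)],
  [(nat_lit 1), (nat_lit 3)],
  [(nat_lit 1), (nat_lit 4)],
  [(nat_lit 2), (nat_lit 3)],
  [(nat_lit 2), (nat_lit 4)],
  [(nat_lit 3), (nat_lit 2)],
  [(nat_lit 3), (nat_lit 4)],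
  [(nat_lit 4), (nat_lit 1)],
  [(nat_lit 0), (nat_lit 1), (nat_lit 2)],
  [(nat_lit 0), (nat_lit 1), (nat_lit 3)],
  [(nat_lit 0), (nat_lit 2), (nat_lit 4)],
  [(nat_lit 0), (nat_lit 3), (nat_lit 4)],
  [(nat_lit 1), (nat_lit 2), (nat_lit 3)],
  [(nat_lit 1), (nat_lit 2), (nat_lit 4)],
  [(nat_lit 1), (nat_lit 3), (nat_lit 2)],
  [(nat_lit 1), (nat_lit 3), (nat_lit 4)],
  [(nat_lit 2), (nat_lit 3), (nat_lit 4)],
  [(nat_lit 2), (nat_lit 4), (nat_lit 1)],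
  [(nat_lit 3), (nat_lit 2), (nat_lit 4)],
  [(nat_lit 3), (nat_lit 4), (nat_lit 1)],
  [(nat_lit 1), (nat_lit 2), (nat_lit 3), (nat_lit 4)],
  [(nat_lit 1), (nat_lit 3), (nat_lit 2), (nat_lit 4)]]
noncomputable def KM_lQ2_h (c : ℕ) : ℕ := Nat.mod c (nat_lit 169)
theorem KM_lQ2_E {G : Type*} [Group G] {R : ℕ → G → Prop} {z u v a b x y : G} {H : Subgroup G}
    (M : Mdl KM_o KM_cs KM_L R [z, u, v, a, b, x, x⁻¹, y, y⁻¹] H) :
    EnumS R KM_lQ2 (sp [z, z * u, z * a, z * v, z * b]) :=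
  enumS_sp M.μ.1 (M.reps.tms M.μ.1 [(.v (nat_lit 0)), (.mul (.v (nat_lit 0)) (.v (nat_lit 1))), (.mul (.v (nat_lit 0)) (.v (nat_lit 3))), (.mul (.v (nat_lit 0)) (.v (nat_lit 2))), (.mul (.v (nat_lit 0)) (.v (nat_lit 4)))] (cs' := [(nat_lit 0xb5e72ad2115a9287b9ac20c4731401), (nat_lit 0xb5e74ac9ca7c4835c0e64a00d60445), (nat_lit 0xb5eb29d1a97922259e055010e0b066), (nat_lit 0xaceebb3d4e94088a44ec48cad30820), (nat_lit 0xa49777d92d99208a9e2c5184e19420)]) (by decide +kernel))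
    (Ws := KM_lQ2_W) (by decide +kernel) (by decide +kernel)
theorem KM_lQ2_c {G : Type*} [Group G] {R : ℕ → G → Prop} {z u v a b x y : G} {H : Subgroup G}
    (M : Mdl KM_o KM_cs KM_L R [z, u, v, a, b, x, x⁻¹, y, y⁻¹] H) :
    #(sp [z, z * u, z * a, z * v, z * b]) = 32 :=
  (KM_lQ2_E M).card M.μ (h := KM_lQ2_h) (by decide +kernel)
noncomputable def KM_z_F : Fm := (.all KM_L (.qf (.eq (.mul (.v (nat_lit 0)) (.v (nat_lit 1))) (.mul (.v (nat_lit 1)) (.v (nat_lit 0))))))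
theorem KM_z_chk : Fm.chk KM_o KM_z_F KM_cs = true := by decide +kernel
theorem KM_z {G : Type*} [Group G] {R : ℕ → G → Prop} {z u v a b x y : G} {H : Subgroup G}
    (M : Mdl KM_o KM_cs KM_L R [z, u, v, a, b, x, x⁻¹, y, y⁻¹] H) :
    ∀ c ∈ H, c * z = z * c :=
  have h : ∀ c, InL KM_o R KM_L c → c * z = z * c :=
    Fm.sound M.μ KM_z_F KM_z_chk M.reps
  (fun c h0 => (h c (M.H.iff.2 h0)))
noncomputable def KM_cu_F : Fm := (.all KM_L (.imp (.eq (.mul (.v (nat_lit 0)) (.v (nat_lit 2))) (.mul (.v (nat_lit 2)) (.v (nat_lit 0)))) (.and (.qf (.mem (.v (nat_lit 0)) KM_lQ)) (.imp (.eq (.mul (.v (nat_lit 0)) (.v (nat_lit 0))) .one) (.qf (.or (.mem (.v (nat_lit 0)) KM_lV) (.or (.mem (.mul (.v (nat_lit 0)) (.v (nat_lit 3))) KM_lV) (.mem (.mul (.v (nat_lit 0)) (.v (nat_lit 4))) KM_lV))))))))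
theorem KM_cu_chk : Fm.chk KM_o KM_cu_F KM_cs = true := by decide +kernel
theorem KM_cu {G : Type*} [Group G] {R : ℕ → G → Prop} {z u v a b x y : G} {H : Subgroup G}
    (M : Mdl KM_o KM_cs KM_L R [z, u, v, a, b, x, x⁻¹, y, y⁻¹] H) :
    ∀ c ∈ H, c * u = u * c → c ∈ sp [z, u, v, a, b] ∧ (c * c = 1 → c ∈ sp [z, u] ∨ c * v ∈ sp [z, u] ∨ c * a ∈ sp [z, u]) :=
  have h : ∀ c, InL KM_o R KM_L c → c * u = u * c → InS R KM_lQ (c) ∧ (c * c = 1 → InS R KM_lV (c) ∨ InS R KM_lV (c * v) ∨ InS R KM_lV (c * a)) :=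
    Fm.sound M.μ KM_cu_F KM_cu_chk M.reps
  (fun c h0 => (fun h1 => (And.imp (fun h2 => ((KM_lQ_E M).iff.1 h2)) (fun h2 => (fun h3 => ((or_congr (KM_lV_E M).iff (or_congr (KM_lV_E M).iff (KM_lV_E M).iff)).1 (h2 h3)))) ((h c (M.H.iff.2 h0)) h1))))
noncomputable def KM_inv_F : Fm := (.all KM_L (.imp (.eq (.mul (.v (nat_lit 0)) (.v (nat_lit 0))) .one) (.qf (.mem (.v (nat_lit 0)) KM_lQ))))
theorem KM_inv_chk : Fm.chk KM_o KM_inv_F KM_cs = true := by decide +kernel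
theorem KM_inv {G : Type*} [Group G] {R : ℕ → G → Prop} {z u v a b x y : G} {H : Subgroup G}
    (M : Mdl KM_o KM_cs KM_L R [z, u, v, a, b, x, x⁻¹, y, y⁻¹] H) :
    ∀ c ∈ H, c * c = 1 → c ∈ sp [z, u, v, a, b] :=
  have h : ∀ c, InL KM_o R KM_L c → c * c = 1 → InS R KM_lQ (c) :=
    Fm.sound M.μ KM_inv_F KM_inv_chk M.reps
  (fun c h0 => (fun h1 => ((KM_lQ_E M).iff.1 ((h c (M.H.iff.2 h0)) h1))))
noncomputable def KM_t4_F : Fm := (.allS KM_lQ (.imp (.eq (.mul (.v (nat_lit 0)) (.v (nat_lit 0))) .one) (.imp (.not (.eq (.v (nat_lit 0)) .one)) (.imp (.not (.eq (.v (nat_lit 0)) (.v (nat_lit 1)))) (.all KM_L (.lt (.mul (.mul (.v (nat_lit 0)) (.v (nat_lit 1))) (.inv (.v (nat_lit 0)))) (.and (.imp (.eq (.v (nat_lit 0)) (.v (nat_lit 2))) (.qf (.eq (.pw (.v (nat_lit 1)) (nat_lit 4)) .one))) (.imp (.eq (.v (nat_lit 0)) (.mul (.v (nat_lit 3)) (.v (nat_lit 2)))) (.imp (.eq (.pw (.v (nat_lit 1)) (nat_lit 3)) .one) (.qf (.eq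 (.v (nat_lit 1)) .one)))))))))))
theorem KM_t4_chk : Fm.chk KM_o KM_t4_F KM_cs = true := by decide +kernel
theorem KM_t4 {G : Type*} [Group G] {R : ℕ → G → Prop} {z u v a b x y : G} {H : Subgroup G}
    (M : Mdl KM_o KM_cs KM_L R [z, u, v, a, b, x, x⁻¹, y, y⁻¹] H) :
    ∀ t ∈ sp [z, u, v, a, b], t * t = 1 → t ≠ 1 → t ≠ z → (∀ c ∈ H, (c * t * c⁻¹ = t → c ^ 4 = 1) ∧ (c * t * c⁻¹ = z * t → c ^ 3 = 1 → c = 1)) :=
  have h : ∀ t, InS R KM_lQ t → t * t = 1 → t ≠ 1 → t ≠ z → (∀ c, InL KM_o R KM_L c → (c * t * c⁻¹ = t → c ^ 4 = 1) ∧ (c * t * c⁻¹ = z * t → c ^ 3 = 1 → c = 1)) :=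
    Fm.sound M.μ KM_t4_F KM_t4_chk M.reps
  (fun t h0 => (fun h1 => (fun h2 => (fun h3 => (fun c h4 => (((((h t ((KM_lQ_E M).iff.2 h0)) h1) h2) h3) c (M.H.iff.2 h4)))))))
noncomputable def KM_q_f_F : Fm := (.qf (.and (.eq (.mul (.v (nat_lit 0)) (.v (nat_lit 0))) .one) (.and (.eq (.mul (.mul (.v (nat_lit 0)) (.v (nat_lit 1))) (.mul (.v (nat_lit 0)) (.v (nat_lit 1)))) .one) (.and (.eq (.mul (.mul (.v (nat_lit 0)) (.v (nat_lit 3))) (.mul (.v (nat_lit 0)) (.v (nat_lit 3)))) .one) (.and (.eq (.mul (.mul (.v (nat_lit 0)) (.v (nat_lit 2))) (.mul (.v (nat_lit 0)) (.v (nat_lit 2)))) .one) (.and (.eq (.mul (.mul (.v (nat_lit 0)) (.v (nat_lit 4))) (.mul (.v (nat_lit 0)) (.v (nat_lit 4)))) .one) (.and (.eq (.pw (.v (nat_lit 7)) (nat_lit 3)) .one) (.and (.eq (.mul (.mul (.v (nat_lit 7)) (.mul (.v (nat_lit 0)) (.v (nat_lit 1)))) (.v (nat_lit 8))) (.mul (.v (nat_lit 0)) (.v (nat_lit 2)))) (.and (.eq (.mul (.mul (.v (nat_lit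 7)) (.mul (.v (nat_lit 0)) (.v (nat_lit 3)))) (.v (nat_lit 8))) (.mul (.v (nat_lit 0)) (.v (nat_lit 4)))) (.and (.eq (.pw (.mul (.mul (.v (nat_lit 0)) (.v (nat_lit 1))) (.v (nat_lit 7))) (nat_lit 3)) .one) (.and (.eq (.pw (.mul (.mul (.v (nat_lit 0)) (.v (nat_lit 3))) (.v (nat_lit 7))) (nat_lit 3)) .one) (.and (.eq (.mul (.mul (.v (nat_lit 0)) (.v (nat_lit 1))) (.mul (.v (nat_lit 0)) (.v (nat_lit 3)))) (.mul (.mul (.v (nat_lit 0)) (.v (nat_lit 3))) (.mul (.v (nat_lit 0)) (.v (nat_lit 1))))) (.and (.eq (.mul (.mul (.mul (.mul (.v (nat_lit 0)) (.v (nat_lit 1))) (.mul (.v (nat_lit 0)) (.v (nat_lit 4)))) (.inv (.mul (.v (nat_lit 0)) (.v (nat_lit 1))))) (.inv (.mul (.v (nat_lit 0)) (.v (nat_lit 4))))) (.v (nat_lit 0))) (.and (.eq (.mul (.v (nat_lit 0)) (.v (nat_lit 7))) (.mul (.v (nat_lit 7)) (.v (nat_lit 0)))) (.and (.eq (.mul (.v (nat_lit 0)) (.mul (.v (nat_lit 0)) (.v (nat_lit 1)))) (.mul (.mul (.v (nat_lit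 0)) (.v (nat_lit 1))) (.v (nat_lit 0)))) (.eq (.mul (.v (nat_lit 0)) (.mul (.v (nat_lit 0)) (.v (nat_lit 3)))) (.mul (.mul (.v (nat_lit 0)) (.v (nat_lit 3))) (.v (nat_lit 0)))))))))))))))))))
theorem KM_q_f_chk : Fm.chk KM_o KM_q_f_F KM_cs = true := by decide +kernel
theorem KM_q_f {G : Type*} [Group G] {R : ℕ → G → Prop} {z u v a b x y : G} {H : Subgroup G}
    (M : Mdl KM_o KM_cs KM_L R [z, u, v, a, b, x, x⁻¹, y, y⁻¹] H) :
    z * z = 1 ∧ z * u * (z * u) = 1 ∧ z * a * (z * a) = 1 ∧ z * v * (z * v) = 1 ∧ z * b * (z * b) = 1 ∧ y ^ 3 = 1 ∧ y * (z * u) * y⁻¹ = z * v ∧ y * (z * a) * y⁻¹ = z * b ∧ (z * u * y) ^ 3 = 1 ∧ (z * a * y) ^ 3 = 1 ∧ z * u * (z * a) = z * a * (z * u) ∧ ⁅z * u, z * b⁆ = z ∧ z * y = y * z ∧ z * (z * u) = z * u * z ∧ z * (z * a) = z * a * z :=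
  Fm.sound M.μ KM_q_f_F KM_q_f_chk M.reps
theorem KM_q {G : Type*} [Group G] {R : ℕ → G → Prop} {z u v a b x y : G} {H : Subgroup G}
    (M : Mdl KM_o KM_cs KM_L R [z, u, v, a, b, x, x⁻¹, y, y⁻¹] H) :
    Q3 z (z * u) (z * a) (z * v) (z * b) y :=
  have h := KM_q_f M
  ⟨h.1, h.2.1, h.2.2.1, h.2.2.2.1, h.2.2.2.2.1, h.2.2.2.2.2.1, h.2.2.2.2.2.2.1, h.2.2.2.2.2.2.2.1, h.2.2.2.2.2.2.2.2.1, h.2.2.2.2.2.2.2.2.2.1, h.2.2.2.2.2.2.2.2.2.2.1, h.2.2.2.2.2.2.2.2.2.2.2.1, h.2.2.2.2.2.2.2.2.2.2.2.2.1, h.2.2.2.2.2.2.2.2.2.2.2.2.2.1, h.2.2.2.2.2.2.2.2.2.2.2.2.2.2, trivial⟩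
noncomputable def KM_k_f_F : Fm := (.qf (.and (.eq (.pw (.v (nat_lit 5)) (nat_lit 3)) .one) (.and (.eq (.mul (.v (nat_lit 5)) (.v (nat_lit 7))) (.mul (.v (nat_lit 7)) (.v (nat_lit 5)))) (.and (.eq (.mul (.v (nat_lit 5)) (.v (nat_lit 0))) (.mul (.v (nat_lit 0)) (.v (nat_lit 5)))) (.and (.eq (.mul (.mul (.v (nat_lit 5)) (.mul (.v (nat_lit 0)) (.v (nat_lit 1)))) (.v (nat_lit 6))) (.mul (.v (nat_lit 0)) (.v (nat_lit 3)))) (.eq (.mul (.mul (.v (nat_lit 5)) (.mul (.v (nat_lit 0)) (.v (nat_lit 3)))) (.v (nat_lit 6))) (.mul (.mul (.v (nat_lit 0)) (.mul (.v (nat_lit 0)) (.v (nat_lit 1)))) (.mul (.v (nat_lit 0)) (.v (nat_lit 3))))))))))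
theorem KM_k_f_chk : Fm.chk KM_o KM_k_f_F KM_cs = true := by decide +kernel
theorem KM_k_f {G : Type*} [Group G] {R : ℕ → G → Prop} {z u v a b x y : G} {H : Subgroup G}
    (M : Mdl KM_o KM_cs KM_L R [z, u, v, a, b, x, x⁻¹, y, y⁻¹] H) :
    x ^ 3 = 1 ∧ x * y = y * x ∧ x * z = z * x ∧ x * (z * u) * x⁻¹ = z * a ∧ x * (z * a) * x⁻¹ = z * (z * u) * (z * a) :=
  Fm.sound M.μ KM_k_f_F KM_k_f_chk M.reps
theorem KM_k {G : Type*} [Group G] {R : ℕ → G → Prop} {z u v a b x y : G} {H : Subgroup G}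
    (M : Mdl KM_o KM_cs KM_L R [z, u, v, a, b, x, x⁻¹, y, y⁻¹] H) :
    KY z (z * u) (z * a) y x :=
  have h := KM_k_f M
  ⟨h.1, h.2.1, h.2.2.1, h.2.2.2.1, h.2.2.2.2, trivial⟩
noncomputable def KM_Q1_F : Fm := (.allS KM_lQ (.qf (.mem (.v (nat_lit 0)) KM_lQ2)))
theorem KM_Q1_chk : Fm.chk KM_o KM_Q1_F KM_cs = true := by decide +kernel
theorem KM_Q1 {G : Type*} [Group G] {R : ℕ → G → Prop} {z u v a b x y : G} {H : Subgroup G}
    (M : Mdl KM_o KM_cs KM_L R [z, u, v, a, b, x, x⁻¹, y, y⁻¹] H) :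
    ∀ c ∈ sp [z, u, v, a, b], c ∈ sp [z, z * u, z * a, z * v, z * b] :=
  have h : ∀ c, InS R KM_lQ c → InS R KM_lQ2 (c) :=
    Fm.sound M.μ KM_Q1_F KM_Q1_chk M.reps
  (fun c h0 => ((KM_lQ2_E M).iff.1 (h c ((KM_lQ_E M).iff.2 h0))))
noncomputable def KM_Q2_F : Fm := (.allS KM_lQ2 (.qf (.mem (.v (nat_lit 0)) KM_lQ)))
theorem KM_Q2_chk : Fm.chk KM_o KM_Q2_F KM_cs = true := by decide +kernel
theorem KM_Q2 {G : Type*} [Group G] {R : ℕ → G → Prop} {z u v a b x y : G} {H : Subgroup G}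
    (M : Mdl KM_o KM_cs KM_L R [z, u, v, a, b, x, x⁻¹, y, y⁻¹] H) :
    ∀ c ∈ sp [z, z * u, z * a, z * v, z * b], c ∈ sp [z, u, v, a, b] :=
  have h : ∀ c, InS R KM_lQ2 c → InS R KM_lQ (c) :=
    Fm.sound M.μ KM_Q2_F KM_Q2_chk M.reps
  (fun c h0 => ((KM_lQ_E M).iff.1 (h c ((KM_lQ2_E M).iff.2 h0))))
noncomputable def KM_E_F : Fm := (.allS KM_lQ (.imp (.eq (.mul (.v (nat_lit 0)) (.v (nat_lit 2))) (.mul (.v (nat_lit 2)) (.v (nat_lit 0)))) (.imp (.eq (.mul (.v (nat_lit 0)) (.v (nat_lit 3))) (.mul (.v (nat_lit 3)) (.v (nat_lit 0)))) (.qf (.or (.eq (.v (nat_lit 0)) .one) (.or (.eq (.v (nat_lit 0)) (.v (nat_lit 1))) (.or (.eq (.v (nat_lit 0)) (.v (nat_lit 2))) (.or (.eq (.v (nat_lit 0)) (.v (nat_lit 3))) (.or (.eq (.v (nat_lit 0)) (.mul (.v (nat_lit 1)) (.v (nat_lit 2)))) (.or (.eq (.v (nat_lit 0)) (.mul (.v (nat_lit 1)) (.v (nat_lit 3)))) (.or (.eq (.v (nat_lit 0)) (.mul (.v (nat_lit 2)) (.v (nat_lit 3)))) (.eq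 (.v (nat_lit 0)) (.mul (.mul (.v (nat_lit 1)) (.v (nat_lit 2))) (.v (nat_lit 3)))))))))))))))
theorem KM_E_chk : Fm.chk KM_o KM_E_F KM_cs = true := by decide +kernel
theorem KM_E {G : Type*} [Group G] {R : ℕ → G → Prop} {z u v a b x y : G} {H : Subgroup G}
    (M : Mdl KM_o KM_cs KM_L R [z, u, v, a, b, x, x⁻¹, y, y⁻¹] H) :
    ∀ c ∈ sp [z, u, v, a, b], c * u = u * c → c * v = v * c → c = 1 ∨ c = z ∨ c = u ∨ c = v ∨ c = z * u ∨ c = z * v ∨ c = u * v ∨ c = z * u * v :=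
  have h : ∀ c, InS R KM_lQ c → c * u = u * c → c * v = v * c → c = 1 ∨ c = z ∨ c = u ∨ c = v ∨ c = z * u ∨ c = z * v ∨ c = u * v ∨ c = z * u * v :=
    Fm.sound M.μ KM_E_F KM_E_chk M.reps
  (fun c h0 => (h c ((KM_lQ_E M).iff.2 h0)))
noncomputable def KM_e_F : Fm := (.qf (.and (.not (.mem (.v (nat_lit 2)) KM_lV)) (.and (.not (.mem (.v (nat_lit 3)) KM_lV)) (.and (.eq (.mul (.mul (.v (nat_lit 2)) (.v (nat_lit 3))) (.mul (.v (nat_lit 2)) (.v (nat_lit 3)))) (.v (nat_lit 0))) (.and (.eq (.mul (.mul (.v (nat_lit 4)) (.v (nat_lit 1))) (.inv (.v (nat_lit 4)))) (.mul (.v (nat_lit 0)) (.v (nat_lit 1)))) (.and (.eq (.mul (.mul (.inv (.v (nat_lit 4))) (.mul (.v (nat_lit 0)) (.v (nat_lit 3)))) (.v (nat_lit 4))) (.mul (.v (nat_lit 0)) (.v (nat_lit 3)))) (.and (.not (.eq (.pw (.mul (.v (nat_lit 5)) (.v (nat_lit 8))) (nat_lit 2)) .one)) (.and (.eq (.mul (.mul (.v (nat_lit 2)) (.v (nat_lit 3))) (.v (nat_lit 1))) (.mul (.v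 (nat_lit 1)) (.mul (.v (nat_lit 2)) (.v (nat_lit 3))))) (.eq (.mul (.mul (.v (nat_lit 2)) (.v (nat_lit 3))) (.v (nat_lit 0))) (.mul (.v (nat_lit 0)) (.mul (.v (nat_lit 2)) (.v (nat_lit 3)))))))))))))
theorem KM_e_chk : Fm.chk KM_o KM_e_F KM_cs = true := by decide +kernel
theorem KM_e {G : Type*} [Group G] {R : ℕ → G → Prop} {z u v a b x y : G} {H : Subgroup G}
    (M : Mdl KM_o KM_cs KM_L R [z, u, v, a, b, x, x⁻¹, y, y⁻¹] H) :
    v ∉ sp [z, u] ∧ a ∉ sp [z, u] ∧ v * a * (v * a) = z ∧ b * u * b⁻¹ = z * u ∧ b⁻¹ * (z * a) * b = z * a ∧ (x * y⁻¹) ^ 2 ≠ 1 ∧ v * a * u = u * (v * a) ∧ v * a * z = z * (v * a) :=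
  have h : ¬ InS R KM_lV (v) ∧ ¬ InS R KM_lV (a) ∧ v * a * (v * a) = z ∧ b * u * b⁻¹ = z * u ∧ b⁻¹ * (z * a) * b = z * a ∧ (x * y⁻¹) ^ 2 ≠ 1 ∧ v * a * u = u * (v * a) ∧ v * a * z = z * (v * a) :=
    Fm.sound M.μ KM_e_F KM_e_chk M.reps
  ((and_congr (not_congr (KM_lV_E M).iff) (and_congr (not_congr (KM_lV_E M).iff) Iff.rfl)).1 h)
noncomputable def gv0_r_R : List (List ℕ) := [[0,0],
  [1,1],
  [2,2],
  [3,3],
  [4,4],
  [5,6],
  [6,5],
  [2,1,2,1],
  [1,0,1,0],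
  [2,0,2,0],
  [3,0,3,0],
  [4,0,4,0],
  [3,1,3,1],
  [4,2,4,2],
  [4,3,4,3],
  [1,0,4,1,4],
  [2,0,3,2,3],
  [5,5,5],
  [1,6,0,5],
  [0,1,6,1,5],
  [5,4,5,4],
  [6,2,5]]
theorem gv0_r {G : Type*} [Group G] {z u v a b p : G}
    (t : QT z u v a b)
    (h : P1 z u b p)
    (e : p * v * p⁻¹ = 1) :
    Rels (nthG [z, u, v, a, b, p, p⁻¹]) gv0_r_R :=
  rels_of_eqs ((InvI.cons t.1 (InvI.cons t.2.1 (InvI.cons t.2.2.1 (InvI.cons t.2.2.2.1 (InvI.cons t.2.2.2.2.1 InvI.nil))))) : InvI [z, u, v, a, b, p] [(nat_lit 0), (nat_lit 1), (nat_lit 2), (nat_lit 3), (nat_lit 4)])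
    (AllEq.append (show AllEq [z, u, v, a, b, p] [((.mul (.v (nat_lit 0)) (.v (nat_lit 0))), .one), ((.mul (.v (nat_lit 1)) (.v (nat_lit 1))), .one), ((.mul (.v (nat_lit 2)) (.v (nat_lit 2))), .one), ((.mul (.v (nat_lit 3)) (.v (nat_lit 3))), .one), ((.mul (.v (nat_lit 4)) (.v (nat_lit 4))), .one), ((.mul (.v (nat_lit 1)) (.v (nat_lit 2))), (.mul (.v (nat_lit 2)) (.v (nat_lit 1)))), ((.mul (.v (nat_lit 0)) (.v (nat_lit 1))), (.mul (.v (nat_lit 1)) (.v (nat_lit 0)))), ((.mul (.v (nat_lit 0)) (.v (nat_lit 2))), (.mul (.v (nat_lit 2)) (.v (nat_lit 0)))), ((.mul (.v (nat_lit 0)) (.v (nat_lit 3))), (.mul (.v (nat_lit 3)) (.v (nat_lit 0)))), ((.mul (.v (nat_lit 0)) (.v (nat_lit 4))), (.mul (.v (nat_lit 4)) (.v (nat_lit 0)))), ((.mul (.v (nat_lit 1)) (.v (nat_lit 3))), (.mul (.v (nat_lit 3)) (.v (nat_lit 1)))), ((.mul (.v (nat_lit 2)) (.v (nat_lit 4))), (.mul (.v (nat_lit 4)) (.v (nat_lit 2)))), ((.mul (.v (nat_lit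 3)) (.v (nat_lit 4))), (.mul (.v (nat_lit 4)) (.v (nat_lit 3)))), ((.mul (.mul (.v (nat_lit 4)) (.v (nat_lit 1))) (.v (nat_lit 4))), (.mul (.v (nat_lit 1)) (.v (nat_lit 0)))), ((.mul (.mul (.v (nat_lit 3)) (.v (nat_lit 2))) (.v (nat_lit 3))), (.mul (.v (nat_lit 2)) (.v (nat_lit 0))))] from t)
    (AllEq.append (show AllEq [z, u, v, a, b, p] [((.pw (.v (nat_lit 5)) (nat_lit 3)), .one), ((.mul (.mul (.v (nat_lit 5)) (.v (nat_lit 0))) (.inv (.v (nat_lit 5)))), (.v (nat_lit 1))), ((.mul (.mul (.v (nat_lit 5)) (.v (nat_lit 1))) (.inv (.v (nat_lit 5)))), (.mul (.v (nat_lit 0)) (.v (nat_lit 1)))), ((.mul (.mul (.v (nat_lit 4)) (.v (nat_lit 5))) (.v (nat_lit 4))), (.inv (.v (nat_lit 5))))] from h)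
    (show AllEq [z, u, v, a, b, p] [((.mul (.mul (.v (nat_lit 5)) (.v (nat_lit 2))) (.inv (.v (nat_lit 5)))), .one)] from ⟨e, trivial⟩)))
    [(.v (nat_lit 0)), (.v (nat_lit 1)), (.v (nat_lit 2)), (.v (nat_lit 3)), (.v (nat_lit 4)), (.v (nat_lit 5)), (.inv (.v (nat_lit 5)))] (by decide +kernel)
noncomputable def gv0_0_S0 : List ℕ := [nat_lit 0xb000014000013008010, nat_lit 0x100000b000004, nat_lit 0x1700000700000500001000c00e, nat_lit 0xa00001c00001b008010, nat_lit 0x1000000d000017000006, nat_lit 0x12000007000000]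
noncomputable def gv0_0_S : List (List ℕ) := [gv0_0_S0]
noncomputable def gv0_0_defs : List ℕ := [(nat_lit 0x500003003000010050000000300000002000000000000000000000)]
noncomputable def gv0_0_recs : List ℕ := [(nat_lit 0xff0000100000ff0000300005020000300005020000000000ff0000000002)]
noncomputable def gv0_0_T : List (List ℕ × ℕ) := [([0], (nat_lit 0x15))]
noncomputable def gv0_0_D : H26.Dag := ⟨[0,1,2,3,4,6,5], [[0,0],
  [1,1],
  [2,2],
  [3,3],
  [4,4],
  [5,6],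
  [6,5],
  [2,0,3,2,3],
  [6,2,5]], [], gv0_0_defs, gv0_0_recs⟩
theorem gv0_0_c : gv0_0_D.check gv0_0_S gv0_0_T = true := by decide +kernel
theorem gv0_0 {G : Type*} [Group G] {g : ℕ → G} (hR : Rels g gv0_r_R) {H : Subgroup G}
    (hH : ∀ k ∈ [], g k ∈ H) : evA g [0] ∈ H :=
  mem_dag (K := 7) (J := [0,1,2,3,4,5,6,16,21]) (D := gv0_0_D) (by decide +kernel) gv0_0_c (by decide +kernel) hR hH
theorem gv0 {G : Type*} [Group G] {z u v a b p : G}
    (t : QT z u v a b)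
    (h : P1 z u b p)
    (e : p * v * p⁻¹ = 1) :
    z = 1 :=
  mul_inv_eq_one.1 ((evA_eq_tm ((InvI.cons t.1 (InvI.cons t.2.1 (InvI.cons t.2.2.1 (InvI.cons t.2.2.2.1 (InvI.cons t.2.2.2.2.1 InvI.nil))))) : InvI [z, u, v, a, b, p] [(nat_lit 0), (nat_lit 1), (nat_lit 2), (nat_lit 3), (nat_lit 4)]) [(.v (nat_lit 0)), (.v (nat_lit 1)), (.v (nat_lit 2)), (.v (nat_lit 3)), (.v (nat_lit 4)), (.v (nat_lit 5)), (.inv (.v (nat_lit 5)))] [0] (.mul (.v (nat_lit 0)) (.inv .one)) (by decide +kernel)).symm.trans (Subgroup.mem_bot.1 (gv0_0 (gv0_r t h e) (H := ⊥) (List.forall_mem_nil _))))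
noncomputable def gv1_r_R : List (List ℕ) := [[0,0],
  [1,1],
  [2,2],
  [3,3],
  [4,4],
  [5,6],
  [6,5],
  [2,1,2,1],
  [1,0,1,0],
  [2,0,2,0],
  [3,0,3,0],
  [4,0,4,0],
  [3,1,3,1],
  [4,2,4,2],
  [4,3,4,3],
  [1,0,4,1,4],
  [2,0,3,2,3],
  [5,5,5],
  [1,6,0,5],
  [0,1,6,1,5],
  [5,4,5,4],
  [0,6,2,5]]
theorem gv1_r {G : Type*} [Group G] {z u v a b p : G}
    (t : QT z u v a b)
    (h : P1 z u b p)
    (e : p * v * p⁻¹ = z) :
    Rels (nthG [z, u, v, a, b, p, p⁻¹]) gv1_r_R :=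
  rels_of_eqs ((InvI.cons t.1 (InvI.cons t.2.1 (InvI.cons t.2.2.1 (InvI.cons t.2.2.2.1 (InvI.cons t.2.2.2.2.1 InvI.nil))))) : InvI [z, u, v, a, b, p] [(nat_lit 0), (nat_lit 1), (nat_lit 2), (nat_lit 3), (nat_lit 4)])
    (AllEq.append (show AllEq [z, u, v, a, b, p] [((.mul (.v (nat_lit 0)) (.v (nat_lit 0))), .one), ((.mul (.v (nat_lit 1)) (.v (nat_lit 1))), .one), ((.mul (.v (nat_lit 2)) (.v (nat_lit 2))), .one), ((.mul (.v (nat_lit 3)) (.v (nat_lit 3))), .one), ((.mul (.v (nat_lit 4)) (.v (nat_lit 4))), .one), ((.mul (.v (nat_lit 1)) (.v (nat_lit 2))), (.mul (.v (nat_lit 2)) (.v (nat_lit 1)))), ((.mul (.v (nat_lit 0)) (.v (nat_lit 1))), (.mul (.v (nat_lit 1)) (.v (nat_lit 0)))), ((.mul (.v (nat_lit 0)) (.v (nat_lit 2))), (.mul (.v (nat_lit 2)) (.v (nat_lit 0)))), ((.mul (.v (nat_lit 0)) (.v (nat_lit 3))), (.mul (.v (nat_lit 3)) (.v (nat_lit 0)))), ((.mul (.v (nat_lit 0)) (.v (nat_lit 4))), (.mul (.v (nat_lit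 4)) (.v (nat_lit 0)))), ((.mul (.v (nat_lit 1)) (.v (nat_lit 3))), (.mul (.v (nat_lit 3)) (.v (nat_lit 1)))), ((.mul (.v (nat_lit 2)) (.v (nat_lit 4))), (.mul (.v (nat_lit 4)) (.v (nat_lit 2)))), ((.mul (.v (nat_lit 3)) (.v (nat_lit 4))), (.mul (.v (nat_lit 4)) (.v (nat_lit 3)))), ((.mul (.mul (.v (nat_lit 4)) (.v (nat_lit 1))) (.v (nat_lit 4))), (.mul (.v (nat_lit 1)) (.v (nat_lit 0)))), ((.mul (.mul (.v (nat_lit 3)) (.v (nat_lit 2))) (.v (nat_lit 3))), (.mul (.v (nat_lit 2)) (.v (nat_lit 0))))] from t)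
    (AllEq.append (show AllEq [z, u, v, a, b, p] [((.pw (.v (nat_lit 5)) (nat_lit 3)), .one), ((.mul (.mul (.v (nat_lit 5)) (.v (nat_lit 0))) (.inv (.v (nat_lit 5)))), (.v (nat_lit 1))), ((.mul (.mul (.v (nat_lit 5)) (.v (nat_lit 1))) (.inv (.v (nat_lit 5)))), (.mul (.v (nat_lit 0)) (.v (nat_lit 1)))), ((.mul (.mul (.v (nat_lit 4)) (.v (nat_lit 5))) (.v (nat_lit 4))), (.inv (.v (nat_lit 5))))] from h)
    (show AllEq [z, u, v, a, b, p] [((.mul (.mul (.v (nat_lit 5)) (.v (nat_lit 2))) (.inv (.v (nat_lit 5)))), (.v (nat_lit 0)))] from ⟨e, trivial⟩)))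
    [(.v (nat_lit 0)), (.v (nat_lit 1)), (.v (nat_lit 2)), (.v (nat_lit 3)), (.v (nat_lit 4)), (.v (nat_lit 5)), (.inv (.v (nat_lit 5)))] (by decide +kernel)
noncomputable def gv1_0_S0 : List ℕ := [nat_lit 0x1b000018006016, nat_lit 0x23000007000010004010, nat_lit 0x27000007000014004012, nat_lit 0x2b000007000018000018, nat_lit 0x3700000b00001000400e, nat_lit 0x3b00000b00001800000d00001a, nat_lit 0x3700003c00001600002b00c01e, nat_lit 0x1f000019000012000002, nat_lit 0x23000019000037000004, nat_lit 0x1d00001f000002, nat_lit 0x33000021000006000000, nat_lit 0x29000033000000, nat_lit 0x3f00003c006016, nat_lit 0x3f00000b00001c008018, nat_lit 0x100003500003200801e, nat_lit 0x4300000f000014004014, nat_lit 0x4700002e00003c000018, nat_lit 0x4b000048006016, nat_lit 0x4b000026000030008018, nat_lit 0x4f00001300001c00401c, nat_lit 0x5300001300001800a01c, nat_lit 0x5700002700003000401c, nat_lit 0x5b00002700002c00a01c, nat_lit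 0x5b00000a00005400801e, nat_lit 0x3900005100005d00005a000014, nat_lit 0xd000061000041000002, nat_lit 0x200006600004500000c, nat_lit 0x1800006600004700000a, nat_lit 0x6a00004a000000, nat_lit 0x1300006e000044000008, nat_lit 0x7600003e000004, nat_lit 0x4f00007900005000001e, nat_lit 0x5600007100004d00007d004012, nat_lit 0x4d000081000056000008, nat_lit 0x1c00008600002f00000c, nat_lit 0x8a000007000000]
noncomputable def gv1_0_S : List (List ℕ) := [gv1_0_S0]
noncomputable def gv1_0_defs : List ℕ := [(nat_lit 0x60000900500009006000040050000400600003005000030040000300600002005000020020000200000002006000010050000100400001002000010010000100600000005000000040000000200000001000000000000000000000)]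
noncomputable def gv1_0_recs : List ℕ := [(nat_lit 0xff0000100000ff0000b00006ff0001300015000001300013020000400004ff0001000004000000b00006ff0000300000ff0001200006ff0001100005ff0000a0000e020001400016040000a00016040000b00015040000500014040000600013000000b00012060001100012010000e00011020000400010020000e0000500000060000f060000e0000f000000200003ff000030000c010000100003ff0000200008ff0000300007ff000010000d000000a0000e01000030000d01000050000a000000400009000000300008060000500006)]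
noncomputable def gv1_0_T : List (List ℕ × ℕ) := [([0], (nat_lit 0x8d))]
noncomputable def gv1_0_D : H26.Dag := ⟨[0,1,2,3,4,6,5], [[0,0],
  [1,1],
  [2,2],
  [3,3],
  [4,4],
  [5,6],
  [6,5],
  [2,1,2,1],
  [2,0,2,0],
  [4,0,4,0],
  [4,2,4,2],
  [5,5,5],
  [1,6,0,5],
  [0,1,6,1,5],
  [5,4,5,4],
  [0,6,2,5]], [], gv1_0_defs, gv1_0_recs⟩
theorem gv1_0_c : gv1_0_D.check gv1_0_S gv1_0_T = true := by decide +kernel
theorem gv1_0 {G : Type*} [Group G] {g : ℕ → G} (hR : Rels g gv1_r_R) {H : Subgroup G}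
    (hH : ∀ k ∈ [], g k ∈ H) : evA g [0] ∈ H :=
  mem_dag (K := 7) (J := [0,1,2,3,4,5,6,7,9,11,13,17,18,19,20,21]) (D := gv1_0_D) (by decide +kernel) gv1_0_c (by decide +kernel) hR hH
theorem gv1 {G : Type*} [Group G] {z u v a b p : G}
    (t : QT z u v a b)
    (h : P1 z u b p)
    (e : p * v * p⁻¹ = z) :
    z = 1 :=
  mul_inv_eq_one.1 ((evA_eq_tm ((InvI.cons t.1 (InvI.cons t.2.1 (InvI.cons t.2.2.1 (InvI.cons t.2.2.2.1 (InvI.cons t.2.2.2.2.1 InvI.nil))))) : InvI [z, u, v, a, b, p] [(nat_lit 0), (nat_lit 1), (nat_lit 2), (nat_lit 3), (nat_lit 4)]) [(.v (nat_lit 0)), (.v (nat_lit 1)), (.v (nat_lit 2)), (.v (nat_lit 3)), (.v (nat_lit 4)), (.v (nat_lit 5)), (.inv (.v (nat_lit 5)))] [0] (.mul (.v (nat_lit 0)) (.inv .one)) (by decide +kernel)).symm.trans (Subgroup.mem_bot.1 (gv1_0 (gv1_r t h e) (H := ⊥) (List.forall_mem_nil _))))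
noncomputable def gv2_r_R : List (List ℕ) := [[0,0],
  [1,1],
  [2,2],
  [3,3],
  [4,4],
  [5,6],
  [6,5],
  [2,1,2,1],
  [1,0,1,0],
  [2,0,2,0],
  [3,0,3,0],
  [4,0,4,0],
  [3,1,3,1],
  [4,2,4,2],
  [4,3,4,3],
  [1,0,4,1,4],
  [2,0,3,2,3],
  [5,5,5],
  [1,6,0,5],
  [0,1,6,1,5],
  [5,4,5,4],
  [1,6,2,5]]
theorem gv2_r {G : Type*} [Group G] {z u v a b p : G}
    (t : QT z u v a b)
    (h : P1 z u b p)
    (e : p * v * p⁻¹ = u) :
    Rels (nthG [z, u, v, a, b, p, p⁻¹]) gv2_r_R :=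
  rels_of_eqs ((InvI.cons t.1 (InvI.cons t.2.1 (InvI.cons t.2.2.1 (InvI.cons t.2.2.2.1 (InvI.cons t.2.2.2.2.1 InvI.nil))))) : InvI [z, u, v, a, b, p] [(nat_lit 0), (nat_lit 1), (nat_lit 2), (nat_lit 3), (nat_lit 4)])
    (AllEq.append (show AllEq [z, u, v, a, b, p] [((.mul (.v (nat_lit 0)) (.v (nat_lit 0))), .one), ((.mul (.v (nat_lit 1)) (.v (nat_lit 1))), .one), ((.mul (.v (nat_lit 2)) (.v (nat_lit 2))), .one), ((.mul (.v (nat_lit 3)) (.v (nat_lit 3))), .one), ((.mul (.v (nat_lit 4)) (.v (nat_lit 4))), .one), ((.mul (.v (nat_lit 1)) (.v (nat_lit 2))), (.mul (.v (nat_lit 2)) (.v (nat_lit 1)))), ((.mul (.v (nat_lit 0)) (.v (nat_lit 1))), (.mul (.v (nat_lit 1)) (.v (nat_lit 0)))), ((.mul (.v (nat_lit 0)) (.v (nat_lit 2))), (.mul (.v (nat_lit 2)) (.v (nat_lit 0)))), ((.mul (.v (nat_lit 0)) (.v (nat_lit 3))), (.mul (.v (nat_lit 3)) (.v (nat_lit 0)))), ((.mul (.v (nat_lit 0)) (.v (nat_lit 4))), (.mul (.v (nat_lit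 4)) (.v (nat_lit 0)))), ((.mul (.v (nat_lit 1)) (.v (nat_lit 3))), (.mul (.v (nat_lit 3)) (.v (nat_lit 1)))), ((.mul (.v (nat_lit 2)) (.v (nat_lit 4))), (.mul (.v (nat_lit 4)) (.v (nat_lit 2)))), ((.mul (.v (nat_lit 3)) (.v (nat_lit 4))), (.mul (.v (nat_lit 4)) (.v (nat_lit 3)))), ((.mul (.mul (.v (nat_lit 4)) (.v (nat_lit 1))) (.v (nat_lit 4))), (.mul (.v (nat_lit 1)) (.v (nat_lit 0)))), ((.mul (.mul (.v (nat_lit 3)) (.v (nat_lit 2))) (.v (nat_lit 3))), (.mul (.v (nat_lit 2)) (.v (nat_lit 0))))] from t)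
    (AllEq.append (show AllEq [z, u, v, a, b, p] [((.pw (.v (nat_lit 5)) (nat_lit 3)), .one), ((.mul (.mul (.v (nat_lit 5)) (.v (nat_lit 0))) (.inv (.v (nat_lit 5)))), (.v (nat_lit 1))), ((.mul (.mul (.v (nat_lit 5)) (.v (nat_lit 1))) (.inv (.v (nat_lit 5)))), (.mul (.v (nat_lit 0)) (.v (nat_lit 1)))), ((.mul (.mul (.v (nat_lit 4)) (.v (nat_lit 5))) (.v (nat_lit 4))), (.inv (.v (nat_lit 5))))] from h)
    (show AllEq [z, u, v, a, b, p] [((.mul (.mul (.v (nat_lit 5)) (.v (nat_lit 2))) (.inv (.v (nat_lit 5)))), (.v (nat_lit 1)))] from ⟨e, trivial⟩)))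
    [(.v (nat_lit 0)), (.v (nat_lit 1)), (.v (nat_lit 2)), (.v (nat_lit 3)), (.v (nat_lit 4)), (.v (nat_lit 5)), (.inv (.v (nat_lit 5)))] (by decide +kernel)
noncomputable def gv2_0_S0 : List ℕ := [nat_lit 0x1700000700000c00400e, nat_lit 0x1b000007000010004010, nat_lit 0x1f000007000014000014, nat_lit 0xb00001400000900001f00c016, nat_lit 0x800000d000001000000, nat_lit 0x12000017000004, nat_lit 0xf00000800001500001000c012, nat_lit 0x23000019000024000016, nat_lit 0x600002400001d00002300c014, nat_lit 0x1000002100001b000006, nat_lit 0x26000007000000]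
noncomputable def gv2_0_S : List (List ℕ) := [gv2_0_S0]
noncomputable def gv2_0_defs : List ℕ := [(nat_lit 0x5000030050000100300001002000010050000000300000002000000000000000000000)]
noncomputable def gv2_0_recs : List ℕ := [(nat_lit 0xff0000100000ff0000300006010000800008020000300003020000100000ff0000500000ff0000100002010000400007000000300006000000200005)]
noncomputable def gv2_0_T : List (List ℕ × ℕ) := [([0], (nat_lit 0x29))]
noncomputable def gv2_0_D : H26.Dag := ⟨[0,1,2,3,4,6,5], [[0,0],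
  [1,1],
  [2,2],
  [3,3],
  [4,4],
  [5,6],
  [6,5],
  [2,0,2,0],
  [3,0,3,0],
  [2,0,3,2,3],
  [1,6,0,5],
  [1,6,2,5]], [], gv2_0_defs, gv2_0_recs⟩
theorem gv2_0_c : gv2_0_D.check gv2_0_S gv2_0_T = true := by decide +kernel
theorem gv2_0 {G : Type*} [Group G] {g : ℕ → G} (hR : Rels g gv2_r_R) {H : Subgroup G}
    (hH : ∀ k ∈ [], g k ∈ H) : evA g [0] ∈ H :=
  mem_dag (K := 7) (J := [0,1,2,3,4,5,6,9,10,16,18,21]) (D := gv2_0_D) (by decide +kernel) gv2_0_c (by decide +kernel) hR hH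
theorem gv2 {G : Type*} [Group G] {z u v a b p : G}
    (t : QT z u v a b)
    (h : P1 z u b p)
    (e : p * v * p⁻¹ = u) :
    z = 1 :=
  mul_inv_eq_one.1 ((evA_eq_tm ((InvI.cons t.1 (InvI.cons t.2.1 (InvI.cons t.2.2.1 (InvI.cons t.2.2.2.1 (InvI.cons t.2.2.2.2.1 InvI.nil))))) : InvI [z, u, v, a, b, p] [(nat_lit 0), (nat_lit 1), (nat_lit 2), (nat_lit 3), (nat_lit 4)]) [(.v (nat_lit 0)), (.v (nat_lit 1)), (.v (nat_lit 2)), (.v (nat_lit 3)), (.v (nat_lit 4)), (.v (nat_lit 5)), (.inv (.v (nat_lit 5)))] [0] (.mul (.v (nat_lit 0)) (.inv .one)) (by decide +kernel)).symm.trans (Subgroup.mem_bot.1 (gv2_0 (gv2_r t h e) (H := ⊥) (List.forall_mem_nil _))))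
noncomputable def gv4_r_R : List (List ℕ) := [[0,0],
  [1,1],
  [2,2],
  [3,3],
  [4,4],
  [5,6],
  [6,5],
  [2,1,2,1],
  [1,0,1,0],
  [2,0,2,0],
  [3,0,3,0],
  [4,0,4,0],
  [3,1,3,1],
  [4,2,4,2],
  [4,3,4,3],
  [1,0,4,1,4],
  [2,0,3,2,3],
  [5,5,5],
  [1,6,0,5],
  [0,1,6,1,5],
  [5,4,5,4],
  [0,1,6,2,5]]
theorem gv4_r {G : Type*} [Group G] {z u v a b p : G}
    (t : QT z u v a b)
    (h : P1 z u b p)
    (e : p * v * p⁻¹ = z * u) :
    Rels (nthG [z, u, v, a, b, p, p⁻¹]) gv4_r_R :=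
  rels_of_eqs ((InvI.cons t.1 (InvI.cons t.2.1 (InvI.cons t.2.2.1 (InvI.cons t.2.2.2.1 (InvI.cons t.2.2.2.2.1 InvI.nil))))) : InvI [z, u, v, a, b, p] [(nat_lit 0), (nat_lit 1), (nat_lit 2), (nat_lit 3), (nat_lit 4)])
    (AllEq.append (show AllEq [z, u, v, a, b, p] [((.mul (.v (nat_lit 0)) (.v (nat_lit 0))), .one), ((.mul (.v (nat_lit 1)) (.v (nat_lit 1))), .one), ((.mul (.v (nat_lit 2)) (.v (nat_lit 2))), .one), ((.mul (.v (nat_lit 3)) (.v (nat_lit 3))), .one), ((.mul (.v (nat_lit 4)) (.v (nat_lit 4))), .one), ((.mul (.v (nat_lit 1)) (.v (nat_lit 2))), (.mul (.v (nat_lit 2)) (.v (nat_lit 1)))), ((.mul (.v (nat_lit 0)) (.v (nat_lit 1))), (.mul (.v (nat_lit 1)) (.v (nat_lit 0)))), ((.mul (.v (nat_lit 0)) (.v (nat_lit 2))), (.mul (.v (nat_lit 2)) (.v (nat_lit 0)))), ((.mul (.v (nat_lit 0)) (.v (nat_lit 3))), (.mul (.v (nat_lit 3)) (.v (nat_lit 0)))), ((.mul (.v (nat_lit 0)) (.v (nat_lit 4))), (.mul (.v (nat_lit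 4)) (.v (nat_lit 0)))), ((.mul (.v (nat_lit 1)) (.v (nat_lit 3))), (.mul (.v (nat_lit 3)) (.v (nat_lit 1)))), ((.mul (.v (nat_lit 2)) (.v (nat_lit 4))), (.mul (.v (nat_lit 4)) (.v (nat_lit 2)))), ((.mul (.v (nat_lit 3)) (.v (nat_lit 4))), (.mul (.v (nat_lit 4)) (.v (nat_lit 3)))), ((.mul (.mul (.v (nat_lit 4)) (.v (nat_lit 1))) (.v (nat_lit 4))), (.mul (.v (nat_lit 1)) (.v (nat_lit 0)))), ((.mul (.mul (.v (nat_lit 3)) (.v (nat_lit 2))) (.v (nat_lit 3))), (.mul (.v (nat_lit 2)) (.v (nat_lit 0))))] from t)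
    (AllEq.append (show AllEq [z, u, v, a, b, p] [((.pw (.v (nat_lit 5)) (nat_lit 3)), .one), ((.mul (.mul (.v (nat_lit 5)) (.v (nat_lit 0))) (.inv (.v (nat_lit 5)))), (.v (nat_lit 1))), ((.mul (.mul (.v (nat_lit 5)) (.v (nat_lit 1))) (.inv (.v (nat_lit 5)))), (.mul (.v (nat_lit 0)) (.v (nat_lit 1)))), ((.mul (.mul (.v (nat_lit 4)) (.v (nat_lit 5))) (.v (nat_lit 4))), (.inv (.v (nat_lit 5))))] from h)
    (show AllEq [z, u, v, a, b, p] [((.mul (.mul (.v (nat_lit 5)) (.v (nat_lit 2))) (.inv (.v (nat_lit 5)))), (.mul (.v (nat_lit 0)) (.v (nat_lit 1))))] from ⟨e, trivial⟩)))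
    [(.v (nat_lit 0)), (.v (nat_lit 1)), (.v (nat_lit 2)), (.v (nat_lit 3)), (.v (nat_lit 4)), (.v (nat_lit 5)), (.inv (.v (nat_lit 5)))] (by decide +kernel)
noncomputable def gv4_0_S0 : List ℕ := [nat_lit 0x1b000018006018, nat_lit 0x1f00000700000c004010, nat_lit 0x23000007000014004012, nat_lit 0x2700000700001800001a, nat_lit 0x2b000028006018, nat_lit 0x2f00000b00001000400e, nat_lit 0x3300000500001f00002400c016, nat_lit 0x3700000b00001800000d00001c, nat_lit 0xf00001800000d00001d000037010020, nat_lit 0xc000021000015000002, nat_lit 0x2600002f000004, nat_lit 0x3300002900001400c014, nat_lit 0x3b00000b00001c00801a, nat_lit 0x3b00000b00000800002c00c01c, nat_lit 0x1100003500003200000200c020, nat_lit 0x3f000009000019004010, nat_lit 0x4300001300001c00401e, nat_lit 0x4700001300001800a01e, nat_lit 0x4b00000a00004400001a, nat_lit 0x4b00002300002c00401e, nat_lit 0x4f00002300002800a01e, nat_lit 0x4600003900005100c014, nat_lit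 0x3f000009000050000055000047008020, nat_lit 0xa00005900003e000000, nat_lit 0x5e00002e000004, nat_lit 0x2400005e000033000008, nat_lit 0x2b00006600003c00000a, nat_lit 0x6a000036000002, nat_lit 0x4900004e00006d00004d004016, nat_lit 0x4b000062000044000049000071000020, nat_lit 0x4100007500004e000008, nat_lit 0x1c00007a00002b00000c, nat_lit 0x7e000007000000]
noncomputable def gv4_0_S : List (List ℕ) := [gv4_0_S0]
noncomputable def gv4_0_defs : List ℕ := [(nat_lit 0x60000800500008006000040050000400100004006000020050000200400002002000020060000100500001004000010010000100600000005000000040000000200000001000000000000000000000)]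
noncomputable def gv4_0_recs : List ℕ := [(nat_lit 0xff0000100000ff0000a00006ff0001000012000001200010010000a0000aff0000e0000aff0000200001020000400008ff0000c00008ff000040000f020001300011040000900013040000a00012010001000012040000500011040000600010000000c0000f020000500009010000a0000e00000060000e02000040000c020000200000ff0000b00000ff000020000300000090000d01000080000c01000030000b06000090000a010000500009000000400008000000200007060000500006)]
noncomputable def gv4_0_T : List (List ℕ × ℕ) := [([0], (nat_lit 0x81))]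
noncomputable def gv4_0_D : H26.Dag := ⟨[0,1,2,3,4,6,5], [[0,0],
  [1,1],
  [2,2],
  [3,3],
  [4,4],
  [5,6],
  [6,5],
  [2,1,2,1],
  [1,0,1,0],
  [4,0,4,0],
  [4,2,4,2],
  [1,0,4,1,4],
  [5,5,5],
  [1,6,0,5],
  [0,1,6,1,5],
  [5,4,5,4],
  [0,1,6,2,5]], [], gv4_0_defs, gv4_0_recs⟩
theorem gv4_0_c : gv4_0_D.check gv4_0_S gv4_0_T = true := by decide +kernel
theorem gv4_0 {G : Type*} [Group G] {g : ℕ → G} (hR : Rels g gv4_r_R) {H : Subgroup G}
    (hH : ∀ k ∈ [], g k ∈ H) : evA g [0] ∈ H :=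
  mem_dag (K := 7) (J := [0,1,2,3,4,5,6,7,8,11,13,15,17,18,19,20,21]) (D := gv4_0_D) (by decide +kernel) gv4_0_c (by decide +kernel) hR hH
theorem gv4 {G : Type*} [Group G] {z u v a b p : G}
    (t : QT z u v a b)
    (h : P1 z u b p)
    (e : p * v * p⁻¹ = z * u) :
    z = 1 :=
  mul_inv_eq_one.1 ((evA_eq_tm ((InvI.cons t.1 (InvI.cons t.2.1 (InvI.cons t.2.2.1 (InvI.cons t.2.2.2.1 (InvI.cons t.2.2.2.2.1 InvI.nil))))) : InvI [z, u, v, a, b, p] [(nat_lit 0), (nat_lit 1), (nat_lit 2), (nat_lit 3), (nat_lit 4)]) [(.v (nat_lit 0)), (.v (nat_lit 1)), (.v (nat_lit 2)), (.v (nat_lit 3)), (.v (nat_lit 4)), (.v (nat_lit 5)), (.inv (.v (nat_lit 5)))] [0] (.mul (.v (nat_lit 0)) (.inv .one)) (by decide +kernel)).symm.trans (Subgroup.mem_bot.1 (gv4_0 (gv4_r t h e) (H := ⊥) (List.forall_mem_nil _))))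
noncomputable def gv5_r_R : List (List ℕ) := [[0,0],
  [1,1],
  [2,2],
  [3,3],
  [4,4],
  [5,6],
  [6,5],
  [2,1,2,1],
  [1,0,1,0],
  [2,0,2,0],
  [3,0,3,0],
  [4,0,4,0],
  [3,1,3,1],
  [4,2,4,2],
  [4,3,4,3],
  [1,0,4,1,4],
  [2,0,3,2,3],
  [5,5,5],
  [1,6,0,5],
  [0,1,6,1,5],
  [5,4,5,4],
  [0,2,6,2,5]]
theorem gv5_r {G : Type*} [Group G] {z u v a b p : G}
    (t : QT z u v a b)
    (h : P1 z u b p)
    (e : p * v * p⁻¹ = z * v) :
    Rels (nthG [z, u, v, a, b, p, p⁻¹]) gv5_r_R :=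
  rels_of_eqs ((InvI.cons t.1 (InvI.cons t.2.1 (InvI.cons t.2.2.1 (InvI.cons t.2.2.2.1 (InvI.cons t.2.2.2.2.1 InvI.nil))))) : InvI [z, u, v, a, b, p] [(nat_lit 0), (nat_lit 1), (nat_lit 2), (nat_lit 3), (nat_lit 4)])
    (AllEq.append (show AllEq [z, u, v, a, b, p] [((.mul (.v (nat_lit 0)) (.v (nat_lit 0))), .one), ((.mul (.v (nat_lit 1)) (.v (nat_lit 1))), .one), ((.mul (.v (nat_lit 2)) (.v (nat_lit 2))), .one), ((.mul (.v (nat_lit 3)) (.v (nat_lit 3))), .one), ((.mul (.v (nat_lit 4)) (.v (nat_lit 4))), .one), ((.mul (.v (nat_lit 1)) (.v (nat_lit 2))), (.mul (.v (nat_lit 2)) (.v (nat_lit 1)))), ((.mul (.v (nat_lit 0)) (.v (nat_lit 1))), (.mul (.v (nat_lit 1)) (.v (nat_lit 0)))), ((.mul (.v (nat_lit 0)) (.v (nat_lit 2))), (.mul (.v (nat_lit 2)) (.v (nat_lit 0)))), ((.mul (.v (nat_lit 0)) (.v (nat_lit 3))), (.mul (.v (nat_lit 3)) (.v (nat_lit 0)))), ((.mul (.v (nat_lit 0)) (.v (nat_lit 4))), (.mul (.v (nat_lit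 4)) (.v (nat_lit 0)))), ((.mul (.v (nat_lit 1)) (.v (nat_lit 3))), (.mul (.v (nat_lit 3)) (.v (nat_lit 1)))), ((.mul (.v (nat_lit 2)) (.v (nat_lit 4))), (.mul (.v (nat_lit 4)) (.v (nat_lit 2)))), ((.mul (.v (nat_lit 3)) (.v (nat_lit 4))), (.mul (.v (nat_lit 4)) (.v (nat_lit 3)))), ((.mul (.mul (.v (nat_lit 4)) (.v (nat_lit 1))) (.v (nat_lit 4))), (.mul (.v (nat_lit 1)) (.v (nat_lit 0)))), ((.mul (.mul (.v (nat_lit 3)) (.v (nat_lit 2))) (.v (nat_lit 3))), (.mul (.v (nat_lit 2)) (.v (nat_lit 0))))] from t)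
    (AllEq.append (show AllEq [z, u, v, a, b, p] [((.pw (.v (nat_lit 5)) (nat_lit 3)), .one), ((.mul (.mul (.v (nat_lit 5)) (.v (nat_lit 0))) (.inv (.v (nat_lit 5)))), (.v (nat_lit 1))), ((.mul (.mul (.v (nat_lit 5)) (.v (nat_lit 1))) (.inv (.v (nat_lit 5)))), (.mul (.v (nat_lit 0)) (.v (nat_lit 1)))), ((.mul (.mul (.v (nat_lit 4)) (.v (nat_lit 5))) (.v (nat_lit 4))), (.inv (.v (nat_lit 5))))] from h)
    (show AllEq [z, u, v, a, b, p] [((.mul (.mul (.v (nat_lit 5)) (.v (nat_lit 2))) (.inv (.v (nat_lit 5)))), (.mul (.v (nat_lit 0)) (.v (nat_lit 2))))] from ⟨e, trivial⟩)))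
    [(.v (nat_lit 0)), (.v (nat_lit 1)), (.v (nat_lit 2)), (.v (nat_lit 3)), (.v (nat_lit 4)), (.v (nat_lit 5)), (.inv (.v (nat_lit 5)))] (by decide +kernel)
noncomputable def gv5_0_S0 : List ℕ := [nat_lit 0x1b000018006016, nat_lit 0x1f00000700000c00400e, nat_lit 0x27000007000014004010, nat_lit 0x2b000007000018000018, nat_lit 0x2f00002c006016, nat_lit 0x3300000500001f00002800c014, nat_lit 0x3700000b00001800000d00001a, nat_lit 0x3b000038006016, nat_lit 0x3b00000b00001c008018, nat_lit 0x3f00000f000014004012, nat_lit 0x47000044006016, nat_lit 0x4700000f00000800003000c01e, nat_lit 0x4f00001700001000004400401e, nat_lit 0x5700002300002c00001900e01e, nat_lit 0x5b00000a00004c000018, nat_lit 0x5f00002700002c00a01c, nat_lit 0x6300003300003c00401c, nat_lit 0x6300001600005c00003a00001a, nat_lit 0x6700002200000200005400801e, nat_lit 0x6b00003f00004800401c, nat_lit 0x6b00002600004c00004500e01e, nat_lit 0x6700004100005100004e000012,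 nat_lit 0x2d000055000067000004, nat_lit 0x2900005500004a00000a, nat_lit 0x1100005a00001e00000a, nat_lit 0x3200005e000053000004, nat_lit 0x62000035000004, nat_lit 0x65000032000004, nat_lit 0x6f00003f00004400a01c, nat_lit 0x6f00002600000900006000c01e, nat_lit 0x6900003d000075000072000012, nat_lit 0x6e000079000069000004, nat_lit 0x1800007e00002b00000a, nat_lit 0x82000007000000]
noncomputable def gv5_0_S : List (List ℕ) := [gv5_0_S0]
noncomputable def gv5_0_defs : List ℕ := [(nat_lit 0x60000f0050000f0020000e0050000c006000090050000900500008002000050000000500500004006000030050000300400003006000020050000200400002006000010050000100400001002000010010000100600000005000000040000000200000001000000000000000000000)]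
noncomputable def gv5_0_recs : List ℕ := [(nat_lit 0xff0000100000ff0000a00005ff000100001502000170001b04000100001b02000100000502000150000aff0000500013ff0000d0000aff0001400010ff0000e0000bff000110001902000180001a04000110001a060001400019000001200018040000e00018040000a00017010001200016020000d00015020001000013020000b0001106000100001102000040000f00000060000e060000d0000e000000a0000d01000090000c060000a0000b01000050000a000000400009000000200007060000500006)]
noncomputable def gv5_0_T : List (List ℕ × ℕ) := [([0], (nat_lit 0x85))]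
noncomputable def gv5_0_D : H26.Dag := ⟨[0,1,2,3,4,6,5], [[0,0],
  [1,1],
  [2,2],
  [3,3],
  [4,4],
  [5,6],
  [6,5],
  [1,0,1,0],
  [4,0,4,0],
  [4,2,4,2],
  [1,0,4,1,4],
  [5,5,5],
  [1,6,0,5],
  [0,1,6,1,5],
  [5,4,5,4],
  [0,2,6,2,5]], [], gv5_0_defs, gv5_0_recs⟩
theorem gv5_0_c : gv5_0_D.check gv5_0_S gv5_0_T = true := by decide +kernel
theorem gv5_0 {G : Type*} [Group G] {g : ℕ → G} (hR : Rels g gv5_r_R) {H : Subgroup G}
    (hH : ∀ k ∈ [], g k ∈ H) : evA g [0] ∈ H :=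
  mem_dag (K := 7) (J := [0,1,2,3,4,5,6,8,11,13,15,17,18,19,20,21]) (D := gv5_0_D) (by decide +kernel) gv5_0_c (by decide +kernel) hR hH
theorem gv5 {G : Type*} [Group G] {z u v a b p : G}
    (t : QT z u v a b)
    (h : P1 z u b p)
    (e : p * v * p⁻¹ = z * v) :
    z = 1 :=
  mul_inv_eq_one.1 ((evA_eq_tm ((InvI.cons t.1 (InvI.cons t.2.1 (InvI.cons t.2.2.1 (InvI.cons t.2.2.2.1 (InvI.cons t.2.2.2.2.1 InvI.nil))))) : InvI [z, u, v, a, b, p] [(nat_lit 0), (nat_lit 1), (nat_lit 2), (nat_lit 3), (nat_lit 4)]) [(.v (nat_lit 0)), (.v (nat_lit 1)), (.v (nat_lit 2)), (.v (nat_lit 3)), (.v (nat_lit 4)), (.v (nat_lit 5)), (.inv (.v (nat_lit 5)))] [0] (.mul (.v (nat_lit 0)) (.inv .one)) (by decide +kernel)).symm.trans (Subgroup.mem_bot.1 (gv5_0 (gv5_r t h e) (H := ⊥) (List.forall_mem_nil _))))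
noncomputable def gv6_r_R : List (List ℕ) := [[0,0],
  [1,1],
  [2,2],
  [3,3],
  [4,4],
  [5,6],
  [6,5],
  [2,1,2,1],
  [1,0,1,0],
  [2,0,2,0],
  [3,0,3,0],
  [4,0,4,0],
  [3,1,3,1],
  [4,2,4,2],
  [4,3,4,3],
  [1,0,4,1,4],
  [2,0,3,2,3],
  [5,5,5],
  [1,6,0,5],
  [0,1,6,1,5],
  [5,4,5,4],
  [1,2,6,2,5]]
theorem gv6_r {G : Type*} [Group G] {z u v a b p : G}
    (t : QT z u v a b)
    (h : P1 z u b p)
    (e : p * v * p⁻¹ = u * v) :
    Rels (nthG [z, u, v, a, b, p, p⁻¹]) gv6_r_R :=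
  rels_of_eqs ((InvI.cons t.1 (InvI.cons t.2.1 (InvI.cons t.2.2.1 (InvI.cons t.2.2.2.1 (InvI.cons t.2.2.2.2.1 InvI.nil))))) : InvI [z, u, v, a, b, p] [(nat_lit 0), (nat_lit 1), (nat_lit 2), (nat_lit 3), (nat_lit 4)])
    (AllEq.append (show AllEq [z, u, v, a, b, p] [((.mul (.v (nat_lit 0)) (.v (nat_lit 0))), .one), ((.mul (.v (nat_lit 1)) (.v (nat_lit 1))), .one), ((.mul (.v (nat_lit 2)) (.v (nat_lit 2))), .one), ((.mul (.v (nat_lit 3)) (.v (nat_lit 3))), .one), ((.mul (.v (nat_lit 4)) (.v (nat_lit 4))), .one), ((.mul (.v (nat_lit 1)) (.v (nat_lit 2))), (.mul (.v (nat_lit 2)) (.v (nat_lit 1)))), ((.mul (.v (nat_lit 0)) (.v (nat_lit 1))), (.mul (.v (nat_lit 1)) (.v (nat_lit 0)))), ((.mul (.v (nat_lit 0)) (.v (nat_lit 2))), (.mul (.v (nat_lit 2)) (.v (nat_lit 0)))), ((.mul (.v (nat_lit 0)) (.v (nat_lit 3))), (.mul (.v (nat_lit 3)) (.v (nat_lit 0)))), ((.mul (.v (nat_lit 0)) (.v (nat_lit 4))), (.mul (.v (nat_lit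 4)) (.v (nat_lit 0)))), ((.mul (.v (nat_lit 1)) (.v (nat_lit 3))), (.mul (.v (nat_lit 3)) (.v (nat_lit 1)))), ((.mul (.v (nat_lit 2)) (.v (nat_lit 4))), (.mul (.v (nat_lit 4)) (.v (nat_lit 2)))), ((.mul (.v (nat_lit 3)) (.v (nat_lit 4))), (.mul (.v (nat_lit 4)) (.v (nat_lit 3)))), ((.mul (.mul (.v (nat_lit 4)) (.v (nat_lit 1))) (.v (nat_lit 4))), (.mul (.v (nat_lit 1)) (.v (nat_lit 0)))), ((.mul (.mul (.v (nat_lit 3)) (.v (nat_lit 2))) (.v (nat_lit 3))), (.mul (.v (nat_lit 2)) (.v (nat_lit 0))))] from t)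
    (AllEq.append (show AllEq [z, u, v, a, b, p] [((.pw (.v (nat_lit 5)) (nat_lit 3)), .one), ((.mul (.mul (.v (nat_lit 5)) (.v (nat_lit 0))) (.inv (.v (nat_lit 5)))), (.v (nat_lit 1))), ((.mul (.mul (.v (nat_lit 5)) (.v (nat_lit 1))) (.inv (.v (nat_lit 5)))), (.mul (.v (nat_lit 0)) (.v (nat_lit 1)))), ((.mul (.mul (.v (nat_lit 4)) (.v (nat_lit 5))) (.v (nat_lit 4))), (.inv (.v (nat_lit 5))))] from h)
    (show AllEq [z, u, v, a, b, p] [((.mul (.mul (.v (nat_lit 5)) (.v (nat_lit 2))) (.inv (.v (nat_lit 5)))), (.mul (.v (nat_lit 1)) (.v (nat_lit 2))))] from ⟨e, trivial⟩)))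
    [(.v (nat_lit 0)), (.v (nat_lit 1)), (.v (nat_lit 2)), (.v (nat_lit 3)), (.v (nat_lit 4)), (.v (nat_lit 5)), (.inv (.v (nat_lit 5)))] (by decide +kernel)
noncomputable def gv6_0_S0 : List ℕ := [nat_lit 0x1f000007000010004010, nat_lit 0x23000007000014000016, nat_lit 0x2b00000b000010004012, nat_lit 0x2f00000b00001400000500e01a, nat_lit 0x3700000f000008000018010014, nat_lit 0x3f00000f00001400a018, nat_lit 0x4700001700001c00400e, nat_lit 0x4b00000200003c000016, nat_lit 0x4b00001f000028004018, nat_lit 0x4f00002700001c00001901001a, nat_lit 0x5300002b000034004018, nat_lit 0x5300000a00003c00001d00e01a, nat_lit 0x4f00002100002d00002a000012, nat_lit 0x3400003100002600000c, nat_lit 0xc000036000047000004, nat_lit 0xf00003a000011000008, nat_lit 0x3e000037000002, nat_lit 0x5700002b00003000a018, nat_lit 0x5700000a00004100004000c01a, nat_lit 0x43000015000049000046000012, nat_lit 0xd00004d000043000004, nat_lit 0x1400005100002300000a,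 nat_lit 0x56000007000000]
noncomputable def gv6_0_S : List (List ℕ) := [gv6_0_S0]
noncomputable def gv6_0_defs : List ℕ := [(nat_lit 0x60000a0050000a0020000900500007002000050020000400600003005000030010000300600002005000020040000200600001005000010040000100200001001000010050000000400000002000000000000000000000)]
noncomputable def gv6_0_recs : List ℕ := [(nat_lit 0xff0000100000ff0000400008ff0000b00010020000f00015040000b00015010000300003ff0000d00003ff0000500000ff0001100002ff0000c00013020001200014040000c00014050001100013040000900012010000e0001201000060001104000040000f04000050000d02000080000b02000030000a010000400008000000300007)]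
noncomputable def gv6_0_T : List (List ℕ × ℕ) := [([0], (nat_lit 0x59))]
noncomputable def gv6_0_D : H26.Dag := ⟨[0,1,2,3,4,6,5], [[0,0],
  [1,1],
  [2,2],
  [3,3],
  [4,4],
  [5,6],
  [6,5],
  [2,1,2,1],
  [4,0,4,0],
  [4,2,4,2],
  [1,0,4,1,4],
  [1,6,0,5],
  [5,4,5,4],
  [1,2,6,2,5]], [], gv6_0_defs, gv6_0_recs⟩
theorem gv6_0_c : gv6_0_D.check gv6_0_S gv6_0_T = true := by decide +kernel
theorem gv6_0 {G : Type*} [Group G] {g : ℕ → G} (hR : Rels g gv6_r_R) {H : Subgroup G}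
    (hH : ∀ k ∈ [], g k ∈ H) : evA g [0] ∈ H :=
  mem_dag (K := 7) (J := [0,1,2,3,4,5,6,7,11,13,15,18,20,21]) (D := gv6_0_D) (by decide +kernel) gv6_0_c (by decide +kernel) hR hH
theorem gv6 {G : Type*} [Group G] {z u v a b p : G}
    (t : QT z u v a b)
    (h : P1 z u b p)
    (e : p * v * p⁻¹ = u * v) :
    z = 1 :=
  mul_inv_eq_one.1 ((evA_eq_tm ((InvI.cons t.1 (InvI.cons t.2.1 (InvI.cons t.2.2.1 (InvI.cons t.2.2.2.1 (InvI.cons t.2.2.2.2.1 InvI.nil))))) : InvI [z, u, v, a, b, p] [(nat_lit 0), (nat_lit 1), (nat_lit 2), (nat_lit 3), (nat_lit 4)]) [(.v (nat_lit 0)), (.v (nat_lit 1)), (.v (nat_lit 2)), (.v (nat_lit 3)), (.v (nat_lit 4)), (.v (nat_lit 5)), (.inv (.v (nat_lit 5)))] [0] (.mul (.v (nat_lit 0)) (.inv .one)) (by decide +kernel)).symm.trans (Subgroup.mem_bot.1 (gv6_0 (gv6_r t h e) (H := ⊥) (List.forall_mem_nil _))))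
theorem gv {G : Type*} [Group G] {z u v a b p : G}
    (t : QT z u v a b)
    (h : P1 z u b p) (z1 : z ≠ 1)
    (hc : p * v * p⁻¹ = 1 ∨ p * v * p⁻¹ = z ∨ p * v * p⁻¹ = u ∨ p * v * p⁻¹ = v ∨ p * v * p⁻¹ = z * u ∨ p * v * p⁻¹ = z * v ∨ p * v * p⁻¹ = u * v ∨ p * v * p⁻¹ = z * u * v) :
    p * v * p⁻¹ = v ∨ p * v * p⁻¹ = z * u * v := by
  rcases hc with e | e | e | e | e | e | e | e
  exacts [(z1 (gv0 t h e)).elim,
    (z1 (gv1 t h e)).elim,
    (z1 (gv2 t h e)).elim,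
    Or.inl e,
    (z1 (gv4 t h e)).elim,
    (z1 (gv5 t h e)).elim,
    (z1 (gv6 t h e)).elim,
    Or.inr (e)]
noncomputable def gv_a_r_R : List (List ℕ) := [[0,0],
  [1,1],
  [2,2],
  [3,3],
  [4,4],
  [5,6],
  [6,5],
  [2,1,2,1],
  [1,0,1,0],
  [2,0,2,0],
  [3,0,3,0],
  [4,0,4,0],
  [3,1,3,1],
  [4,2,4,2],
  [4,3,4,3],
  [1,0,4,1,4],
  [2,0,3,2,3],
  [5,5,5],
  [1,6,0,5],
  [0,1,6,1,5],
  [5,4,5,4],
  [0,1,2,6,2,5]]
theorem gv_a_r {G : Type*} [Group G] {z u v a b p : G}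
    (t : QT z u v a b)
    (h : P1 z u b p)
    (e : p * v * p⁻¹ = z * u * v) :
    Rels (nthG [z, u, v, a, b, p, p⁻¹]) gv_a_r_R :=
  rels_of_eqs ((InvI.cons t.1 (InvI.cons t.2.1 (InvI.cons t.2.2.1 (InvI.cons t.2.2.2.1 (InvI.cons t.2.2.2.2.1 InvI.nil))))) : InvI [z, u, v, a, b, p] [(nat_lit 0), (nat_lit 1), (nat_lit 2), (nat_lit 3), (nat_lit 4)])
    (AllEq.append (show AllEq [z, u, v, a, b, p] [((.mul (.v (nat_lit 0)) (.v (nat_lit 0))), .one), ((.mul (.v (nat_lit 1)) (.v (nat_lit 1))), .one), ((.mul (.v (nat_lit 2)) (.v (nat_lit 2))), .one), ((.mul (.v (nat_lit 3)) (.v (nat_lit 3))), .one), ((.mul (.v (nat_lit 4)) (.v (nat_lit 4))), .one), ((.mul (.v (nat_lit 1)) (.v (nat_lit 2))), (.mul (.v (nat_lit 2)) (.v (nat_lit 1)))), ((.mul (.v (nat_lit 0)) (.v (nat_lit 1))), (.mul (.v (nat_lit 1)) (.v (nat_lit 0)))), ((.mul (.v (nat_lit 0)) (.v (nat_lit 2))), (.mul (.v (nat_lit 2)) (.v (nat_lit 0)))), ((.mul (.v (nat_lit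 0)) (.v (nat_lit 3))), (.mul (.v (nat_lit 3)) (.v (nat_lit 0)))), ((.mul (.v (nat_lit 0)) (.v (nat_lit 4))), (.mul (.v (nat_lit 4)) (.v (nat_lit 0)))), ((.mul (.v (nat_lit 1)) (.v (nat_lit 3))), (.mul (.v (nat_lit 3)) (.v (nat_lit 1)))), ((.mul (.v (nat_lit 2)) (.v (nat_lit 4))), (.mul (.v (nat_lit 4)) (.v (nat_lit 2)))), ((.mul (.v (nat_lit 3)) (.v (nat_lit 4))), (.mul (.v (nat_lit 4)) (.v (nat_lit 3)))), ((.mul (.mul (.v (nat_lit 4)) (.v (nat_lit 1))) (.v (nat_lit 4))), (.mul (.v (nat_lit 1)) (.v (nat_lit 0)))), ((.mul (.mul (.v (nat_lit 3)) (.v (nat_lit 2))) (.v (nat_lit 3))), (.mul (.v (nat_lit 2)) (.v (nat_lit 0))))] from t)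
    (AllEq.append (show AllEq [z, u, v, a, b, p] [((.pw (.v (nat_lit 5)) (nat_lit 3)), .one), ((.mul (.mul (.v (nat_lit 5)) (.v (nat_lit 0))) (.inv (.v (nat_lit 5)))), (.v (nat_lit 1))), ((.mul (.mul (.v (nat_lit 5)) (.v (nat_lit 1))) (.inv (.v (nat_lit 5)))), (.mul (.v (nat_lit 0)) (.v (nat_lit 1)))), ((.mul (.mul (.v (nat_lit 4)) (.v (nat_lit 5))) (.v (nat_lit 4))), (.inv (.v (nat_lit 5))))] from h)
    (show AllEq [z, u, v, a, b, p] [((.mul (.mul (.v (nat_lit 5)) (.v (nat_lit 2))) (.inv (.v (nat_lit 5)))), (.mul (.mul (.v (nat_lit 0)) (.v (nat_lit 1))) (.v (nat_lit 2))))] from ⟨e, trivial⟩)))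
    [(.v (nat_lit 0)), (.v (nat_lit 1)), (.v (nat_lit 2)), (.v (nat_lit 3)), (.v (nat_lit 4)), (.v (nat_lit 5)), (.inv (.v (nat_lit 5)))] (by decide +kernel)
noncomputable def gv_a_0_S0 : List ℕ := [nat_lit 0xf00000c00600e]
noncomputable def gv_a_0_S : List (List ℕ) := [gv_a_0_S0]
noncomputable def gv_a_0_defs : List ℕ := [(nat_lit 0x600001005000010030000000000000)]
noncomputable def gv_a_0_recs : List ℕ := [(nat_lit 0x60000200003)]
noncomputable def gv_a_0_T : List (List ℕ × ℕ) := [([3,5,5,5,3], (nat_lit 0x800001000000200000b000007))]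
noncomputable def gv_a_0_D : H26.Dag := ⟨[0,1,2,3,4,6,5], [[0,0],
  [1,1],
  [2,2],
  [3,3],
  [4,4],
  [5,6],
  [6,5],
  [5,5,5]], [], gv_a_0_defs, gv_a_0_recs⟩
theorem gv_a_0_c : gv_a_0_D.check gv_a_0_S gv_a_0_T = true := by decide +kernel
theorem gv_a_0 {G : Type*} [Group G] {g : ℕ → G} (hR : Rels g gv_a_r_R) {H : Subgroup G}
    (hH : ∀ k ∈ [], g k ∈ H) : evA g [3,5,5,5,3] ∈ H :=
  mem_dag (K := 7) (J := [0,1,2,3,4,5,6,17]) (D := gv_a_0_D) (by decide +kernel) gv_a_0_c (by decide +kernel) hR hH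
noncomputable def gv_a_1_S0 : List ℕ := [nat_lit 0xf00000700000c004010, nat_lit 0x17000002000014008012, nat_lit 0x1f00000600001c00400e]
noncomputable def gv_a_1_S : List (List ℕ) := [gv_a_1_S0]
noncomputable def gv_a_1_defs : List ℕ := [(nat_lit 0x30000500300004006000030060000200300001003000000010000000000000)]
noncomputable def gv_a_1_recs : List ℕ := [(nat_lit 0x600007000000400005010000200003)]
noncomputable def gv_a_1_T : List (List ℕ × ℕ) := [([1,3,6,3,0,3,5,3], (nat_lit 0xc00001400001c00000900001f00001700000f000007))]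
noncomputable def gv_a_1_D : H26.Dag := ⟨[0,1,2,3,4,6,5], [[0,0],
  [1,1],
  [2,2],
  [3,3],
  [4,4],
  [5,6],
  [6,5],
  [3,0,3,0],
  [3,1,3,1],
  [1,6,0,5]], [], gv_a_1_defs, gv_a_1_recs⟩
theorem gv_a_1_c : gv_a_1_D.check gv_a_1_S gv_a_1_T = true := by decide +kernel
theorem gv_a_1 {G : Type*} [Group G] {g : ℕ → G} (hR : Rels g gv_a_r_R) {H : Subgroup G}
    (hH : ∀ k ∈ [], g k ∈ H) : evA g [1,3,6,3,0,3,5,3] ∈ H :=
  mem_dag (K := 7) (J := [0,1,2,3,4,5,6,10,12,18]) (D := gv_a_1_D) (by decide +kernel) gv_a_1_c (by decide +kernel) hR hH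
noncomputable def gv_a_2_S0 : List ℕ := [nat_lit 0x2700000700000c00400e, nat_lit 0x27000010000018004010, nat_lit 0x1f00000500000200001400c012, nat_lit 0x2300001b000009000010]
noncomputable def gv_a_2_S : List (List ℕ) := [gv_a_2_S0]
noncomputable def gv_a_2_defs : List ℕ := [(nat_lit 0x300001001000060060000500300004003000030060000200100001003000000000000000000000)]
noncomputable def gv_a_2_recs : List ℕ := [(nat_lit 0x30000700008010000400007010000500009000000200009)]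
noncomputable def gv_a_2_T : List (List ℕ × ℕ) := [([0,1,3,6,3,1,3,5,3], (nat_lit 0xc00001400001c00002400000e00001f00001700000f000007))]
noncomputable def gv_a_2_D : H26.Dag := ⟨[0,1,2,3,4,6,5], [[0,0],
  [1,1],
  [2,2],
  [3,3],
  [4,4],
  [5,6],
  [6,5],
  [3,0,3,0],
  [3,1,3,1],
  [0,1,6,1,5]], [], gv_a_2_defs, gv_a_2_recs⟩
theorem gv_a_2_c : gv_a_2_D.check gv_a_2_S gv_a_2_T = true := by decide +kernel
theorem gv_a_2 {G : Type*} [Group G] {g : ℕ → G} (hR : Rels g gv_a_r_R) {H : Subgroup G}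
    (hH : ∀ k ∈ [], g k ∈ H) : evA g [0,1,3,6,3,1,3,5,3] ∈ H :=
  mem_dag (K := 7) (J := [0,1,2,3,4,5,6,10,12,19]) (D := gv_a_2_D) (by decide +kernel) gv_a_2_c (by decide +kernel) hR hH
noncomputable def gv_a_3_S0 : List ℕ := [nat_lit 0x1300000b00000800800e, nat_lit 0x1b00000200001000a010, nat_lit 0x1f00001700000500400e]
noncomputable def gv_a_3_S : List (List ℕ) := [gv_a_3_S0]
noncomputable def gv_a_3_defs : List ℕ := [(nat_lit 0x40000500600004003000030030000200500001004000000030000000000000)]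
noncomputable def gv_a_3_recs : List ℕ := [(nat_lit 0x30000600007040000300006040000100004)]
noncomputable def gv_a_3_T : List (List ℕ × ℕ) := [([3,5,3,4,3,5,3,4], (nat_lit 0xc00001400001c00000900001f00001700000f000007))]
noncomputable def gv_a_3_D : H26.Dag := ⟨[0,1,2,3,4,6,5], [[0,0],
  [1,1],
  [2,2],
  [3,3],
  [4,4],
  [5,6],
  [6,5],
  [4,3,4,3],
  [5,4,5,4]], [], gv_a_3_defs, gv_a_3_recs⟩
theorem gv_a_3_c : gv_a_3_D.check gv_a_3_S gv_a_3_T = true := by decide +kernel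
theorem gv_a_3 {G : Type*} [Group G] {g : ℕ → G} (hR : Rels g gv_a_r_R) {H : Subgroup G}
    (hH : ∀ k ∈ [], g k ∈ H) : evA g [3,5,3,4,3,5,3,4] ∈ H :=
  mem_dag (K := 7) (J := [0,1,2,3,4,5,6,14,20]) (D := gv_a_3_D) (by decide +kernel) gv_a_3_c (by decide +kernel) hR hH
noncomputable def gv_a_4_S0 : List ℕ := [nat_lit 0x2300000b000008000010012012, nat_lit 0x2b00001300002800c014, nat_lit 0x3300001b00002c008010, nat_lit 0x3f00002300002800400e, nat_lit 0x600000d00003f000002000018000030006016, nat_lit 0x1200002f000004, nat_lit 0x3b00001f000015000009000033004012, nat_lit 0x3700001900003b000004, nat_lit 0x1d000037000004]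
noncomputable def gv_a_4_S : List (List ℕ) := [gv_a_4_S0]
noncomputable def gv_a_4_defs : List ℕ := [(nat_lit 0x100008002000070020000600000006002000050000000400100002000000020030000500300004006000030060000200300001003000000020000000000000)]
noncomputable def gv_a_4_recs : List ℕ := [(nat_lit 0x20000600007ff000070000dff000060000e02000050000aff0000b0000a00000090000f030000a0000c05000090000a020000300008)]
noncomputable def gv_a_4_T : List (List ℕ × ℕ) := [([2,3,6,3,2,3,5,3], (nat_lit 0xc00001400001c00002100001f00001700000f000007))]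
noncomputable def gv_a_4_D : H26.Dag := ⟨[0,1,2,3,4,6,5], [[0,0],
  [1,1],
  [2,2],
  [3,3],
  [4,4],
  [5,6],
  [6,5],
  [1,0,1,0],
  [3,0,3,0],
  [2,0,3,2,3],
  [1,6,0,5],
  [0,1,2,6,2,5]], [], gv_a_4_defs, gv_a_4_recs⟩
theorem gv_a_4_c : gv_a_4_D.check gv_a_4_S gv_a_4_T = true := by decide +kernel
theorem gv_a_4 {G : Type*} [Group G] {g : ℕ → G} (hR : Rels g gv_a_r_R) {H : Subgroup G}
    (hH : ∀ k ∈ [], g k ∈ H) : evA g [2,3,6,3,2,3,5,3] ∈ H :=
  mem_dag (K := 7) (J := [0,1,2,3,4,5,6,8,10,16,18,21]) (D := gv_a_4_D) (by decide +kernel) gv_a_4_c (by decide +kernel) hR hH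
theorem gv_a {G : Type*} [Group G] {z u v a b p : G}
    (t : QT z u v a b)
    (h : P1 z u b p)
    (e : p * v * p⁻¹ = z * u * v) :
    (a * p * a) ^ 3 = 1 ∧ a * p * a * z * (a * p * a)⁻¹ = u ∧ a * p * a * u * (a * p * a)⁻¹ = z * u ∧ b * (a * p * a) * b = (a * p * a)⁻¹ ∧ a * p * a * v * (a * p * a)⁻¹ = v :=
  ⟨mul_inv_eq_one.1 ((evA_eq_tm ((InvI.cons t.1 (InvI.cons t.2.1 (InvI.cons t.2.2.1 (InvI.cons t.2.2.2.1 (InvI.cons t.2.2.2.2.1 InvI.nil))))) : InvI [z, u, v, a, b, p] [(nat_lit 0), (nat_lit 1), (nat_lit 2), (nat_lit 3), (nat_lit 4)]) [(.v (nat_lit 0)), (.v (nat_lit 1)), (.v (nat_lit 2)), (.v (nat_lit 3)), (.v (nat_lit 4)), (.v (nat_lit 5)), (.inv (.v (nat_lit 5)))] [3,5,5,5,3] (.mul (.pw (.mul (.mul (.v (nat_lit 3)) (.v (nat_lit 5))) (.v (nat_lit 3))) (nat_lit 3)) (.inv .one)) (by decide +kernel)).symm.trans (Subgroup.mem_bot.1 (gv_a_0 (gv_a_r t h e) (H := ⊥) (List.forall_mem_nil _)))),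
   mul_inv_eq_one.1 ((evA_eq_tm ((InvI.cons t.1 (InvI.cons t.2.1 (InvI.cons t.2.2.1 (InvI.cons t.2.2.2.1 (InvI.cons t.2.2.2.2.1 InvI.nil))))) : InvI [z, u, v, a, b, p] [(nat_lit 0), (nat_lit 1), (nat_lit 2), (nat_lit 3), (nat_lit 4)]) [(.v (nat_lit 0)), (.v (nat_lit 1)), (.v (nat_lit 2)), (.v (nat_lit 3)), (.v (nat_lit 4)), (.v (nat_lit 5)), (.inv (.v (nat_lit 5)))] [1,3,6,3,0,3,5,3] (.mul (.mul (.mul (.mul (.mul (.v (nat_lit 3)) (.v (nat_lit 5))) (.v (nat_lit 3))) (.v (nat_lit 0))) (.inv (.mul (.mul (.v (nat_lit 3)) (.v (nat_lit 5))) (.v (nat_lit 3))))) (.inv (.v (nat_lit 1)))) (by decide +kernel)).symm.trans (Subgroup.mem_bot.1 (gv_a_1 (gv_a_r t h e) (H := ⊥) (List.forall_mem_nil _)))),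
   mul_inv_eq_one.1 ((evA_eq_tm ((InvI.cons t.1 (InvI.cons t.2.1 (InvI.cons t.2.2.1 (InvI.cons t.2.2.2.1 (InvI.cons t.2.2.2.2.1 InvI.nil))))) : InvI [z, u, v, a, b, p] [(nat_lit 0), (nat_lit 1), (nat_lit 2), (nat_lit 3), (nat_lit 4)]) [(.v (nat_lit 0)), (.v (nat_lit 1)), (.v (nat_lit 2)), (.v (nat_lit 3)), (.v (nat_lit 4)), (.v (nat_lit 5)), (.inv (.v (nat_lit 5)))] [0,1,3,6,3,1,3,5,3] (.mul (.mul (.mul (.mul (.mul (.v (nat_lit 3)) (.v (nat_lit 5))) (.v (nat_lit 3))) (.v (nat_lit 1))) (.inv (.mul (.mul (.v (nat_lit 3)) (.v (nat_lit 5))) (.v (nat_lit 3))))) (.inv (.mul (.v (nat_lit 0)) (.v (nat_lit 1))))) (by decide +kernel)).symm.trans (Subgroup.mem_bot.1 (gv_a_2 (gv_a_r t h e) (H := ⊥) (List.forall_mem_nil _)))),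
   mul_inv_eq_one.1 ((evA_eq_tm ((InvI.cons t.1 (InvI.cons t.2.1 (InvI.cons t.2.2.1 (InvI.cons t.2.2.2.1 (InvI.cons t.2.2.2.2.1 InvI.nil))))) : InvI [z, u, v, a, b, p] [(nat_lit 0), (nat_lit 1), (nat_lit 2), (nat_lit 3), (nat_lit 4)]) [(.v (nat_lit 0)), (.v (nat_lit 1)), (.v (nat_lit 2)), (.v (nat_lit 3)), (.v (nat_lit 4)), (.v (nat_lit 5)), (.inv (.v (nat_lit 5)))] [3,5,3,4,3,5,3,4] (.mul (.mul (.mul (.v (nat_lit 4)) (.mul (.mul (.v (nat_lit 3)) (.v (nat_lit 5))) (.v (nat_lit 3)))) (.v (nat_lit 4))) (.inv (.inv (.mul (.mul (.v (nat_lit 3)) (.v (nat_lit 5))) (.v (nat_lit 3)))))) (by decide +kernel)).symm.trans (Subgroup.mem_bot.1 (gv_a_3 (gv_a_r t h e) (H := ⊥) (List.forall_mem_nil _)))),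
   mul_inv_eq_one.1 ((evA_eq_tm ((InvI.cons t.1 (InvI.cons t.2.1 (InvI.cons t.2.2.1 (InvI.cons t.2.2.2.1 (InvI.cons t.2.2.2.2.1 InvI.nil))))) : InvI [z, u, v, a, b, p] [(nat_lit 0), (nat_lit 1), (nat_lit 2), (nat_lit 3), (nat_lit 4)]) [(.v (nat_lit 0)), (.v (nat_lit 1)), (.v (nat_lit 2)), (.v (nat_lit 3)), (.v (nat_lit 4)), (.v (nat_lit 5)), (.inv (.v (nat_lit 5)))] [2,3,6,3,2,3,5,3] (.mul (.mul (.mul (.mul (.mul (.v (nat_lit 3)) (.v (nat_lit 5))) (.v (nat_lit 3))) (.v (nat_lit 2))) (.inv (.mul (.mul (.v (nat_lit 3)) (.v (nat_lit 5))) (.v (nat_lit 3))))) (.inv (.v (nat_lit 2)))) (by decide +kernel)).symm.trans (Subgroup.mem_bot.1 (gv_a_4 (gv_a_r t h e) (H := ⊥) (List.forall_mem_nil _))))⟩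
noncomputable def ga1_r_R : List (List ℕ) := [[0,0],
  [1,1],
  [2,2],
  [3,3],
  [4,4],
  [5,6],
  [6,5],
  [2,1,2,1],
  [1,0,1,0],
  [2,0,2,0],
  [3,0,3,0],
  [4,0,4,0],
  [3,1,3,1],
  [4,2,4,2],
  [4,3,4,3],
  [1,0,4,1,4],
  [2,0,3,2,3],
  [5,5,5],
  [1,6,0,5],
  [0,1,6,1,5],
  [5,4,5,4],
  [2,6,2,5],
  [0,6,3,5,5,3,6,3]]
theorem ga1_r {G : Type*} [Group G] {z u v a b p : G}
    (t : QT z u v a b)
    (h : P1 z u b p)
    (e0 : p * v * p⁻¹ = v)
    (e : a * (p⁻¹ * a * p) * (p * a * p⁻¹) = z) :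
    Rels (nthG [z, u, v, a, b, p, p⁻¹]) ga1_r_R :=
  rels_of_eqs ((InvI.cons t.1 (InvI.cons t.2.1 (InvI.cons t.2.2.1 (InvI.cons t.2.2.2.1 (InvI.cons t.2.2.2.2.1 InvI.nil))))) : InvI [z, u, v, a, b, p] [(nat_lit 0), (nat_lit 1), (nat_lit 2), (nat_lit 3), (nat_lit 4)])
    (AllEq.append (show AllEq [z, u, v, a, b, p] [((.mul (.v (nat_lit 0)) (.v (nat_lit 0))), .one), ((.mul (.v (nat_lit 1)) (.v (nat_lit 1))), .one), ((.mul (.v (nat_lit 2)) (.v (nat_lit 2))), .one), ((.mul (.v (nat_lit 3)) (.v (nat_lit 3))), .one), ((.mul (.v (nat_lit 4)) (.v (nat_lit 4))), .one), ((.mul (.v (nat_lit 1)) (.v (nat_lit 2))), (.mul (.v (nat_lit 2)) (.v (nat_lit 1)))), ((.mul (.v (nat_lit 0)) (.v (nat_lit 1))), (.mul (.v (nat_lit 1)) (.v (nat_lit 0)))), ((.mul (.v (nat_lit 0)) (.v (nat_lit 2))), (.mul (.v (nat_lit 2)) (.v (nat_lit 0)))), ((.mul (.v (nat_lit 0)) (.v (nat_lit 3))), (.mul (.v (nat_lit 3)) (.v (nat_lit 0)))), ((.mul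 (.v (nat_lit 0)) (.v (nat_lit 4))), (.mul (.v (nat_lit 4)) (.v (nat_lit 0)))), ((.mul (.v (nat_lit 1)) (.v (nat_lit 3))), (.mul (.v (nat_lit 3)) (.v (nat_lit 1)))), ((.mul (.v (nat_lit 2)) (.v (nat_lit 4))), (.mul (.v (nat_lit 4)) (.v (nat_lit 2)))), ((.mul (.v (nat_lit 3)) (.v (nat_lit 4))), (.mul (.v (nat_lit 4)) (.v (nat_lit 3)))), ((.mul (.mul (.v (nat_lit 4)) (.v (nat_lit 1))) (.v (nat_lit 4))), (.mul (.v (nat_lit 1)) (.v (nat_lit 0)))), ((.mul (.mul (.v (nat_lit 3)) (.v (nat_lit 2))) (.v (nat_lit 3))), (.mul (.v (nat_lit 2)) (.v (nat_lit 0))))] from t)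
    (AllEq.append (show AllEq [z, u, v, a, b, p] [((.pw (.v (nat_lit 5)) (nat_lit 3)), .one), ((.mul (.mul (.v (nat_lit 5)) (.v (nat_lit 0))) (.inv (.v (nat_lit 5)))), (.v (nat_lit 1))), ((.mul (.mul (.v (nat_lit 5)) (.v (nat_lit 1))) (.inv (.v (nat_lit 5)))), (.mul (.v (nat_lit 0)) (.v (nat_lit 1)))), ((.mul (.mul (.v (nat_lit 4)) (.v (nat_lit 5))) (.v (nat_lit 4))), (.inv (.v (nat_lit 5))))] from h)
    (AllEq.append (show AllEq [z, u, v, a, b, p] [((.mul (.mul (.v (nat_lit 5)) (.v (nat_lit 2))) (.inv (.v (nat_lit 5)))), (.v (nat_lit 2)))] from ⟨e0, trivial⟩)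
    (show AllEq [z, u, v, a, b, p] [((.mul (.mul (.v (nat_lit 3)) (.mul (.mul (.inv (.v (nat_lit 5))) (.v (nat_lit 3))) (.v (nat_lit 5)))) (.mul (.mul (.v (nat_lit 5)) (.v (nat_lit 3))) (.inv (.v (nat_lit 5))))), (.v (nat_lit 0)))] from ⟨e, trivial⟩))))
    [(.v (nat_lit 0)), (.v (nat_lit 1)), (.v (nat_lit 2)), (.v (nat_lit 3)), (.v (nat_lit 4)), (.v (nat_lit 5)), (.inv (.v (nat_lit 5)))] (by decide +kernel)
noncomputable def ga1_0_S0 : List ℕ := [nat_lit 0x17000014006014, nat_lit 0x1f000007000010004010, nat_lit 0x23000007000014000016, nat_lit 0x2b00000b000018008016, nat_lit 0x2b00000b00000800002800c018, nat_lit 0x33000030006014, nat_lit 0x3700000900002300001c002018, nat_lit 0x3b00000d00001200400e, nat_lit 0x3b000002000038004016, nat_lit 0x4300001b000020004012, nat_lit 0x47000006000030000016, nat_lit 0x4b00000e000040004010, nat_lit 0x4f000029000047000025002018, nat_lit 0x5300001500003300000f00001800004000002d01a01a,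 nat_lit 0x2200001a00004400003100004f00005400003600004b01401a, nat_lit 0xd00003900001e000000, nat_lit 0x1800003e00002700000c, nat_lit 0x42000007000000]
noncomputable def ga1_0_S : List (List ℕ) := [ga1_0_S0]
noncomputable def ga1_0_defs : List ℕ := [(nat_lit 0x30000b0000000b0030000a005000070030000600300005001000050000000400600003005000030060000200600001005000010030000100100001006000000050000000300000001000000000000000000000)]
noncomputable def ga1_0_recs : List ℕ := [(nat_lit 0xff0000100000ff0000900005ff0000a0000e050001200014060001000013000000f00012010000b00011010000700010060000d0000e00000090000e06000060000d060000b0000c01000090000a00000050000a010000400008000000300007060000400005)]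
noncomputable def ga1_0_T : List (List ℕ × ℕ) := [([0], (nat_lit 0x45))]
noncomputable def ga1_0_D : H26.Dag := ⟨[0,1,2,3,4,6,5], [[0,0],
  [1,1],
  [2,2],
  [3,3],
  [4,4],
  [5,6],
  [6,5],
  [1,0,1,0],
  [3,0,3,0],
  [3,1,3,1],
  [5,5,5],
  [1,6,0,5],
  [0,1,6,1,5],
  [0,6,3,5,5,3,6,3]], [], ga1_0_defs, ga1_0_recs⟩
theorem ga1_0_c : ga1_0_D.check ga1_0_S ga1_0_T = true := by decide +kernel
theorem ga1_0 {G : Type*} [Group G] {g : ℕ → G} (hR : Rels g ga1_r_R) {H : Subgroup G}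
    (hH : ∀ k ∈ [], g k ∈ H) : evA g [0] ∈ H :=
  mem_dag (K := 7) (J := [0,1,2,3,4,5,6,8,10,12,17,18,19,22]) (D := ga1_0_D) (by decide +kernel) ga1_0_c (by decide +kernel) hR hH
theorem ga1 {G : Type*} [Group G] {z u v a b p : G}
    (t : QT z u v a b)
    (h : P1 z u b p)
    (e0 : p * v * p⁻¹ = v)
    (e : a * (p⁻¹ * a * p) * (p * a * p⁻¹) = z) :
    z = 1 :=
  mul_inv_eq_one.1 ((evA_eq_tm ((InvI.cons t.1 (InvI.cons t.2.1 (InvI.cons t.2.2.1 (InvI.cons t.2.2.2.1 (InvI.cons t.2.2.2.2.1 InvI.nil))))) : InvI [z, u, v, a, b, p] [(nat_lit 0), (nat_lit 1), (nat_lit 2), (nat_lit 3), (nat_lit 4)]) [(.v (nat_lit 0)), (.v (nat_lit 1)), (.v (nat_lit 2)), (.v (nat_lit 3)), (.v (nat_lit 4)), (.v (nat_lit 5)), (.inv (.v (nat_lit 5)))] [0] (.mul (.v (nat_lit 0)) (.inv .one)) (by decide +kernel)).symm.trans (Subgroup.mem_bot.1 (ga1_0 (ga1_r t h e0 e) (H := ⊥) (List.forall_mem_nil _))))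
noncomputable def ga2_r_R : List (List ℕ) := [[0,0],
  [1,1],
  [2,2],
  [3,3],
  [4,4],
  [5,6],
  [6,5],
  [2,1,2,1],
  [1,0,1,0],
  [2,0,2,0],
  [3,0,3,0],
  [4,0,4,0],
  [3,1,3,1],
  [4,2,4,2],
  [4,3,4,3],
  [1,0,4,1,4],
  [2,0,3,2,3],
  [5,5,5],
  [1,6,0,5],
  [0,1,6,1,5],
  [5,4,5,4],
  [2,6,2,5],
  [1,6,3,5,5,3,6,3]]
theorem ga2_r {G : Type*} [Group G] {z u v a b p : G}
    (t : QT z u v a b)
    (h : P1 z u b p)
    (e0 : p * v * p⁻¹ = v)
    (e : a * (p⁻¹ * a * p) * (p * a * p⁻¹) = u) :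
    Rels (nthG [z, u, v, a, b, p, p⁻¹]) ga2_r_R :=
  rels_of_eqs ((InvI.cons t.1 (InvI.cons t.2.1 (InvI.cons t.2.2.1 (InvI.cons t.2.2.2.1 (InvI.cons t.2.2.2.2.1 InvI.nil))))) : InvI [z, u, v, a, b, p] [(nat_lit 0), (nat_lit 1), (nat_lit 2), (nat_lit 3), (nat_lit 4)])
    (AllEq.append (show AllEq [z, u, v, a, b, p] [((.mul (.v (nat_lit 0)) (.v (nat_lit 0))), .one), ((.mul (.v (nat_lit 1)) (.v (nat_lit 1))), .one), ((.mul (.v (nat_lit 2)) (.v (nat_lit 2))), .one), ((.mul (.v (nat_lit 3)) (.v (nat_lit 3))), .one), ((.mul (.v (nat_lit 4)) (.v (nat_lit 4))), .one), ((.mul (.v (nat_lit 1)) (.v (nat_lit 2))), (.mul (.v (nat_lit 2)) (.v (nat_lit 1)))), ((.mul (.v (nat_lit 0)) (.v (nat_lit 1))), (.mul (.v (nat_lit 1)) (.v (nat_lit 0)))), ((.mul (.v (nat_lit 0)) (.v (nat_lit 2))), (.mul (.v (nat_lit 2)) (.v (nat_lit 0)))), ((.mul (.v (nat_lit 0)) (.v (nat_lit 3))), (.mul (.v (nat_lit 3)) (.v (nat_lit 0)))), ((.mul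 (.v (nat_lit 0)) (.v (nat_lit 4))), (.mul (.v (nat_lit 4)) (.v (nat_lit 0)))), ((.mul (.v (nat_lit 1)) (.v (nat_lit 3))), (.mul (.v (nat_lit 3)) (.v (nat_lit 1)))), ((.mul (.v (nat_lit 2)) (.v (nat_lit 4))), (.mul (.v (nat_lit 4)) (.v (nat_lit 2)))), ((.mul (.v (nat_lit 3)) (.v (nat_lit 4))), (.mul (.v (nat_lit 4)) (.v (nat_lit 3)))), ((.mul (.mul (.v (nat_lit 4)) (.v (nat_lit 1))) (.v (nat_lit 4))), (.mul (.v (nat_lit 1)) (.v (nat_lit 0)))), ((.mul (.mul (.v (nat_lit 3)) (.v (nat_lit 2))) (.v (nat_lit 3))), (.mul (.v (nat_lit 2)) (.v (nat_lit 0))))] from t)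
    (AllEq.append (show AllEq [z, u, v, a, b, p] [((.pw (.v (nat_lit 5)) (nat_lit 3)), .one), ((.mul (.mul (.v (nat_lit 5)) (.v (nat_lit 0))) (.inv (.v (nat_lit 5)))), (.v (nat_lit 1))), ((.mul (.mul (.v (nat_lit 5)) (.v (nat_lit 1))) (.inv (.v (nat_lit 5)))), (.mul (.v (nat_lit 0)) (.v (nat_lit 1)))), ((.mul (.mul (.v (nat_lit 4)) (.v (nat_lit 5))) (.v (nat_lit 4))), (.inv (.v (nat_lit 5))))] from h)
    (AllEq.append (show AllEq [z, u, v, a, b, p] [((.mul (.mul (.v (nat_lit 5)) (.v (nat_lit 2))) (.inv (.v (nat_lit 5)))), (.v (nat_lit 2)))] from ⟨e0, trivial⟩)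
    (show AllEq [z, u, v, a, b, p] [((.mul (.mul (.v (nat_lit 3)) (.mul (.mul (.inv (.v (nat_lit 5))) (.v (nat_lit 3))) (.v (nat_lit 5)))) (.mul (.mul (.v (nat_lit 5)) (.v (nat_lit 3))) (.inv (.v (nat_lit 5))))), (.v (nat_lit 1)))] from ⟨e, trivial⟩))))
    [(.v (nat_lit 0)), (.v (nat_lit 1)), (.v (nat_lit 2)), (.v (nat_lit 3)), (.v (nat_lit 4)), (.v (nat_lit 5)), (.inv (.v (nat_lit 5)))] (by decide +kernel)
noncomputable def ga2_0_S0 : List ℕ := [nat_lit 0x1b00000700001000400e, nat_lit 0x1f000007000014000014, nat_lit 0x23000020006012, nat_lit 0x2700000b000010004010, nat_lit 0x2b00000b00000800002400c016, nat_lit 0x3700001700001c004010, nat_lit 0x3b000002000030000014, nat_lit 0x3f00003c006012, nat_lit 0x4b00000e000030000019000016, nat_lit 0x4f00004c006012, nat_lit 0x53000012000048004010, nat_lit 0x5700001900003b000015002016, nat_lit 0x5b00001900003b00001b000020000009000048006018, nat_lit 0x2500004f00002700002c00005400002a00003100005b016018,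 nat_lit 0x57000035000022000000, nat_lit 0x3c00003900002e00000a, nat_lit 0x3e000016000002, nat_lit 0x5f00003300000500001f00001c00003c00001d00a018, nat_lit 0x63000060006012, nat_lit 0x4300001f00001c00004100004000004500004900006300e018, nat_lit 0x3400004d000043000006, nat_lit 0x1400005200001f00000a, nat_lit 0x56000007000000]
noncomputable def ga2_0_S : List (List ℕ) := [ga2_0_S0]
noncomputable def ga2_0_defs : List ℕ := [(nat_lit 0x60000c0050000c0030000b0000000b0030000a0060000900500009003000080030000700600006005000060030000500300004005000030060000200300002006000010050000100300001001000010050000000300000001000000000000000000000)]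
noncomputable def ga2_0_recs : List ℕ := [(nat_lit 0xff0000100000ff0000700004ff0000c00010060001700018030000f00017010000600006ff0000d00006ff0000e00015ff0000b00012050001100016060000d00015010001100014060001200013000000e00012060000e0000f010000b0000e01000060000d01000080000a010000300009060000700008010000400007000000300006)]
noncomputable def ga2_0_T : List (List ℕ × ℕ) := [([0], (nat_lit 0x59))]
noncomputable def ga2_0_D : H26.Dag := ⟨[0,1,2,3,4,6,5], [[0,0],
  [1,1],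
  [2,2],
  [3,3],
  [4,4],
  [5,6],
  [6,5],
  [3,0,3,0],
  [3,1,3,1],
  [5,5,5],
  [1,6,0,5],
  [0,1,6,1,5],
  [1,6,3,5,5,3,6,3]], [], ga2_0_defs, ga2_0_recs⟩
theorem ga2_0_c : ga2_0_D.check ga2_0_S ga2_0_T = true := by decide +kernel
theorem ga2_0 {G : Type*} [Group G] {g : ℕ → G} (hR : Rels g ga2_r_R) {H : Subgroup G}
    (hH : ∀ k ∈ [], g k ∈ H) : evA g [0] ∈ H :=
  mem_dag (K := 7) (J := [0,1,2,3,4,5,6,10,12,17,18,19,22]) (D := ga2_0_D) (by decide +kernel) ga2_0_c (by decide +kernel) hR hH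
theorem ga2 {G : Type*} [Group G] {z u v a b p : G}
    (t : QT z u v a b)
    (h : P1 z u b p)
    (e0 : p * v * p⁻¹ = v)
    (e : a * (p⁻¹ * a * p) * (p * a * p⁻¹) = u) :
    z = 1 :=
  mul_inv_eq_one.1 ((evA_eq_tm ((InvI.cons t.1 (InvI.cons t.2.1 (InvI.cons t.2.2.1 (InvI.cons t.2.2.2.1 (InvI.cons t.2.2.2.2.1 InvI.nil))))) : InvI [z, u, v, a, b, p] [(nat_lit 0), (nat_lit 1), (nat_lit 2), (nat_lit 3), (nat_lit 4)]) [(.v (nat_lit 0)), (.v (nat_lit 1)), (.v (nat_lit 2)), (.v (nat_lit 3)), (.v (nat_lit 4)), (.v (nat_lit 5)), (.inv (.v (nat_lit 5)))] [0] (.mul (.v (nat_lit 0)) (.inv .one)) (by decide +kernel)).symm.trans (Subgroup.mem_bot.1 (ga2_0 (ga2_r t h e0 e) (H := ⊥) (List.forall_mem_nil _))))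
noncomputable def ga3_r_R : List (List ℕ) := [[0,0],
  [1,1],
  [2,2],
  [3,3],
  [4,4],
  [5,6],
  [6,5],
  [2,1,2,1],
  [1,0,1,0],
  [2,0,2,0],
  [3,0,3,0],
  [4,0,4,0],
  [3,1,3,1],
  [4,2,4,2],
  [4,3,4,3],
  [1,0,4,1,4],
  [2,0,3,2,3],
  [5,5,5],
  [1,6,0,5],
  [0,1,6,1,5],
  [5,4,5,4],
  [2,6,2,5],
  [2,6,3,5,5,3,6,3]]
theorem ga3_r {G : Type*} [Group G] {z u v a b p : G}
    (t : QT z u v a b)
    (h : P1 z u b p)
    (e0 : p * v * p⁻¹ = v)
    (e : a * (p⁻¹ * a * p) * (p * a * p⁻¹) = v) :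
    Rels (nthG [z, u, v, a, b, p, p⁻¹]) ga3_r_R :=
  rels_of_eqs ((InvI.cons t.1 (InvI.cons t.2.1 (InvI.cons t.2.2.1 (InvI.cons t.2.2.2.1 (InvI.cons t.2.2.2.2.1 InvI.nil))))) : InvI [z, u, v, a, b, p] [(nat_lit 0), (nat_lit 1), (nat_lit 2), (nat_lit 3), (nat_lit 4)])
    (AllEq.append (show AllEq [z, u, v, a, b, p] [((.mul (.v (nat_lit 0)) (.v (nat_lit 0))), .one), ((.mul (.v (nat_lit 1)) (.v (nat_lit 1))), .one), ((.mul (.v (nat_lit 2)) (.v (nat_lit 2))), .one), ((.mul (.v (nat_lit 3)) (.v (nat_lit 3))), .one), ((.mul (.v (nat_lit 4)) (.v (nat_lit 4))), .one), ((.mul (.v (nat_lit 1)) (.v (nat_lit 2))), (.mul (.v (nat_lit 2)) (.v (nat_lit 1)))), ((.mul (.v (nat_lit 0)) (.v (nat_lit 1))), (.mul (.v (nat_lit 1)) (.v (nat_lit 0)))), ((.mul (.v (nat_lit 0)) (.v (nat_lit 2))), (.mul (.v (nat_lit 2)) (.v (nat_lit 0)))), ((.mul (.v (nat_lit 0)) (.v (nat_lit 3))), (.mul (.v (nat_lit 3)) (.v (nat_lit 0)))), ((.mul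 (.v (nat_lit 0)) (.v (nat_lit 4))), (.mul (.v (nat_lit 4)) (.v (nat_lit 0)))), ((.mul (.v (nat_lit 1)) (.v (nat_lit 3))), (.mul (.v (nat_lit 3)) (.v (nat_lit 1)))), ((.mul (.v (nat_lit 2)) (.v (nat_lit 4))), (.mul (.v (nat_lit 4)) (.v (nat_lit 2)))), ((.mul (.v (nat_lit 3)) (.v (nat_lit 4))), (.mul (.v (nat_lit 4)) (.v (nat_lit 3)))), ((.mul (.mul (.v (nat_lit 4)) (.v (nat_lit 1))) (.v (nat_lit 4))), (.mul (.v (nat_lit 1)) (.v (nat_lit 0)))), ((.mul (.mul (.v (nat_lit 3)) (.v (nat_lit 2))) (.v (nat_lit 3))), (.mul (.v (nat_lit 2)) (.v (nat_lit 0))))] from t)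
    (AllEq.append (show AllEq [z, u, v, a, b, p] [((.pw (.v (nat_lit 5)) (nat_lit 3)), .one), ((.mul (.mul (.v (nat_lit 5)) (.v (nat_lit 0))) (.inv (.v (nat_lit 5)))), (.v (nat_lit 1))), ((.mul (.mul (.v (nat_lit 5)) (.v (nat_lit 1))) (.inv (.v (nat_lit 5)))), (.mul (.v (nat_lit 0)) (.v (nat_lit 1)))), ((.mul (.mul (.v (nat_lit 4)) (.v (nat_lit 5))) (.v (nat_lit 4))), (.inv (.v (nat_lit 5))))] from h)
    (AllEq.append (show AllEq [z, u, v, a, b, p] [((.mul (.mul (.v (nat_lit 5)) (.v (nat_lit 2))) (.inv (.v (nat_lit 5)))), (.v (nat_lit 2)))] from ⟨e0, trivial⟩)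
    (show AllEq [z, u, v, a, b, p] [((.mul (.mul (.v (nat_lit 3)) (.mul (.mul (.inv (.v (nat_lit 5))) (.v (nat_lit 3))) (.v (nat_lit 5)))) (.mul (.mul (.v (nat_lit 5)) (.v (nat_lit 3))) (.inv (.v (nat_lit 5))))), (.v (nat_lit 2)))] from ⟨e, trivial⟩))))
    [(.v (nat_lit 0)), (.v (nat_lit 1)), (.v (nat_lit 2)), (.v (nat_lit 3)), (.v (nat_lit 4)), (.v (nat_lit 5)), (.inv (.v (nat_lit 5)))] (by decide +kernel)
noncomputable def ga3_0_S0 : List ℕ := [nat_lit 0x1300000700000c00400e, nat_lit 0x1f00000100001300001800c010, nat_lit 0x2300000b000010000014, nat_lit 0x33000030006012, nat_lit 0x3700002700000900002300002000003000000d00a016, nat_lit 0x3b000038006012, nat_lit 0x2b00001b00001800000500003400001100001500003b00e016, nat_lit 0x2800001900002b000006, nat_lit 0x1000001e00001b00000a, nat_lit 0x22000007000000]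
noncomputable def ga3_0_S : List (List ℕ) := [ga3_0_S0]
noncomputable def ga3_0_defs : List ℕ := [(nat_lit 0x6000090050000900600007005000070030000600300003005000020030000200500001003000010020000100500000002000000000000000000000)]
noncomputable def ga3_0_recs : List ℕ := [(nat_lit 0xff0000100000ff0000600003ff000090000a060000d0000e030000c0000d060000b0000c020000300008020000500007000000200004)]
noncomputable def ga3_0_T : List (List ℕ × ℕ) := [([0], (nat_lit 0x25))]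
noncomputable def ga3_0_D : H26.Dag := ⟨[0,1,2,3,4,6,5], [[0,0],
  [1,1],
  [2,2],
  [3,3],
  [4,4],
  [5,6],
  [6,5],
  [2,0,2,0],
  [2,0,3,2,3],
  [5,5,5],
  [2,6,2,5],
  [2,6,3,5,5,3,6,3]], [], ga3_0_defs, ga3_0_recs⟩
theorem ga3_0_c : ga3_0_D.check ga3_0_S ga3_0_T = true := by decide +kernel
theorem ga3_0 {G : Type*} [Group G] {g : ℕ → G} (hR : Rels g ga3_r_R) {H : Subgroup G}
    (hH : ∀ k ∈ [], g k ∈ H) : evA g [0] ∈ H :=
  mem_dag (K := 7) (J := [0,1,2,3,4,5,6,9,16,17,21,22]) (D := ga3_0_D) (by decide +kernel) ga3_0_c (by decide +kernel) hR hH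
theorem ga3 {G : Type*} [Group G] {z u v a b p : G}
    (t : QT z u v a b)
    (h : P1 z u b p)
    (e0 : p * v * p⁻¹ = v)
    (e : a * (p⁻¹ * a * p) * (p * a * p⁻¹) = v) :
    z = 1 :=
  mul_inv_eq_one.1 ((evA_eq_tm ((InvI.cons t.1 (InvI.cons t.2.1 (InvI.cons t.2.2.1 (InvI.cons t.2.2.2.1 (InvI.cons t.2.2.2.2.1 InvI.nil))))) : InvI [z, u, v, a, b, p] [(nat_lit 0), (nat_lit 1), (nat_lit 2), (nat_lit 3), (nat_lit 4)]) [(.v (nat_lit 0)), (.v (nat_lit 1)), (.v (nat_lit 2)), (.v (nat_lit 3)), (.v (nat_lit 4)), (.v (nat_lit 5)), (.inv (.v (nat_lit 5)))] [0] (.mul (.v (nat_lit 0)) (.inv .one)) (by decide +kernel)).symm.trans (Subgroup.mem_bot.1 (ga3_0 (ga3_r t h e0 e) (H := ⊥) (List.forall_mem_nil _))))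
noncomputable def ga4_r_R : List (List ℕ) := [[0,0],
  [1,1],
  [2,2],
  [3,3],
  [4,4],
  [5,6],
  [6,5],
  [2,1,2,1],
  [1,0,1,0],
  [2,0,2,0],
  [3,0,3,0],
  [4,0,4,0],
  [3,1,3,1],
  [4,2,4,2],
  [4,3,4,3],
  [1,0,4,1,4],
  [2,0,3,2,3],
  [5,5,5],
  [1,6,0,5],
  [0,1,6,1,5],
  [5,4,5,4],
  [2,6,2,5],
  [0,1,6,3,5,5,3,6,3]]
theorem ga4_r {G : Type*} [Group G] {z u v a b p : G}
    (t : QT z u v a b)
    (h : P1 z u b p)
    (e0 : p * v * p⁻¹ = v)
    (e : a * (p⁻¹ * a * p) * (p * a * p⁻¹) = z * u) :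
    Rels (nthG [z, u, v, a, b, p, p⁻¹]) ga4_r_R :=
  rels_of_eqs ((InvI.cons t.1 (InvI.cons t.2.1 (InvI.cons t.2.2.1 (InvI.cons t.2.2.2.1 (InvI.cons t.2.2.2.2.1 InvI.nil))))) : InvI [z, u, v, a, b, p] [(nat_lit 0), (nat_lit 1), (nat_lit 2), (nat_lit 3), (nat_lit 4)])
    (AllEq.append (show AllEq [z, u, v, a, b, p] [((.mul (.v (nat_lit 0)) (.v (nat_lit 0))), .one), ((.mul (.v (nat_lit 1)) (.v (nat_lit 1))), .one), ((.mul (.v (nat_lit 2)) (.v (nat_lit 2))), .one), ((.mul (.v (nat_lit 3)) (.v (nat_lit 3))), .one), ((.mul (.v (nat_lit 4)) (.v (nat_lit 4))), .one), ((.mul (.v (nat_lit 1)) (.v (nat_lit 2))), (.mul (.v (nat_lit 2)) (.v (nat_lit 1)))), ((.mul (.v (nat_lit 0)) (.v (nat_lit 1))), (.mul (.v (nat_lit 1)) (.v (nat_lit 0)))), ((.mul (.v (nat_lit 0)) (.v (nat_lit 2))), (.mul (.v (nat_lit 2)) (.v (nat_lit 0)))), ((.mul (.v (nat_lit 0)) (.v (nat_lit 3))), (.mul (.v (nat_lit 3)) (.v (nat_lit 0)))), ((.mul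 (.v (nat_lit 0)) (.v (nat_lit 4))), (.mul (.v (nat_lit 4)) (.v (nat_lit 0)))), ((.mul (.v (nat_lit 1)) (.v (nat_lit 3))), (.mul (.v (nat_lit 3)) (.v (nat_lit 1)))), ((.mul (.v (nat_lit 2)) (.v (nat_lit 4))), (.mul (.v (nat_lit 4)) (.v (nat_lit 2)))), ((.mul (.v (nat_lit 3)) (.v (nat_lit 4))), (.mul (.v (nat_lit 4)) (.v (nat_lit 3)))), ((.mul (.mul (.v (nat_lit 4)) (.v (nat_lit 1))) (.v (nat_lit 4))), (.mul (.v (nat_lit 1)) (.v (nat_lit 0)))), ((.mul (.mul (.v (nat_lit 3)) (.v (nat_lit 2))) (.v (nat_lit 3))), (.mul (.v (nat_lit 2)) (.v (nat_lit 0))))] from t)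
    (AllEq.append (show AllEq [z, u, v, a, b, p] [((.pw (.v (nat_lit 5)) (nat_lit 3)), .one), ((.mul (.mul (.v (nat_lit 5)) (.v (nat_lit 0))) (.inv (.v (nat_lit 5)))), (.v (nat_lit 1))), ((.mul (.mul (.v (nat_lit 5)) (.v (nat_lit 1))) (.inv (.v (nat_lit 5)))), (.mul (.v (nat_lit 0)) (.v (nat_lit 1)))), ((.mul (.mul (.v (nat_lit 4)) (.v (nat_lit 5))) (.v (nat_lit 4))), (.inv (.v (nat_lit 5))))] from h)
    (AllEq.append (show AllEq [z, u, v, a, b, p] [((.mul (.mul (.v (nat_lit 5)) (.v (nat_lit 2))) (.inv (.v (nat_lit 5)))), (.v (nat_lit 2)))] from ⟨e0, trivial⟩)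
    (show AllEq [z, u, v, a, b, p] [((.mul (.mul (.v (nat_lit 3)) (.mul (.mul (.inv (.v (nat_lit 5))) (.v (nat_lit 3))) (.v (nat_lit 5)))) (.mul (.mul (.v (nat_lit 5)) (.v (nat_lit 3))) (.inv (.v (nat_lit 5))))), (.mul (.v (nat_lit 0)) (.v (nat_lit 1))))] from ⟨e, trivial⟩))))
    [(.v (nat_lit 0)), (.v (nat_lit 1)), (.v (nat_lit 2)), (.v (nat_lit 3)), (.v (nat_lit 4)), (.v (nat_lit 5)), (.inv (.v (nat_lit 5)))] (by decide +kernel)
noncomputable def ga4_0_S0 : List ℕ := [nat_lit 0xf00000b00000700c00e, nat_lit 0x1700001300000200c010, nat_lit 0x1b000007000005008012, nat_lit 0x2300001f000005008014, nat_lit 0x2700001f000001008016, nat_lit 0x2b00001b00000700002000c018, nat_lit 0x3300002f00801a, nat_lit 0x4700004300003f00003b00003700001800000600002001c020, nat_lit 0x4300003f00401a, nat_lit 0x4b00000b00001c008010, nat_lit 0x1800000900002500000e, nat_lit 0x4f00001c00002c004014, nat_lit 0x2300001500002d000012, nat_lit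 0x5300004f00000c008016, nat_lit 0x5700003600004c008014, nat_lit 0x1200001400002a00003900c018, nat_lit 0x5b00001300000f00003500c018, nat_lit 0x3200005400004100c00e, nat_lit 0x3e00005700004100c012, nat_lit 0x6f00006b00006700006300005f00001700001300001101c020, nat_lit 0x7300003800401a, nat_lit 0x8300007f00007b00007700001a00000100001400005c01c020, nat_lit 0x4e00004a00005500001c, nat_lit 0x4700002200003b00005100007300005c000055000059000020, nat_lit 0x2700001d00005e00005a00005600a01e, nat_lit 0x28000062000045000002, nat_lit 0x2000006600000e000006, nat_lit 0x6a000006000000]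
noncomputable def ga4_0_S : List (List ℕ) := [ga4_0_S0]
noncomputable def ga4_0_defs : List ℕ := [(nat_lit 0x30001f0050001e0050001d0030000c005000040030001a005000190050001800300017006000050030000400000014001000130030000100000002003000100050000f0050000e0030000d006000040050000b005000000030000600100007000000070030000000000001001000040000000300200002001000010020000000000000)]
noncomputable def ga4_0_recs : List ℕ := [(nat_lit 0xff0000500000ff0000800007ff0001600009000001b0001101000200001b060001600020050000d0001c06000090001b000001600009010001600008020001400016020001500009030001200015030000200014020001300008000000a00013020001200004010000600012050000e0001006000070001105000000000c02000070000a030000300009030000500008020000500006000000000005010000000003)]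
noncomputable def ga4_0_T : List (List ℕ × ℕ) := [([0], (nat_lit 0x6d))]
noncomputable def ga4_0_D : H26.Dag := ⟨[0,1,2,3,4,6,5], [[0,0],
  [1,1],
  [2,2],
  [3,3],
  [4,4],
  [5,6],
  [6,5],
  [2,1,2,1],
  [1,0,1,0],
  [2,0,2,0],
  [3,0,3,0],
  [3,1,3,1],
  [2,0,3,2,3],
  [5,5,5],
  [1,6,0,5],
  [0,1,6,1,5],
  [0,1,6,3,5,5,3,6,3]], [], ga4_0_defs, ga4_0_recs⟩
theorem ga4_0_c : ga4_0_D.check ga4_0_S ga4_0_T = true := by decide +kernel
theorem ga4_0 {G : Type*} [Group G] {g : ℕ → G} (hR : Rels g ga4_r_R) {H : Subgroup G}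
    (hH : ∀ k ∈ [], g k ∈ H) : evA g [0] ∈ H :=
  mem_dag (K := 7) (J := [0,1,2,3,4,5,6,7,8,9,10,12,16,17,18,19,22]) (D := ga4_0_D) (by decide +kernel) ga4_0_c (by decide +kernel) hR hH
theorem ga4 {G : Type*} [Group G] {z u v a b p : G}
    (t : QT z u v a b)
    (h : P1 z u b p)
    (e0 : p * v * p⁻¹ = v)
    (e : a * (p⁻¹ * a * p) * (p * a * p⁻¹) = z * u) :
    z = 1 :=
  mul_inv_eq_one.1 ((evA_eq_tm ((InvI.cons t.1 (InvI.cons t.2.1 (InvI.cons t.2.2.1 (InvI.cons t.2.2.2.1 (InvI.cons t.2.2.2.2.1 InvI.nil))))) : InvI [z, u, v, a, b, p] [(nat_lit 0), (nat_lit 1), (nat_lit 2), (nat_lit 3), (nat_lit 4)]) [(.v (nat_lit 0)), (.v (nat_lit 1)), (.v (nat_lit 2)), (.v (nat_lit 3)), (.v (nat_lit 4)), (.v (nat_lit 5)), (.inv (.v (nat_lit 5)))] [0] (.mul (.v (nat_lit 0)) (.inv .one)) (by decide +kernel)).symm.trans (Subgroup.mem_bot.1 (ga4_0 (ga4_r t h e0 e) (H := ⊥) (List.forall_mem_nil _))))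
noncomputable def ga5_r_R : List (List ℕ) := [[0,0],
  [1,1],
  [2,2],
  [3,3],
  [4,4],
  [5,6],
  [6,5],
  [2,1,2,1],
  [1,0,1,0],
  [2,0,2,0],
  [3,0,3,0],
  [4,0,4,0],
  [3,1,3,1],
  [4,2,4,2],
  [4,3,4,3],
  [1,0,4,1,4],
  [2,0,3,2,3],
  [5,5,5],
  [1,6,0,5],
  [0,1,6,1,5],
  [5,4,5,4],
  [2,6,2,5],
  [0,2,6,3,5,5,3,6,3]]
theorem ga5_r {G : Type*} [Group G] {z u v a b p : G}
    (t : QT z u v a b)
    (h : P1 z u b p)
    (e0 : p * v * p⁻¹ = v)
    (e : a * (p⁻¹ * a * p) * (p * a * p⁻¹) = z * v) :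
    Rels (nthG [z, u, v, a, b, p, p⁻¹]) ga5_r_R :=
  rels_of_eqs ((InvI.cons t.1 (InvI.cons t.2.1 (InvI.cons t.2.2.1 (InvI.cons t.2.2.2.1 (InvI.cons t.2.2.2.2.1 InvI.nil))))) : InvI [z, u, v, a, b, p] [(nat_lit 0), (nat_lit 1), (nat_lit 2), (nat_lit 3), (nat_lit 4)])
    (AllEq.append (show AllEq [z, u, v, a, b, p] [((.mul (.v (nat_lit 0)) (.v (nat_lit 0))), .one), ((.mul (.v (nat_lit 1)) (.v (nat_lit 1))), .one), ((.mul (.v (nat_lit 2)) (.v (nat_lit 2))), .one), ((.mul (.v (nat_lit 3)) (.v (nat_lit 3))), .one), ((.mul (.v (nat_lit 4)) (.v (nat_lit 4))), .one), ((.mul (.v (nat_lit 1)) (.v (nat_lit 2))), (.mul (.v (nat_lit 2)) (.v (nat_lit 1)))), ((.mul (.v (nat_lit 0)) (.v (nat_lit 1))), (.mul (.v (nat_lit 1)) (.v (nat_lit 0)))), ((.mul (.v (nat_lit 0)) (.v (nat_lit 2))), (.mul (.v (nat_lit 2)) (.v (nat_lit 0)))), ((.mul (.v (nat_lit 0)) (.v (nat_lit 3))), (.mul (.v (nat_lit 3)) (.v (nat_lit 0)))), ((.mul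 (.v (nat_lit 0)) (.v (nat_lit 4))), (.mul (.v (nat_lit 4)) (.v (nat_lit 0)))), ((.mul (.v (nat_lit 1)) (.v (nat_lit 3))), (.mul (.v (nat_lit 3)) (.v (nat_lit 1)))), ((.mul (.v (nat_lit 2)) (.v (nat_lit 4))), (.mul (.v (nat_lit 4)) (.v (nat_lit 2)))), ((.mul (.v (nat_lit 3)) (.v (nat_lit 4))), (.mul (.v (nat_lit 4)) (.v (nat_lit 3)))), ((.mul (.mul (.v (nat_lit 4)) (.v (nat_lit 1))) (.v (nat_lit 4))), (.mul (.v (nat_lit 1)) (.v (nat_lit 0)))), ((.mul (.mul (.v (nat_lit 3)) (.v (nat_lit 2))) (.v (nat_lit 3))), (.mul (.v (nat_lit 2)) (.v (nat_lit 0))))] from t)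
    (AllEq.append (show AllEq [z, u, v, a, b, p] [((.pw (.v (nat_lit 5)) (nat_lit 3)), .one), ((.mul (.mul (.v (nat_lit 5)) (.v (nat_lit 0))) (.inv (.v (nat_lit 5)))), (.v (nat_lit 1))), ((.mul (.mul (.v (nat_lit 5)) (.v (nat_lit 1))) (.inv (.v (nat_lit 5)))), (.mul (.v (nat_lit 0)) (.v (nat_lit 1)))), ((.mul (.mul (.v (nat_lit 4)) (.v (nat_lit 5))) (.v (nat_lit 4))), (.inv (.v (nat_lit 5))))] from h)
    (AllEq.append (show AllEq [z, u, v, a, b, p] [((.mul (.mul (.v (nat_lit 5)) (.v (nat_lit 2))) (.inv (.v (nat_lit 5)))), (.v (nat_lit 2)))] from ⟨e0, trivial⟩)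
    (show AllEq [z, u, v, a, b, p] [((.mul (.mul (.v (nat_lit 3)) (.mul (.mul (.inv (.v (nat_lit 5))) (.v (nat_lit 3))) (.v (nat_lit 5)))) (.mul (.mul (.v (nat_lit 5)) (.v (nat_lit 3))) (.inv (.v (nat_lit 5))))), (.mul (.v (nat_lit 0)) (.v (nat_lit 2))))] from ⟨e, trivial⟩))))
    [(.v (nat_lit 0)), (.v (nat_lit 1)), (.v (nat_lit 2)), (.v (nat_lit 3)), (.v (nat_lit 4)), (.v (nat_lit 5)), (.inv (.v (nat_lit 5)))] (by decide +kernel)
noncomputable def ga5_0_S0 : List ℕ := [nat_lit 0x1f000007000010004010, nat_lit 0x23000007000014004012, nat_lit 0x2700000700001800001a, nat_lit 0x2b00000b00001000400e, nat_lit 0x2f00000b000014004014, nat_lit 0x3300000b00001800000900001c, nat_lit 0x3700000b00001c00801a, nat_lit 0x3b00000100001f00002400c016, nat_lit 0x43000040006018, nat_lit 0x47000013000008000020010016, nat_lit 0x4f00004c006018, nat_lit 0x5b00001f00002800001e, nat_lit 0x5f00000600004c00001a, nat_lit 0x6700000e00004400801a,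 nat_lit 0x6700002b00003800801e, nat_lit 0x6b00001200004c00003100001c, nat_lit 0x6f00001a000058004012, nat_lit 0x7300001e00006000001e, nat_lit 0x7700003500003a00007000c016, nat_lit 0x7f00007c006018, nat_lit 0x8700002900004f00001300001c00005800004100004901a020, nat_lit 0x8300008800005200007700002200003f00003c000074000046004020, nat_lit 0x3e000055000083000000, nat_lit 0x4c00005900006b00000a, nat_lit 0x1400005e00002f000006, nat_lit 0x1700006200003400000c, nat_lit 0x66000016000000, nat_lit 0x8b00005300006a00002d00005b00002500007c00004d00a020, nat_lit 0x8f00008c006018, nat_lit 0x6300002700002400000600004800008000006d00007100008f00e020, nat_lit 0x54000075000063000006, nat_lit 0x1800007a00002700000a, nat_lit 0x7e000007000000]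
noncomputable def ga5_0_S : List (List ℕ) := [ga5_0_S0]
noncomputable def ga5_0_defs : List ℕ := [(nat_lit 0x6000140050001400300012000000120060001100500011003000100050000e0030000d0050000b0060000a00300009005000080050000700300006003000050060000400500004002000040060000300500003003000030060000200500002003000020020000200500001003000010020000100600000005000000030000000200000001000000000000000000000)]
noncomputable def ga5_0_recs : List ℕ := [(nat_lit 0xff0000100000ff0000900005ff0001400018060002200023030001f00022000000900005ff0000c00005ff0000200000ff0000b00004ff000120001aff0001700020050001d00021060001e0001f020001b0001d02000170001c00000150001b00000170001a020000d00019000001000019010001200017020000900016060001200013030000700011060000f0001002000080000e00000060000d00000090000c01000040000b01000030000a010000500009000000400008000000300007)]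
noncomputable def ga5_0_T : List (List ℕ × ℕ) := [([0], (nat_lit 0x81))]
noncomputable def ga5_0_D : H26.Dag := ⟨[0,1,2,3,4,6,5], [[0,0],
  [1,1],
  [2,2],
  [3,3],
  [4,4],
  [5,6],
  [6,5],
  [2,1,2,1],
  [2,0,2,0],
  [3,0,3,0],
  [3,1,3,1],
  [2,0,3,2,3],
  [5,5,5],
  [1,6,0,5],
  [0,1,6,1,5],
  [2,6,2,5],
  [0,2,6,3,5,5,3,6,3]], [], ga5_0_defs, ga5_0_recs⟩
theorem ga5_0_c : ga5_0_D.check ga5_0_S ga5_0_T = true := by decide +kernel
theorem ga5_0 {G : Type*} [Group G] {g : ℕ → G} (hR : Rels g ga5_r_R) {H : Subgroup G}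
    (hH : ∀ k ∈ [], g k ∈ H) : evA g [0] ∈ H :=
  mem_dag (K := 7) (J := [0,1,2,3,4,5,6,7,9,10,12,16,17,18,19,21,22]) (D := ga5_0_D) (by decide +kernel) ga5_0_c (by decide +kernel) hR hH
theorem ga5 {G : Type*} [Group G] {z u v a b p : G}
    (t : QT z u v a b)
    (h : P1 z u b p)
    (e0 : p * v * p⁻¹ = v)
    (e : a * (p⁻¹ * a * p) * (p * a * p⁻¹) = z * v) :
    z = 1 :=
  mul_inv_eq_one.1 ((evA_eq_tm ((InvI.cons t.1 (InvI.cons t.2.1 (InvI.cons t.2.2.1 (InvI.cons t.2.2.2.1 (InvI.cons t.2.2.2.2.1 InvI.nil))))) : InvI [z, u, v, a, b, p] [(nat_lit 0), (nat_lit 1), (nat_lit 2), (nat_lit 3), (nat_lit 4)]) [(.v (nat_lit 0)), (.v (nat_lit 1)), (.v (nat_lit 2)), (.v (nat_lit 3)), (.v (nat_lit 4)), (.v (nat_lit 5)), (.inv (.v (nat_lit 5)))] [0] (.mul (.v (nat_lit 0)) (.inv .one)) (by decide +kernel)).symm.trans (Subgroup.mem_bot.1 (ga5_0 (ga5_r t h e0 e) (H := ⊥) (List.forall_mem_nil _))))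
noncomputable def ga6_r_R : List (List ℕ) := [[0,0],
  [1,1],
  [2,2],
  [3,3],
  [4,4],
  [5,6],
  [6,5],
  [2,1,2,1],
  [1,0,1,0],
  [2,0,2,0],
  [3,0,3,0],
  [4,0,4,0],
  [3,1,3,1],
  [4,2,4,2],
  [4,3,4,3],
  [1,0,4,1,4],
  [2,0,3,2,3],
  [5,5,5],
  [1,6,0,5],
  [0,1,6,1,5],
  [5,4,5,4],
  [2,6,2,5],
  [1,2,6,3,5,5,3,6,3]]
theorem ga6_r {G : Type*} [Group G] {z u v a b p : G}
    (t : QT z u v a b)
    (h : P1 z u b p)
    (e0 : p * v * p⁻¹ = v)
    (e : a * (p⁻¹ * a * p) * (p * a * p⁻¹) = u * v) :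
    Rels (nthG [z, u, v, a, b, p, p⁻¹]) ga6_r_R :=
  rels_of_eqs ((InvI.cons t.1 (InvI.cons t.2.1 (InvI.cons t.2.2.1 (InvI.cons t.2.2.2.1 (InvI.cons t.2.2.2.2.1 InvI.nil))))) : InvI [z, u, v, a, b, p] [(nat_lit 0), (nat_lit 1), (nat_lit 2), (nat_lit 3), (nat_lit 4)])
    (AllEq.append (show AllEq [z, u, v, a, b, p] [((.mul (.v (nat_lit 0)) (.v (nat_lit 0))), .one), ((.mul (.v (nat_lit 1)) (.v (nat_lit 1))), .one), ((.mul (.v (nat_lit 2)) (.v (nat_lit 2))), .one), ((.mul (.v (nat_lit 3)) (.v (nat_lit 3))), .one), ((.mul (.v (nat_lit 4)) (.v (nat_lit 4))), .one), ((.mul (.v (nat_lit 1)) (.v (nat_lit 2))), (.mul (.v (nat_lit 2)) (.v (nat_lit 1)))), ((.mul (.v (nat_lit 0)) (.v (nat_lit 1))), (.mul (.v (nat_lit 1)) (.v (nat_lit 0)))), ((.mul (.v (nat_lit 0)) (.v (nat_lit 2))), (.mul (.v (nat_lit 2)) (.v (nat_lit 0)))), ((.mul (.v (nat_lit 0)) (.v (nat_lit 3))), (.mul (.v (nat_lit 3)) (.v (nat_lit 0)))), ((.mul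 (.v (nat_lit 0)) (.v (nat_lit 4))), (.mul (.v (nat_lit 4)) (.v (nat_lit 0)))), ((.mul (.v (nat_lit 1)) (.v (nat_lit 3))), (.mul (.v (nat_lit 3)) (.v (nat_lit 1)))), ((.mul (.v (nat_lit 2)) (.v (nat_lit 4))), (.mul (.v (nat_lit 4)) (.v (nat_lit 2)))), ((.mul (.v (nat_lit 3)) (.v (nat_lit 4))), (.mul (.v (nat_lit 4)) (.v (nat_lit 3)))), ((.mul (.mul (.v (nat_lit 4)) (.v (nat_lit 1))) (.v (nat_lit 4))), (.mul (.v (nat_lit 1)) (.v (nat_lit 0)))), ((.mul (.mul (.v (nat_lit 3)) (.v (nat_lit 2))) (.v (nat_lit 3))), (.mul (.v (nat_lit 2)) (.v (nat_lit 0))))] from t)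
    (AllEq.append (show AllEq [z, u, v, a, b, p] [((.pw (.v (nat_lit 5)) (nat_lit 3)), .one), ((.mul (.mul (.v (nat_lit 5)) (.v (nat_lit 0))) (.inv (.v (nat_lit 5)))), (.v (nat_lit 1))), ((.mul (.mul (.v (nat_lit 5)) (.v (nat_lit 1))) (.inv (.v (nat_lit 5)))), (.mul (.v (nat_lit 0)) (.v (nat_lit 1)))), ((.mul (.mul (.v (nat_lit 4)) (.v (nat_lit 5))) (.v (nat_lit 4))), (.inv (.v (nat_lit 5))))] from h)
    (AllEq.append (show AllEq [z, u, v, a, b, p] [((.mul (.mul (.v (nat_lit 5)) (.v (nat_lit 2))) (.inv (.v (nat_lit 5)))), (.v (nat_lit 2)))] from ⟨e0, trivial⟩)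
    (show AllEq [z, u, v, a, b, p] [((.mul (.mul (.v (nat_lit 3)) (.mul (.mul (.inv (.v (nat_lit 5))) (.v (nat_lit 3))) (.v (nat_lit 5)))) (.mul (.mul (.v (nat_lit 5)) (.v (nat_lit 3))) (.inv (.v (nat_lit 5))))), (.mul (.v (nat_lit 1)) (.v (nat_lit 2))))] from ⟨e, trivial⟩))))
    [(.v (nat_lit 0)), (.v (nat_lit 1)), (.v (nat_lit 2)), (.v (nat_lit 3)), (.v (nat_lit 4)), (.v (nat_lit 5)), (.inv (.v (nat_lit 5)))] (by decide +kernel)
noncomputable def ga6_0_S0 : List ℕ := [nat_lit 0x17000007000010004010, nat_lit 0x1b000007000014004012, nat_lit 0x2300000b00001000400e, nat_lit 0x2700000b00000800002000c01c, nat_lit 0x2b00000100001700001c00c016, nat_lit 0x33000030006018, nat_lit 0x3b00000600003800001a, nat_lit 0x3f00003c006018, nat_lit 0x4700000a00003400801a, nat_lit 0x4700002300002800801e, nat_lit 0x4b00000e000044004014, nat_lit 0x4f00001200003c00001e, nat_lit 0x5300002100002600004c00c016, nat_lit 0x5700001900002d00004f00002b000030000015000054006020,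 nat_lit 0x1d00003f00001b000020000044000029000031000035000057016020, nat_lit 0x3800003900003b00000a, nat_lit 0x1400003e00001b000006, nat_lit 0x42000007000000]
noncomputable def ga6_0_S : List (List ℕ) := [ga6_0_S0]
noncomputable def ga6_0_defs : List ℕ := [(nat_lit 0x30000d0030000c0050000a00300009006000080030000700600006005000060050000400600003005000030030000300600002002000020060000100300001002000010030000000200000001000000000000000000000)]
noncomputable def ga6_0_recs : List ℕ := [(nat_lit 0xff0000100000ff0000600004ff0000d0000e050001400015020001200014020000e00013010001000012020000900011000000c00011060000e0000f010000d0000e060000b0000c02000060000a010000700009010000300008000000400006000000300005)]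
noncomputable def ga6_0_T : List (List ℕ × ℕ) := [([0], (nat_lit 0x45))]
noncomputable def ga6_0_D : H26.Dag := ⟨[0,1,2,3,4,6,5], [[0,0],
  [1,1],
  [2,2],
  [3,3],
  [4,4],
  [5,6],
  [6,5],
  [2,1,2,1],
  [2,0,2,0],
  [3,0,3,0],
  [3,1,3,1],
  [2,0,3,2,3],
  [5,5,5],
  [1,6,0,5],
  [0,1,6,1,5],
  [2,6,2,5],
  [1,2,6,3,5,5,3,6,3]], [], ga6_0_defs, ga6_0_recs⟩
theorem ga6_0_c : ga6_0_D.check ga6_0_S ga6_0_T = true := by decide +kernel
theorem ga6_0 {G : Type*} [Group G] {g : ℕ → G} (hR : Rels g ga6_r_R) {H : Subgroup G}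
    (hH : ∀ k ∈ [], g k ∈ H) : evA g [0] ∈ H :=
  mem_dag (K := 7) (J := [0,1,2,3,4,5,6,7,9,10,12,16,17,18,19,21,22]) (D := ga6_0_D) (by decide +kernel) ga6_0_c (by decide +kernel) hR hH
theorem ga6 {G : Type*} [Group G] {z u v a b p : G}
    (t : QT z u v a b)
    (h : P1 z u b p)
    (e0 : p * v * p⁻¹ = v)
    (e : a * (p⁻¹ * a * p) * (p * a * p⁻¹) = u * v) :
    z = 1 :=
  mul_inv_eq_one.1 ((evA_eq_tm ((InvI.cons t.1 (InvI.cons t.2.1 (InvI.cons t.2.2.1 (InvI.cons t.2.2.2.1 (InvI.cons t.2.2.2.2.1 InvI.nil))))) : InvI [z, u, v, a, b, p] [(nat_lit 0), (nat_lit 1), (nat_lit 2), (nat_lit 3), (nat_lit 4)]) [(.v (nat_lit 0)), (.v (nat_lit 1)), (.v (nat_lit 2)), (.v (nat_lit 3)), (.v (nat_lit 4)), (.v (nat_lit 5)), (.inv (.v (nat_lit 5)))] [0] (.mul (.v (nat_lit 0)) (.inv .one)) (by decide +kernel)).symm.trans (Subgroup.mem_bot.1 (ga6_0 (ga6_r t h e0 e) (H := ⊥) (List.forall_mem_nil _))))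
theorem ga {G : Type*} [Group G] {z u v a b p : G}
    (t : QT z u v a b)
    (h : P1 z u b p)
    (e0 : p * v * p⁻¹ = v) (z1 : z ≠ 1)
    (hc : a * (p⁻¹ * a * p) * (p * a * p⁻¹) = 1 ∨ a * (p⁻¹ * a * p) * (p * a * p⁻¹) = z ∨ a * (p⁻¹ * a * p) * (p * a * p⁻¹) = u ∨ a * (p⁻¹ * a * p) * (p * a * p⁻¹) = v ∨ a * (p⁻¹ * a * p) * (p * a * p⁻¹) = z * u ∨ a * (p⁻¹ * a * p) * (p * a * p⁻¹) = z * v ∨ a * (p⁻¹ * a * p) * (p * a * p⁻¹) = u * v ∨ a * (p⁻¹ * a * p) * (p * a * p⁻¹) = z * u * v) :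
    a * (p⁻¹ * a * p) * (p * a * p⁻¹) = 1 ∨ a * (p⁻¹ * a * p) * (p * a * p⁻¹) = z * u * v := by
  rcases hc with e | e | e | e | e | e | e | e
  exacts [Or.inl e,
    (z1 (ga1 t h e0 e)).elim,
    (z1 (ga2 t h e0 e)).elim,
    (z1 (ga3 t h e0 e)).elim,
    (z1 (ga4 t h e0 e)).elim,
    (z1 (ga5 t h e0 e)).elim,
    (z1 (ga6 t h e0 e)).elim,
    Or.inr (e)]
noncomputable def ga_s_r_R : List (List ℕ) := [[0,0],
  [1,1],
  [2,2],
  [3,3],
  [4,4],
  [5,6],
  [6,5],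
  [2,1,2,1],
  [1,0,1,0],
  [2,0,2,0],
  [3,0,3,0],
  [4,0,4,0],
  [3,1,3,1],
  [4,2,4,2],
  [4,3,4,3],
  [1,0,4,1,4],
  [2,0,3,2,3],
  [5,5,5],
  [1,6,0,5],
  [0,1,6,1,5],
  [5,4,5,4],
  [2,6,2,5],
  [6,3,5,5,3,6,3]]
theorem ga_s_r {G : Type*} [Group G] {z u v a b p : G}
    (t : QT z u v a b)
    (h : P1 z u b p)
    (e0 : p * v * p⁻¹ = v)
    (e : a * (p⁻¹ * a * p) * (p * a * p⁻¹) = 1) :
    Rels (nthG [z, u, v, a, b, p, p⁻¹]) ga_s_r_R :=
  rels_of_eqs ((InvI.cons t.1 (InvI.cons t.2.1 (InvI.cons t.2.2.1 (InvI.cons t.2.2.2.1 (InvI.cons t.2.2.2.2.1 InvI.nil))))) : InvI [z, u, v, a, b, p] [(nat_lit 0), (nat_lit 1), (nat_lit 2), (nat_lit 3), (nat_lit 4)])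
    (AllEq.append (show AllEq [z, u, v, a, b, p] [((.mul (.v (nat_lit 0)) (.v (nat_lit 0))), .one), ((.mul (.v (nat_lit 1)) (.v (nat_lit 1))), .one), ((.mul (.v (nat_lit 2)) (.v (nat_lit 2))), .one), ((.mul (.v (nat_lit 3)) (.v (nat_lit 3))), .one), ((.mul (.v (nat_lit 4)) (.v (nat_lit 4))), .one), ((.mul (.v (nat_lit 1)) (.v (nat_lit 2))), (.mul (.v (nat_lit 2)) (.v (nat_lit 1)))), ((.mul (.v (nat_lit 0)) (.v (nat_lit 1))), (.mul (.v (nat_lit 1)) (.v (nat_lit 0)))), ((.mul (.v (nat_lit 0)) (.v (nat_lit 2))), (.mul (.v (nat_lit 2)) (.v (nat_lit 0)))), ((.mul (.v (nat_lit 0)) (.v (nat_lit 3))), (.mul (.v (nat_lit 3)) (.v (nat_lit 0)))), ((.mul (.v (nat_lit 0)) (.v (nat_lit 4))), (.mul (.v (nat_lit 4)) (.v (nat_lit 0)))), ((.mul (.v (nat_lit 1)) (.v (nat_lit 3))), (.mul (.v (nat_lit 3)) (.v (nat_lit 1)))), ((.mul (.v (nat_lit 2)) (.v (nat_lit 4))), (.mul (.v (nat_lit 4)) (.v (nat_lit 2)))), ((.mul (.v (nat_lit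 3)) (.v (nat_lit 4))), (.mul (.v (nat_lit 4)) (.v (nat_lit 3)))), ((.mul (.mul (.v (nat_lit 4)) (.v (nat_lit 1))) (.v (nat_lit 4))), (.mul (.v (nat_lit 1)) (.v (nat_lit 0)))), ((.mul (.mul (.v (nat_lit 3)) (.v (nat_lit 2))) (.v (nat_lit 3))), (.mul (.v (nat_lit 2)) (.v (nat_lit 0))))] from t)
    (AllEq.append (show AllEq [z, u, v, a, b, p] [((.pw (.v (nat_lit 5)) (nat_lit 3)), .one), ((.mul (.mul (.v (nat_lit 5)) (.v (nat_lit 0))) (.inv (.v (nat_lit 5)))), (.v (nat_lit 1))), ((.mul (.mul (.v (nat_lit 5)) (.v (nat_lit 1))) (.inv (.v (nat_lit 5)))), (.mul (.v (nat_lit 0)) (.v (nat_lit 1)))), ((.mul (.mul (.v (nat_lit 4)) (.v (nat_lit 5))) (.v (nat_lit 4))), (.inv (.v (nat_lit 5))))] from h)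
    (AllEq.append (show AllEq [z, u, v, a, b, p] [((.mul (.mul (.v (nat_lit 5)) (.v (nat_lit 2))) (.inv (.v (nat_lit 5)))), (.v (nat_lit 2)))] from ⟨e0, trivial⟩)
    (show AllEq [z, u, v, a, b, p] [((.mul (.mul (.v (nat_lit 3)) (.mul (.mul (.inv (.v (nat_lit 5))) (.v (nat_lit 3))) (.v (nat_lit 5)))) (.mul (.mul (.v (nat_lit 5)) (.v (nat_lit 3))) (.inv (.v (nat_lit 5))))), .one)] from ⟨e, trivial⟩))))
    [(.v (nat_lit 0)), (.v (nat_lit 1)), (.v (nat_lit 2)), (.v (nat_lit 3)), (.v (nat_lit 4)), (.v (nat_lit 5)), (.inv (.v (nat_lit 5)))] (by decide +kernel)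
noncomputable def ga_s_0_S0 : List ℕ := [nat_lit 0x2300000b000008000010004012, nat_lit 0x2700001300002400800e, nat_lit 0x1700000100000500c010, nat_lit 0x1b000028000009000020006012]
noncomputable def ga_s_0_S : List (List ℕ) := [ga_s_0_S0]
noncomputable def ga_s_0_defs : List ℕ := [(nat_lit 0x4000000020060000500600004003000030030000200500001005000000010000000000000)]
noncomputable def ga_s_0_recs : List ℕ := [(nat_lit 0x10000700006010000900005030000800009010000300008)]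
noncomputable def ga_s_0_T : List (List ℕ × ℕ) := [([1,5,3,6,1,5,3,6], (nat_lit 0xc00001400001c00000e00001f00001700000f000007))]
noncomputable def ga_s_0_D : H26.Dag := ⟨[0,1,2,3,4,6,5], [[0,0],
  [1,1],
  [2,2],
  [3,3],
  [4,4],
  [5,6],
  [6,5],
  [3,0,3,0],
  [3,1,3,1],
  [0,1,6,1,5]], [], ga_s_0_defs, ga_s_0_recs⟩
theorem ga_s_0_c : ga_s_0_D.check ga_s_0_S ga_s_0_T = true := by decide +kernel
theorem ga_s_0 {G : Type*} [Group G] {g : ℕ → G} (hR : Rels g ga_s_r_R) {H : Subgroup G}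
    (hH : ∀ k ∈ [], g k ∈ H) : evA g [1,5,3,6,1,5,3,6] ∈ H :=
  mem_dag (K := 7) (J := [0,1,2,3,4,5,6,10,12,19]) (D := ga_s_0_D) (by decide +kernel) ga_s_0_c (by decide +kernel) hR hH
noncomputable def ga_s_1_S0 : List ℕ := [nat_lit 0x1300000b000008000012, nat_lit 0x1b000002000010004010, nat_lit 0x23000006000018008012, nat_lit 0x2700001f00000900800e]
noncomputable def ga_s_1_S : List (List ℕ) := [ga_s_1_S0]
noncomputable def ga_s_1_defs : List ℕ := [(nat_lit 0x7006000060010000500300004006000030050000200300001000000000050000000000000)]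
noncomputable def ga_s_1_recs : List ℕ := [(nat_lit 0x10000800009000000500008010000300006010000100004)]
noncomputable def ga_s_1_T : List (List ℕ × ℕ) := [([5,3,6,1,0,1,5,3,6,0], (nat_lit 0xc00001400001c00002400000d00002700001f00001700000f000007))]
noncomputable def ga_s_1_D : H26.Dag := ⟨[0,1,2,3,4,6,5], [[0,0],
  [1,1],
  [2,2],
  [3,3],
  [4,4],
  [5,6],
  [6,5],
  [1,0,1,0],
  [3,1,3,1],
  [1,6,0,5]], [], ga_s_1_defs, ga_s_1_recs⟩
theorem ga_s_1_c : ga_s_1_D.check ga_s_1_S ga_s_1_T = true := by decide +kernel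
theorem ga_s_1 {G : Type*} [Group G] {g : ℕ → G} (hR : Rels g ga_s_r_R) {H : Subgroup G}
    (hH : ∀ k ∈ [], g k ∈ H) : evA g [5,3,6,1,0,1,5,3,6,0] ∈ H :=
  mem_dag (K := 7) (J := [0,1,2,3,4,5,6,8,12,18]) (D := ga_s_1_D) (by decide +kernel) ga_s_1_c (by decide +kernel) hR hH
noncomputable def ga_s_2_S0 : List ℕ := [nat_lit 0x2300000b000008000010004012, nat_lit 0x2700001300002400800e, nat_lit 0x1700000100000500c010, nat_lit 0x1b000028000009000020006012]
noncomputable def ga_s_2_S : List (List ℕ) := [ga_s_2_S0]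
noncomputable def ga_s_2_defs : List ℕ := [(nat_lit 0x4000000020060000500600004003000030030000200500001005000000010000000000000)]
noncomputable def ga_s_2_recs : List ℕ := [(nat_lit 0x10000700006010000900005030000800009010000300008)]
noncomputable def ga_s_2_T : List (List ℕ × ℕ) := [([1,5,3,6,1,5,3,6], (nat_lit 0xc00001400001c00000e00001f00001700000f000007))]
noncomputable def ga_s_2_D : H26.Dag := ⟨[0,1,2,3,4,6,5], [[0,0],
  [1,1],
  [2,2],
  [3,3],
  [4,4],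
  [5,6],
  [6,5],
  [3,0,3,0],
  [3,1,3,1],
  [0,1,6,1,5]], [], ga_s_2_defs, ga_s_2_recs⟩
theorem ga_s_2_c : ga_s_2_D.check ga_s_2_S ga_s_2_T = true := by decide +kernel
theorem ga_s_2 {G : Type*} [Group G] {g : ℕ → G} (hR : Rels g ga_s_r_R) {H : Subgroup G}
    (hH : ∀ k ∈ [], g k ∈ H) : evA g [1,5,3,6,1,5,3,6] ∈ H :=
  mem_dag (K := 7) (J := [0,1,2,3,4,5,6,10,12,19]) (D := ga_s_2_D) (by decide +kernel) ga_s_2_c (by decide +kernel) hR hH
noncomputable def ga_s_3_S0 : List ℕ := [nat_lit 0x2b000010006010, nat_lit 0x2f00001300000b00000800001000000100a012, nat_lit 0x1b000030000006000002000018000020016012, nat_lit 0x2700000900002400800e]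
noncomputable def ga_s_3_S : List (List ℕ) := [ga_s_3_S0]
noncomputable def ga_s_3_defs : List ℕ := [(nat_lit 0x5000040060000100100007001000060060000500600004003000030030000200500001005000000030000000000000)]
noncomputable def ga_s_3_recs : List ℕ := [(nat_lit 0x30000800009030000700006030000a0000b06000030000a)]
noncomputable def ga_s_3_T : List (List ℕ × ℕ) := [([3,5,3,6,1,3,1,5,3,6], (nat_lit 0xc00001400001c00002400000d00002700001f00001700000f000007))]
noncomputable def ga_s_3_D : H26.Dag := ⟨[0,1,2,3,4,6,5], [[0,0],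
  [1,1],
  [2,2],
  [3,3],
  [4,4],
  [5,6],
  [6,5],
  [3,1,3,1],
  [5,5,5],
  [6,3,5,5,3,6,3]], [], ga_s_3_defs, ga_s_3_recs⟩
theorem ga_s_3_c : ga_s_3_D.check ga_s_3_S ga_s_3_T = true := by decide +kernel
theorem ga_s_3 {G : Type*} [Group G] {g : ℕ → G} (hR : Rels g ga_s_r_R) {H : Subgroup G}
    (hH : ∀ k ∈ [], g k ∈ H) : evA g [3,5,3,6,1,3,1,5,3,6] ∈ H :=
  mem_dag (K := 7) (J := [0,1,2,3,4,5,6,12,17,22]) (D := ga_s_3_D) (by decide +kernel) ga_s_3_c (by decide +kernel) hR hH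
noncomputable def ga_s_4_S0 : List ℕ := [nat_lit 0x1f00001700000f00800e, nat_lit 0x3300000700000c000014, nat_lit 0x33000001000028000018, nat_lit 0x37000013000005008010, nat_lit 0x3b00002300001b000038000016, nat_lit 0x2f00000900000d000011000012, nat_lit 0x2b00003c00001500c018]
noncomputable def ga_s_4_S : List (List ℕ) := [ga_s_4_S0]
noncomputable def ga_s_4_defs : List ℕ := [(nat_lit 0x5000080010000400500001003000090020000800500007001000060010000500600004002000030030000200100001005000000000000000000000)]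
noncomputable def ga_s_4_recs : List ℕ := [(nat_lit 0x50000b0000a020000e0000b000000d0000e030000c0000d02000090000c01000020000c020000100007)]
noncomputable def ga_s_4_T : List (List ℕ × ℕ) := [([0,1,2,1,5,3,6,2,1,5,3,6], (nat_lit 0xc00001400001c00002400002c00001a00002f00002700001f00001700000f000007))]
noncomputable def ga_s_4_D : H26.Dag := ⟨[0,1,2,3,4,6,5], [[0,0],
  [1,1],
  [2,2],
  [3,3],
  [4,4],
  [5,6],
  [6,5],
  [2,1,2,1],
  [3,1,3,1],
  [2,0,3,2,3],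
  [1,6,0,5],
  [0,1,6,1,5],
  [2,6,2,5]], [], ga_s_4_defs, ga_s_4_recs⟩
theorem ga_s_4_c : ga_s_4_D.check ga_s_4_S ga_s_4_T = true := by decide +kernel
theorem ga_s_4 {G : Type*} [Group G] {g : ℕ → G} (hR : Rels g ga_s_r_R) {H : Subgroup G}
    (hH : ∀ k ∈ [], g k ∈ H) : evA g [0,1,2,1,5,3,6,2,1,5,3,6] ∈ H :=
  mem_dag (K := 7) (J := [0,1,2,3,4,5,6,7,12,16,18,19,21]) (D := ga_s_4_D) (by decide +kernel) ga_s_4_c (by decide +kernel) hR hH
noncomputable def ga_s_5_S0 : List ℕ := [nat_lit 0x37000007000034004010, nat_lit 0x37000010000018004012, nat_lit 0x3b00000b00003400801a, nat_lit 0x3f00001300003c004012, nat_lit 0x4300001c004014, nat_lit 0x4700000500000200800e, nat_lit 0x4f00001b00004000601a, nat_lit 0x53000023000011008016, nat_lit 0x5700002700001f00004c004018, nat_lit 0x4700004c00002100c016, nat_lit 0x5b00002b00005400401a, nat_lit 0x5f00002f00005800800e, nat_lit 0x1a00000e00000a00001500002600002d00c01c, nat_lit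 0x3100004f00001100401a, nat_lit 0x2a00001e00003500005f00c010, nat_lit 0x3900005b00000c]
noncomputable def ga_s_5_S : List (List ℕ) := [ga_s_5_S0]
noncomputable def ga_s_5_defs : List ℕ := [(nat_lit 0xb0050000a00000009006000080040000600500005000000050050000400400004004000020040000100400000003000090040000800500007001000060010000500600004004000030030000200300001005000000000000000000000)]
noncomputable def ga_s_5_recs : List ℕ := [(nat_lit 0x60000a0000bff0000b00016040001000017050001700013030001500017040001400016050001500011010001200015000001000014060000f00013030000c00011050000600010030000e0000f050000c0000e03000050000d000000c0000d)]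
noncomputable def ga_s_5_T : List (List ℕ × ℕ) := [([0,3,4,1,5,3,6,4,1,5,3,6], (nat_lit 0xc00001400001c00002400002c00003d00002f00002700001f00001700000f000007))]
noncomputable def ga_s_5_D : H26.Dag := ⟨[0,1,2,3,4,6,5], [[0,0],
  [1,1],
  [2,2],
  [3,3],
  [4,4],
  [5,6],
  [6,5],
  [3,0,3,0],
  [4,0,4,0],
  [4,3,4,3],
  [5,5,5],
  [1,6,0,5],
  [0,1,6,1,5],
  [5,4,5,4],
  [6,3,5,5,3,6,3]], [], ga_s_5_defs, ga_s_5_recs⟩
theorem ga_s_5_c : ga_s_5_D.check ga_s_5_S ga_s_5_T = true := by decide +kernel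
theorem ga_s_5 {G : Type*} [Group G] {g : ℕ → G} (hR : Rels g ga_s_r_R) {H : Subgroup G}
    (hH : ∀ k ∈ [], g k ∈ H) : evA g [0,3,4,1,5,3,6,4,1,5,3,6] ∈ H :=
  mem_dag (K := 7) (J := [0,1,2,3,4,5,6,10,11,14,17,18,19,20,22]) (D := ga_s_5_D) (by decide +kernel) ga_s_5_c (by decide +kernel) hR hH
theorem ga_s {G : Type*} [Group G] {z u v a b p : G}
    (t : QT z u v a b)
    (h : P1 z u b p)
    (e0 : p * v * p⁻¹ = v)
    (e : a * (p⁻¹ * a * p) * (p * a * p⁻¹) = 1) :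
    p⁻¹ * a * p * u * (p⁻¹ * a * p * u) = 1 ∧ z * (p⁻¹ * a * p * u) = p⁻¹ * a * p * u * z ∧ p⁻¹ * a * p * u * u = u * (p⁻¹ * a * p * u) ∧ p⁻¹ * a * p * u * a = a * (p⁻¹ * a * p * u) ∧ p⁻¹ * a * p * u * v * (p⁻¹ * a * p * u) = z * u * v ∧ p⁻¹ * a * p * u * b * (p⁻¹ * a * p * u) = z * a * b :=
  ⟨mul_inv_eq_one.1 ((evA_eq_tm ((InvI.cons t.1 (InvI.cons t.2.1 (InvI.cons t.2.2.1 (InvI.cons t.2.2.2.1 (InvI.cons t.2.2.2.2.1 InvI.nil))))) : InvI [z, u, v, a, b, p] [(nat_lit 0), (nat_lit 1), (nat_lit 2), (nat_lit 3), (nat_lit 4)]) [(.v (nat_lit 0)), (.v (nat_lit 1)), (.v (nat_lit 2)), (.v (nat_lit 3)), (.v (nat_lit 4)), (.v (nat_lit 5)), (.inv (.v (nat_lit 5)))] [1,5,3,6,1,5,3,6] (.mul (.mul (.mul (.mul (.mul (.inv (.v (nat_lit 5))) (.v (nat_lit 3))) (.v (nat_lit 5))) (.v (nat_lit 1))) (.mul (.mul (.mul (.inv (.v (nat_lit 5))) (.v (nat_lit 3))) (.v (nat_lit 5))) (.v (nat_lit 1)))) (.inv .one)) (by decide +kernel)).symm.trans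 (Subgroup.mem_bot.1 (ga_s_0 (ga_s_r t h e0 e) (H := ⊥) (List.forall_mem_nil _)))),
   mul_inv_eq_one.1 ((evA_eq_tm ((InvI.cons t.1 (InvI.cons t.2.1 (InvI.cons t.2.2.1 (InvI.cons t.2.2.2.1 (InvI.cons t.2.2.2.2.1 InvI.nil))))) : InvI [z, u, v, a, b, p] [(nat_lit 0), (nat_lit 1), (nat_lit 2), (nat_lit 3), (nat_lit 4)]) [(.v (nat_lit 0)), (.v (nat_lit 1)), (.v (nat_lit 2)), (.v (nat_lit 3)), (.v (nat_lit 4)), (.v (nat_lit 5)), (.inv (.v (nat_lit 5)))] [5,3,6,1,0,1,5,3,6,0] (.mul (.mul (.v (nat_lit 0)) (.mul (.mul (.mul (.inv (.v (nat_lit 5))) (.v (nat_lit 3))) (.v (nat_lit 5))) (.v (nat_lit 1)))) (.inv (.mul (.mul (.mul (.mul (.inv (.v (nat_lit 5))) (.v (nat_lit 3))) (.v (nat_lit 5))) (.v (nat_lit 1))) (.v (nat_lit 0))))) (by decide +kernel)).symm.trans (Subgroup.mem_bot.1 (ga_s_1 (ga_s_r t h e0 e) (H := ⊥) (List.forall_mem_nil _)))),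
   mul_inv_eq_one.1 ((evA_eq_tm ((InvI.cons t.1 (InvI.cons t.2.1 (InvI.cons t.2.2.1 (InvI.cons t.2.2.2.1 (InvI.cons t.2.2.2.2.1 InvI.nil))))) : InvI [z, u, v, a, b, p] [(nat_lit 0), (nat_lit 1), (nat_lit 2), (nat_lit 3), (nat_lit 4)]) [(.v (nat_lit 0)), (.v (nat_lit 1)), (.v (nat_lit 2)), (.v (nat_lit 3)), (.v (nat_lit 4)), (.v (nat_lit 5)), (.inv (.v (nat_lit 5)))] [1,5,3,6,1,5,3,6] (.mul (.mul (.mul (.mul (.mul (.inv (.v (nat_lit 5))) (.v (nat_lit 3))) (.v (nat_lit 5))) (.v (nat_lit 1))) (.v (nat_lit 1))) (.inv (.mul (.v (nat_lit 1)) (.mul (.mul (.mul (.inv (.v (nat_lit 5))) (.v (nat_lit 3))) (.v (nat_lit 5))) (.v (nat_lit 1)))))) (by decide +kernel)).symm.trans (Subgroup.mem_bot.1 (ga_s_2 (ga_s_r t h e0 e) (H := ⊥) (List.forall_mem_nil _)))),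
   mul_inv_eq_one.1 ((evA_eq_tm ((InvI.cons t.1 (InvI.cons t.2.1 (InvI.cons t.2.2.1 (InvI.cons t.2.2.2.1 (InvI.cons t.2.2.2.2.1 InvI.nil))))) : InvI [z, u, v, a, b, p] [(nat_lit 0), (nat_lit 1), (nat_lit 2), (nat_lit 3), (nat_lit 4)]) [(.v (nat_lit 0)), (.v (nat_lit 1)), (.v (nat_lit 2)), (.v (nat_lit 3)), (.v (nat_lit 4)), (.v (nat_lit 5)), (.inv (.v (nat_lit 5)))] [3,5,3,6,1,3,1,5,3,6] (.mul (.mul (.mul (.mul (.mul (.inv (.v (nat_lit 5))) (.v (nat_lit 3))) (.v (nat_lit 5))) (.v (nat_lit 1))) (.v (nat_lit 3))) (.inv (.mul (.v (nat_lit 3)) (.mul (.mul (.mul (.inv (.v (nat_lit 5))) (.v (nat_lit 3))) (.v (nat_lit 5))) (.v (nat_lit 1)))))) (by decide +kernel)).symm.trans (Subgroup.mem_bot.1 (ga_s_3 (ga_s_r t h e0 e) (H := ⊥) (List.forall_mem_nil _)))),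
   mul_inv_eq_one.1 ((evA_eq_tm ((InvI.cons t.1 (InvI.cons t.2.1 (InvI.cons t.2.2.1 (InvI.cons t.2.2.2.1 (InvI.cons t.2.2.2.2.1 InvI.nil))))) : InvI [z, u, v, a, b, p] [(nat_lit 0), (nat_lit 1), (nat_lit 2), (nat_lit 3), (nat_lit 4)]) [(.v (nat_lit 0)), (.v (nat_lit 1)), (.v (nat_lit 2)), (.v (nat_lit 3)), (.v (nat_lit 4)), (.v (nat_lit 5)), (.inv (.v (nat_lit 5)))] [0,1,2,1,5,3,6,2,1,5,3,6] (.mul (.mul (.mul (.mul (.mul (.mul (.inv (.v (nat_lit 5))) (.v (nat_lit 3))) (.v (nat_lit 5))) (.v (nat_lit 1))) (.v (nat_lit 2))) (.mul (.mul (.mul (.inv (.v (nat_lit 5))) (.v (nat_lit 3))) (.v (nat_lit 5))) (.v (nat_lit 1)))) (.inv (.mul (.mul (.v (nat_lit 0)) (.v (nat_lit 1))) (.v (nat_lit 2))))) (by decide +kernel)).symm.trans (Subgroup.mem_bot.1 (ga_s_4 (ga_s_r t h e0 e) (H := ⊥) (List.forall_mem_nil _)))),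
   mul_inv_eq_one.1 ((evA_eq_tm ((InvI.cons t.1 (InvI.cons t.2.1 (InvI.cons t.2.2.1 (InvI.cons t.2.2.2.1 (InvI.cons t.2.2.2.2.1 InvI.nil))))) : InvI [z, u, v, a, b, p] [(nat_lit 0), (nat_lit 1), (nat_lit 2), (nat_lit 3), (nat_lit 4)]) [(.v (nat_lit 0)), (.v (nat_lit 1)), (.v (nat_lit 2)), (.v (nat_lit 3)), (.v (nat_lit 4)), (.v (nat_lit 5)), (.inv (.v (nat_lit 5)))] [0,3,4,1,5,3,6,4,1,5,3,6] (.mul (.mul (.mul (.mul (.mul (.mul (.inv (.v (nat_lit 5))) (.v (nat_lit 3))) (.v (nat_lit 5))) (.v (nat_lit 1))) (.v (nat_lit 4))) (.mul (.mul (.mul (.inv (.v (nat_lit 5))) (.v (nat_lit 3))) (.v (nat_lit 5))) (.v (nat_lit 1)))) (.inv (.mul (.mul (.v (nat_lit 0)) (.v (nat_lit 3))) (.v (nat_lit 4))))) (by decide +kernel)).symm.trans (Subgroup.mem_bot.1 (ga_s_5 (ga_s_r t h e0 e) (H := ⊥) (List.forall_mem_nil _))))⟩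
noncomputable def NB_r_R : List (List ℕ) := [[0,0],
  [1,1],
  [2,2],
  [3,3],
  [4,4],
  [5,6],
  [6,5],
  [2,1,2,1],
  [1,0,1,0],
  [2,0,2,0],
  [3,0,3,0],
  [4,0,4,0],
  [3,1,3,1],
  [4,2,4,2],
  [4,3,4,3],
  [1,0,4,1,4],
  [2,0,3,2,3],
  [5,5,5],
  [1,6,0,5],
  [0,1,6,1,5],
  [5,4,5,4],
  [2,6,2,5],
  [0,1,2,6,3,5,5,3,6,3]]
theorem NB_r {G : Type*} [Group G] {z u v a b p : G}
    (t : QT z u v a b)
    (h : P1 z u b p)
    (e0 : p * v * p⁻¹ = v)
    (e : a * (p⁻¹ * a * p) * (p * a * p⁻¹) = z * u * v) :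
    Rels (nthG [z, u, v, a, b, p, p⁻¹]) NB_r_R :=
  rels_of_eqs ((InvI.cons t.1 (InvI.cons t.2.1 (InvI.cons t.2.2.1 (InvI.cons t.2.2.2.1 (InvI.cons t.2.2.2.2.1 InvI.nil))))) : InvI [z, u, v, a, b, p] [(nat_lit 0), (nat_lit 1), (nat_lit 2), (nat_lit 3), (nat_lit 4)])
    (AllEq.append (show AllEq [z, u, v, a, b, p] [((.mul (.v (nat_lit 0)) (.v (nat_lit 0))), .one), ((.mul (.v (nat_lit 1)) (.v (nat_lit 1))), .one), ((.mul (.v (nat_lit 2)) (.v (nat_lit 2))), .one), ((.mul (.v (nat_lit 3)) (.v (nat_lit 3))), .one), ((.mul (.v (nat_lit 4)) (.v (nat_lit 4))), .one), ((.mul (.v (nat_lit 1)) (.v (nat_lit 2))), (.mul (.v (nat_lit 2)) (.v (nat_lit 1)))), ((.mul (.v (nat_lit 0)) (.v (nat_lit 1))), (.mul (.v (nat_lit 1)) (.v (nat_lit 0)))), ((.mul (.v (nat_lit 0)) (.v (nat_lit 2))), (.mul (.v (nat_lit 2)) (.v (nat_lit 0)))), ((.mul (.v (nat_lit 0)) (.v (nat_lit 3))), (.mul (.v (nat_lit 3)) (.v (nat_lit 0)))), ((.mul (.v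 (nat_lit 0)) (.v (nat_lit 4))), (.mul (.v (nat_lit 4)) (.v (nat_lit 0)))), ((.mul (.v (nat_lit 1)) (.v (nat_lit 3))), (.mul (.v (nat_lit 3)) (.v (nat_lit 1)))), ((.mul (.v (nat_lit 2)) (.v (nat_lit 4))), (.mul (.v (nat_lit 4)) (.v (nat_lit 2)))), ((.mul (.v (nat_lit 3)) (.v (nat_lit 4))), (.mul (.v (nat_lit 4)) (.v (nat_lit 3)))), ((.mul (.mul (.v (nat_lit 4)) (.v (nat_lit 1))) (.v (nat_lit 4))), (.mul (.v (nat_lit 1)) (.v (nat_lit 0)))), ((.mul (.mul (.v (nat_lit 3)) (.v (nat_lit 2))) (.v (nat_lit 3))), (.mul (.v (nat_lit 2)) (.v (nat_lit 0))))] from t)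
    (AllEq.append (show AllEq [z, u, v, a, b, p] [((.pw (.v (nat_lit 5)) (nat_lit 3)), .one), ((.mul (.mul (.v (nat_lit 5)) (.v (nat_lit 0))) (.inv (.v (nat_lit 5)))), (.v (nat_lit 1))), ((.mul (.mul (.v (nat_lit 5)) (.v (nat_lit 1))) (.inv (.v (nat_lit 5)))), (.mul (.v (nat_lit 0)) (.v (nat_lit 1)))), ((.mul (.mul (.v (nat_lit 4)) (.v (nat_lit 5))) (.v (nat_lit 4))), (.inv (.v (nat_lit 5))))] from h)
    (AllEq.append (show AllEq [z, u, v, a, b, p] [((.mul (.mul (.v (nat_lit 5)) (.v (nat_lit 2))) (.inv (.v (nat_lit 5)))), (.v (nat_lit 2)))] from ⟨e0, trivial⟩)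
    (show AllEq [z, u, v, a, b, p] [((.mul (.mul (.v (nat_lit 3)) (.mul (.mul (.inv (.v (nat_lit 5))) (.v (nat_lit 3))) (.v (nat_lit 5)))) (.mul (.mul (.v (nat_lit 5)) (.v (nat_lit 3))) (.inv (.v (nat_lit 5))))), (.mul (.mul (.v (nat_lit 0)) (.v (nat_lit 1))) (.v (nat_lit 2))))] from ⟨e, trivial⟩))))
    [(.v (nat_lit 0)), (.v (nat_lit 1)), (.v (nat_lit 2)), (.v (nat_lit 3)), (.v (nat_lit 4)), (.v (nat_lit 5)), (.inv (.v (nat_lit 5)))] (by decide +kernel)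
noncomputable abbrev NB_o : Ops := pops (nat_lit 12) (nat_lit 4) (nat_lit 15) (nat_lit 0xba9876543210)
noncomputable def NB_cs : List ℕ := [(nat_lit 0xb89a73526401), (nat_lit 0x9ab856723401), (nat_lit 0x7653ba918042), (nat_lit 0x587a96b23410), (nat_lit 0x94b2517a0863), (nat_lit 0x82a4306b1975), (nat_lit 0x492b15087a36)]
noncomputable def NB_L : List (List ℕ) := [[(nat_lit 0xba9876543210), (nat_lit 0xb89a73526401), (nat_lit 0x7653ba918042), (nat_lit 0x94b2517a0863), (nat_lit 0x82a4306b1975), (nat_lit 0x492b15087a36), (nat_lit 0x7356b890a124), (nat_lit 0x84a231690b57), (nat_lit 0x517094b623a8), (nat_lit 0x306182a745b9), (nat_lit 0x15074923b68a), (nat_lit 0xa4823065179b)],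
  [(nat_lit 0xba9876543210), (nat_lit 0x98ba53746210), (nat_lit 0xa98b65347210), (nat_lit 0x8ba937645210), (nat_lit 0x93b67852a410), (nat_lit 0x87a56b329410), (nat_lit 0xa5873962b410), (nat_lit 0xb6935a728410)],
  [(nat_lit 0xba9876543210), (nat_lit 0x587a96b23410)]]
noncomputable def NB_WW : List (List (List ℕ)) := [[[],
  [(nat_lit 0)],
  [(nat_lit 2)],
  [(nat_lit 4)],
  [(nat_lit 5)],
  [(nat_lit 6)],
  [(nat_lit 0), (nat_lit 2)],
  [(nat_lit 0), (nat_lit 5)],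
  [(nat_lit 2), (nat_lit 4)],
  [(nat_lit 2), (nat_lit 5)],
  [(nat_lit 2), (nat_lit 6)],
  [(nat_lit 5), (nat_lit 3)]],
  [[],
  [(nat_lit 0), (nat_lit 1)],
  [(nat_lit 0), (nat_lit 4), (nat_lit 5)],
  [(nat_lit 1), (nat_lit 4), (nat_lit 5)],
  [(nat_lit 6), (nat_lit 3), (nat_lit 5)],
  [(nat_lit 0), (nat_lit 4), (nat_lit 5), (nat_lit 3)],
  [(nat_lit 1), (nat_lit 4), (nat_lit 5), (nat_lit 3)],
  [(nat_lit 6), (nat_lit 1), (nat_lit 3), (nat_lit 5)]],
  [[],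
  [(nat_lit 3)]]]
noncomputable def NB_b3_S0 : List ℕ := [nat_lit 0x1300000700000c004008, nat_lit 0x1700000700001000400a, nat_lit 0x1b00000b000010004006, nat_lit 0x1f000013000018004006, nat_lit 0x1f00000200001c00400a]
noncomputable def NB_b3_S : List (List ℕ) := [NB_b3_S0]
noncomputable def NB_b3_defs : List ℕ := [(nat_lit 0x20000400200002002000010010000100200000001000000000000000000000)]
noncomputable def NB_b3_recs : List ℕ := [(nat_lit 0x600007010000500007010000300006000000300005000000200004)]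
noncomputable def NB_b3_L0 : List ℕ := [nat_lit 0x700000100000b00000200000f000003, nat_lit 0x8000000000013000004000017000005, nat_lit 0x200000400000c00000000001b000006, nat_lit 0x600000500000a000006000010000000, nat_lit 0x100000200001400000100001f000007, nat_lit 0x500000300000e000007000018000001, nat_lit 0x1200000700000900000300001c000002, nat_lit 0x1100000600000d000005000020000004]
noncomputable def NB_b3_L : List (List ℕ) := [NB_b3_L0]
noncomputable def NB_b3_V : List ℕ := [(nat_lit 0x700000006000000050000000400000003000000020000000100000000)]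
noncomputable def NB_b3_D : H26.Dag := ⟨[], [[0,0],
  [1,1],
  [2,2],
  [2,1,2,1],
  [1,0,1,0],
  [2,0,2,0]], [], NB_b3_defs, NB_b3_recs⟩
theorem NB_b3_c : NB_b3_D.checkTab NB_b3_S 8 3 NB_b3_V NB_b3_L = true := by decide +kernel
theorem NB_b3 : Bound NB_r_R 3 8 :=
  bound_dag (Bound.zero NB_r_R) (K := 3) (J := [0,1,2,7,8,9]) (by decide +kernel) NB_b3_c (by decide +kernel)
noncomputable def NB_b5_S0 : List ℕ := [nat_lit 0x1, nat_lit 0x1, nat_lit 0x1, nat_lit 0x700000100000800400a, nat_lit 0x700000500000800400e, nat_lit 0x700000100000900000800c016, nat_lit 0xb00000100000c00400c, nat_lit 0xb00000900000c004010, nat_lit 0xb00000100000500000c00c014, nat_lit 0xf00000d00001000400c, nat_lit 0xf000015000010004010, nat_lit 0xf00000700000c004012, nat_lit 0xf00000d00001100001000c014]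
noncomputable def NB_b5_S : List (List ℕ) := [NB_b5_S0]
noncomputable def NB_b5_defs : List ℕ := [(nat_lit 0x400001004000000030000000000000)]
noncomputable def NB_b5_recs : List ℕ := [(nat_lit 0x10000300003030000200003020000300003000000300003010000200002020000200002000000200002020000100001010000100001000000100001020000000000010000000000000000000000)]
noncomputable def NB_b5_L0 : List ℕ := [nat_lit 0x100000000000500000000000900000000000700000100000b000002, nat_lit 0xd00000100001100000100001500000100000800000000000f000003, nat_lit 0x1900000200002100000200001d00000200002e00000300000c000000, nat_lit 0x2500000300003100000300002900000300002d000002000010000001]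
noncomputable def NB_b5_L : List (List ℕ) := [NB_b5_L0]
noncomputable def NB_b5_V : List ℕ := [(nat_lit 0x3000000020000000100000000)]
noncomputable def NB_b5_D : H26.Dag := ⟨[], [[0,0],
  [1,1],
  [2,2],
  [3,3],
  [4,4],
  [3,0,3,0],
  [4,0,4,0],
  [3,1,3,1],
  [4,2,4,2],
  [4,3,4,3],
  [1,0,4,1,4],
  [2,0,3,2,3]], [0,1,2], NB_b5_defs, NB_b5_recs⟩
theorem NB_b5_c : NB_b5_D.checkTab NB_b5_S 4 5 NB_b5_V NB_b5_L = true := by decide +kernel
theorem NB_b5 : Bound NB_r_R 5 32 :=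
  bound_dag NB_b3 (K := 5) (J := [0,1,2,3,4,10,11,12,13,14,15,16]) (by decide +kernel) NB_b5_c (by decide +kernel)
noncomputable def NB_b7_S0 : List ℕ := [nat_lit 0x1, nat_lit 0x1, nat_lit 0x1, nat_lit 0x1, nat_lit 0x1, nat_lit 0x7000001000008000018, nat_lit 0x700000900000800001e, nat_lit 0x700000500000800001500001a, nat_lit 0xb000008006016, nat_lit 0xb00000500000c008018, nat_lit 0xb00001100000800a01c, nat_lit 0xb00000900000c00801e, nat_lit 0xb00000500000100000c00c01a, nat_lit 0xf00001d00001000400e, nat_lit 0xf000015000010004010, nat_lit 0xf00001d00001900001000c014, nat_lit 0x1300002500001400400e, nat_lit 0x13000031000014004010, nat_lit 0x1300002a000010008012, nat_lit 0x1300002500002d00001400c014, nat_lit 0x1300002200000700000d00000800001900001500001d000010020020, nat_lit 0x17000051006016, nat_lit 0x17000039000018008018, nat_lit 0x1700004900005500a01c, nat_lit 0x1700003d00001800801e, nat_lit 0x1700003900003500001800c01a,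 nat_lit 0x1700003d00003900003500000f000021000014000052000018010020]
noncomputable def NB_b7_S : List (List ℕ) := [NB_b7_S0]
noncomputable def NB_b7_defs : List ℕ := [(nat_lit 0x6000030030000200300001006000000050000000000000)]
noncomputable def NB_b7_recs : List ℕ := [(nat_lit 0x30000500005010000500005020000500005040000500005000000500005060000400005060000300004020000400004040000300004010000400004000000400004020000300003010000300003000000300003010000200002020000200002040000100002000000200002060000100002000000100001020000100001010000100001040000000000030000000000020000000000010000000000000000000000)]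
noncomputable def NB_b7_L0 : List ℕ := [nat_lit 0x100000000000500000000000900000000000d00000000001100000000000700000100000b000002, nat_lit 0x1d00000100001500000100001900000100000f00000300002a000002000022000002000008000000, nat_lit 0x2500000200003100000200002d00000200001300000400002900000100000c000000000021000001, nat_lit 0x3500000300003900000300003d00000300001000000100004a000004000052000004000017000005, nat_lit 0x4100000400004500000400004d000004000014000002000049000003000056000005000051000003, nat_lit 0x5900000500006500000500006100000500006900000500005d000005000018000003000055000004]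
noncomputable def NB_b7_L : List (List ℕ) := [NB_b7_L0]
noncomputable def NB_b7_V : List ℕ := [(nat_lit 0x50000000400000003000000020000000100000000)]
noncomputable def NB_b7_D : H26.Dag := ⟨[0,1,2,3,4,6,5], [[0,0],
  [1,1],
  [2,2],
  [3,3],
  [4,4],
  [5,6],
  [6,5],
  [3,0,3,0],
  [3,1,3,1],
  [4,3,4,3],
  [2,0,3,2,3],
  [5,5,5],
  [1,6,0,5],
  [0,1,6,1,5],
  [5,4,5,4],
  [2,6,2,5],
  [0,1,2,6,3,5,5,3,6,3]], [0,1,2,3,4], NB_b7_defs, NB_b7_recs⟩
theorem NB_b7_c : NB_b7_D.checkTab NB_b7_S 6 7 NB_b7_V NB_b7_L = true := by decide +kernel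
theorem NB_b7 : Bound NB_r_R 7 192 :=
  bound_dag NB_b5 (K := 7) (J := [0,1,2,3,4,5,6,10,12,14,16,17,18,19,20,21,22]) (by decide +kernel) NB_b7_c (by decide +kernel)
theorem NB_P : PModel (nat_lit 12) (nat_lit 4) (nat_lit 15) (nat_lit 0xba9876543210) NB_cs NB_r_R NB_L 192 :=
  ⟨PkOK.of (by decide +kernel), by decide +kernel, by decide +kernel, NB_b7, ⟨NB_WW, by decide +kernel⟩,
    ⟨fun c => Nat.mod c (nat_lit 5132), by decide +kernel⟩⟩
noncomputable def NB_soc_t0 : ST := (.node (nat_lit 1290) (.node (nat_lit 833) (.node (nat_lit 301) (.node (nat_lit 165) (.node (nat_lit 45) (.node (nat_lit 9) (.leaf (nat_lit 0)) (.node (nat_lit 39) (.leaf (nat_lit 3)) (.leaf (nat_lit 0)))) (.node (nat_lit 119) (.node (nat_lit 92) (.leaf (nat_lit 96)) (.leaf (nat_lit 3))) (.node (nat_lit 159) (.leaf (nat_lit 0)) (.leaf (nat_lit 96))))) (.node (nat_lit 236) (.node (nat_lit 191) (.node (nat_lit 170) (.leaf (nat_lit 0)) (.leaf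 (nat_lit 3))) (.node (nat_lit 196) (.leaf (nat_lit 96)) (.leaf (nat_lit 3)))) (.node (nat_lit 259) (.node (nat_lit 254) (.leaf (nat_lit 96)) (.leaf (nat_lit 3))) (.node (nat_lit 290) (.leaf (nat_lit 0)) (.leaf (nat_lit 96)))))) (.node (nat_lit 547) (.node (nat_lit 415) (.node (nat_lit 359) (.node (nat_lit 308) (.leaf (nat_lit 3)) (.leaf (nat_lit 0))) (.node (nat_lit 406) (.leaf (nat_lit 96)) (.leaf (nat_lit 3)))) (.node (nat_lit 468) (.node (nat_lit 446) (.leaf (nat_lit 0)) (.leaf (nat_lit 96))) (.node (nat_lit 514) (.leaf (nat_lit 0)) (.leaf (nat_lit 3))))) (.node (nat_lit 769) (.node (nat_lit 624) (.node (nat_lit 596) (.leaf (nat_lit 96)) (.leaf (nat_lit 3))) (.node (nat_lit 649) (.leaf (nat_lit 0)) (.leaf (nat_lit 96)))) (.node (nat_lit 775) (.node (nat_lit 770) (.leaf (nat_lit 0)) (.leaf (nat_lit 96))) (.node (nat_lit 796) (.leaf (nat_lit 3)) (.leaf (nat_lit 0))))))) (.node (nat_lit 1057) (.node (nat_lit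 976) (.node (nat_lit 885) (.node (nat_lit 843) (.leaf (nat_lit 96)) (.node (nat_lit 876) (.leaf (nat_lit 0)) (.leaf (nat_lit 3)))) (.node (nat_lit 903) (.node (nat_lit 900) (.leaf (nat_lit 96)) (.leaf (nat_lit 0))) (.node (nat_lit 921) (.leaf (nat_lit 3)) (.leaf (nat_lit 0))))) (.node (nat_lit 1018) (.node (nat_lit 978) (.node (nat_lit 977) (.leaf (nat_lit 96)) (.leaf (nat_lit 3))) (.node (nat_lit 1009) (.leaf (nat_lit 0)) (.leaf (nat_lit 96)))) (.node (nat_lit 1031) (.node (nat_lit 1027) (.leaf (nat_lit 3)) (.leaf (nat_lit 96))) (.node (nat_lit 1052) (.leaf (nat_lit 0)) (.leaf (nat_lit 3)))))) (.node (nat_lit 1199) (.node (nat_lit 1155) (.node (nat_lit 1079) (.node (nat_lit 1070) (.leaf (nat_lit 96)) (.leaf (nat_lit 0))) (.node (nat_lit 1119) (.leaf (nat_lit 96)) (.leaf (nat_lit 3)))) (.node (nat_lit 1182) (.node (nat_lit 1166) (.leaf (nat_lit 96)) (.leaf (nat_lit 0))) (.node (nat_lit 1185) (.leaf (nat_lit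 96)) (.leaf (nat_lit 0))))) (.node (nat_lit 1252) (.node (nat_lit 1238) (.node (nat_lit 1203) (.leaf (nat_lit 3)) (.leaf (nat_lit 0))) (.node (nat_lit 1239) (.leaf (nat_lit 3)) (.leaf (nat_lit 96)))) (.node (nat_lit 1264) (.node (nat_lit 1263) (.leaf (nat_lit 0)) (.leaf (nat_lit 96))) (.node (nat_lit 1283) (.leaf (nat_lit 0)) (.leaf (nat_lit 96)))))))) (.node (nat_lit 1955) (.node (nat_lit 1624) (.node (nat_lit 1396) (.node (nat_lit 1325) (.node (nat_lit 1296) (.leaf (nat_lit 0)) (.node (nat_lit 1319) (.leaf (nat_lit 3)) (.leaf (nat_lit 96)))) (.node (nat_lit 1366) (.node (nat_lit 1330) (.leaf (nat_lit 3)) (.leaf (nat_lit 0))) (.node (nat_lit 1389) (.leaf (nat_lit 96)) (.leaf (nat_lit 3))))) (.node (nat_lit 1459) (.node (nat_lit 1425) (.node (nat_lit 1413) (.leaf (nat_lit 0)) (.leaf (nat_lit 3))) (.node (nat_lit 1436) (.leaf (nat_lit 0)) (.leaf (nat_lit 3)))) (.node (nat_lit 1493) (.node (nat_lit 1475) (.leaf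 (nat_lit 0)) (.leaf (nat_lit 3))) (.node (nat_lit 1571) (.leaf (nat_lit 96)) (.leaf (nat_lit 0)))))) (.node (nat_lit 1770) (.node (nat_lit 1645) (.node (nat_lit 1630) (.node (nat_lit 1629) (.leaf (nat_lit 96)) (.leaf (nat_lit 0))) (.node (nat_lit 1642) (.leaf (nat_lit 96)) (.leaf (nat_lit 3)))) (.node (nat_lit 1667) (.node (nat_lit 1666) (.leaf (nat_lit 96)) (.leaf (nat_lit 0))) (.node (nat_lit 1689) (.leaf (nat_lit 96)) (.leaf (nat_lit 0))))) (.node (nat_lit 1851) (.node (nat_lit 1834) (.node (nat_lit 1828) (.leaf (nat_lit 3)) (.leaf (nat_lit 0))) (.node (nat_lit 1844) (.leaf (nat_lit 96)) (.leaf (nat_lit 0)))) (.node (nat_lit 1896) (.node (nat_lit 1884) (.leaf (nat_lit 96)) (.leaf (nat_lit 0))) (.node (nat_lit 1932) (.leaf (nat_lit 3)) (.leaf (nat_lit 96))))))) (.node (nat_lit 2256) (.node (nat_lit 2102) (.node (nat_lit 2024) (.node (nat_lit 1981) (.node (nat_lit 1980) (.leaf (nat_lit 0)) (.leaf (nat_lit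 96))) (.node (nat_lit 2000) (.leaf (nat_lit 0)) (.leaf (nat_lit 3)))) (.node (nat_lit 2091) (.node (nat_lit 2031) (.leaf (nat_lit 96)) (.leaf (nat_lit 0))) (.node (nat_lit 2094) (.leaf (nat_lit 96)) (.leaf (nat_lit 0))))) (.node (nat_lit 2158) (.node (nat_lit 2137) (.node (nat_lit 2108) (.leaf (nat_lit 96)) (.leaf (nat_lit 3))) (.node (nat_lit 2154) (.leaf (nat_lit 0)) (.leaf (nat_lit 96)))) (.node (nat_lit 2182) (.node (nat_lit 2173) (.leaf (nat_lit 0)) (.leaf (nat_lit 96))) (.node (nat_lit 2250) (.leaf (nat_lit 0)) (.leaf (nat_lit 96)))))) (.node (nat_lit 2511) (.node (nat_lit 2384) (.node (nat_lit 2311) (.node (nat_lit 2279) (.leaf (nat_lit 0)) (.leaf (nat_lit 3))) (.node (nat_lit 2364) (.leaf (nat_lit 96)) (.leaf (nat_lit 3)))) (.node (nat_lit 2430) (.node (nat_lit 2399) (.leaf (nat_lit 0)) (.leaf (nat_lit 96))) (.node (nat_lit 2455) (.leaf (nat_lit 0)) (.leaf (nat_lit 3))))) (.node (nat_lit 2551) (.node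 (nat_lit 2519) (.node (nat_lit 2514) (.leaf (nat_lit 0)) (.leaf (nat_lit 96))) (.node (nat_lit 2523) (.leaf (nat_lit 0)) (.leaf (nat_lit 96)))) (.node (nat_lit 2619) (.node (nat_lit 2569) (.leaf (nat_lit 0)) (.leaf (nat_lit 96))) (.node (nat_lit 2629) (.leaf (nat_lit 0)) (.leaf (nat_lit 3)))))))))
noncomputable def NB_soc_t1 : ST := (.node (nat_lit 2525) (.node (nat_lit 1484) (.node (nat_lit 759) (.node (nat_lit 261) (.node (nat_lit 177) (.node (nat_lit 72) (.leaf (nat_lit 24)) (.node (nat_lit 87) (.leaf (nat_lit 96)) (.leaf (nat_lit 12)))) (.node (nat_lit 185) (.leaf (nat_lit 96)) (.node (nat_lit 218) (.leaf (nat_lit 12)) (.leaf (nat_lit 96))))) (.node (nat_lit 509) (.node (nat_lit 363) (.leaf (nat_lit 12)) (.node (nat_lit 377) (.leaf (nat_lit 0)) (.leaf (nat_lit 96)))) (.node (nat_lit 649) (.node (nat_lit 592) (.leaf (nat_lit 12)) (.leaf (nat_lit 96))) (.node (nat_lit 720) (.leaf (nat_lit 12)) (.leaf (nat_lit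 96)))))) (.node (nat_lit 1048) (.node (nat_lit 876) (.node (nat_lit 793) (.leaf (nat_lit 120)) (.node (nat_lit 862) (.leaf (nat_lit 24)) (.leaf (nat_lit 96)))) (.node (nat_lit 911) (.node (nat_lit 901) (.leaf (nat_lit 144)) (.leaf (nat_lit 120))) (.node (nat_lit 977) (.leaf (nat_lit 96)) (.leaf (nat_lit 12))))) (.node (nat_lit 1235) (.node (nat_lit 1104) (.leaf (nat_lit 96)) (.node (nat_lit 1137) (.leaf (nat_lit 1)) (.leaf (nat_lit 96)))) (.node (nat_lit 1271) (.node (nat_lit 1248) (.leaf (nat_lit 144)) (.leaf (nat_lit 12))) (.node (nat_lit 1463) (.leaf (nat_lit 96)) (.leaf (nat_lit 12))))))) (.node (nat_lit 1899) (.node (nat_lit 1679) (.node (nat_lit 1567) (.node (nat_lit 1528) (.leaf (nat_lit 96)) (.node (nat_lit 1531) (.leaf (nat_lit 120)) (.leaf (nat_lit 12)))) (.node (nat_lit 1605) (.node (nat_lit 1603) (.leaf (nat_lit 96)) (.leaf (nat_lit 144))) (.node (nat_lit 1631) (.leaf (nat_lit 12)) (.leaf (nat_lit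 96))))) (.node (nat_lit 1800) (.node (nat_lit 1738) (.leaf (nat_lit 12)) (.node (nat_lit 1763) (.leaf (nat_lit 24)) (.leaf (nat_lit 96)))) (.node (nat_lit 1850) (.node (nat_lit 1845) (.leaf (nat_lit 1)) (.leaf (nat_lit 12))) (.node (nat_lit 1871) (.leaf (nat_lit 120)) (.leaf (nat_lit 12)))))) (.node (nat_lit 2175) (.node (nat_lit 2011) (.node (nat_lit 1942) (.leaf (nat_lit 96)) (.node (nat_lit 2008) (.leaf (nat_lit 12)) (.leaf (nat_lit 24)))) (.node (nat_lit 2157) (.node (nat_lit 2102) (.leaf (nat_lit 96)) (.leaf (nat_lit 120))) (.node (nat_lit 2162) (.leaf (nat_lit 12)) (.leaf (nat_lit 1))))) (.node (nat_lit 2301) (.node (nat_lit 2197) (.leaf (nat_lit 120)) (.node (nat_lit 2198) (.leaf (nat_lit 12)) (.leaf (nat_lit 96)))) (.node (nat_lit 2306) (.node (nat_lit 2302) (.leaf (nat_lit 12)) (.leaf (nat_lit 96))) (.node (nat_lit 2338) (.leaf (nat_lit 24)) (.leaf (nat_lit 96)))))))) (.node (nat_lit 4147) (.node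 (nat_lit 3185) (.node (nat_lit 2812) (.node (nat_lit 2608) (.node (nat_lit 2565) (.leaf (nat_lit 12)) (.node (nat_lit 2568) (.leaf (nat_lit 96)) (.leaf (nat_lit 120)))) (.node (nat_lit 2641) (.leaf (nat_lit 96)) (.node (nat_lit 2690) (.leaf (nat_lit 12)) (.leaf (nat_lit 96))))) (.node (nat_lit 2871) (.node (nat_lit 2833) (.leaf (nat_lit 24)) (.node (nat_lit 2859) (.leaf (nat_lit 12)) (.leaf (nat_lit 96)))) (.node (nat_lit 3087) (.node (nat_lit 2916) (.leaf (nat_lit 12)) (.leaf (nat_lit 96))) (.node (nat_lit 3183) (.leaf (nat_lit 12)) (.leaf (nat_lit 96)))))) (.node (nat_lit 3337) (.node (nat_lit 3215) (.node (nat_lit 3205) (.leaf (nat_lit 12)) (.node (nat_lit 3212) (.leaf (nat_lit 96)) (.leaf (nat_lit 0)))) (.node (nat_lit 3308) (.node (nat_lit 3222) (.leaf (nat_lit 12)) (.leaf (nat_lit 96))) (.node (nat_lit 3313) (.leaf (nat_lit 1)) (.leaf (nat_lit 12))))) (.node (nat_lit 3498) (.node (nat_lit 3338) (.leaf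 (nat_lit 120)) (.node (nat_lit 3350) (.leaf (nat_lit 96)) (.leaf (nat_lit 12)))) (.node (nat_lit 3510) (.node (nat_lit 3505) (.leaf (nat_lit 96)) (.leaf (nat_lit 48))) (.node (nat_lit 3534) (.leaf (nat_lit 120)) (.leaf (nat_lit 96))))))) (.node (nat_lit 4833) (.node (nat_lit 4435) (.node (nat_lit 4333) (.node (nat_lit 4168) (.leaf (nat_lit 12)) (.node (nat_lit 4314) (.leaf (nat_lit 96)) (.leaf (nat_lit 120)))) (.node (nat_lit 4346) (.node (nat_lit 4344) (.leaf (nat_lit 96)) (.leaf (nat_lit 144))) (.node (nat_lit 4386) (.leaf (nat_lit 24)) (.leaf (nat_lit 96))))) (.node (nat_lit 4647) (.node (nat_lit 4456) (.leaf (nat_lit 0)) (.node (nat_lit 4618) (.leaf (nat_lit 96)) (.leaf (nat_lit 1)))) (.node (nat_lit 4736) (.node (nat_lit 4731) (.leaf (nat_lit 96)) (.leaf (nat_lit 12))) (.node (nat_lit 4758) (.leaf (nat_lit 96)) (.leaf (nat_lit 48)))))) (.node (nat_lit 5561) (.node (nat_lit 5253) (.node (nat_lit 4872)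 (.leaf (nat_lit 12)) (.node (nat_lit 5166) (.leaf (nat_lit 96)) (.leaf (nat_lit 1)))) (.node (nat_lit 5468) (.node (nat_lit 5289) (.leaf (nat_lit 24)) (.leaf (nat_lit 96))) (.node (nat_lit 5486) (.leaf (nat_lit 48)) (.leaf (nat_lit 96))))) (.node (nat_lit 5749) (.node (nat_lit 5671) (.leaf (nat_lit 12)) (.node (nat_lit 5744) (.leaf (nat_lit 96)) (.leaf (nat_lit 120)))) (.node (nat_lit 5835) (.node (nat_lit 5770) (.leaf (nat_lit 12)) (.leaf (nat_lit 1))) (.node (nat_lit 5843) (.leaf (nat_lit 48)) (.leaf (nat_lit 96)))))))))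
noncomputable def NB_soc_F : Fm := (.all NB_L (.or (.qf (.eq (.v (nat_lit 0)) .one)) (.exF NB_L (fun cs => NB_soc_t1.find (Nat.mod (nth (nat_lit 0) cs (nat_lit 0)) (nat_lit 5954))) (.exF NB_L (fun cs => NB_soc_t0.find (Nat.mod (Nat.add (nth (nat_lit 0) cs (nat_lit 0)) (Nat.mul (nat_lit 7919) (nth (nat_lit 0) cs (nat_lit 1)))) (nat_lit 2638))) (.qf (.or (.eq (.mul (.mul (.v (nat_lit 0)) (.v (nat_lit 2))) (.inv (.v (nat_lit 0)))) (.v (nat_lit 3))) (.or (.eq (.mul (.mul (.v (nat_lit 0)) (.v (nat_lit 2))) (.inv (.v (nat_lit 0)))) (.v (nat_lit 4))) (.or (.eq (.mul (.mul (.v (nat_lit 0)) (.mul (.mul (.mul (.v (nat_lit 2)) (.v (nat_lit 1))) (.inv (.v (nat_lit 2)))) (.inv (.v (nat_lit 1))))) (.inv (.v (nat_lit 0)))) (.v (nat_lit 3))) (.or (.eq (.mul (.mul (.v (nat_lit 0)) (.mul (.mul (.mul (.v (nat_lit 2)) (.v (nat_lit 1))) (.inv (.v (nat_lit 2)))) (.inv (.v (nat_lit 1))))) (.inv (.v (nat_lit 0)))) (.v (nat_lit 4)))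 (.or (.eq (.mul (.mul (.mul (.mul (.mul (.mul (.v (nat_lit 2)) (.v (nat_lit 1))) (.inv (.v (nat_lit 2)))) (.inv (.v (nat_lit 1)))) (.v (nat_lit 0))) (.inv (.mul (.mul (.mul (.v (nat_lit 2)) (.v (nat_lit 1))) (.inv (.v (nat_lit 2)))) (.inv (.v (nat_lit 1)))))) (.inv (.v (nat_lit 0)))) (.v (nat_lit 3))) (.eq (.mul (.mul (.mul (.mul (.mul (.mul (.v (nat_lit 2)) (.v (nat_lit 1))) (.inv (.v (nat_lit 2)))) (.inv (.v (nat_lit 1)))) (.v (nat_lit 0))) (.inv (.mul (.mul (.mul (.v (nat_lit 2)) (.v (nat_lit 1))) (.inv (.v (nat_lit 2)))) (.inv (.v (nat_lit 1)))))) (.inv (.v (nat_lit 0)))) (.v (nat_lit 4)))))))))))))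
theorem NB_soc_chk : Fm.chk NB_o NB_soc_F NB_cs = true := by decide +kernel
theorem NB_soc {G : Type*} [Group G] {R : ℕ → G → Prop} {z u v a b p P_ : G} {H : Subgroup G}
    (M : Mdl NB_o NB_cs NB_L R [z, u, v, a, b, p, P_] H) :
    ∀ y_ ∈ H, y_ = 1 ∨ (∃ q_ ∈ H, ∃ k_ ∈ H, k_ * y_ * k_⁻¹ = z ∨ k_ * y_ * k_⁻¹ = u ∨ k_ * ⁅y_, q_⁆ * k_⁻¹ = z ∨ k_ * ⁅y_, q_⁆ * k_⁻¹ = u ∨ ⁅⁅y_, q_⁆, k_⁆ = z ∨ ⁅⁅y_, q_⁆, k_⁆ = u) :=
  have h : ∀ y_, InL NB_o R NB_L y_ → y_ = 1 ∨ (Good NB_o R NB_L → prods NB_o NB_L NB_o.one ≠ [] → ∃ q_, InL NB_o R NB_L q_ ∧ (Good NB_o R NB_L → prods NB_o NB_L NB_o.one ≠ [] → ∃ k_, InL NB_o R NB_L k_ ∧ (k_ * y_ * k_⁻¹ = z ∨ k_ * y_ * k_⁻¹ = u ∨ k_ * ⁅y_, q_⁆ * k_⁻¹ = z ∨ k_ * ⁅y_, q_⁆ * k_⁻¹ = u ∨ ⁅⁅y_, q_⁆, k_⁆ = z ∨ ⁅⁅y_, q_⁆, k_⁆ = u))) :=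
    Fm.sound M.μ NB_soc_F NB_soc_chk M.reps
  (fun y_ h0 => (Or.imp (fun h1 => h1) (fun h1 => (Exists.imp (fun q_ h2 => ⟨M.H.iff.1 h2.1, (Exists.imp (fun k_ h3 => ⟨M.H.iff.1 h3.1, h3.2⟩) (h2.2 M.H.good M.H.ne))⟩) (h1 M.H.good M.H.ne))) (h y_ (M.H.iff.2 h0))))
theorem NB_mdl {G : Type*} [Group G] {z u v a b p : G}
    (t : QT z u v a b)
    (h : P1 z u b p)
    (e0 : p * v * p⁻¹ = v)
    (e : a * (p⁻¹ * a * p) * (p * a * p⁻¹) = z * u * v)
    (n1 : z ≠ 1) (n2 : u ≠ 1) :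
    ∃ R, Mdl NB_o NB_cs NB_L R [z, u, v, a, b, p, p⁻¹] (sp [z, u, v, a, b, p, p⁻¹]) ∧ #(sp [z, u, v, a, b, p, p⁻¹]) = 192 :=
  mdl_of NB_P rfl (NB_r t h e0 e) (.v (nat_lit 0)) (.v (nat_lit 1)) n1 n2 
    fun _ ms _ M hl => match ms, M, (hl : ms.length = 7) with
      | [_, _, _, _, _, _, _], M, _ => NB_soc M
noncomputable def NB_t_f_F : Fm := (.qf (.and (.eq (.mul (.v (nat_lit 0)) (.v (nat_lit 0))) .one) (.and (.eq (.mul (.v (nat_lit 1)) (.v (nat_lit 1))) .one) (.and (.eq (.mul (.v (nat_lit 2)) (.v (nat_lit 2))) .one) (.and (.eq (.mul (.v (nat_lit 3)) (.v (nat_lit 3))) .one) (.and (.eq (.mul (.v (nat_lit 4)) (.v (nat_lit 4))) .one) (.and (.eq (.mul (.mul (.mul (.v (nat_lit 6)) (.v (nat_lit 3))) (.v (nat_lit 5))) (.mul (.mul (.v (nat_lit 6)) (.v (nat_lit 3))) (.v (nat_lit 5)))) .one) (.and (.eq (.mul (.v (nat_lit 1)) (.v (nat_lit 2))) (.mul (.v (nat_lit 2)) (.v (nat_lit 1)))) (.and (.eq (.mul (.v (nat_lit 0))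 (.v (nat_lit 1))) (.mul (.v (nat_lit 1)) (.v (nat_lit 0)))) (.and (.eq (.mul (.v (nat_lit 0)) (.v (nat_lit 2))) (.mul (.v (nat_lit 2)) (.v (nat_lit 0)))) (.and (.eq (.mul (.v (nat_lit 0)) (.v (nat_lit 3))) (.mul (.v (nat_lit 3)) (.v (nat_lit 0)))) (.and (.eq (.mul (.v (nat_lit 0)) (.v (nat_lit 4))) (.mul (.v (nat_lit 4)) (.v (nat_lit 0)))) (.and (.eq (.mul (.v (nat_lit 0)) (.mul (.mul (.v (nat_lit 6)) (.v (nat_lit 3))) (.v (nat_lit 5)))) (.mul (.mul (.mul (.v (nat_lit 6)) (.v (nat_lit 3))) (.v (nat_lit 5))) (.v (nat_lit 0)))) (.and (.eq (.mul (.v (nat_lit 1)) (.v (nat_lit 3))) (.mul (.v (nat_lit 3)) (.v (nat_lit 1)))) (.and (.eq (.mul (.v (nat_lit 2)) (.v (nat_lit 4))) (.mul (.v (nat_lit 4)) (.v (nat_lit 2)))) (.and (.eq (.mul (.v (nat_lit 3)) (.v (nat_lit 4))) (.mul (.v (nat_lit 4)) (.v (nat_lit 3)))) (.and (.eq (.mul (.mul (.v (nat_lit 4)) (.v (nat_lit 1))) (.v (nat_lit 4))) (.mul (.v (nat_lit 1)) (.v (nat_lit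 0)))) (.and (.eq (.mul (.mul (.v (nat_lit 3)) (.v (nat_lit 2))) (.v (nat_lit 3))) (.mul (.v (nat_lit 2)) (.v (nat_lit 0)))) (.and (.eq (.mul (.mul (.mul (.v (nat_lit 6)) (.v (nat_lit 3))) (.v (nat_lit 5))) (.v (nat_lit 1))) (.mul (.v (nat_lit 1)) (.mul (.mul (.v (nat_lit 6)) (.v (nat_lit 3))) (.v (nat_lit 5))))) (.and (.eq (.mul (.mul (.v (nat_lit 3)) (.mul (.mul (.v (nat_lit 6)) (.v (nat_lit 3))) (.v (nat_lit 5)))) (.v (nat_lit 3))) (.mul (.mul (.mul (.v (nat_lit 6)) (.v (nat_lit 3))) (.v (nat_lit 5))) (.v (nat_lit 1)))) (.and (.eq (.mul (.mul (.mul (.mul (.v (nat_lit 6)) (.v (nat_lit 3))) (.v (nat_lit 5))) (.v (nat_lit 2))) (.mul (.mul (.v (nat_lit 6)) (.v (nat_lit 3))) (.v (nat_lit 5)))) (.mul (.mul (.v (nat_lit 1)) (.v (nat_lit 2))) (.v (nat_lit 0)))) (.eq (.mul (.mul (.mul (.mul (.v (nat_lit 6)) (.v (nat_lit 3))) (.v (nat_lit 5))) (.v (nat_lit 4))) (.mul (.mul (.v (nat_lit 6)) (.v (nat_lit 3))) (.v (nat_lit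 5)))) (.mul (.mul (.mul (.v (nat_lit 1)) (.v (nat_lit 2))) (.v (nat_lit 3))) (.v (nat_lit 4)))))))))))))))))))))))))
theorem NB_t_f_chk : Fm.chk NB_o NB_t_f_F NB_cs = true := by decide +kernel
theorem NB_t_f {G : Type*} [Group G] {R : ℕ → G → Prop} {z u v a b p : G} {H : Subgroup G}
    (M : Mdl NB_o NB_cs NB_L R [z, u, v, a, b, p, p⁻¹] H) :
    z * z = 1 ∧ u * u = 1 ∧ v * v = 1 ∧ a * a = 1 ∧ b * b = 1 ∧ p⁻¹ * a * p * (p⁻¹ * a * p) = 1 ∧ u * v = v * u ∧ z * u = u * z ∧ z * v = v * z ∧ z * a = a * z ∧ z * b = b * z ∧ z * (p⁻¹ * a * p) = p⁻¹ * a * p * z ∧ u * a = a * u ∧ v * b = b * v ∧ a * b = b * a ∧ b * u * b = u * z ∧ a * v * a = v * z ∧ p⁻¹ * a * p * u = u * (p⁻¹ * a * p) ∧ a * (p⁻¹ * a * p) * a = p⁻¹ * a * p * u ∧ p⁻¹ * a * p * v * (p⁻¹ * a * p) = u * v * z ∧ p⁻¹ * a * p * b * (p⁻¹ * a * p) = u * v * a * b :=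
  Fm.sound M.μ NB_t_f_F NB_t_f_chk M.reps
theorem NB_t {G : Type*} [Group G] {R : ℕ → G → Prop} {z u v a b p : G} {H : Subgroup G}
    (M : Mdl NB_o NB_cs NB_L R [z, u, v, a, b, p, p⁻¹] H) :
    TB z u v a b (p⁻¹ * a * p) :=
  have h := NB_t_f M
  ⟨h.1, h.2.1, h.2.2.1, h.2.2.2.1, h.2.2.2.2.1, h.2.2.2.2.2.1, h.2.2.2.2.2.2.1, h.2.2.2.2.2.2.2.1, h.2.2.2.2.2.2.2.2.1, h.2.2.2.2.2.2.2.2.2.1, h.2.2.2.2.2.2.2.2.2.2.1, h.2.2.2.2.2.2.2.2.2.2.2.1, h.2.2.2.2.2.2.2.2.2.2.2.2.1, h.2.2.2.2.2.2.2.2.2.2.2.2.2.1, h.2.2.2.2.2.2.2.2.2.2.2.2.2.2.1, h.2.2.2.2.2.2.2.2.2.2.2.2.2.2.2.1, h.2.2.2.2.2.2.2.2.2.2.2.2.2.2.2.2.1, h.2.2.2.2.2.2.2.2.2.2.2.2.2.2.2.2.2.1, h.2.2.2.2.2.2.2.2.2.2.2.2.2.2.2.2.2.2.1, h.2.2.2.2.2.2.2.2.2.2.2.2.2.2.2.2.2.2.2.1, h.2.2.2.2.2.2.2.2.2.2.2.2.2.2.2.2.2.2.2.2, trivial⟩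
noncomputable def NB_p_f_F : Fm := (.qf (.and (.eq (.pw (.v (nat_lit 5)) (nat_lit 3)) .one) (.and (.eq (.mul (.mul (.v (nat_lit 5)) (.v (nat_lit 0))) (.v (nat_lit 6))) (.v (nat_lit 1))) (.and (.eq (.mul (.mul (.v (nat_lit 5)) (.v (nat_lit 1))) (.v (nat_lit 6))) (.mul (.v (nat_lit 0)) (.v (nat_lit 1)))) (.and (.eq (.mul (.mul (.v (nat_lit 5)) (.v (nat_lit 2))) (.v (nat_lit 6))) (.v (nat_lit 2))) (.and (.eq (.mul (.mul (.v (nat_lit 5)) (.mul (.mul (.v (nat_lit 6)) (.v (nat_lit 3))) (.v (nat_lit 5)))) (.v (nat_lit 6))) (.v (nat_lit 3))) (.and (.eq (.mul (.mul (.v (nat_lit 5)) (.v (nat_lit 3))) (.v (nat_lit 6))) (.mul (.mul (.v (nat_lit 4)) (.mul (.mul (.v (nat_lit 6)) (.v (nat_lit 3))) (.v (nat_lit 5)))) (.v (nat_lit 4)))) (.eq (.pw (.mul (.v (nat_lit 4)) (.v (nat_lit 5))) (nat_lit 2)) .one))))))))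
theorem NB_p_f_chk : Fm.chk NB_o NB_p_f_F NB_cs = true := by decide +kernel
theorem NB_p_f {G : Type*} [Group G] {R : ℕ → G → Prop} {z u v a b p : G} {H : Subgroup G}
    (M : Mdl NB_o NB_cs NB_L R [z, u, v, a, b, p, p⁻¹] H) :
    p ^ 3 = 1 ∧ p * z * p⁻¹ = u ∧ p * u * p⁻¹ = z * u ∧ p * v * p⁻¹ = v ∧ p * (p⁻¹ * a * p) * p⁻¹ = a ∧ p * a * p⁻¹ = b * (p⁻¹ * a * p) * b ∧ (b * p) ^ 2 = 1 :=
  Fm.sound M.μ NB_p_f_F NB_p_f_chk M.reps
theorem NB_p {G : Type*} [Group G] {R : ℕ → G → Prop} {z u v a b p : G} {H : Subgroup G}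
    (M : Mdl NB_o NB_cs NB_L R [z, u, v, a, b, p, p⁻¹] H) :
    PB z u v a b (p⁻¹ * a * p) p :=
  have h := NB_p_f M
  ⟨h.1, h.2.1, h.2.2.1, h.2.2.2.1, h.2.2.2.2.1, h.2.2.2.2.2.1, h.2.2.2.2.2.2, trivial⟩
noncomputable def xg0_r_R : List (List ℕ) := [[0,0],
  [1,1],
  [2,2],
  [3,3],
  [4,4],
  [5,5],
  [6,7],
  [7,6],
  [8,9],
  [9,8],
  [6,6,6],
  [3,7,1,6],
  [4,7,2,6],
  [6,1,6,1,6,1],
  [6,2,6,2,6,2],
  [2,1,2,1],
  [0,4,1,4,1],
  [7,0,6,0],
  [1,0,1,0],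
  [2,0,2,0],
  [8,8,8],
  [7,9,6,8],
  [0,9,0,8],
  [2,9,1,8],
  [0,1,2,9,2,8],
  [3,0,3,0],
  [4,0,4,0],
  [5,0,5,0],
  [3,1,3,1],
  [4,2,4,2],
  [4,3,4,3],
  [1,0,4,1,4],
  [2,0,3,2,3],
  [1,5,1,5],
  [5,1,3,5,3],
  [1,2,0,5,2,5],
  [1,2,3,4,5,4,5]]
theorem xg0_r {G : Type*} [Group G] {z u v a b r x y : G}
    (h : Q3 z u v a b x)
    (k : KY z u v x y)
    (t : TB z u v a b r) :
    Rels (nthG [z, u, v, a, b, r, x, x⁻¹, y, y⁻¹]) xg0_r_R :=
  rels_of_eqs ((InvI.cons h.1 (InvI.cons h.2.1 (InvI.cons h.2.2.1 (InvI.cons h.2.2.2.1 (InvI.cons h.2.2.2.2.1 (InvI.cons t.2.2.2.2.2.1 InvI.nil)))))) : InvI [z, u, v, a, b, r, x, y] [(nat_lit 0), (nat_lit 1), (nat_lit 2), (nat_lit 3), (nat_lit 4), (nat_lit 5)])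
    (AllEq.append (show AllEq [z, u, v, a, b, r, x, y] [((.mul (.v (nat_lit 0)) (.v (nat_lit 0))), .one), ((.mul (.v (nat_lit 1)) (.v (nat_lit 1))), .one), ((.mul (.v (nat_lit 2)) (.v (nat_lit 2))), .one), ((.mul (.v (nat_lit 3)) (.v (nat_lit 3))), .one), ((.mul (.v (nat_lit 4)) (.v (nat_lit 4))), .one), ((.pw (.v (nat_lit 6)) (nat_lit 3)), .one), ((.mul (.mul (.v (nat_lit 6)) (.v (nat_lit 1))) (.inv (.v (nat_lit 6)))), (.v (nat_lit 3))), ((.mul (.mul (.v (nat_lit 6)) (.v (nat_lit 2))) (.inv (.v (nat_lit 6)))), (.v (nat_lit 4))), ((.pw (.mul (.v (nat_lit 1)) (.v (nat_lit 6))) (nat_lit 3)), .one), ((.pw (.mul (.v (nat_lit 2)) (.v (nat_lit 6))) (nat_lit 3)), .one), ((.mul (.v (nat_lit 1)) (.v (nat_lit 2))), (.mul (.v (nat_lit 2)) (.v (nat_lit 1)))), ((.mul (.mul (.mul (.v (nat_lit 1)) (.v (nat_lit 4))) (.inv (.v (nat_lit 1)))) (.inv (.v (nat_lit 4)))), (.v (nat_lit 0))), ((.mul (.v (nat_lit 0)) (.v (nat_lit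 6))), (.mul (.v (nat_lit 6)) (.v (nat_lit 0)))), ((.mul (.v (nat_lit 0)) (.v (nat_lit 1))), (.mul (.v (nat_lit 1)) (.v (nat_lit 0)))), ((.mul (.v (nat_lit 0)) (.v (nat_lit 2))), (.mul (.v (nat_lit 2)) (.v (nat_lit 0))))] from h)
    (AllEq.append (show AllEq [z, u, v, a, b, r, x, y] [((.pw (.v (nat_lit 7)) (nat_lit 3)), .one), ((.mul (.v (nat_lit 7)) (.v (nat_lit 6))), (.mul (.v (nat_lit 6)) (.v (nat_lit 7)))), ((.mul (.v (nat_lit 7)) (.v (nat_lit 0))), (.mul (.v (nat_lit 0)) (.v (nat_lit 7)))), ((.mul (.mul (.v (nat_lit 7)) (.v (nat_lit 1))) (.inv (.v (nat_lit 7)))), (.v (nat_lit 2))), ((.mul (.mul (.v (nat_lit 7)) (.v (nat_lit 2))) (.inv (.v (nat_lit 7)))), (.mul (.mul (.v (nat_lit 0)) (.v (nat_lit 1))) (.v (nat_lit 2))))] from k)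
    (show AllEq [z, u, v, a, b, r, x, y] [((.mul (.v (nat_lit 0)) (.v (nat_lit 0))), .one), ((.mul (.v (nat_lit 1)) (.v (nat_lit 1))), .one), ((.mul (.v (nat_lit 2)) (.v (nat_lit 2))), .one), ((.mul (.v (nat_lit 3)) (.v (nat_lit 3))), .one), ((.mul (.v (nat_lit 4)) (.v (nat_lit 4))), .one), ((.mul (.v (nat_lit 5)) (.v (nat_lit 5))), .one), ((.mul (.v (nat_lit 1)) (.v (nat_lit 2))), (.mul (.v (nat_lit 2)) (.v (nat_lit 1)))), ((.mul (.v (nat_lit 0)) (.v (nat_lit 1))), (.mul (.v (nat_lit 1)) (.v (nat_lit 0)))), ((.mul (.v (nat_lit 0)) (.v (nat_lit 2))), (.mul (.v (nat_lit 2)) (.v (nat_lit 0)))), ((.mul (.v (nat_lit 0)) (.v (nat_lit 3))), (.mul (.v (nat_lit 3)) (.v (nat_lit 0)))), ((.mul (.v (nat_lit 0)) (.v (nat_lit 4))), (.mul (.v (nat_lit 4)) (.v (nat_lit 0)))), ((.mul (.v (nat_lit 0)) (.v (nat_lit 5))), (.mul (.v (nat_lit 5)) (.v (nat_lit 0)))), ((.mul (.v (nat_lit 1)) (.v (nat_lit 3))), (.mul (.v (nat_lit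 3)) (.v (nat_lit 1)))), ((.mul (.v (nat_lit 2)) (.v (nat_lit 4))), (.mul (.v (nat_lit 4)) (.v (nat_lit 2)))), ((.mul (.v (nat_lit 3)) (.v (nat_lit 4))), (.mul (.v (nat_lit 4)) (.v (nat_lit 3)))), ((.mul (.mul (.v (nat_lit 4)) (.v (nat_lit 1))) (.v (nat_lit 4))), (.mul (.v (nat_lit 1)) (.v (nat_lit 0)))), ((.mul (.mul (.v (nat_lit 3)) (.v (nat_lit 2))) (.v (nat_lit 3))), (.mul (.v (nat_lit 2)) (.v (nat_lit 0)))), ((.mul (.v (nat_lit 5)) (.v (nat_lit 1))), (.mul (.v (nat_lit 1)) (.v (nat_lit 5)))), ((.mul (.mul (.v (nat_lit 3)) (.v (nat_lit 5))) (.v (nat_lit 3))), (.mul (.v (nat_lit 5)) (.v (nat_lit 1)))), ((.mul (.mul (.v (nat_lit 5)) (.v (nat_lit 2))) (.v (nat_lit 5))), (.mul (.mul (.v (nat_lit 1)) (.v (nat_lit 2))) (.v (nat_lit 0)))), ((.mul (.mul (.v (nat_lit 5)) (.v (nat_lit 4))) (.v (nat_lit 5))), (.mul (.mul (.mul (.v (nat_lit 1)) (.v (nat_lit 2))) (.v (nat_lit 3))) (.v (nat_lit 4))))] from t)))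
    [(.v (nat_lit 0)), (.v (nat_lit 1)), (.v (nat_lit 2)), (.v (nat_lit 3)), (.v (nat_lit 4)), (.v (nat_lit 5)), (.v (nat_lit 6)), (.inv (.v (nat_lit 6))), (.v (nat_lit 7)), (.inv (.v (nat_lit 7)))] (by decide +kernel)
noncomputable def xg0_0_S0 : List ℕ := [nat_lit 0x1300000b000008004016, nat_lit 0x1b000002000010004014, nat_lit 0x23000006000018004016, nat_lit 0x2700001f000009008014]
noncomputable def xg0_0_S : List (List ℕ) := [xg0_0_S0]
noncomputable def xg0_0_defs : List ℕ := [(nat_lit 0x7005000060070000500700004005000030050000200700001000000000050000000000000)]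
noncomputable def xg0_0_recs : List ℕ := [(nat_lit 0x60000800009000000500008000000300006000000100004)]
noncomputable def xg0_0_T : List (List ℕ × ℕ) := [([5,7,5,7,0,6,5,6,5,0], (nat_lit 0xc00001400001c00002400000d00002700001f00001700000f000007))]
noncomputable def xg0_0_D : H26.Dag := ⟨[0,1,2,3,4,5,7,6,9,8], [[0,0],
  [1,1],
  [2,2],
  [3,3],
  [4,4],
  [5,5],
  [6,7],
  [7,6],
  [8,9],
  [9,8],
  [7,0,6,0],
  [5,0,5,0]], [], xg0_0_defs, xg0_0_recs⟩
theorem xg0_0_c : xg0_0_D.check xg0_0_S xg0_0_T = true := by decide +kernel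
theorem xg0_0 {G : Type*} [Group G] {g : ℕ → G} (hR : Rels g xg0_r_R) {H : Subgroup G}
    (hH : ∀ k ∈ [], g k ∈ H) : evA g [5,7,5,7,0,6,5,6,5,0] ∈ H :=
  mem_dag (K := 10) (J := [0,1,2,3,4,5,6,7,8,9,17,27]) (D := xg0_0_D) (by decide +kernel) xg0_0_c (by decide +kernel) hR hH
noncomputable def xg0_1_S0 : List ℕ := [nat_lit 0x1300000700001000801c, nat_lit 0x1700000b00000800001401001e, nat_lit 0x23000020006014, nat_lit 0x2f00002c006014, nat_lit 0x2f000006000028008016, nat_lit 0x1f00000100002800001100000e014018, nat_lit 0xe000015000009000016, nat_lit 0x3300001b000024008016, nat_lit 0x1100001a00001d00001a, nat_lit 0x3b00002200001e00003801001e, nat_lit 0x43000026000040008016]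
noncomputable def xg0_1_S : List (List ℕ) := [xg0_1_S0]
noncomputable def xg0_1_defs : List ℕ := [(nat_lit 0x70000e0070000d005000090050000800700006007000050060000500700004007000030060000300300003005000020050000100500000003000000010000000000000)]
noncomputable def xg0_1_recs : List ℕ := [(nat_lit 0x10000f00010030000d0000e030000c0000901000080000c03000080000b010000a0000701000090000b070000a0000b070000700008030000400005010000300004)]
noncomputable def xg0_1_T : List (List ℕ × ℕ) := [([5,7,5,7,1,6,5,6,5,1], (nat_lit 0x800001400002800003c00004400002a00003f00003700002300000f))]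
noncomputable def xg0_1_D : H26.Dag := ⟨[0,1,2,3,4,5,7,6,9,8], [[0,0],
  [1,1],
  [2,2],
  [3,3],
  [4,4],
  [5,5],
  [6,7],
  [7,6],
  [8,9],
  [9,8],
  [6,6,6],
  [3,7,1,6],
  [6,1,6,1,6,1],
  [3,1,3,1],
  [1,5,1,5],
  [5,1,3,5,3]], [], xg0_1_defs, xg0_1_recs⟩
theorem xg0_1_c : xg0_1_D.check xg0_1_S xg0_1_T = true := by decide +kernel
theorem xg0_1 {G : Type*} [Group G] {g : ℕ → G} (hR : Rels g xg0_r_R) {H : Subgroup G}
    (hH : ∀ k ∈ [], g k ∈ H) : evA g [5,7,5,7,1,6,5,6,5,1] ∈ H :=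
  mem_dag (K := 10) (J := [0,1,2,3,4,5,6,7,8,9,10,11,13,28,33,34]) (D := xg0_1_D) (by decide +kernel) xg0_1_c (by decide +kernel) hR hH
noncomputable def xg0_2_S0 : List ℕ := [nat_lit 0x1b00000700000c004022, nat_lit 0x2b00000b00001000401e, nat_lit 0x2f00000100001b000024008020, nat_lit 0x3700001300000800002001002a, nat_lit 0x47000044006014, nat_lit 0x4b00001b00002000401e, nat_lit 0x4b00000200002c004024, nat_lit 0x3b00001700000c00002c00001900a030, nat_lit 0x4f00001b00002800802c, nat_lit 0x4f00000200002c000006000034010030, nat_lit 0x5300001f000024004026, nat_lit 0x5b00000a00005800802c, nat_lit 0x5f00002500002200002700002400005800c032, nat_lit 0x6700000e000054004028, nat_lit 0x6b00000e00001500001d01002e, nat_lit 0x6b00006800003600002a00000900005c014032, nat_lit 0x6f00003900003e004028, nat_lit 0x77000074006014, nat_lit 0x7f00007c006014, nat_lit 0x7f00003f000048008018, nat_lit 0x7300003b00004800004d00004a01401c,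 nat_lit 0x4a000051000045000018, nat_lit 0x87000012000084004018, nat_lit 0x8700004d000056004026, nat_lit 0x6f00007800005d004018, nat_lit 0x93000090006014, nat_lit 0x97000041000062008016, nat_lit 0x5900006900009700002e00009001201a, nat_lit 0x6600006d000059000016, nat_lit 0x9b00005f000064008016, nat_lit 0x9b000032000094008018, nat_lit 0x9f00007500007a00007200008700008c006032, nat_lit 0xa700007e0000a4008018]
noncomputable def xg0_2_S : List (List ℕ) := [xg0_2_S0]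
noncomputable def xg0_2_defs : List ℕ := [(nat_lit 0x7000270070002200500018007000170070001600700015006000150050001100400011002000100070000f0060000f0070000e0060000e0040000e0050000d0040000d0070000c0030000c0050000b00500008004000070050000600200006007000050060000500400005002000050020000400500003004000020020000200500001004000010020000100100001005000000030000000200000001000000000000000000000)]
noncomputable def xg0_2_recs : List ℕ := [(nat_lit 0x2000280002904000220002702000240002601000180002603000210002401000230002001000210002507000230002407000210001b020001d00021070002000021040001d0001f020001e0001c02000110001f070001e0001f070001c0001d03000160001b04000160001a030000e0001a030001400019040001500017010001500016020000800014020000c0001301000090001305000120000e000000a0001201000070001207000100001103000070000d01000080000b01000030000a000000200006)]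
noncomputable def xg0_2_T : List (List ℕ × ℕ) := [([5,7,5,7,2,6,5,6,5,2], (nat_lit 0x100000340000640000a00000a80000820000a300008b000047000017))]
noncomputable def xg0_2_D : H26.Dag := ⟨[0,1,2,3,4,5,7,6,9,8], [[0,0],
  [1,1],
  [2,2],
  [3,3],
  [4,4],
  [5,5],
  [6,7],
  [7,6],
  [8,9],
  [9,8],
  [6,6,6],
  [3,7,1,6],
  [4,7,2,6],
  [6,1,6,1,6,1],
  [6,2,6,2,6,2],
  [2,1,2,1],
  [0,4,1,4,1],
  [1,0,1,0],
  [2,0,2,0],
  [4,2,4,2],
  [4,3,4,3],
  [2,0,3,2,3],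
  [1,5,1,5],
  [5,1,3,5,3],
  [1,2,0,5,2,5],
  [1,2,3,4,5,4,5]], [], xg0_2_defs, xg0_2_recs⟩
theorem xg0_2_c : xg0_2_D.check xg0_2_S xg0_2_T = true := by decide +kernel
theorem xg0_2 {G : Type*} [Group G] {g : ℕ → G} (hR : Rels g xg0_r_R) {H : Subgroup G}
    (hH : ∀ k ∈ [], g k ∈ H) : evA g [5,7,5,7,2,6,5,6,5,2] ∈ H :=
  mem_dag (K := 10) (J := [0,1,2,3,4,5,6,7,8,9,10,11,12,13,14,15,16,18,19,29,30,32,33,34,35,36]) (D := xg0_2_D) (by decide +kernel) xg0_2_c (by decide +kernel) hR hH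
noncomputable def xg0_3_S0 : List ℕ := [nat_lit 0x1300000f00000b00000800c01c, nat_lit 0x1b000017008014, nat_lit 0x2700002300001f000017000010010018, nat_lit 0x13000009000027004016, nat_lit 0x2300001f00001c000016, nat_lit 0x3300002f00002b00001100c01c, nat_lit 0x3b000037008014, nat_lit 0x4700004300003f000037000030010018, nat_lit 0x3300001d000047004016, nat_lit 0x4300003f00003c000016]
noncomputable def xg0_3_S : List (List ℕ) := [xg0_3_S0]
noncomputable def xg0_3_defs : List ℕ := [(nat_lit 0x1000100060000f0010000d0060000d0060000a0030000b0010000a0050000600100008006000070010000500600005006000020030000300100002005000000030000000000000)]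
noncomputable def xg0_3_recs : List ℕ := [(nat_lit 0x30000e0001007000100000c060000b00011060000a0000e05000080000c030000600008070000800004060000300009060000200006050000100004)]
noncomputable def xg0_3_T : List (List ℕ × ℕ) := [([5,7,5,7,3,6,5,6,5,3], (nat_lit 0x800000100000e00001500002200002600001a00002b00000600000b))]
noncomputable def xg0_3_D : H26.Dag := ⟨[0,1,2,3,4,5,7,6,9,8], [[0,0],
  [1,1],
  [2,2],
  [3,3],
  [4,4],
  [5,5],
  [6,7],
  [7,6],
  [8,9],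
  [9,8],
  [6,6,6],
  [3,7,1,6],
  [6,1,6,1,6,1],
  [3,1,3,1],
  [5,1,3,5,3]], [], xg0_3_defs, xg0_3_recs⟩
theorem xg0_3_c : xg0_3_D.check xg0_3_S xg0_3_T = true := by decide +kernel
theorem xg0_3 {G : Type*} [Group G] {g : ℕ → G} (hR : Rels g xg0_r_R) {H : Subgroup G}
    (hH : ∀ k ∈ [], g k ∈ H) : evA g [5,7,5,7,3,6,5,6,5,3] ∈ H :=
  mem_dag (K := 10) (J := [0,1,2,3,4,5,6,7,8,9,10,11,13,28,34]) (D := xg0_3_D) (by decide +kernel) xg0_3_c (by decide +kernel) hR hH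
noncomputable def xg0_4_S0 : List ℕ := [nat_lit 0x27000007000010004024, nat_lit 0x2f000007000018004026, nat_lit 0x3f00000b00001000401e, nat_lit 0x4300000b000018000005010020, nat_lit 0x3b00004400000e00002f000024002020, nat_lit 0x1100003b000000, nat_lit 0x6300001300000c000048010030, nat_lit 0x6b000068006014, nat_lit 0x6b000013000020008016, nat_lit 0x4b00000b00002000002100001e01401a, nat_lit 0x7f00007c006014, nat_lit 0x8300002300002800401e, nat_lit 0x83000016000040004024, nat_lit 0x7300001b00000c00004000003100a032, nat_lit 0x8700002300002c00402a, nat_lit 0x8b00002300003400802e, nat_lit 0x8b00001600004000000a000058010032, nat_lit 0x8f00001600004c00c022, nat_lit 0x93000002000054004026, nat_lit 0x9300002700003000402c, nat_lit 0x9700002d00003500802e, nat_lit 0x9700000200000f00000c000048010032, nat_lit 0xa300002b00002400008c010030, nat_lit 0xab0000a8006014, nat_lit 0xab00002b000038008016, nat_lit 0x8f00002300003800006100005e01401a,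 nat_lit 0xaf000006000070004028, nat_lit 0xb300003d00005900402a, nat_lit 0xb300003d00008b00008800c030, nat_lit 0xb700003f00004c000018, nat_lit 0xbb00000e0000b000802e, nat_lit 0xc70000c4006014, nat_lit 0xc700004f00005c008016, nat_lit 0xb700000a00005c00008100007e01401a, nat_lit 0x8500007600004500006600c020, nat_lit 0x89000085000076000026012020, nat_lit 0x5f00006800008d0000a7008022, nat_lit 0x9b00009100005f000000, nat_lit 0x9500009b000000, nat_lit 0xa300009900006400c028, nat_lit 0x9f0000a80000890000c300c018, nat_lit 0xbf0000a100009f000004, nat_lit 0xa50000bf000004, nat_lit 0xcb00005300000100002d00c020, nat_lit 0xcf00004900004e00000d0000bc010032, nat_lit 0xcf0000530000500000a9000039000071014034, nat_lit 0xd300004100003e0000330000300000b000c034, nat_lit 0xdb00009d00006d0000b5008020, nat_lit 0xdb00001a0000550000520000360000ad010034, nat_lit 0xe30000360000ad0000c10000be0000b2012034, nat_lit 0xeb0000e8006014, nat_lit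 0xf30000f0006014, nat_lit 0xf3000077000080008018, nat_lit 0xe70000730000800000d10000ce01401c, nat_lit 0xce0000d50000c9000018, nat_lit 0xfb00002a0000f8004018, nat_lit 0xfb0000d10000da00402c, nat_lit 0xe30000ec0000e1004018, nat_lit 0x107000104006014, nat_lit 0x10700006a0000e0004022, nat_lit 0x10b0000c50000e6008016, nat_lit 0xdd0000f100010b00007a00010401201a, nat_lit 0xea0000f50000dd000016, nat_lit 0x10f0000d30000d8008016]
noncomputable def xg0_4_S1 : List ℕ := [nat_lit 0x10f0000ba000108008018, nat_lit 0x1130000fd0001020000fa0000fb000100006034, nat_lit 0x1170000ed0001010000fe000114010032, nat_lit 0x11f00011c006014, nat_lit 0x123000106000120008018, nat_lit 0x12700010a00012400011200010e00401c, nat_lit 0x12b000128006014, nat_lit 0x10e000115000119000018]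
noncomputable def xg0_4_S : List (List ℕ) := [xg0_4_S0, xg0_4_S1]
noncomputable def xg0_4_defs : List ℕ := [(nat_lit 0x50001f0040001f0020001e0070001d0060001d0070001c0060001c0040001c0070001b0040001800700015003000150050001400100014007000130060001300200013005000100060000f0030000c0050000b0070000a0060000a0050000a0020000a0000000a0050000900400009006000080050000800300008002000080070000600600006004000060020000600500005007000040060000400500004000000040070000300500003004000030030000300600002005000020040000200200002000000020070000100500001004000010030000100200001001000010070000000500000004000000030000000200000001000000000000000000000),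
  (nat_lit 0x70004500600045007000440070003f0060003f0050003700500035007000340070002e0070002b0060002b)]
noncomputable def xg0_4_recs : List ℕ := [(nat_lit 0x10003500043030003e0004101000400003d010003e00042000003700041070004000041070003e00038020003a0003e070003d0003e040003a0003c020003b00039020001f0003c070003b0003c07000390003a030002e00038050003200036010003300036040002b00034040002c00033020002e0003304000200003202000130000aff0000a0002fff0001300027000001800028000000a00004ff0000400026ff0000a0001700000190002904000290003001000300002d010001600031070003000031010002b0002e04000120002d05000210002c01000280002c000001b0002b010002900023010000d0002a07000290002a030002200028020001100025010001c00025020000b00024000001400024000001200023020001500022010000c00022010000a0002105000200001c000000f00020010000900020070001e0001f01000190001201000070001a07000190001a030001100018000000200008ff000080000e010000b0001001000030000f00000050000b000000300009),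
  (nat_lit 0x40004a0004707000490004a020004600049020004700048070004600047020004400045040003f00044020004100043)]
noncomputable def xg0_4_T : List (List ℕ × ℕ) := [([5,7,5,7,4,6,5,6,5,4], (nat_lit 0x180000700000e000011800012c00011d00011f0000ff00007f00001b))]
noncomputable def xg0_4_D : H26.Dag := ⟨[0,1,2,3,4,5,7,6,9,8], [[0,0],
  [1,1],
  [2,2],
  [3,3],
  [4,4],
  [5,5],
  [6,7],
  [7,6],
  [8,9],
  [9,8],
  [6,6,6],
  [3,7,1,6],
  [4,7,2,6],
  [6,1,6,1,6,1],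
  [6,2,6,2,6,2],
  [2,1,2,1],
  [0,4,1,4,1],
  [7,0,6,0],
  [2,0,2,0],
  [4,0,4,0],
  [5,0,5,0],
  [3,1,3,1],
  [4,2,4,2],
  [1,5,1,5],
  [5,1,3,5,3],
  [1,2,0,5,2,5],
  [1,2,3,4,5,4,5]], [], xg0_4_defs, xg0_4_recs⟩
theorem xg0_4_c : xg0_4_D.check xg0_4_S xg0_4_T = true := by decide +kernel
theorem xg0_4 {G : Type*} [Group G] {g : ℕ → G} (hR : Rels g xg0_r_R) {H : Subgroup G}
    (hH : ∀ k ∈ [], g k ∈ H) : evA g [5,7,5,7,4,6,5,6,5,4] ∈ H :=
  mem_dag (K := 10) (J := [0,1,2,3,4,5,6,7,8,9,10,11,12,13,14,15,16,17,19,26,27,28,29,33,34,35,36]) (D := xg0_4_D) (by decide +kernel) xg0_4_c (by decide +kernel) hR hH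
theorem xg0 {G : Type*} [Group G] {z u v a b r x y : G}
    (h : Q3 z u v a b x)
    (k : KY z u v x y)
    (t : TB z u v a b r) :
    z * (r * x * r⁻¹ * x⁻¹⁻¹) = r * x * r⁻¹ * x⁻¹⁻¹ * z ∧ u * (r * x * r⁻¹ * x⁻¹⁻¹) = r * x * r⁻¹ * x⁻¹⁻¹ * u ∧ v * (r * x * r⁻¹ * x⁻¹⁻¹) = r * x * r⁻¹ * x⁻¹⁻¹ * v ∧ a * (r * x * r⁻¹ * x⁻¹⁻¹) = r * x * r⁻¹ * x⁻¹⁻¹ * a ∧ b * (r * x * r⁻¹ * x⁻¹⁻¹) = r * x * r⁻¹ * x⁻¹⁻¹ * b :=
  ⟨mul_inv_eq_one.1 ((evA_eq_tm ((InvI.cons h.1 (InvI.cons h.2.1 (InvI.cons h.2.2.1 (InvI.cons h.2.2.2.1 (InvI.cons h.2.2.2.2.1 (InvI.cons t.2.2.2.2.2.1 InvI.nil)))))) : InvI [z, u, v, a, b, r, x, y] [(nat_lit 0), (nat_lit 1), (nat_lit 2), (nat_lit 3), (nat_lit 4), (nat_lit 5)]) [(.v (nat_lit 0)), (.v (nat_lit 1)), (.v (nat_lit 2)), (.v (nat_lit 3)), (.v (nat_lit 4)), (.v (nat_lit 5)), (.v (nat_lit 6)), (.inv (.v (nat_lit 6))), (.v (nat_lit 7)), (.inv (.v (nat_lit 7)))] [5,7,5,7,0,6,5,6,5,0] (.mul (.mul (.v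 (nat_lit 0)) (.mul (.mul (.mul (.v (nat_lit 5)) (.v (nat_lit 6))) (.inv (.v (nat_lit 5)))) (.inv (.inv (.v (nat_lit 6)))))) (.inv (.mul (.mul (.mul (.mul (.v (nat_lit 5)) (.v (nat_lit 6))) (.inv (.v (nat_lit 5)))) (.inv (.inv (.v (nat_lit 6))))) (.v (nat_lit 0))))) (by decide +kernel)).symm.trans (Subgroup.mem_bot.1 (xg0_0 (xg0_r h k t) (H := ⊥) (List.forall_mem_nil _)))),
   mul_inv_eq_one.1 ((evA_eq_tm ((InvI.cons h.1 (InvI.cons h.2.1 (InvI.cons h.2.2.1 (InvI.cons h.2.2.2.1 (InvI.cons h.2.2.2.2.1 (InvI.cons t.2.2.2.2.2.1 InvI.nil)))))) : InvI [z, u, v, a, b, r, x, y] [(nat_lit 0), (nat_lit 1), (nat_lit 2), (nat_lit 3), (nat_lit 4), (nat_lit 5)]) [(.v (nat_lit 0)), (.v (nat_lit 1)), (.v (nat_lit 2)), (.v (nat_lit 3)), (.v (nat_lit 4)), (.v (nat_lit 5)), (.v (nat_lit 6)), (.inv (.v (nat_lit 6))), (.v (nat_lit 7)), (.inv (.v (nat_lit 7)))] [5,7,5,7,1,6,5,6,5,1] (.mul (.mul (.v (nat_lit 1)) (.mul (.mul (.mul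 (.v (nat_lit 5)) (.v (nat_lit 6))) (.inv (.v (nat_lit 5)))) (.inv (.inv (.v (nat_lit 6)))))) (.inv (.mul (.mul (.mul (.mul (.v (nat_lit 5)) (.v (nat_lit 6))) (.inv (.v (nat_lit 5)))) (.inv (.inv (.v (nat_lit 6))))) (.v (nat_lit 1))))) (by decide +kernel)).symm.trans (Subgroup.mem_bot.1 (xg0_1 (xg0_r h k t) (H := ⊥) (List.forall_mem_nil _)))),
   mul_inv_eq_one.1 ((evA_eq_tm ((InvI.cons h.1 (InvI.cons h.2.1 (InvI.cons h.2.2.1 (InvI.cons h.2.2.2.1 (InvI.cons h.2.2.2.2.1 (InvI.cons t.2.2.2.2.2.1 InvI.nil)))))) : InvI [z, u, v, a, b, r, x, y] [(nat_lit 0), (nat_lit 1), (nat_lit 2), (nat_lit 3), (nat_lit 4), (nat_lit 5)]) [(.v (nat_lit 0)), (.v (nat_lit 1)), (.v (nat_lit 2)), (.v (nat_lit 3)), (.v (nat_lit 4)), (.v (nat_lit 5)), (.v (nat_lit 6)), (.inv (.v (nat_lit 6))), (.v (nat_lit 7)), (.inv (.v (nat_lit 7)))] [5,7,5,7,2,6,5,6,5,2] (.mul (.mul (.v (nat_lit 2)) (.mul (.mul (.mul (.v (nat_lit 5)) (.v (nat_lit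 6))) (.inv (.v (nat_lit 5)))) (.inv (.inv (.v (nat_lit 6)))))) (.inv (.mul (.mul (.mul (.mul (.v (nat_lit 5)) (.v (nat_lit 6))) (.inv (.v (nat_lit 5)))) (.inv (.inv (.v (nat_lit 6))))) (.v (nat_lit 2))))) (by decide +kernel)).symm.trans (Subgroup.mem_bot.1 (xg0_2 (xg0_r h k t) (H := ⊥) (List.forall_mem_nil _)))),
   mul_inv_eq_one.1 ((evA_eq_tm ((InvI.cons h.1 (InvI.cons h.2.1 (InvI.cons h.2.2.1 (InvI.cons h.2.2.2.1 (InvI.cons h.2.2.2.2.1 (InvI.cons t.2.2.2.2.2.1 InvI.nil)))))) : InvI [z, u, v, a, b, r, x, y] [(nat_lit 0), (nat_lit 1), (nat_lit 2), (nat_lit 3), (nat_lit 4), (nat_lit 5)]) [(.v (nat_lit 0)), (.v (nat_lit 1)), (.v (nat_lit 2)), (.v (nat_lit 3)), (.v (nat_lit 4)), (.v (nat_lit 5)), (.v (nat_lit 6)), (.inv (.v (nat_lit 6))), (.v (nat_lit 7)), (.inv (.v (nat_lit 7)))] [5,7,5,7,3,6,5,6,5,3] (.mul (.mul (.v (nat_lit 3)) (.mul (.mul (.mul (.v (nat_lit 5)) (.v (nat_lit 6))) (.inv (.v (nat_lit 5))))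 (.inv (.inv (.v (nat_lit 6)))))) (.inv (.mul (.mul (.mul (.mul (.v (nat_lit 5)) (.v (nat_lit 6))) (.inv (.v (nat_lit 5)))) (.inv (.inv (.v (nat_lit 6))))) (.v (nat_lit 3))))) (by decide +kernel)).symm.trans (Subgroup.mem_bot.1 (xg0_3 (xg0_r h k t) (H := ⊥) (List.forall_mem_nil _)))),
   mul_inv_eq_one.1 ((evA_eq_tm ((InvI.cons h.1 (InvI.cons h.2.1 (InvI.cons h.2.2.1 (InvI.cons h.2.2.2.1 (InvI.cons h.2.2.2.2.1 (InvI.cons t.2.2.2.2.2.1 InvI.nil)))))) : InvI [z, u, v, a, b, r, x, y] [(nat_lit 0), (nat_lit 1), (nat_lit 2), (nat_lit 3), (nat_lit 4), (nat_lit 5)]) [(.v (nat_lit 0)), (.v (nat_lit 1)), (.v (nat_lit 2)), (.v (nat_lit 3)), (.v (nat_lit 4)), (.v (nat_lit 5)), (.v (nat_lit 6)), (.inv (.v (nat_lit 6))), (.v (nat_lit 7)), (.inv (.v (nat_lit 7)))] [5,7,5,7,4,6,5,6,5,4] (.mul (.mul (.v (nat_lit 4)) (.mul (.mul (.mul (.v (nat_lit 5)) (.v (nat_lit 6))) (.inv (.v (nat_lit 5)))) (.inv (.inv (.v (nat_lit 6))))))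 (.inv (.mul (.mul (.mul (.mul (.v (nat_lit 5)) (.v (nat_lit 6))) (.inv (.v (nat_lit 5)))) (.inv (.inv (.v (nat_lit 6))))) (.v (nat_lit 4))))) (by decide +kernel)).symm.trans (Subgroup.mem_bot.1 (xg0_4 (xg0_r h k t) (H := ⊥) (List.forall_mem_nil _))))⟩
noncomputable def xg1_r_R : List (List ℕ) := [[0,0],
  [1,1],
  [2,2],
  [3,3],
  [4,4],
  [5,5],
  [6,7],
  [7,6],
  [8,9],
  [9,8],
  [6,6,6],
  [3,7,1,6],
  [4,7,2,6],
  [6,1,6,1,6,1],
  [6,2,6,2,6,2],
  [2,1,2,1],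
  [0,4,1,4,1],
  [7,0,6,0],
  [1,0,1,0],
  [2,0,2,0],
  [8,8,8],
  [7,9,6,8],
  [0,9,0,8],
  [2,9,1,8],
  [0,1,2,9,2,8],
  [3,0,3,0],
  [4,0,4,0],
  [5,0,5,0],
  [3,1,3,1],
  [4,2,4,2],
  [4,3,4,3],
  [1,0,4,1,4],
  [2,0,3,2,3],
  [1,5,1,5],
  [5,1,3,5,3],
  [1,2,0,5,2,5],
  [1,2,3,4,5,4,5]]
theorem xg1_r {G : Type*} [Group G] {z u v a b r x y : G}
    (h : Q3 z u v a b x)
    (k : KY z u v x y)
    (t : TB z u v a b r) :
    Rels (nthG [z, u, v, a, b, r, x, x⁻¹, y, y⁻¹]) xg1_r_R :=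
  rels_of_eqs ((InvI.cons h.1 (InvI.cons h.2.1 (InvI.cons h.2.2.1 (InvI.cons h.2.2.2.1 (InvI.cons h.2.2.2.2.1 (InvI.cons t.2.2.2.2.2.1 InvI.nil)))))) : InvI [z, u, v, a, b, r, x, y] [(nat_lit 0), (nat_lit 1), (nat_lit 2), (nat_lit 3), (nat_lit 4), (nat_lit 5)])
    (AllEq.append (show AllEq [z, u, v, a, b, r, x, y] [((.mul (.v (nat_lit 0)) (.v (nat_lit 0))), .one), ((.mul (.v (nat_lit 1)) (.v (nat_lit 1))), .one), ((.mul (.v (nat_lit 2)) (.v (nat_lit 2))), .one), ((.mul (.v (nat_lit 3)) (.v (nat_lit 3))), .one), ((.mul (.v (nat_lit 4)) (.v (nat_lit 4))), .one), ((.pw (.v (nat_lit 6)) (nat_lit 3)), .one), ((.mul (.mul (.v (nat_lit 6)) (.v (nat_lit 1))) (.inv (.v (nat_lit 6)))), (.v (nat_lit 3))), ((.mul (.mul (.v (nat_lit 6)) (.v (nat_lit 2))) (.inv (.v (nat_lit 6)))), (.v (nat_lit 4))), ((.pw (.mul (.v (nat_lit 1)) (.v (nat_lit 6))) (nat_lit 3)), .one), ((.pw (.mul (.v (nat_lit 2)) (.v (nat_lit 6))) (nat_lit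 3)), .one), ((.mul (.v (nat_lit 1)) (.v (nat_lit 2))), (.mul (.v (nat_lit 2)) (.v (nat_lit 1)))), ((.mul (.mul (.mul (.v (nat_lit 1)) (.v (nat_lit 4))) (.inv (.v (nat_lit 1)))) (.inv (.v (nat_lit 4)))), (.v (nat_lit 0))), ((.mul (.v (nat_lit 0)) (.v (nat_lit 6))), (.mul (.v (nat_lit 6)) (.v (nat_lit 0)))), ((.mul (.v (nat_lit 0)) (.v (nat_lit 1))), (.mul (.v (nat_lit 1)) (.v (nat_lit 0)))), ((.mul (.v (nat_lit 0)) (.v (nat_lit 2))), (.mul (.v (nat_lit 2)) (.v (nat_lit 0))))] from h)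
    (AllEq.append (show AllEq [z, u, v, a, b, r, x, y] [((.pw (.v (nat_lit 7)) (nat_lit 3)), .one), ((.mul (.v (nat_lit 7)) (.v (nat_lit 6))), (.mul (.v (nat_lit 6)) (.v (nat_lit 7)))), ((.mul (.v (nat_lit 7)) (.v (nat_lit 0))), (.mul (.v (nat_lit 0)) (.v (nat_lit 7)))), ((.mul (.mul (.v (nat_lit 7)) (.v (nat_lit 1))) (.inv (.v (nat_lit 7)))), (.v (nat_lit 2))), ((.mul (.mul (.v (nat_lit 7)) (.v (nat_lit 2))) (.inv (.v (nat_lit 7)))), (.mul (.mul (.v (nat_lit 0)) (.v (nat_lit 1))) (.v (nat_lit 2))))] from k)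
    (show AllEq [z, u, v, a, b, r, x, y] [((.mul (.v (nat_lit 0)) (.v (nat_lit 0))), .one), ((.mul (.v (nat_lit 1)) (.v (nat_lit 1))), .one), ((.mul (.v (nat_lit 2)) (.v (nat_lit 2))), .one), ((.mul (.v (nat_lit 3)) (.v (nat_lit 3))), .one), ((.mul (.v (nat_lit 4)) (.v (nat_lit 4))), .one), ((.mul (.v (nat_lit 5)) (.v (nat_lit 5))), .one), ((.mul (.v (nat_lit 1)) (.v (nat_lit 2))), (.mul (.v (nat_lit 2)) (.v (nat_lit 1)))), ((.mul (.v (nat_lit 0)) (.v (nat_lit 1))), (.mul (.v (nat_lit 1)) (.v (nat_lit 0)))), ((.mul (.v (nat_lit 0)) (.v (nat_lit 2))), (.mul (.v (nat_lit 2)) (.v (nat_lit 0)))), ((.mul (.v (nat_lit 0)) (.v (nat_lit 3))), (.mul (.v (nat_lit 3)) (.v (nat_lit 0)))), ((.mul (.v (nat_lit 0)) (.v (nat_lit 4))), (.mul (.v (nat_lit 4)) (.v (nat_lit 0)))), ((.mul (.v (nat_lit 0)) (.v (nat_lit 5))), (.mul (.v (nat_lit 5)) (.v (nat_lit 0)))), ((.mul (.v (nat_lit 1)) (.v (nat_lit 3))), (.mul (.v (nat_lit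 3)) (.v (nat_lit 1)))), ((.mul (.v (nat_lit 2)) (.v (nat_lit 4))), (.mul (.v (nat_lit 4)) (.v (nat_lit 2)))), ((.mul (.v (nat_lit 3)) (.v (nat_lit 4))), (.mul (.v (nat_lit 4)) (.v (nat_lit 3)))), ((.mul (.mul (.v (nat_lit 4)) (.v (nat_lit 1))) (.v (nat_lit 4))), (.mul (.v (nat_lit 1)) (.v (nat_lit 0)))), ((.mul (.mul (.v (nat_lit 3)) (.v (nat_lit 2))) (.v (nat_lit 3))), (.mul (.v (nat_lit 2)) (.v (nat_lit 0)))), ((.mul (.v (nat_lit 5)) (.v (nat_lit 1))), (.mul (.v (nat_lit 1)) (.v (nat_lit 5)))), ((.mul (.mul (.v (nat_lit 3)) (.v (nat_lit 5))) (.v (nat_lit 3))), (.mul (.v (nat_lit 5)) (.v (nat_lit 1)))), ((.mul (.mul (.v (nat_lit 5)) (.v (nat_lit 2))) (.v (nat_lit 5))), (.mul (.mul (.v (nat_lit 1)) (.v (nat_lit 2))) (.v (nat_lit 0)))), ((.mul (.mul (.v (nat_lit 5)) (.v (nat_lit 4))) (.v (nat_lit 5))), (.mul (.mul (.mul (.v (nat_lit 1)) (.v (nat_lit 2))) (.v (nat_lit 3))) (.v (nat_lit 4))))] from t)))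
    [(.v (nat_lit 0)), (.v (nat_lit 1)), (.v (nat_lit 2)), (.v (nat_lit 3)), (.v (nat_lit 4)), (.v (nat_lit 5)), (.v (nat_lit 6)), (.inv (.v (nat_lit 6))), (.v (nat_lit 7)), (.inv (.v (nat_lit 7)))] (by decide +kernel)
noncomputable def xg1_0_S0 : List ℕ := [nat_lit 0x1300000b000008004016, nat_lit 0x1b000002000010008014, nat_lit 0x23000006000018004016, nat_lit 0x2700001f00000900c014]
noncomputable def xg1_0_S : List (List ℕ) := [xg1_0_S0]
noncomputable def xg1_0_defs : List ℕ := [(nat_lit 0x7005000060090000500900004005000030050000200900001000000000050000000000000)]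
noncomputable def xg1_0_recs : List ℕ := [(nat_lit 0x80000800009000000500008000000300006000000100004)]
noncomputable def xg1_0_T : List (List ℕ × ℕ) := [([5,9,5,9,0,8,5,8,5,0], (nat_lit 0xc00001400001c00002400000d00002700001f00001700000f000007))]
noncomputable def xg1_0_D : H26.Dag := ⟨[0,1,2,3,4,5,7,6,9,8], [[0,0],
  [1,1],
  [2,2],
  [3,3],
  [4,4],
  [5,5],
  [6,7],
  [7,6],
  [8,9],
  [9,8],
  [0,9,0,8],
  [5,0,5,0]], [], xg1_0_defs, xg1_0_recs⟩
theorem xg1_0_c : xg1_0_D.check xg1_0_S xg1_0_T = true := by decide +kernel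
theorem xg1_0 {G : Type*} [Group G] {g : ℕ → G} (hR : Rels g xg1_r_R) {H : Subgroup G}
    (hH : ∀ k ∈ [], g k ∈ H) : evA g [5,9,5,9,0,8,5,8,5,0] ∈ H :=
  mem_dag (K := 10) (J := [0,1,2,3,4,5,6,7,8,9,22,27]) (D := xg1_0_D) (by decide +kernel) xg1_0_c (by decide +kernel) hR hH
noncomputable def xg1_1_S0 : List ℕ := [nat_lit 0x1300000b00000800801c, nat_lit 0x2b000010004016, nat_lit 0x3700001c004016, nat_lit 0x3700000200002c000018, nat_lit 0x3b000020000028004018, nat_lit 0x3f00000900000e00000600003400401a, nat_lit 0x2f000034000015000014, nat_lit 0x2300004000001900002f00001800003c01001e, nat_lit 0x1e000012000012]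
noncomputable def xg1_1_S : List (List ℕ) := [xg1_1_S0]
noncomputable def xg1_1_defs : List ℕ := [(nat_lit 0x6002000050080000400200003001000030080000100100007005000060090000500900004005000030050000200900001001000000050000000000000)]
noncomputable def xg1_1_recs : List ℕ := [(nat_lit 0x90000900008ff0000e00008020000f0000b010000c0000f09000090000e020000a0000d08000060000d08000030000a010000100004)]
noncomputable def xg1_1_T : List (List ℕ × ℕ) := [([5,9,5,9,1,8,5,8,5,1], (nat_lit 0xc00001400001c00002400002200002700001f00001700000f000007))]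
noncomputable def xg1_1_D : H26.Dag := ⟨[0,1,2,3,4,5,7,6,9,8], [[0,0],
  [1,1],
  [2,2],
  [3,3],
  [4,4],
  [5,5],
  [6,7],
  [7,6],
  [8,9],
  [9,8],
  [2,1,2,1],
  [8,8,8],
  [2,9,1,8],
  [0,1,2,9,2,8],
  [1,5,1,5],
  [1,2,0,5,2,5]], [], xg1_1_defs, xg1_1_recs⟩
theorem xg1_1_c : xg1_1_D.check xg1_1_S xg1_1_T = true := by decide +kernel
theorem xg1_1 {G : Type*} [Group G] {g : ℕ → G} (hR : Rels g xg1_r_R) {H : Subgroup G}
    (hH : ∀ k ∈ [], g k ∈ H) : evA g [5,9,5,9,1,8,5,8,5,1] ∈ H :=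
  mem_dag (K := 10) (J := [0,1,2,3,4,5,6,7,8,9,15,20,23,24,33,35]) (D := xg1_1_D) (by decide +kernel) xg1_1_c (by decide +kernel) hR hH
noncomputable def xg1_2_S0 : List ℕ := [nat_lit 0x3700001300000b00000800002c012018, nat_lit 0x2f00002c00000100c014, nat_lit 0x1b00003800000500002f000010000034006016, nat_lit 0xa000033000004, nat_lit 0x4300002300000e00001800003c012018, nat_lit 0x3f00003c00001100c014, nat_lit 0x4400001500003f000020000028002016]
noncomputable def xg1_2_S : List (List ℕ) := [xg1_2_S0]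
noncomputable def xg1_2_defs : List ℕ := [(nat_lit 0x800200005001000050000000400200003002000010010000100200007005000060090000500900004005000030050000200900001002000000050000000000000)]
noncomputable def xg1_2_recs : List ℕ := [(nat_lit 0x9000090000801000100000f020000e00010020000300006ff0000c00006010000d0000b020000a0000d)]
noncomputable def xg1_2_T : List (List ℕ × ℕ) := [([5,9,5,9,2,8,5,8,5,2], (nat_lit 0xc00001400001c00002400001a00002700001f00001700000f000007))]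
noncomputable def xg1_2_D : H26.Dag := ⟨[0,1,2,3,4,5,7,6,9,8], [[0,0],
  [1,1],
  [2,2],
  [3,3],
  [4,4],
  [5,5],
  [6,7],
  [7,6],
  [8,9],
  [9,8],
  [2,1,2,1],
  [0,1,2,9,2,8],
  [1,2,0,5,2,5]], [], xg1_2_defs, xg1_2_recs⟩
theorem xg1_2_c : xg1_2_D.check xg1_2_S xg1_2_T = true := by decide +kernel
theorem xg1_2 {G : Type*} [Group G] {g : ℕ → G} (hR : Rels g xg1_r_R) {H : Subgroup G}
    (hH : ∀ k ∈ [], g k ∈ H) : evA g [5,9,5,9,2,8,5,8,5,2] ∈ H :=
  mem_dag (K := 10) (J := [0,1,2,3,4,5,6,7,8,9,15,24,35]) (D := xg1_2_D) (by decide +kernel) xg1_2_c (by decide +kernel) hR hH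
noncomputable def xg1_3_S0 : List ℕ := [nat_lit 0x2b00000700000c000014008034, nat_lit 0x3f00000f00003000c024, nat_lit 0x43000040006014, nat_lit 0x4f00004c006014, nat_lit 0x5b00001b00004800c026, nat_lit 0x6b000068006014, nat_lit 0x6f00001f00005800a024, nat_lit 0x7b000027000070008016, nat_lit 0x83000002000050008016, nat_lit 0xd00002100008300002b00003001201a, nat_lit 0x8b00003300003c00402e, nat_lit 0x8f00003700003c004030, nat_lit 0x9300003b000044008018, nat_lit 0x9700000600008800c028, nat_lit 0x9b00000900003100009300002900601c, nat_lit 0x9f00004700004c00c020, nat_lit 0xa3000053000058008018, nat_lit 0x1e00001a00004100c028, nat_lit 0xa400004500007b000080002024, nat_lit 0x4a00007f000012, nat_lit 0xa700005b00006800c020, nat_lit 0xa70000120000a000c024, nat_lit 0x3600008700002500003d00005501002a, nat_lit 0x5900009700009c00401e, nat_lit 0xaf00005f00006400402c, nat_lit 0xb300006300006c008016, nat_lit 0xb700005100005e004022,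 nat_lit 0xb70000150000650000b300006100601a, nat_lit 0x6d00006a00003a004020, nat_lit 0x2e0000290000710000af0000ac006032, nat_lit 0x760000ab000004, nat_lit 0x7300002300006000007900002e00003b00001800a036, nat_lit 0x5300007d000073000008, nat_lit 0x7700008100004e000010, nat_lit 0x85000077000010]
noncomputable def xg1_3_S : List (List ℕ) := [xg1_3_S0]
noncomputable def xg1_3_defs : List ℕ := [(nat_lit 0x1000190070001800300017002000170060001600700014006000110020000f0010000f0070000e0040000d0040000c0020000b0070000a0080000900700009009000080040000800700007007000060060000600300006001000060000000600700005004000050070000400600004000000040070000300600003004000030030000300200003006000010010000100300007005000060090000500900004005000030050000200900001003000000050000000000000)]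
noncomputable def xg1_3_recs : List ℕ := [(nat_lit 0x80000800009ff000090001dff0000800014ff000050001c020001700023ff0002a0002300000220002b070002b0002d00000260002d010001a0002c01000180002b010002600029020002900025080002700029000001900029090000900014ff0001f0001408000280001e020001500028000001200027070002200026080002100025020001000024030000e00023020000e00022010000b00012010001300020010001b0001e08000150001b07000190001a080001100016070001200013070000f00010080000b0000f03000040000a)]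
noncomputable def xg1_3_T : List (List ℕ × ℕ) := [([5,9,5,9,3,8,5,8,5,3], (nat_lit 0xc00001400001c00002400008900002700001f00001700000f000007))]
noncomputable def xg1_3_D : H26.Dag := ⟨[0,1,2,3,4,5,7,6,9,8], [[0,0],
  [1,1],
  [2,2],
  [3,3],
  [4,4],
  [5,5],
  [6,7],
  [7,6],
  [8,9],
  [9,8],
  [6,6,6],
  [3,7,1,6],
  [4,7,2,6],
  [6,1,6,1,6,1],
  [6,2,6,2,6,2],
  [2,1,2,1],
  [7,0,6,0],
  [1,0,1,0],
  [7,9,6,8],
  [0,9,0,8],
  [2,9,1,8],
  [0,1,2,9,2,8],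
  [3,1,3,1],
  [4,2,4,2],
  [4,3,4,3],
  [2,0,3,2,3],
  [5,1,3,5,3],
  [1,2,3,4,5,4,5]], [], xg1_3_defs, xg1_3_recs⟩
theorem xg1_3_c : xg1_3_D.check xg1_3_S xg1_3_T = true := by decide +kernel
theorem xg1_3 {G : Type*} [Group G] {g : ℕ → G} (hR : Rels g xg1_r_R) {H : Subgroup G}
    (hH : ∀ k ∈ [], g k ∈ H) : evA g [5,9,5,9,3,8,5,8,5,3] ∈ H :=
  mem_dag (K := 10) (J := [0,1,2,3,4,5,6,7,8,9,10,11,12,13,14,15,17,18,21,22,23,24,28,29,30,32,34,36]) (D := xg1_3_D) (by decide +kernel) xg1_3_c (by decide +kernel) hR hH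
noncomputable def xg1_4_S0 : List ℕ := [nat_lit 0x3700000700002c008032, nat_lit 0x3b00000700003000403c, nat_lit 0x4f00004c006014, nat_lit 0x5300000b00002c008030, nat_lit 0x7700000f00004c00c028, nat_lit 0x7b000078006014, nat_lit 0x7f000013000054008032, nat_lit 0x8300001300005800403c, nat_lit 0x93000090006014, nat_lit 0xa700001b00008800c02a, nat_lit 0xaf00001b00009000c028, nat_lit 0xb300001f0000a000a028, nat_lit 0xb70000230000a4008032, nat_lit 0xc70000270000b4008018, nat_lit 0xcf00000d00005300005800c020, nat_lit 0xd300002b000034004026, nat_lit 0xdb0000020000d000403c, nat_lit 0xe300003b00004000401e, nat_lit 0xe300000600002f00003400003d00a040, nat_lit 0xe700003f000048004036, nat_lit 0xeb00004500004a00803c, nat_lit 0xef0000430000380000e001003a, nat_lit 0x1e0000390000410000db0000e000005500e042, nat_lit 0xf30000f0000059004036, nat_lit 0x8700008400005d00c01e, nat_lit 0xf7000047000050008018, nat_lit 0xfb0000090000650000f700004d00601c,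 nat_lit 0xff00005300005c004026, nat_lit 0xff00001900007f000088000062014040, nat_lit 0x10300005300006000402e, nat_lit 0x10300000e0000d8008038, nat_lit 0xe70000ec0000520000d30000d800007900a042, nat_lit 0x107000057000060004034, nat_lit 0x10700005700001400008c00c03e, nat_lit 0x10b00006d000072004032, nat_lit 0xab00001b00008800006200008901402c, nat_lit 0x10f00007500007d004032, nat_lit 0x10f00008100008600803c, nat_lit 0x113000063000068004024, nat_lit 0x11b000063000074004030, nat_lit 0x11f000067000070004034, nat_lit 0x11f00006700001800009800c03e, nat_lit 0x12300009900011300011c008020, nat_lit 0x12700006b000074004036, nat_lit 0x12b00006f00006400011801003a, nat_lit 0x12f00009d0000a9004024, nat_lit 0x13300007300007c008018, nat_lit 0x13b0000150000b90001330000ad00601c, nat_lit 0x13f00007f000084004024, nat_lit 0x13f00007f00001c0000ac00008e00802c, nat_lit 0x14300007f00009000c022, nat_lit 0x14700008b000094008016, nat_lit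 0x14b0000210000cd00014700009500601a, nat_lit 0x6a0000910000d100c022, nat_lit 0xca00014c0000d5000024, nat_lit 0x13b0000120000fc0000d90000ca00002901402c, nat_lit 0xb00000dd0000be00000c, nat_lit 0xab0000e20000ae000004, nat_lit 0x1370000e500008e000012, nat_lit 0xe9000137000012, nat_lit 0x12f0000ed0000c500c02a, nat_lit 0x260000870000840000c10000f101002c, nat_lit 0xb50000f50000a70000240000bc00c040, nat_lit 0xa30000240000bc0000f90000aa012040]
noncomputable def xg1_4_S1 : List ℕ := [nat_lit 0x11700011c0000fd000036, nat_lit 0x320001010000b100012b0000a10000a6014042, nat_lit 0x9b00009800010500c038, nat_lit 0x14f00009b0000a0008018, nat_lit 0x153000109000150008016, nat_lit 0x1530000b70000c0004022, nat_lit 0x11500011200010e00002d00003500202c, nat_lit 0xcb0000c80001190000bf000028, nat_lit 0xc300011d0000cb000010, nat_lit 0x1210000c3000010]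
noncomputable def xg1_4_S : List (List ℕ) := [xg1_4_S0, xg1_4_S1]
noncomputable def xg1_4_defs : List ℕ := [(nat_lit 0x200014002000120070001100400010002000100050000f0040000f0020000e0020000d0010000d0030000a0020000a0010000a008000090070000900900008007000080020000800000008007000070060000600200006001000060000000600700005004000050030000500700004006000040030000400200004001000040000000400700003006000030040000300300003002000030010000300000003003000020020000200100002000000020070000100600001004000010030000100200001001000010000000100200000001000000000000000400007005000060090000500900004005000030050000200900001004000000050000000000000),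
  (nat_lit 0x70002d0070002600100023007000220060001f0010001f0020001d0080001c0070001c0010001c0020001b0040001a004000190030001900400018002000180010001800500017005000160030001500300014)]
noncomputable def xg1_4_recs : List ℕ := [(nat_lit 0x20004600028050002e00048020004b00029080004f0004b090001c00042ff000420004dff0001c0002aff0004900006ff0002b0004e010003e0005000000520003e07000430005201000240005100000230005002000420004f00000200004f07000490004e020001e0004c00000480004b03000450004a020001c00049010004600048050002500047010001b00047000001c0004600000190004401000220004300000390004308000420002a000003c00042050002200041010001700041050004000039040003500040000001700040050003c0003f00000160003f07000390003e02000130003d010003c0002102000200003c040003b0002003000370003b01000340003a020001100039050003400038010000f00038050003300036000000c00034040001500033020002c0003105000280002d08000270002c08000230002b08000210002907000230002405000150002005000140001f070001d0001e08000120001d040000a00014070001200013050000b0000e050000a0000d),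
  (nat_lit 0x80000800009ff0000900030ff000080003209000310002f000002f00054010005300054020002700053030002d0002604000250002d040002800045)]
noncomputable def xg1_4_T : List (List ℕ × ℕ) := [([5,9,5,9,4,8,5,8,5,4], (nat_lit 0xc00001400001c00002400012500002700001f00001700000f000007))]
noncomputable def xg1_4_D : H26.Dag := ⟨[0,1,2,3,4,5,7,6,9,8], [[0,0],
  [1,1],
  [2,2],
  [3,3],
  [4,4],
  [5,5],
  [6,7],
  [7,6],
  [8,9],
  [9,8],
  [6,6,6],
  [3,7,1,6],
  [4,7,2,6],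
  [6,1,6,1,6,1],
  [6,2,6,2,6,2],
  [2,1,2,1],
  [0,4,1,4,1],
  [7,0,6,0],
  [1,0,1,0],
  [2,0,2,0],
  [7,9,6,8],
  [2,9,1,8],
  [0,1,2,9,2,8],
  [3,0,3,0],
  [4,0,4,0],
  [5,0,5,0],
  [3,1,3,1],
  [4,2,4,2],
  [4,3,4,3],
  [2,0,3,2,3],
  [1,5,1,5],
  [5,1,3,5,3],
  [1,2,0,5,2,5],
  [1,2,3,4,5,4,5]], [], xg1_4_defs, xg1_4_recs⟩
theorem xg1_4_c : xg1_4_D.check xg1_4_S xg1_4_T = true := by decide +kernel
theorem xg1_4 {G : Type*} [Group G] {g : ℕ → G} (hR : Rels g xg1_r_R) {H : Subgroup G}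
    (hH : ∀ k ∈ [], g k ∈ H) : evA g [5,9,5,9,4,8,5,8,5,4] ∈ H :=
  mem_dag (K := 10) (J := [0,1,2,3,4,5,6,7,8,9,10,11,12,13,14,15,16,17,18,19,21,23,24,25,26,27,28,29,30,32,33,34,35,36]) (D := xg1_4_D) (by decide +kernel) xg1_4_c (by decide +kernel) hR hH
theorem xg1 {G : Type*} [Group G] {z u v a b r x y : G}
    (h : Q3 z u v a b x)
    (k : KY z u v x y)
    (t : TB z u v a b r) :
    z * (r * y * r⁻¹ * y⁻¹⁻¹) = r * y * r⁻¹ * y⁻¹⁻¹ * z ∧ u * (r * y * r⁻¹ * y⁻¹⁻¹) = r * y * r⁻¹ * y⁻¹⁻¹ * u ∧ v * (r * y * r⁻¹ * y⁻¹⁻¹) = r * y * r⁻¹ * y⁻¹⁻¹ * v ∧ a * (r * y * r⁻¹ * y⁻¹⁻¹) = r * y * r⁻¹ * y⁻¹⁻¹ * a ∧ b * (r * y * r⁻¹ * y⁻¹⁻¹) = r * y * r⁻¹ * y⁻¹⁻¹ * b :=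
  ⟨mul_inv_eq_one.1 ((evA_eq_tm ((InvI.cons h.1 (InvI.cons h.2.1 (InvI.cons h.2.2.1 (InvI.cons h.2.2.2.1 (InvI.cons h.2.2.2.2.1 (InvI.cons t.2.2.2.2.2.1 InvI.nil)))))) : InvI [z, u, v, a, b, r, x, y] [(nat_lit 0), (nat_lit 1), (nat_lit 2), (nat_lit 3), (nat_lit 4), (nat_lit 5)]) [(.v (nat_lit 0)), (.v (nat_lit 1)), (.v (nat_lit 2)), (.v (nat_lit 3)), (.v (nat_lit 4)), (.v (nat_lit 5)), (.v (nat_lit 6)), (.inv (.v (nat_lit 6))), (.v (nat_lit 7)), (.inv (.v (nat_lit 7)))] [5,9,5,9,0,8,5,8,5,0] (.mul (.mul (.v (nat_lit 0)) (.mul (.mul (.mul (.v (nat_lit 5)) (.v (nat_lit 7))) (.inv (.v (nat_lit 5)))) (.inv (.inv (.v (nat_lit 7)))))) (.inv (.mul (.mul (.mul (.mul (.v (nat_lit 5)) (.v (nat_lit 7))) (.inv (.v (nat_lit 5)))) (.inv (.inv (.v (nat_lit 7))))) (.v (nat_lit 0))))) (by decide +kernel)).symm.trans (Subgroup.mem_bot.1 (xg1_0 (xg1_r h k t) (H := ⊥) (List.forall_mem_nil _)))),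
   mul_inv_eq_one.1 ((evA_eq_tm ((InvI.cons h.1 (InvI.cons h.2.1 (InvI.cons h.2.2.1 (InvI.cons h.2.2.2.1 (InvI.cons h.2.2.2.2.1 (InvI.cons t.2.2.2.2.2.1 InvI.nil)))))) : InvI [z, u, v, a, b, r, x, y] [(nat_lit 0), (nat_lit 1), (nat_lit 2), (nat_lit 3), (nat_lit 4), (nat_lit 5)]) [(.v (nat_lit 0)), (.v (nat_lit 1)), (.v (nat_lit 2)), (.v (nat_lit 3)), (.v (nat_lit 4)), (.v (nat_lit 5)), (.v (nat_lit 6)), (.inv (.v (nat_lit 6))), (.v (nat_lit 7)), (.inv (.v (nat_lit 7)))] [5,9,5,9,1,8,5,8,5,1] (.mul (.mul (.v (nat_lit 1)) (.mul (.mul (.mul (.v (nat_lit 5)) (.v (nat_lit 7))) (.inv (.v (nat_lit 5)))) (.inv (.inv (.v (nat_lit 7)))))) (.inv (.mul (.mul (.mul (.mul (.v (nat_lit 5)) (.v (nat_lit 7))) (.inv (.v (nat_lit 5)))) (.inv (.inv (.v (nat_lit 7))))) (.v (nat_lit 1))))) (by decide +kernel)).symm.trans (Subgroup.mem_bot.1 (xg1_1 (xg1_r h k t) (H := ⊥) (List.forall_mem_nil _)))),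
   mul_inv_eq_one.1 ((evA_eq_tm ((InvI.cons h.1 (InvI.cons h.2.1 (InvI.cons h.2.2.1 (InvI.cons h.2.2.2.1 (InvI.cons h.2.2.2.2.1 (InvI.cons t.2.2.2.2.2.1 InvI.nil)))))) : InvI [z, u, v, a, b, r, x, y] [(nat_lit 0), (nat_lit 1), (nat_lit 2), (nat_lit 3), (nat_lit 4), (nat_lit 5)]) [(.v (nat_lit 0)), (.v (nat_lit 1)), (.v (nat_lit 2)), (.v (nat_lit 3)), (.v (nat_lit 4)), (.v (nat_lit 5)), (.v (nat_lit 6)), (.inv (.v (nat_lit 6))), (.v (nat_lit 7)), (.inv (.v (nat_lit 7)))] [5,9,5,9,2,8,5,8,5,2] (.mul (.mul (.v (nat_lit 2)) (.mul (.mul (.mul (.v (nat_lit 5)) (.v (nat_lit 7))) (.inv (.v (nat_lit 5)))) (.inv (.inv (.v (nat_lit 7)))))) (.inv (.mul (.mul (.mul (.mul (.v (nat_lit 5)) (.v (nat_lit 7))) (.inv (.v (nat_lit 5)))) (.inv (.inv (.v (nat_lit 7))))) (.v (nat_lit 2))))) (by decide +kernel)).symm.trans (Subgroup.mem_bot.1 (xg1_2 (xg1_r h k t) (H := ⊥) (List.forall_mem_nil _)))),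
   mul_inv_eq_one.1 ((evA_eq_tm ((InvI.cons h.1 (InvI.cons h.2.1 (InvI.cons h.2.2.1 (InvI.cons h.2.2.2.1 (InvI.cons h.2.2.2.2.1 (InvI.cons t.2.2.2.2.2.1 InvI.nil)))))) : InvI [z, u, v, a, b, r, x, y] [(nat_lit 0), (nat_lit 1), (nat_lit 2), (nat_lit 3), (nat_lit 4), (nat_lit 5)]) [(.v (nat_lit 0)), (.v (nat_lit 1)), (.v (nat_lit 2)), (.v (nat_lit 3)), (.v (nat_lit 4)), (.v (nat_lit 5)), (.v (nat_lit 6)), (.inv (.v (nat_lit 6))), (.v (nat_lit 7)), (.inv (.v (nat_lit 7)))] [5,9,5,9,3,8,5,8,5,3] (.mul (.mul (.v (nat_lit 3)) (.mul (.mul (.mul (.v (nat_lit 5)) (.v (nat_lit 7))) (.inv (.v (nat_lit 5)))) (.inv (.inv (.v (nat_lit 7)))))) (.inv (.mul (.mul (.mul (.mul (.v (nat_lit 5)) (.v (nat_lit 7))) (.inv (.v (nat_lit 5)))) (.inv (.inv (.v (nat_lit 7))))) (.v (nat_lit 3))))) (by decide +kernel)).symm.trans (Subgroup.mem_bot.1 (xg1_3 (xg1_r h k t) (H := ⊥) (List.forall_mem_nil _)))),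
   mul_inv_eq_one.1 ((evA_eq_tm ((InvI.cons h.1 (InvI.cons h.2.1 (InvI.cons h.2.2.1 (InvI.cons h.2.2.2.1 (InvI.cons h.2.2.2.2.1 (InvI.cons t.2.2.2.2.2.1 InvI.nil)))))) : InvI [z, u, v, a, b, r, x, y] [(nat_lit 0), (nat_lit 1), (nat_lit 2), (nat_lit 3), (nat_lit 4), (nat_lit 5)]) [(.v (nat_lit 0)), (.v (nat_lit 1)), (.v (nat_lit 2)), (.v (nat_lit 3)), (.v (nat_lit 4)), (.v (nat_lit 5)), (.v (nat_lit 6)), (.inv (.v (nat_lit 6))), (.v (nat_lit 7)), (.inv (.v (nat_lit 7)))] [5,9,5,9,4,8,5,8,5,4] (.mul (.mul (.v (nat_lit 4)) (.mul (.mul (.mul (.v (nat_lit 5)) (.v (nat_lit 7))) (.inv (.v (nat_lit 5)))) (.inv (.inv (.v (nat_lit 7)))))) (.inv (.mul (.mul (.mul (.mul (.v (nat_lit 5)) (.v (nat_lit 7))) (.inv (.v (nat_lit 5)))) (.inv (.inv (.v (nat_lit 7))))) (.v (nat_lit 4))))) (by decide +kernel)).symm.trans (Subgroup.mem_bot.1 (xg1_4 (xg1_r h k t) (H := ⊥) (List.forall_mem_nil _))))⟩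
noncomputable def xs0_r_R : List (List ℕ) := [[0,0],
  [1,1],
  [2,2],
  [3,3],
  [4,4],
  [5,5],
  [6,7],
  [7,6],
  [8,9],
  [9,8],
  [6,6,6],
  [3,7,1,6],
  [4,7,2,6],
  [6,1,6,1,6,1],
  [6,2,6,2,6,2],
  [2,1,2,1],
  [0,4,1,4,1],
  [7,0,6,0],
  [1,0,1,0],
  [2,0,2,0],
  [8,8,8],
  [7,9,6,8],
  [0,9,0,8],
  [2,9,1,8],
  [0,1,2,9,2,8],
  [3,0,3,0],
  [4,0,4,0],
  [3,1,3,1],
  [4,2,4,2],
  [4,3,4,3],
  [1,0,4,1,4],
  [2,0,3,2,3],
  [5,0,5,0],
  [1,5,1,5],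
  [3,5,3,5],
  [0,1,2,5,2,5],
  [0,3,4,5,4,5]]
theorem xs0_r {G : Type*} [Group G] {z u v a b s x y : G}
    (h : Q3 z u v a b x)
    (k : KY z u v x y)
    (q : QT z u v a b)
    (t : TS z u v a b s) :
    Rels (nthG [z, u, v, a, b, s, x, x⁻¹, y, y⁻¹]) xs0_r_R :=
  rels_of_eqs ((InvI.cons h.1 (InvI.cons h.2.1 (InvI.cons h.2.2.1 (InvI.cons h.2.2.2.1 (InvI.cons h.2.2.2.2.1 (InvI.cons t.1 InvI.nil)))))) : InvI [z, u, v, a, b, s, x, y] [(nat_lit 0), (nat_lit 1), (nat_lit 2), (nat_lit 3), (nat_lit 4), (nat_lit 5)])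
    (AllEq.append (show AllEq [z, u, v, a, b, s, x, y] [((.mul (.v (nat_lit 0)) (.v (nat_lit 0))), .one), ((.mul (.v (nat_lit 1)) (.v (nat_lit 1))), .one), ((.mul (.v (nat_lit 2)) (.v (nat_lit 2))), .one), ((.mul (.v (nat_lit 3)) (.v (nat_lit 3))), .one), ((.mul (.v (nat_lit 4)) (.v (nat_lit 4))), .one), ((.pw (.v (nat_lit 6)) (nat_lit 3)), .one), ((.mul (.mul (.v (nat_lit 6)) (.v (nat_lit 1))) (.inv (.v (nat_lit 6)))), (.v (nat_lit 3))), ((.mul (.mul (.v (nat_lit 6)) (.v (nat_lit 2))) (.inv (.v (nat_lit 6)))), (.v (nat_lit 4))), ((.pw (.mul (.v (nat_lit 1)) (.v (nat_lit 6))) (nat_lit 3)), .one), ((.pw (.mul (.v (nat_lit 2)) (.v (nat_lit 6))) (nat_lit 3)), .one), ((.mul (.v (nat_lit 1)) (.v (nat_lit 2))), (.mul (.v (nat_lit 2)) (.v (nat_lit 1)))), ((.mul (.mul (.mul (.v (nat_lit 1)) (.v (nat_lit 4))) (.inv (.v (nat_lit 1)))) (.inv (.v (nat_lit 4)))), (.v (nat_lit 0))), ((.mul (.v (nat_lit 0)) (.v (nat_lit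 6))), (.mul (.v (nat_lit 6)) (.v (nat_lit 0)))), ((.mul (.v (nat_lit 0)) (.v (nat_lit 1))), (.mul (.v (nat_lit 1)) (.v (nat_lit 0)))), ((.mul (.v (nat_lit 0)) (.v (nat_lit 2))), (.mul (.v (nat_lit 2)) (.v (nat_lit 0))))] from h)
    (AllEq.append (show AllEq [z, u, v, a, b, s, x, y] [((.pw (.v (nat_lit 7)) (nat_lit 3)), .one), ((.mul (.v (nat_lit 7)) (.v (nat_lit 6))), (.mul (.v (nat_lit 6)) (.v (nat_lit 7)))), ((.mul (.v (nat_lit 7)) (.v (nat_lit 0))), (.mul (.v (nat_lit 0)) (.v (nat_lit 7)))), ((.mul (.mul (.v (nat_lit 7)) (.v (nat_lit 1))) (.inv (.v (nat_lit 7)))), (.v (nat_lit 2))), ((.mul (.mul (.v (nat_lit 7)) (.v (nat_lit 2))) (.inv (.v (nat_lit 7)))), (.mul (.mul (.v (nat_lit 0)) (.v (nat_lit 1))) (.v (nat_lit 2))))] from k)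
    (AllEq.append (show AllEq [z, u, v, a, b, s, x, y] [((.mul (.v (nat_lit 0)) (.v (nat_lit 0))), .one), ((.mul (.v (nat_lit 1)) (.v (nat_lit 1))), .one), ((.mul (.v (nat_lit 2)) (.v (nat_lit 2))), .one), ((.mul (.v (nat_lit 3)) (.v (nat_lit 3))), .one), ((.mul (.v (nat_lit 4)) (.v (nat_lit 4))), .one), ((.mul (.v (nat_lit 1)) (.v (nat_lit 2))), (.mul (.v (nat_lit 2)) (.v (nat_lit 1)))), ((.mul (.v (nat_lit 0)) (.v (nat_lit 1))), (.mul (.v (nat_lit 1)) (.v (nat_lit 0)))), ((.mul (.v (nat_lit 0)) (.v (nat_lit 2))), (.mul (.v (nat_lit 2)) (.v (nat_lit 0)))), ((.mul (.v (nat_lit 0)) (.v (nat_lit 3))), (.mul (.v (nat_lit 3)) (.v (nat_lit 0)))), ((.mul (.v (nat_lit 0)) (.v (nat_lit 4))), (.mul (.v (nat_lit 4)) (.v (nat_lit 0)))), ((.mul (.v (nat_lit 1)) (.v (nat_lit 3))), (.mul (.v (nat_lit 3)) (.v (nat_lit 1)))), ((.mul (.v (nat_lit 2)) (.v (nat_lit 4))), (.mul (.v (nat_lit 4)) (.v (nat_lit 2)))), ((.mul (.v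 (nat_lit 3)) (.v (nat_lit 4))), (.mul (.v (nat_lit 4)) (.v (nat_lit 3)))), ((.mul (.mul (.v (nat_lit 4)) (.v (nat_lit 1))) (.v (nat_lit 4))), (.mul (.v (nat_lit 1)) (.v (nat_lit 0)))), ((.mul (.mul (.v (nat_lit 3)) (.v (nat_lit 2))) (.v (nat_lit 3))), (.mul (.v (nat_lit 2)) (.v (nat_lit 0))))] from q)
    (show AllEq [z, u, v, a, b, s, x, y] [((.mul (.v (nat_lit 5)) (.v (nat_lit 5))), .one), ((.mul (.v (nat_lit 0)) (.v (nat_lit 5))), (.mul (.v (nat_lit 5)) (.v (nat_lit 0)))), ((.mul (.v (nat_lit 5)) (.v (nat_lit 1))), (.mul (.v (nat_lit 1)) (.v (nat_lit 5)))), ((.mul (.v (nat_lit 5)) (.v (nat_lit 3))), (.mul (.v (nat_lit 3)) (.v (nat_lit 5)))), ((.mul (.mul (.v (nat_lit 5)) (.v (nat_lit 2))) (.v (nat_lit 5))), (.mul (.mul (.v (nat_lit 0)) (.v (nat_lit 1))) (.v (nat_lit 2)))), ((.mul (.mul (.v (nat_lit 5)) (.v (nat_lit 4))) (.v (nat_lit 5))), (.mul (.mul (.v (nat_lit 0)) (.v (nat_lit 3))) (.v (nat_lit 4))))]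 from t))))
    [(.v (nat_lit 0)), (.v (nat_lit 1)), (.v (nat_lit 2)), (.v (nat_lit 3)), (.v (nat_lit 4)), (.v (nat_lit 5)), (.v (nat_lit 6)), (.inv (.v (nat_lit 6))), (.v (nat_lit 7)), (.inv (.v (nat_lit 7)))] (by decide +kernel)
noncomputable def xs0_0_S0 : List ℕ := [nat_lit 0x1300000b000008004016, nat_lit 0x1b000002000010004014, nat_lit 0x23000006000018004016, nat_lit 0x2700001f000009000014]
noncomputable def xs0_0_S : List (List ℕ) := [xs0_0_S0]
noncomputable def xs0_0_defs : List ℕ := [(nat_lit 0x7005000060060000500700004005000030050000200700001000000000050000000000000)]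
noncomputable def xs0_0_recs : List ℕ := [(nat_lit 0x70000800009000000500008000000300006000000100004)]
noncomputable def xs0_0_T : List (List ℕ × ℕ) := [([5,7,5,6,0,7,5,6,5,0], (nat_lit 0xc00001400001c00002400000d00002700001f00001700000f000007))]
noncomputable def xs0_0_D : H26.Dag := ⟨[0,1,2,3,4,5,7,6,9,8], [[0,0],
  [1,1],
  [2,2],
  [3,3],
  [4,4],
  [5,5],
  [6,7],
  [7,6],
  [8,9],
  [9,8],
  [7,0,6,0],
  [5,0,5,0]], [], xs0_0_defs, xs0_0_recs⟩
theorem xs0_0_c : xs0_0_D.check xs0_0_S xs0_0_T = true := by decide +kernel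
theorem xs0_0 {G : Type*} [Group G] {g : ℕ → G} (hR : Rels g xs0_r_R) {H : Subgroup G}
    (hH : ∀ k ∈ [], g k ∈ H) : evA g [5,7,5,6,0,7,5,6,5,0] ∈ H :=
  mem_dag (K := 10) (J := [0,1,2,3,4,5,6,7,8,9,17,32]) (D := xs0_0_D) (by decide +kernel) xs0_0_c (by decide +kernel) hR hH
noncomputable def xs0_1_S0 : List ℕ := [nat_lit 0x1300000700001000801a, nat_lit 0x1700000b00001000801c, nat_lit 0x23000020006014, nat_lit 0x2b000028006014, nat_lit 0x2b00000600001c008016, nat_lit 0x1f00000200001c00001100000e014018, nat_lit 0xe000015000009000016, nat_lit 0x3700001200003000801a, nat_lit 0x3700001a00003400801c, nat_lit 0x43000040006014, nat_lit 0x47000022000044008016, nat_lit 0x2500002900004700001e00003c012018]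
noncomputable def xs0_1_S : List (List ℕ) := [xs0_1_S0]
noncomputable def xs0_1_defs : List ℕ := [(nat_lit 0x70000d0070000c0060000c0060000b0050000a00500008005000060070000500600005007000040060000400700003005000020050000100500000003000000010000000000000)]
noncomputable def xs0_1_recs : List ℕ := [(nat_lit 0x10000e0000f010001000011070000f00010030000c0000d010000b0000d03000080000a01000090000701000060000a07000090000a070000700008030000300005010000300004)]
noncomputable def xs0_1_T : List (List ℕ × ℕ) := [([5,7,5,6,1,7,5,6,5,1], (nat_lit 0x800001400002400003400004000002e00003b00002f00001b00000f))]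
noncomputable def xs0_1_D : H26.Dag := ⟨[0,1,2,3,4,5,7,6,9,8], [[0,0],
  [1,1],
  [2,2],
  [3,3],
  [4,4],
  [5,5],
  [6,7],
  [7,6],
  [8,9],
  [9,8],
  [6,6,6],
  [3,7,1,6],
  [6,1,6,1,6,1],
  [1,5,1,5],
  [3,5,3,5]], [], xs0_1_defs, xs0_1_recs⟩
theorem xs0_1_c : xs0_1_D.check xs0_1_S xs0_1_T = true := by decide +kernel
theorem xs0_1 {G : Type*} [Group G] {g : ℕ → G} (hR : Rels g xs0_r_R) {H : Subgroup G}
    (hH : ∀ k ∈ [], g k ∈ H) : evA g [5,7,5,6,1,7,5,6,5,1] ∈ H :=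
  mem_dag (K := 10) (J := [0,1,2,3,4,5,6,7,8,9,10,11,13,33,34]) (D := xs0_1_D) (by decide +kernel) xs0_1_c (by decide +kernel) hR hH
noncomputable def xs0_2_S0 : List ℕ := [nat_lit 0x1f00000700000c004024, nat_lit 0x23000007000010004026, nat_lit 0x27000007000014004028, nat_lit 0x2b00000700001800402a, nat_lit 0x2f00000700001c004030, nat_lit 0x3300000b00001c008032, nat_lit 0x3b00001300001c008034, nat_lit 0x4f00001f00002400401e, nat_lit 0x4f00001f00000700001c00004400c036, nat_lit 0x53000002000034004030, nat_lit 0x5300001f000030008032, nat_lit 0x57000006000038004030, nat_lit 0x5700001d000022008032, nat_lit 0x5b00002700002c00402c, nat_lit 0x5f00000a00003c004030, nat_lit 0x5f000027000030008034, nat_lit 0x5f00005c00003600000e000040010038, nat_lit 0x63000012000044004026, nat_lit 0x6700001200004800402a, nat_lit 0x6b00001200004c004022, nat_lit 0x6f00002500002a000068008020, nat_lit 0x77000074006014, nat_lit 0x83000080006014,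 nat_lit 0x8300001a00004c008016, nat_lit 0x7300001600004c00005d00005a01401a, nat_lit 0x5a000061000055000016, nat_lit 0x93000090006014, nat_lit 0x9300004700004c008018, nat_lit 0x8b00004300004c00006d00006a01401c, nat_lit 0x9b000026000078004022, nat_lit 0x9f00003200008c000016, nat_lit 0xa30000a0006014, nat_lit 0xa300002e00007c004022, nat_lit 0xa700003e00006c008016, nat_lit 0xa7000042000088008018, nat_lit 0xa700003a000084004022, nat_lit 0x7600006500008d000028, nat_lit 0xab00004600008c00c022, nat_lit 0xaf00004a00009000c022, nat_lit 0x96000072000099000026, nat_lit 0xb30000520000b0000016, nat_lit 0x7a00009500009e0000a100c02e, nat_lit 0xb70000b4006014, nat_lit 0xb700006f000078008018, nat_lit 0x890000910000760000ad01002e, nat_lit 0x7e0000a60000a9000018, nat_lit 0xbf0000b20000b500402c, nat_lit 0xc300008900008600004e000098010036, nat_lit 0xc30000c00000ba0000820000bc010038, nat_lit 0xcf0000cc006014, nat_lit 0xd30000c20000d0008018,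 nat_lit 0xc50000c90000d30000be0000c801201c]
noncomputable def xs0_2_S : List (List ℕ) := [xs0_2_S0]
noncomputable def xs0_2_defs : List ℕ := [(nat_lit 0x7000300070002e0060002e0060002500500021004000210050001e0070001b0060001b006000190060001800700017007000150060001500700014005000120070001100600011006000100070000f0070000e0060000e0070000d0070000c0060000c0040000c0070000b0040000b0020000b005000090040000900500008005000070020000700700006004000060020000600500005005000040050000300500002005000010040000100300001002000010010000100500000004000000030000000200000001000000000000000000000)]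
noncomputable def xs0_2_recs : List ℕ := [(nat_lit 0x20003100032020003300034070003200033040002e0003002000250003003000280002f040002d00028030002d00021020001d0002d070002c0002d020002c00027030002b0002c020002b0002a00000230002b00000220002a030002900026000002000029020002100029010001a00029000001e00028070002700028030002200027000001d00026020002300022020001200024070002300024030001d00020010001f0001c010001200020070001f00020070001c0001d01000190001b00000120001a000001100019000001000018040000f00017030000b00017000000e00017030000a00016010001000015000000d00015010000b00014000000c0001405000100001301000080001303000060000e01000060000c00000060000b00000050000a000000400009000000300008000000200007)]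
noncomputable def xs0_2_T : List (List ℕ × ℕ) := [([5,7,5,6,2,7,5,6,5,2], (nat_lit 0x1000003800007c0000bc0000cc0000ce0000c700009700004b00001b))]
noncomputable def xs0_2_D : H26.Dag := ⟨[0,1,2,3,4,5,7,6,9,8], [[0,0],
  [1,1],
  [2,2],
  [3,3],
  [4,4],
  [5,5],
  [6,7],
  [7,6],
  [8,9],
  [9,8],
  [6,6,6],
  [3,7,1,6],
  [4,7,2,6],
  [6,1,6,1,6,1],
  [6,2,6,2,6,2],
  [2,1,2,1],
  [0,4,1,4,1],
  [7,0,6,0],
  [1,0,1,0],
  [2,0,2,0],
  [3,0,3,0],
  [4,0,4,0],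
  [4,3,4,3],
  [2,0,3,2,3],
  [5,0,5,0],
  [1,5,1,5],
  [3,5,3,5],
  [0,1,2,5,2,5],
  [0,3,4,5,4,5]], [], xs0_2_defs, xs0_2_recs⟩
theorem xs0_2_c : xs0_2_D.check xs0_2_S xs0_2_T = true := by decide +kernel
theorem xs0_2 {G : Type*} [Group G] {g : ℕ → G} (hR : Rels g xs0_r_R) {H : Subgroup G}
    (hH : ∀ k ∈ [], g k ∈ H) : evA g [5,7,5,6,2,7,5,6,5,2] ∈ H :=
  mem_dag (K := 10) (J := [0,1,2,3,4,5,6,7,8,9,10,11,12,13,14,15,16,17,18,19,25,26,29,31,32,33,34,35,36]) (D := xs0_2_D) (by decide +kernel) xs0_2_c (by decide +kernel) hR hH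
noncomputable def xs0_3_S0 : List ℕ := [nat_lit 0x1300000b000008008018, nat_lit 0x1b000002000010008014, nat_lit 0x23000006000018008016, nat_lit 0x2700001f000009004014]
noncomputable def xs0_3_S : List (List ℕ) := [xs0_3_S0]
noncomputable def xs0_3_defs : List ℕ := [(nat_lit 0x300007005000060060000500700004005000030050000200700001003000000050000000000000)]
noncomputable def xs0_3_recs : List ℕ := [(nat_lit 0x70000800009010000500008010000300006030000100004)]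
noncomputable def xs0_3_T : List (List ℕ × ℕ) := [([5,7,5,6,3,7,5,6,5,3], (nat_lit 0xc00001400001c00002400000d00002700001f00001700000f000007))]
noncomputable def xs0_3_D : H26.Dag := ⟨[0,1,2,3,4,5,7,6,9,8], [[0,0],
  [1,1],
  [2,2],
  [3,3],
  [4,4],
  [5,5],
  [6,7],
  [7,6],
  [8,9],
  [9,8],
  [3,7,1,6],
  [1,5,1,5],
  [3,5,3,5]], [], xs0_3_defs, xs0_3_recs⟩
theorem xs0_3_c : xs0_3_D.check xs0_3_S xs0_3_T = true := by decide +kernel
theorem xs0_3 {G : Type*} [Group G] {g : ℕ → G} (hR : Rels g xs0_r_R) {H : Subgroup G}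
    (hH : ∀ k ∈ [], g k ∈ H) : evA g [5,7,5,6,3,7,5,6,5,3] ∈ H :=
  mem_dag (K := 10) (J := [0,1,2,3,4,5,6,7,8,9,11,33,34]) (D := xs0_3_D) (by decide +kernel) xs0_3_c (by decide +kernel) hR hH
noncomputable def xs0_4_S0 : List ℕ := [nat_lit 0x2f00000f00002c00c016, nat_lit 0x3300001300000b00000800002c00401c, nat_lit 0x3700002000002800c016, nat_lit 0x3b00001b000034008018, nat_lit 0x200000500000d008014, nat_lit 0x2300003c00001100002f00001800003800601a, nat_lit 0x1600000a00000c]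
noncomputable def xs0_4_S : List (List ℕ) := [xs0_4_S0]
noncomputable def xs0_4_defs : List ℕ := [(nat_lit 0x60020000500000004002000030040000100400007005000060060000500700004005000030050000200700001004000000050000000000000)]
noncomputable def xs0_4_recs : List ℕ := [(nat_lit 0x60000900008ff0000d00008010000e0000b060000c0000e06000090000d030000a0000c060000a0000b)]
noncomputable def xs0_4_T : List (List ℕ × ℕ) := [([5,7,5,6,4,7,5,6,5,4], (nat_lit 0xc00001400001c00002400001a00002700001f00001700000f000007))]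
noncomputable def xs0_4_D : H26.Dag := ⟨[0,1,2,3,4,5,7,6,9,8], [[0,0],
  [1,1],
  [2,2],
  [3,3],
  [4,4],
  [5,5],
  [6,7],
  [7,6],
  [8,9],
  [9,8],
  [3,7,1,6],
  [4,7,2,6],
  [7,0,6,0],
  [0,1,2,5,2,5],
  [0,3,4,5,4,5]], [], xs0_4_defs, xs0_4_recs⟩
theorem xs0_4_c : xs0_4_D.check xs0_4_S xs0_4_T = true := by decide +kernel
theorem xs0_4 {G : Type*} [Group G] {g : ℕ → G} (hR : Rels g xs0_r_R) {H : Subgroup G}
    (hH : ∀ k ∈ [], g k ∈ H) : evA g [5,7,5,6,4,7,5,6,5,4] ∈ H :=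
  mem_dag (K := 10) (J := [0,1,2,3,4,5,6,7,8,9,11,12,17,35,36]) (D := xs0_4_D) (by decide +kernel) xs0_4_c (by decide +kernel) hR hH
theorem xs0 {G : Type*} [Group G] {z u v a b s x y : G}
    (h : Q3 z u v a b x)
    (k : KY z u v x y)
    (q : QT z u v a b)
    (t : TS z u v a b s) :
    z * (s * x * s⁻¹ * x⁻¹) = s * x * s⁻¹ * x⁻¹ * z ∧ u * (s * x * s⁻¹ * x⁻¹) = s * x * s⁻¹ * x⁻¹ * u ∧ v * (s * x * s⁻¹ * x⁻¹) = s * x * s⁻¹ * x⁻¹ * v ∧ a * (s * x * s⁻¹ * x⁻¹) = s * x * s⁻¹ * x⁻¹ * a ∧ b * (s * x * s⁻¹ * x⁻¹) = s * x * s⁻¹ * x⁻¹ * b :=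
  ⟨mul_inv_eq_one.1 ((evA_eq_tm ((InvI.cons h.1 (InvI.cons h.2.1 (InvI.cons h.2.2.1 (InvI.cons h.2.2.2.1 (InvI.cons h.2.2.2.2.1 (InvI.cons t.1 InvI.nil)))))) : InvI [z, u, v, a, b, s, x, y] [(nat_lit 0), (nat_lit 1), (nat_lit 2), (nat_lit 3), (nat_lit 4), (nat_lit 5)]) [(.v (nat_lit 0)), (.v (nat_lit 1)), (.v (nat_lit 2)), (.v (nat_lit 3)), (.v (nat_lit 4)), (.v (nat_lit 5)), (.v (nat_lit 6)), (.inv (.v (nat_lit 6))), (.v (nat_lit 7)), (.inv (.v (nat_lit 7)))] [5,7,5,6,0,7,5,6,5,0] (.mul (.mul (.v (nat_lit 0)) (.mul (.mul (.mul (.v (nat_lit 5)) (.v (nat_lit 6))) (.inv (.v (nat_lit 5)))) (.inv (.v (nat_lit 6))))) (.inv (.mul (.mul (.mul (.mul (.v (nat_lit 5)) (.v (nat_lit 6))) (.inv (.v (nat_lit 5)))) (.inv (.v (nat_lit 6)))) (.v (nat_lit 0))))) (by decide +kernel)).symm.trans (Subgroup.mem_bot.1 (xs0_0 (xs0_r h k q t) (H := ⊥) (List.forall_mem_nil _)))),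
   mul_inv_eq_one.1 ((evA_eq_tm ((InvI.cons h.1 (InvI.cons h.2.1 (InvI.cons h.2.2.1 (InvI.cons h.2.2.2.1 (InvI.cons h.2.2.2.2.1 (InvI.cons t.1 InvI.nil)))))) : InvI [z, u, v, a, b, s, x, y] [(nat_lit 0), (nat_lit 1), (nat_lit 2), (nat_lit 3), (nat_lit 4), (nat_lit 5)]) [(.v (nat_lit 0)), (.v (nat_lit 1)), (.v (nat_lit 2)), (.v (nat_lit 3)), (.v (nat_lit 4)), (.v (nat_lit 5)), (.v (nat_lit 6)), (.inv (.v (nat_lit 6))), (.v (nat_lit 7)), (.inv (.v (nat_lit 7)))] [5,7,5,6,1,7,5,6,5,1] (.mul (.mul (.v (nat_lit 1)) (.mul (.mul (.mul (.v (nat_lit 5)) (.v (nat_lit 6))) (.inv (.v (nat_lit 5)))) (.inv (.v (nat_lit 6))))) (.inv (.mul (.mul (.mul (.mul (.v (nat_lit 5)) (.v (nat_lit 6))) (.inv (.v (nat_lit 5)))) (.inv (.v (nat_lit 6)))) (.v (nat_lit 1))))) (by decide +kernel)).symm.trans (Subgroup.mem_bot.1 (xs0_1 (xs0_r h k q t) (H := ⊥) (List.forall_mem_nil _)))),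
   mul_inv_eq_one.1 ((evA_eq_tm ((InvI.cons h.1 (InvI.cons h.2.1 (InvI.cons h.2.2.1 (InvI.cons h.2.2.2.1 (InvI.cons h.2.2.2.2.1 (InvI.cons t.1 InvI.nil)))))) : InvI [z, u, v, a, b, s, x, y] [(nat_lit 0), (nat_lit 1), (nat_lit 2), (nat_lit 3), (nat_lit 4), (nat_lit 5)]) [(.v (nat_lit 0)), (.v (nat_lit 1)), (.v (nat_lit 2)), (.v (nat_lit 3)), (.v (nat_lit 4)), (.v (nat_lit 5)), (.v (nat_lit 6)), (.inv (.v (nat_lit 6))), (.v (nat_lit 7)), (.inv (.v (nat_lit 7)))] [5,7,5,6,2,7,5,6,5,2] (.mul (.mul (.v (nat_lit 2)) (.mul (.mul (.mul (.v (nat_lit 5)) (.v (nat_lit 6))) (.inv (.v (nat_lit 5)))) (.inv (.v (nat_lit 6))))) (.inv (.mul (.mul (.mul (.mul (.v (nat_lit 5)) (.v (nat_lit 6))) (.inv (.v (nat_lit 5)))) (.inv (.v (nat_lit 6)))) (.v (nat_lit 2))))) (by decide +kernel)).symm.trans (Subgroup.mem_bot.1 (xs0_2 (xs0_r h k q t) (H := ⊥) (List.forall_mem_nil _)))),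
   mul_inv_eq_one.1 ((evA_eq_tm ((InvI.cons h.1 (InvI.cons h.2.1 (InvI.cons h.2.2.1 (InvI.cons h.2.2.2.1 (InvI.cons h.2.2.2.2.1 (InvI.cons t.1 InvI.nil)))))) : InvI [z, u, v, a, b, s, x, y] [(nat_lit 0), (nat_lit 1), (nat_lit 2), (nat_lit 3), (nat_lit 4), (nat_lit 5)]) [(.v (nat_lit 0)), (.v (nat_lit 1)), (.v (nat_lit 2)), (.v (nat_lit 3)), (.v (nat_lit 4)), (.v (nat_lit 5)), (.v (nat_lit 6)), (.inv (.v (nat_lit 6))), (.v (nat_lit 7)), (.inv (.v (nat_lit 7)))] [5,7,5,6,3,7,5,6,5,3] (.mul (.mul (.v (nat_lit 3)) (.mul (.mul (.mul (.v (nat_lit 5)) (.v (nat_lit 6))) (.inv (.v (nat_lit 5)))) (.inv (.v (nat_lit 6))))) (.inv (.mul (.mul (.mul (.mul (.v (nat_lit 5)) (.v (nat_lit 6))) (.inv (.v (nat_lit 5)))) (.inv (.v (nat_lit 6)))) (.v (nat_lit 3))))) (by decide +kernel)).symm.trans (Subgroup.mem_bot.1 (xs0_3 (xs0_r h k q t) (H := ⊥) (List.forall_mem_nil _)))),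
   mul_inv_eq_one.1 ((evA_eq_tm ((InvI.cons h.1 (InvI.cons h.2.1 (InvI.cons h.2.2.1 (InvI.cons h.2.2.2.1 (InvI.cons h.2.2.2.2.1 (InvI.cons t.1 InvI.nil)))))) : InvI [z, u, v, a, b, s, x, y] [(nat_lit 0), (nat_lit 1), (nat_lit 2), (nat_lit 3), (nat_lit 4), (nat_lit 5)]) [(.v (nat_lit 0)), (.v (nat_lit 1)), (.v (nat_lit 2)), (.v (nat_lit 3)), (.v (nat_lit 4)), (.v (nat_lit 5)), (.v (nat_lit 6)), (.inv (.v (nat_lit 6))), (.v (nat_lit 7)), (.inv (.v (nat_lit 7)))] [5,7,5,6,4,7,5,6,5,4] (.mul (.mul (.v (nat_lit 4)) (.mul (.mul (.mul (.v (nat_lit 5)) (.v (nat_lit 6))) (.inv (.v (nat_lit 5)))) (.inv (.v (nat_lit 6))))) (.inv (.mul (.mul (.mul (.mul (.v (nat_lit 5)) (.v (nat_lit 6))) (.inv (.v (nat_lit 5)))) (.inv (.v (nat_lit 6)))) (.v (nat_lit 4))))) (by decide +kernel)).symm.trans (Subgroup.mem_bot.1 (xs0_4 (xs0_r h k q t) (H := ⊥) (List.forall_mem_nil _))))⟩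
noncomputable def xs1_r_R : List (List ℕ) := [[0,0],
  [1,1],
  [2,2],
  [3,3],
  [4,4],
  [5,5],
  [6,7],
  [7,6],
  [8,9],
  [9,8],
  [6,6,6],
  [3,7,1,6],
  [4,7,2,6],
  [6,1,6,1,6,1],
  [6,2,6,2,6,2],
  [2,1,2,1],
  [0,4,1,4,1],
  [7,0,6,0],
  [1,0,1,0],
  [2,0,2,0],
  [8,8,8],
  [7,9,6,8],
  [0,9,0,8],
  [2,9,1,8],
  [0,1,2,9,2,8],
  [3,0,3,0],
  [4,0,4,0],
  [3,1,3,1],
  [4,2,4,2],
  [4,3,4,3],
  [1,0,4,1,4],
  [2,0,3,2,3],
  [5,0,5,0],
  [1,5,1,5],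
  [3,5,3,5],
  [0,1,2,5,2,5],
  [0,3,4,5,4,5]]
theorem xs1_r {G : Type*} [Group G] {z u v a b s x y : G}
    (h : Q3 z u v a b x)
    (k : KY z u v x y)
    (q : QT z u v a b)
    (t : TS z u v a b s) :
    Rels (nthG [z, u, v, a, b, s, x, x⁻¹, y, y⁻¹]) xs1_r_R :=
  rels_of_eqs ((InvI.cons h.1 (InvI.cons h.2.1 (InvI.cons h.2.2.1 (InvI.cons h.2.2.2.1 (InvI.cons h.2.2.2.2.1 (InvI.cons t.1 InvI.nil)))))) : InvI [z, u, v, a, b, s, x, y] [(nat_lit 0), (nat_lit 1), (nat_lit 2), (nat_lit 3), (nat_lit 4), (nat_lit 5)])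
    (AllEq.append (show AllEq [z, u, v, a, b, s, x, y] [((.mul (.v (nat_lit 0)) (.v (nat_lit 0))), .one), ((.mul (.v (nat_lit 1)) (.v (nat_lit 1))), .one), ((.mul (.v (nat_lit 2)) (.v (nat_lit 2))), .one), ((.mul (.v (nat_lit 3)) (.v (nat_lit 3))), .one), ((.mul (.v (nat_lit 4)) (.v (nat_lit 4))), .one), ((.pw (.v (nat_lit 6)) (nat_lit 3)), .one), ((.mul (.mul (.v (nat_lit 6)) (.v (nat_lit 1))) (.inv (.v (nat_lit 6)))), (.v (nat_lit 3))), ((.mul (.mul (.v (nat_lit 6)) (.v (nat_lit 2))) (.inv (.v (nat_lit 6)))), (.v (nat_lit 4))), ((.pw (.mul (.v (nat_lit 1)) (.v (nat_lit 6))) (nat_lit 3)), .one), ((.pw (.mul (.v (nat_lit 2)) (.v (nat_lit 6))) (nat_lit 3)), .one), ((.mul (.v (nat_lit 1)) (.v (nat_lit 2))), (.mul (.v (nat_lit 2)) (.v (nat_lit 1)))), ((.mul (.mul (.mul (.v (nat_lit 1)) (.v (nat_lit 4))) (.inv (.v (nat_lit 1)))) (.inv (.v (nat_lit 4)))), (.v (nat_lit 0))), ((.mul (.v (nat_lit 0)) (.v (nat_lit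 6))), (.mul (.v (nat_lit 6)) (.v (nat_lit 0)))), ((.mul (.v (nat_lit 0)) (.v (nat_lit 1))), (.mul (.v (nat_lit 1)) (.v (nat_lit 0)))), ((.mul (.v (nat_lit 0)) (.v (nat_lit 2))), (.mul (.v (nat_lit 2)) (.v (nat_lit 0))))] from h)
    (AllEq.append (show AllEq [z, u, v, a, b, s, x, y] [((.pw (.v (nat_lit 7)) (nat_lit 3)), .one), ((.mul (.v (nat_lit 7)) (.v (nat_lit 6))), (.mul (.v (nat_lit 6)) (.v (nat_lit 7)))), ((.mul (.v (nat_lit 7)) (.v (nat_lit 0))), (.mul (.v (nat_lit 0)) (.v (nat_lit 7)))), ((.mul (.mul (.v (nat_lit 7)) (.v (nat_lit 1))) (.inv (.v (nat_lit 7)))), (.v (nat_lit 2))), ((.mul (.mul (.v (nat_lit 7)) (.v (nat_lit 2))) (.inv (.v (nat_lit 7)))), (.mul (.mul (.v (nat_lit 0)) (.v (nat_lit 1))) (.v (nat_lit 2))))] from k)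
    (AllEq.append (show AllEq [z, u, v, a, b, s, x, y] [((.mul (.v (nat_lit 0)) (.v (nat_lit 0))), .one), ((.mul (.v (nat_lit 1)) (.v (nat_lit 1))), .one), ((.mul (.v (nat_lit 2)) (.v (nat_lit 2))), .one), ((.mul (.v (nat_lit 3)) (.v (nat_lit 3))), .one), ((.mul (.v (nat_lit 4)) (.v (nat_lit 4))), .one), ((.mul (.v (nat_lit 1)) (.v (nat_lit 2))), (.mul (.v (nat_lit 2)) (.v (nat_lit 1)))), ((.mul (.v (nat_lit 0)) (.v (nat_lit 1))), (.mul (.v (nat_lit 1)) (.v (nat_lit 0)))), ((.mul (.v (nat_lit 0)) (.v (nat_lit 2))), (.mul (.v (nat_lit 2)) (.v (nat_lit 0)))), ((.mul (.v (nat_lit 0)) (.v (nat_lit 3))), (.mul (.v (nat_lit 3)) (.v (nat_lit 0)))), ((.mul (.v (nat_lit 0)) (.v (nat_lit 4))), (.mul (.v (nat_lit 4)) (.v (nat_lit 0)))), ((.mul (.v (nat_lit 1)) (.v (nat_lit 3))), (.mul (.v (nat_lit 3)) (.v (nat_lit 1)))), ((.mul (.v (nat_lit 2)) (.v (nat_lit 4))), (.mul (.v (nat_lit 4)) (.v (nat_lit 2)))), ((.mul (.v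 (nat_lit 3)) (.v (nat_lit 4))), (.mul (.v (nat_lit 4)) (.v (nat_lit 3)))), ((.mul (.mul (.v (nat_lit 4)) (.v (nat_lit 1))) (.v (nat_lit 4))), (.mul (.v (nat_lit 1)) (.v (nat_lit 0)))), ((.mul (.mul (.v (nat_lit 3)) (.v (nat_lit 2))) (.v (nat_lit 3))), (.mul (.v (nat_lit 2)) (.v (nat_lit 0))))] from q)
    (show AllEq [z, u, v, a, b, s, x, y] [((.mul (.v (nat_lit 5)) (.v (nat_lit 5))), .one), ((.mul (.v (nat_lit 0)) (.v (nat_lit 5))), (.mul (.v (nat_lit 5)) (.v (nat_lit 0)))), ((.mul (.v (nat_lit 5)) (.v (nat_lit 1))), (.mul (.v (nat_lit 1)) (.v (nat_lit 5)))), ((.mul (.v (nat_lit 5)) (.v (nat_lit 3))), (.mul (.v (nat_lit 3)) (.v (nat_lit 5)))), ((.mul (.mul (.v (nat_lit 5)) (.v (nat_lit 2))) (.v (nat_lit 5))), (.mul (.mul (.v (nat_lit 0)) (.v (nat_lit 1))) (.v (nat_lit 2)))), ((.mul (.mul (.v (nat_lit 5)) (.v (nat_lit 4))) (.v (nat_lit 5))), (.mul (.mul (.v (nat_lit 0)) (.v (nat_lit 3))) (.v (nat_lit 4))))]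 from t))))
    [(.v (nat_lit 0)), (.v (nat_lit 1)), (.v (nat_lit 2)), (.v (nat_lit 3)), (.v (nat_lit 4)), (.v (nat_lit 5)), (.v (nat_lit 6)), (.inv (.v (nat_lit 6))), (.v (nat_lit 7)), (.inv (.v (nat_lit 7)))] (by decide +kernel)
noncomputable def xs1_0_S0 : List ℕ := [nat_lit 0x1300000b000008004016, nat_lit 0x1b000002000010008014, nat_lit 0x23000006000018004016, nat_lit 0x2700001f00000900c014]
noncomputable def xs1_0_S : List (List ℕ) := [xs1_0_S0]
noncomputable def xs1_0_defs : List ℕ := [(nat_lit 0x7005000060090000500900004005000030050000200900001000000000050000000000000)]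
noncomputable def xs1_0_recs : List ℕ := [(nat_lit 0x80000800009000000500008000000300006000000100004)]
noncomputable def xs1_0_T : List (List ℕ × ℕ) := [([5,9,5,9,0,8,5,8,5,0], (nat_lit 0xc00001400001c00002400000d00002700001f00001700000f000007))]
noncomputable def xs1_0_D : H26.Dag := ⟨[0,1,2,3,4,5,7,6,9,8], [[0,0],
  [1,1],
  [2,2],
  [3,3],
  [4,4],
  [5,5],
  [6,7],
  [7,6],
  [8,9],
  [9,8],
  [0,9,0,8],
  [5,0,5,0]], [], xs1_0_defs, xs1_0_recs⟩
theorem xs1_0_c : xs1_0_D.check xs1_0_S xs1_0_T = true := by decide +kernel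
theorem xs1_0 {G : Type*} [Group G] {g : ℕ → G} (hR : Rels g xs1_r_R) {H : Subgroup G}
    (hH : ∀ k ∈ [], g k ∈ H) : evA g [5,9,5,9,0,8,5,8,5,0] ∈ H :=
  mem_dag (K := 10) (J := [0,1,2,3,4,5,6,7,8,9,22,32]) (D := xs1_0_D) (by decide +kernel) xs1_0_c (by decide +kernel) hR hH
noncomputable def xs1_1_S0 : List ℕ := [nat_lit 0x1300000b00000800801a, nat_lit 0x2b000010004014, nat_lit 0x3300001c004014, nat_lit 0x3300000200002c000016, nat_lit 0x37000020000028004016, nat_lit 0x3b00000900000e000006000030004018, nat_lit 0x3700001700003000001500003b00002401401c, nat_lit 0x19000012000012]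
noncomputable def xs1_1_S : List (List ℕ) := [xs1_1_S0]
noncomputable def xs1_1_defs : List ℕ := [(nat_lit 0x60020000500800004002000030080000100100007005000060090000500900004005000030050000200900001001000000050000000000000)]
noncomputable def xs1_1_recs : List ℕ := [(nat_lit 0x90000900008ff000080000d010000b0000e09000090000d020000a0000c08000060000c08000030000a010000100004)]
noncomputable def xs1_1_T : List (List ℕ × ℕ) := [([5,9,5,9,1,8,5,8,5,1], (nat_lit 0xc00001400001c00002400001e00002700001f00001700000f000007))]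
noncomputable def xs1_1_D : H26.Dag := ⟨[0,1,2,3,4,5,7,6,9,8], [[0,0],
  [1,1],
  [2,2],
  [3,3],
  [4,4],
  [5,5],
  [6,7],
  [7,6],
  [8,9],
  [9,8],
  [8,8,8],
  [2,9,1,8],
  [0,1,2,9,2,8],
  [1,5,1,5],
  [0,1,2,5,2,5]], [], xs1_1_defs, xs1_1_recs⟩
theorem xs1_1_c : xs1_1_D.check xs1_1_S xs1_1_T = true := by decide +kernel
theorem xs1_1 {G : Type*} [Group G] {g : ℕ → G} (hR : Rels g xs1_r_R) {H : Subgroup G}
    (hH : ∀ k ∈ [], g k ∈ H) : evA g [5,9,5,9,1,8,5,8,5,1] ∈ H :=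
  mem_dag (K := 10) (J := [0,1,2,3,4,5,6,7,8,9,20,23,24,33,35]) (D := xs1_1_D) (by decide +kernel) xs1_1_c (by decide +kernel) hR hH
noncomputable def xs1_2_S0 : List ℕ := [nat_lit 0x3300001300000b00000800002c004016, nat_lit 0x1b00003400000200002b000010000030006014, nat_lit 0x600002f000004, nat_lit 0x3b00002300000a000018000038004016, nat_lit 0x3c00000e000037000020000028002014]
noncomputable def xs1_2_S : List (List ℕ) := [xs1_2_S0]
noncomputable def xs1_2_defs : List ℕ := [(nat_lit 0x80020000500000004002000030020000100200007005000060090000500900004005000030050000200900001002000000050000000000000)]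
noncomputable def xs1_2_recs : List ℕ := [(nat_lit 0x90000900008010000d0000e020000300006ff0000b00006010000a0000c)]
noncomputable def xs1_2_T : List (List ℕ × ℕ) := [([5,9,5,9,2,8,5,8,5,2], (nat_lit 0xc00001400001c00002400001200002700001f00001700000f000007))]
noncomputable def xs1_2_D : H26.Dag := ⟨[0,1,2,3,4,5,7,6,9,8], [[0,0],
  [1,1],
  [2,2],
  [3,3],
  [4,4],
  [5,5],
  [6,7],
  [7,6],
  [8,9],
  [9,8],
  [0,1,2,9,2,8],
  [0,1,2,5,2,5]], [], xs1_2_defs, xs1_2_recs⟩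
theorem xs1_2_c : xs1_2_D.check xs1_2_S xs1_2_T = true := by decide +kernel
theorem xs1_2 {G : Type*} [Group G] {g : ℕ → G} (hR : Rels g xs1_r_R) {H : Subgroup G}
    (hH : ∀ k ∈ [], g k ∈ H) : evA g [5,9,5,9,2,8,5,8,5,2] ∈ H :=
  mem_dag (K := 10) (J := [0,1,2,3,4,5,6,7,8,9,24,35]) (D := xs1_2_D) (by decide +kernel) xs1_2_c (by decide +kernel) hR hH
noncomputable def xs1_3_S0 : List ℕ := [nat_lit 0x1300000b000008008028, nat_lit 0x3b00000f00003000a01a, nat_lit 0x43000002000030008014, nat_lit 0x47000017000034008026, nat_lit 0x5700001b00004000c01c, nat_lit 0x5f00001f00005400a01a, nat_lit 0x67000027000060008014, nat_lit 0x6f00002b000030008016, nat_lit 0x73000033000038004022, nat_lit 0x7700003700003c008014, nat_lit 0x1e00000500002500401e, nat_lit 0x7b00003f000044004018, nat_lit 0x7f00004700004c004022, nat_lit 0x7f00000e000074004028, nat_lit 0x8300004f00004c00003100003601002a, nat_lit 0x8700004f000054008016, nat_lit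 0x1a00001600003d00c01e, nat_lit 0x8800004100006700006c00201a, nat_lit 0x4600006b000012, nat_lit 0x8b00005700005c004024, nat_lit 0x8f00001200007c00a01a, nat_lit 0x2900001e00000900002d000051010020, nat_lit 0x8b000090000055000077004016, nat_lit 0x2200005900004e000000, nat_lit 0x5c00005d000039000008, nat_lit 0x2300006200008300000a, nat_lit 0x6300006600004a000010, nat_lit 0x69000063000010]
noncomputable def xs1_3_S : List (List ℕ) := [xs1_3_S0]
noncomputable def xs1_3_defs : List ℕ := [(nat_lit 0x700015004000150070001300500013003000110070000f0070000d0030000c0070000a008000090070000900900008007000070040000600000006007000050040000500300005000000050070000400000004007000030030000300000003007000010040000100300007005000060090000500900004005000030050000200900001003000000050000000000000)]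
noncomputable def xs1_3_recs : List ℕ := [(nat_lit 0x80000800009ff0000900018ff0001300008ff0002000006ff000160001cff0000d0002202000230001d080001e00023000001600022090000900013ff0001a00013080002100019020001400021040001c00020050001c0001f00000120001f00000100001e090001d0001b010000e0001d000000d0001c020000b0001b010001700019080001400017080000f00015050000c00011010000b00010080000b0000e030000100004)]
noncomputable def xs1_3_T : List (List ℕ × ℕ) := [([5,9,5,9,3,8,5,8,5,3], (nat_lit 0xc00001400001c00002400006d00002700001f00001700000f000007))]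
noncomputable def xs1_3_D : H26.Dag := ⟨[0,1,2,3,4,5,7,6,9,8], [[0,0],
  [1,1],
  [2,2],
  [3,3],
  [4,4],
  [5,5],
  [6,7],
  [7,6],
  [8,9],
  [9,8],
  [3,7,1,6],
  [4,7,2,6],
  [7,0,6,0],
  [7,9,6,8],
  [0,9,0,8],
  [2,9,1,8],
  [0,1,2,9,2,8],
  [3,0,3,0],
  [4,0,4,0],
  [5,0,5,0],
  [3,5,3,5],
  [0,3,4,5,4,5]], [], xs1_3_defs, xs1_3_recs⟩
theorem xs1_3_c : xs1_3_D.check xs1_3_S xs1_3_T = true := by decide +kernel
theorem xs1_3 {G : Type*} [Group G] {g : ℕ → G} (hR : Rels g xs1_r_R) {H : Subgroup G}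
    (hH : ∀ k ∈ [], g k ∈ H) : evA g [5,9,5,9,3,8,5,8,5,3] ∈ H :=
  mem_dag (K := 10) (J := [0,1,2,3,4,5,6,7,8,9,11,12,17,21,22,23,24,25,26,32,34,36]) (D := xs1_3_D) (by decide +kernel) xs1_3_c (by decide +kernel) hR hH
noncomputable def xs1_4_S0 : List ℕ := [nat_lit 0x2700001300000700000c00001800601e, nat_lit 0x1b00000f00000c00001800000100401e, nat_lit 0x3300001b000020004018, nat_lit 0x3700001f00002400801a, nat_lit 0x43000005000034008014, nat_lit 0x4300000200002c008016, nat_lit 0x4700002b00003000801a, nat_lit 0x4700001500001200000a00003801001c, nat_lit 0x3b00000d00001d00001a004016, nat_lit 0x2100003b000008, nat_lit 0x5b00004b00002600004000005001201e, nat_lit 0x6700004f000054004018, nat_lit 0x6b00005300005800801a, nat_lit 0x7300002a000068008014, nat_lit 0x7300005b000060008016, nat_lit 0x7700005f00006400801a, nat_lit 0x7700003900003600002e00006c01001c, nat_lit 0x6f00003100004100003e004016, nat_lit 0x4500006f000008]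
noncomputable def xs1_4_S : List (List ℕ) := [xs1_4_S0]
noncomputable def xs1_4_defs : List ℕ := [(nat_lit 0x900017007000160040001500900014007000130090001200700012004000120090000f0070000f0000000f0050000b0090000a0070000900500008004000080090000700700006009000050070000500500004009000030070000300000003005000020000000100500000004000000030000000000000)]
noncomputable def xs1_4_recs : List ℕ := [(nat_lit 0x40001500018ff000180001b020001a0001d06000180001d02000170001c01000190001c06000150001a00000140001903000130001604000080000bff0000b0000e020000d00011060000b00011020000a00010010000c0001006000080000d00000070000c030000900006040000500009)]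
noncomputable def xs1_4_T : List (List ℕ × ℕ) := [([5,9,5,9,4,8,5,8,5,4], (nat_lit 0xc00001800003000004c00006400004a00005700003f00002300000f))]
noncomputable def xs1_4_D : H26.Dag := ⟨[0,1,2,3,4,5,7,6,9,8], [[0,0],
  [1,1],
  [2,2],
  [3,3],
  [4,4],
  [5,5],
  [6,7],
  [7,6],
  [8,9],
  [9,8],
  [3,7,1,6],
  [4,7,2,6],
  [7,0,6,0],
  [7,9,6,8],
  [0,1,2,9,2,8],
  [0,3,4,5,4,5]], [], xs1_4_defs, xs1_4_recs⟩
theorem xs1_4_c : xs1_4_D.check xs1_4_S xs1_4_T = true := by decide +kernel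
theorem xs1_4 {G : Type*} [Group G] {g : ℕ → G} (hR : Rels g xs1_r_R) {H : Subgroup G}
    (hH : ∀ k ∈ [], g k ∈ H) : evA g [5,9,5,9,4,8,5,8,5,4] ∈ H :=
  mem_dag (K := 10) (J := [0,1,2,3,4,5,6,7,8,9,11,12,17,21,24,36]) (D := xs1_4_D) (by decide +kernel) xs1_4_c (by decide +kernel) hR hH
theorem xs1 {G : Type*} [Group G] {z u v a b s x y : G}
    (h : Q3 z u v a b x)
    (k : KY z u v x y)
    (q : QT z u v a b)
    (t : TS z u v a b s) :
    z * (s * y * s⁻¹ * y⁻¹⁻¹) = s * y * s⁻¹ * y⁻¹⁻¹ * z ∧ u * (s * y * s⁻¹ * y⁻¹⁻¹) = s * y * s⁻¹ * y⁻¹⁻¹ * u ∧ v * (s * y * s⁻¹ * y⁻¹⁻¹) = s * y * s⁻¹ * y⁻¹⁻¹ * v ∧ a * (s * y * s⁻¹ * y⁻¹⁻¹) = s * y * s⁻¹ * y⁻¹⁻¹ * a ∧ b * (s * y * s⁻¹ * y⁻¹⁻¹) = s * y * s⁻¹ * y⁻¹⁻¹ * b :=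
  ⟨mul_inv_eq_one.1 ((evA_eq_tm ((InvI.cons h.1 (InvI.cons h.2.1 (InvI.cons h.2.2.1 (InvI.cons h.2.2.2.1 (InvI.cons h.2.2.2.2.1 (InvI.cons t.1 InvI.nil)))))) : InvI [z, u, v, a, b, s, x, y] [(nat_lit 0), (nat_lit 1), (nat_lit 2), (nat_lit 3), (nat_lit 4), (nat_lit 5)]) [(.v (nat_lit 0)), (.v (nat_lit 1)), (.v (nat_lit 2)), (.v (nat_lit 3)), (.v (nat_lit 4)), (.v (nat_lit 5)), (.v (nat_lit 6)), (.inv (.v (nat_lit 6))), (.v (nat_lit 7)), (.inv (.v (nat_lit 7)))] [5,9,5,9,0,8,5,8,5,0] (.mul (.mul (.v (nat_lit 0)) (.mul (.mul (.mul (.v (nat_lit 5)) (.v (nat_lit 7))) (.inv (.v (nat_lit 5)))) (.inv (.inv (.v (nat_lit 7)))))) (.inv (.mul (.mul (.mul (.mul (.v (nat_lit 5)) (.v (nat_lit 7))) (.inv (.v (nat_lit 5)))) (.inv (.inv (.v (nat_lit 7))))) (.v (nat_lit 0))))) (by decide +kernel)).symm.trans (Subgroup.mem_bot.1 (xs1_0 (xs1_r h k q t) (H := ⊥) (List.forall_mem_nil _)))),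
   mul_inv_eq_one.1 ((evA_eq_tm ((InvI.cons h.1 (InvI.cons h.2.1 (InvI.cons h.2.2.1 (InvI.cons h.2.2.2.1 (InvI.cons h.2.2.2.2.1 (InvI.cons t.1 InvI.nil)))))) : InvI [z, u, v, a, b, s, x, y] [(nat_lit 0), (nat_lit 1), (nat_lit 2), (nat_lit 3), (nat_lit 4), (nat_lit 5)]) [(.v (nat_lit 0)), (.v (nat_lit 1)), (.v (nat_lit 2)), (.v (nat_lit 3)), (.v (nat_lit 4)), (.v (nat_lit 5)), (.v (nat_lit 6)), (.inv (.v (nat_lit 6))), (.v (nat_lit 7)), (.inv (.v (nat_lit 7)))] [5,9,5,9,1,8,5,8,5,1] (.mul (.mul (.v (nat_lit 1)) (.mul (.mul (.mul (.v (nat_lit 5)) (.v (nat_lit 7))) (.inv (.v (nat_lit 5)))) (.inv (.inv (.v (nat_lit 7)))))) (.inv (.mul (.mul (.mul (.mul (.v (nat_lit 5)) (.v (nat_lit 7))) (.inv (.v (nat_lit 5)))) (.inv (.inv (.v (nat_lit 7))))) (.v (nat_lit 1))))) (by decide +kernel)).symm.trans (Subgroup.mem_bot.1 (xs1_1 (xs1_r h k q t) (H := ⊥) (List.forall_mem_nil _)))),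
   mul_inv_eq_one.1 ((evA_eq_tm ((InvI.cons h.1 (InvI.cons h.2.1 (InvI.cons h.2.2.1 (InvI.cons h.2.2.2.1 (InvI.cons h.2.2.2.2.1 (InvI.cons t.1 InvI.nil)))))) : InvI [z, u, v, a, b, s, x, y] [(nat_lit 0), (nat_lit 1), (nat_lit 2), (nat_lit 3), (nat_lit 4), (nat_lit 5)]) [(.v (nat_lit 0)), (.v (nat_lit 1)), (.v (nat_lit 2)), (.v (nat_lit 3)), (.v (nat_lit 4)), (.v (nat_lit 5)), (.v (nat_lit 6)), (.inv (.v (nat_lit 6))), (.v (nat_lit 7)), (.inv (.v (nat_lit 7)))] [5,9,5,9,2,8,5,8,5,2] (.mul (.mul (.v (nat_lit 2)) (.mul (.mul (.mul (.v (nat_lit 5)) (.v (nat_lit 7))) (.inv (.v (nat_lit 5)))) (.inv (.inv (.v (nat_lit 7)))))) (.inv (.mul (.mul (.mul (.mul (.v (nat_lit 5)) (.v (nat_lit 7))) (.inv (.v (nat_lit 5)))) (.inv (.inv (.v (nat_lit 7))))) (.v (nat_lit 2))))) (by decide +kernel)).symm.trans (Subgroup.mem_bot.1 (xs1_2 (xs1_r h k q t) (H := ⊥) (List.forall_mem_nil _)))),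
   mul_inv_eq_one.1 ((evA_eq_tm ((InvI.cons h.1 (InvI.cons h.2.1 (InvI.cons h.2.2.1 (InvI.cons h.2.2.2.1 (InvI.cons h.2.2.2.2.1 (InvI.cons t.1 InvI.nil)))))) : InvI [z, u, v, a, b, s, x, y] [(nat_lit 0), (nat_lit 1), (nat_lit 2), (nat_lit 3), (nat_lit 4), (nat_lit 5)]) [(.v (nat_lit 0)), (.v (nat_lit 1)), (.v (nat_lit 2)), (.v (nat_lit 3)), (.v (nat_lit 4)), (.v (nat_lit 5)), (.v (nat_lit 6)), (.inv (.v (nat_lit 6))), (.v (nat_lit 7)), (.inv (.v (nat_lit 7)))] [5,9,5,9,3,8,5,8,5,3] (.mul (.mul (.v (nat_lit 3)) (.mul (.mul (.mul (.v (nat_lit 5)) (.v (nat_lit 7))) (.inv (.v (nat_lit 5)))) (.inv (.inv (.v (nat_lit 7)))))) (.inv (.mul (.mul (.mul (.mul (.v (nat_lit 5)) (.v (nat_lit 7))) (.inv (.v (nat_lit 5)))) (.inv (.inv (.v (nat_lit 7))))) (.v (nat_lit 3))))) (by decide +kernel)).symm.trans (Subgroup.mem_bot.1 (xs1_3 (xs1_r h k q t) (H := ⊥) (List.forall_mem_nil _)))),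
   mul_inv_eq_one.1 ((evA_eq_tm ((InvI.cons h.1 (InvI.cons h.2.1 (InvI.cons h.2.2.1 (InvI.cons h.2.2.2.1 (InvI.cons h.2.2.2.2.1 (InvI.cons t.1 InvI.nil)))))) : InvI [z, u, v, a, b, s, x, y] [(nat_lit 0), (nat_lit 1), (nat_lit 2), (nat_lit 3), (nat_lit 4), (nat_lit 5)]) [(.v (nat_lit 0)), (.v (nat_lit 1)), (.v (nat_lit 2)), (.v (nat_lit 3)), (.v (nat_lit 4)), (.v (nat_lit 5)), (.v (nat_lit 6)), (.inv (.v (nat_lit 6))), (.v (nat_lit 7)), (.inv (.v (nat_lit 7)))] [5,9,5,9,4,8,5,8,5,4] (.mul (.mul (.v (nat_lit 4)) (.mul (.mul (.mul (.v (nat_lit 5)) (.v (nat_lit 7))) (.inv (.v (nat_lit 5)))) (.inv (.inv (.v (nat_lit 7)))))) (.inv (.mul (.mul (.mul (.mul (.v (nat_lit 5)) (.v (nat_lit 7))) (.inv (.v (nat_lit 5)))) (.inv (.inv (.v (nat_lit 7))))) (.v (nat_lit 4))))) (by decide +kernel)).symm.trans (Subgroup.mem_bot.1 (xs1_4 (xs1_r h k q t) (H := ⊥) (List.forall_mem_nil _))))⟩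

end H10.X
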