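import Cfsg.Agent.H9.Rk2

/-! Components of locally unitary classes of 3-transpositions. -/

set_option autoImplicit false

open Subgroup H26 Module H11 H12 H12.CForm H9 H9.FQ

namespace H10.Y

variable {G : Type*} [Group G]

/-- properties of a component -/
structure Gk0 (X : Set G) [TQ X] (S : Subgroup G) : Prop where
  prim : Prim X
  fix : ∀ y ∈ S, y * y = 1 → ∃ x ∈ X, Commute x y
  odd : ∀ u ∈ X, ∀ v ∈ X, Dn u v → ∃ l : List G, Odd l.length ∧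
    (∀ w ∈ l, w ∈ X ∧ Dn u w ∧ Dn v w) ∧ l.prod = u * v

section
variable {D : Set G} (h : Lk D)
variable [Finite G] (H : ∀ a (ha : a ∈ D), letI := h.tq_cls ha; Gk0 (cls D a) (h.St ha))
include h H

omit [Finite G] in
theorem mem_cls0 {a y : G} (ha : a ∈ D) (hy : y ∈ D) (k : y ∈ h.St ha) : y ∈ cls D a :=
  letI := h.tq_cls ha
  let ⟨_, hx, c⟩ := (H a ha).fix y k (h.sq y hy); h.step ha hx hy c

/-- a product of two commuting transpositions factors only inside its component -/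
theorem fac0 {a u v u' v' : G} (ha : a ∈ D) (hu : u ∈ cls D a) (hv : v ∈ cls D a) (c : Dn u v)
    (hu' : u' ∈ D) (hv' : v' ∈ D) (c' : Commute u' v') (e : u * v = u' * v') : u' ∈ cls D a := by
  letI T := h.tq_cls ha
  have K := H a ha
  have su := h.sq u' hu'
  have cz : Commute (u * v) u' := e ▸ (Commute.refl u').mul_left c'.symm
  have ez : u' * (u * v) = v' := by rw [e, ← mul_assoc, su, one_mul]
  have mz : u * v ∈ h.St ha := mul_mem (h.sub ha hu) (h.sub ha hv)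
  have key : ∀ w ∈ cls D a, Dn u w → Dn v w → Commute u' (w * u) := fun w hw c1 c2 => by
    have sw := h.sq w hw.1
    have cw : Commute (u * v) w := c1.2.mul_left c2.2
    rcases dih sw su with k | ⟨m, m1, m2, m3, m4⟩
    · have := h.isConj hv' (ez ▸ (k.comm cw cz).symm)
      have := mem_cls0 h H ha this (mul_mem (h.sub ha hw) mz)
      rw [← mul_assoc] at this
      exact absurd this (K.prim.mul3_not_mem hw hu hv c1.symm c2.symm c)
    rcases Nat.even_or_odd m with ⟨k, rfl⟩ | ⟨k, rfl⟩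
    · exfalso
      have r1 : w * (w * u') ^ (k + k) ∈ cls D a :=
        h.step ha hw (h.isConj hw.1 (dih_ee sw su k).isConj) ((Commute.refl w).mul_right m3)
      have r2 : (w * u') ^ k ∈ h.St ha := by
        refine (inv_mem_iff).1 (h.mem_of_conj ha hw ?_)
        rwa [inv_inv, ← dih_l sw su, mul_assoc, ← pow_add]
      have r3 : w * (w * u') ^ k ∈ D := by
        rcases Nat.even_or_odd k with ⟨j, rfl⟩ | ⟨j, rfl⟩
        exacts [h.isConj hw.1 (dih_ee sw su j).isConj, h.isConj hu' (dih_eo sw su j).isConj]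
      have r4 := mem_cls0 h H ha r3 (mul_mem (h.sub ha hw) r2)
      have r5 := T.t3.pow_six hw r4
      rw [← mul_assoc, sw, one_mul, show 6 = 2 + 2 + 2 from rfl, pow_add, pow_add, pow_two,
        ← pow_add, m2, one_mul] at r5
      exact m1 r5
    · set y := (w * u') ^ (2 * k + 1)
      have r0 := dih_eo sw su k
      have r1 : w * y ∈ cls D a := h.step ha hw (h.isConj hu' r0.isConj)
        ((Commute.refl w).mul_right m3)
      have cy : Commute (u * v) y := (cw.mul_right cz).pow_right _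
      have r2 := mem_cls0 h H ha (h.isConj hv' (ez ▸ r0.comm cw cz)) (mul_mem (h.sub ha r1) mz)
      obtain ⟨c3, c4⟩ := comm2 hu hv r1 c (cw.mul_right cy)
      have ey : ∀ s, w * y = s → y = w * s := fun s e => by rw [← e, ← mul_assoc, sw, one_mul]
      by_cases e1 : w * y = u
      · exact ey u e1 ▸ m4
      by_cases e2 : w * y = v
      · have : w * u = w * v * (u * v) := by
          rw [c.2.eq, mul_assoc, ← mul_assoc v, h.sq v hv.1, one_mul]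
        rw [this, ← ey v e2]; exact m4.mul_right cz.symm
      rw [← mul_assoc] at r2
      exact absurd r2 (K.prim.mul3_not_mem r1 hu hv ⟨Ne.symm e1, c3.symm⟩ ⟨Ne.symm e2, c4.symm⟩ c)
  obtain ⟨l, ⟨k, hk⟩, hl, el⟩ := K.odd u hu v hv c
  have : ∀ l : List G, (∀ w ∈ l, w ∈ cls D a ∧ Dn u w ∧ Dn v w) →
      Commute u' (l.prod * u ^ l.length) := fun l hl => by
    induction l with
    | nil => simp
    | cons w l ih =>
      have h1 := hl w List.mem_cons_self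
      have h2 := fun x hx => hl x (List.mem_cons_of_mem _ hx)
      have h3 : Commute u l.prod := Commute.list_prod_right _ _ fun x hx => (h2 x hx).2.1.2
      rw [List.prod_cons, List.length_cons, pow_succ', mul_assoc, ← mul_assoc l.prod, ← h3.eq,
        mul_assoc, ← mul_assoc w]
      exact (key w h1.1 h1.2.1 h1.2.2).mul_right (ih h2)
  have := this l hl
  rw [el, hk, pow_succ, pow_mul, pow_two, h.sq u hu.1, one_pow, one_mul] at this
  have := cz.symm.inv_right.mul_right this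
  rw [inv_mul_cancel_left] at this
  exact h.step ha hu hu' this.symm

theorem cent20 {a u v g : G} (ha : a ∈ D) (hu : u ∈ cls D a) (hv : v ∈ cls D a) (c : Dn u v)
    (k : Commute (u * v) g) : g ∈ h.St ha :=
  h.mem_of_conj ha hu (fac0 h H ha hu hv c (h.conj g u hu.1) (h.conj g v hv.1) (c.2.conj g) (by
    rw [conj_mul, ← k.eq, mul_inv_cancel_right]))

theorem cls_of_fac0 {a u v : G} (ha : a ∈ D) (hu : u ∈ D) (hv : v ∈ D) (c : Dn u v)
    (k : u * v ∈ h.St ha) : u ∈ cls D a := by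
  letI := h.tq_cls ha
  obtain ⟨x, hx, c'⟩ := (H a ha).fix _ k (by
    rw [mul_assoc, ← mul_assoc v, ← c.2.eq, mul_assoc, h.sq v hv, mul_one, h.sq u hu])
  have := mem_cls0 h H hu hx.1 (cent20 h H hu (Lc.self hu) (h.step hu (Lc.self hu) hv c.2) c c'.symm)
  rw [← h.cls_eq ha hx, h.cls_eq hu this]; exact Lc.self hu

end

/-- local data of the unitary space of dimension six -/
structure UL0 (D : Set G) : Prop where
  conj : ∀ g, ∀ x ∈ D, g * x * g⁻¹ ∈ D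
  sq : ∀ x ∈ D, x * x = 1
  ne : ∀ x ∈ D, x ≠ 1
  t3 : ∀ x ∈ D, T3 (dcSet D x)
  line : ∀ x ∈ D, ∀ v ∈ dcSet D x, ∃ l : List G, l.length = 3 ∧ l.Pairwise Commute ∧ l.prod = x * v ∧
    ∀ a ∈ l, a ∈ dcSet D x ∧ Dn v a ∧ ∀ w ∈ dcSet D x, Commute w v ↔ Commute w a
  odd : ∀ x ∈ D, ∀ l : List G, Odd l.length → l.Pairwise Commute → l.prod = 1 →
    (∀ a ∈ l, a ∈ dcSet D x) → ∀ w ∈ dcSet D x, ∃ a ∈ l, Commute w a
  five : ∀ x ∈ D, ∀ y ∈ dcSet D x, ∃ l : List G, Odd l.length ∧ l.Pairwise Commute ∧ l.prod = 1 ∧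
    ∀ a ∈ l, a ∈ dcSet D x ∧ Commute y a
  adj : ∀ x ∈ D, ∀ a ∈ dcSet D x, ∀ b ∈ dcSet D x, ∃ w ∈ dcSet D x, ¬ Commute a w ∧ ¬ Commute b w
  pl : ∀ x ∈ D, ∃ a ∈ dcSet D x, ∃ b ∈ dcSet D x, ∃ c ∈ dcSet D x, ¬ Commute a b ∧ ¬ Commute c a ∧
    ¬ Commute c b ∧ ¬ Commute c (a * b * a)
  card : ∀ x ∈ D, 36 < (dcSet D x).ncard ∧ (dcSet D x).ncard < 660

namespace UL0

variable {D : Set G} (h : UL0 D)
include h

theorem lk : Lk D := by
  refine ⟨h.conj, h.sq, h.ne, h.t3, fun x hx z hz y hy w hw c1 c2 c3 n1 _ => ?_⟩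
  obtain ⟨l, l1, l2, l3, l4⟩ := h.five z hz y ⟨hy, c2⟩
  obtain ⟨a, ha, ca⟩ := h.odd z hz l l1 l2 l3 (fun a ha => (l4 a ha).1) x ⟨hx, c1⟩
  obtain ⟨a1, a2⟩ := l4 a ha
  obtain ⟨m, m1, m2, m3, m4⟩ := h.line z hz a a1
  have k : ∀ b ∈ z :: a :: m, b ∈ D ∧ Commute x b ∧ Commute y b := by
    simp only [List.forall_mem_cons]
    exact ⟨⟨hz, c1.2.symm, c2.2.symm⟩, ⟨a1.1, ca, a2⟩, fun b hb => ⟨(m4 b hb).1.1,
      ((m4 b hb).2.2 x ⟨hx, c1⟩).1 ca, ((m4 b hb).2.2 y ⟨hy, c2⟩).1 a2⟩⟩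
  obtain ⟨v, hv, cv⟩ := h.odd y hy (z :: a :: m) ⟨2, by simp [m1]⟩
    (List.pairwise_cons.2 ⟨List.forall_mem_cons.2 ⟨a1.2.2, fun b hb => (m4 b hb).1.2.2⟩,
      List.pairwise_cons.2 ⟨fun b hb => (m4 b hb).2.1.2, m2⟩⟩)
    (by rw [List.prod_cons, List.prod_cons, m3, ← mul_assoc a, ← a1.2.2.eq, mul_assoc z a, h.sq a a1.1,
      mul_one, h.sq z hz])
    (fun b hb => ⟨(k b hb).1, fun e => n1 (e ▸ (k b hb).2.1), (k b hb).2.2⟩) w ⟨hw, c3⟩
  exact ⟨v, (k v hv).1, (k v hv).2.1.symm, cv.symm⟩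

theorem dc {a x y : G} (ha : a ∈ D) (hx : x ∈ cls D a) (hy : y ∈ dcSet D x) : y ∈ cls D a :=
  h.lk.step ha hx hy.1 hy.2.2

theorem nb {a x y : G} (ha : a ∈ D) (hx : x ∈ cls D a) (hy : y ∈ cls D a) (n : x ≠ y) :
    ∃ v ∈ cls D a, x ∈ dcSet D v ∧ y ∈ dcSet D v := by
  by_cases c : Commute x y
  · obtain ⟨l, l1, -, -, l4⟩ := h.line x hx.1 y ⟨hy.1, n.symm, c⟩
    obtain ⟨v, hv⟩ := List.exists_mem_of_length_pos (l1 ▸ by decide : 0 < l.length)
    exact ⟨v, h.dc ha hx (l4 v hv).1, ⟨hx.1, Dn.symm (l4 v hv).1.2⟩, hy.1, (l4 v hv).2.1.symm⟩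
  obtain ⟨v, hv, c1, c2⟩ := ((h.lk.cls_eq ha hx).ge hy).2
  exact ⟨v, h.lk.step ha hx hv c1.symm, ⟨hx.1, fun e => c (e ▸ c2), c1⟩, hy.1, fun e => c (e ▸ c1.symm), c2⟩

variable [Finite G]

theorem prim {a : G} (ha : a ∈ D) : letI := h.lk.tq_cls ha; Prim (cls D a) := by
  let _ := h.lk.tq_cls ha
  obtain ⟨b, hb, -⟩ := h.pl a ha
  have : Nontrivial (cls D a) := ⟨⟨a, Lc.self ha⟩, ⟨b, h.dc ha (Lc.self ha) hb⟩,
    fun e => hb.2.1 (congrArg Subtype.val e).symm⟩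
  refine prim_of_vwc' (fun x y => ?_) (fun x y k => by_contra fun n => ?_)
    (fun x y k => by_contra fun n => ?_) fun x y => ?_
  · by_cases e : x = y
    · exact e ▸ Orb.refl _ _
    obtain ⟨v, hv, c1, c2⟩ := h.nb ha x.2 y.2 (mt Subtype.ext e)
    obtain ⟨w, hw, k1, k2⟩ := h.adj v hv.1 x c1 y c2
    exact (Orb.of_adj sub_univ trivial trivial (b := ⟨w, h.dc ha hv hw⟩) (TQ.adj_iff.2 k1)).trans
      (Orb.of_adj sub_univ trivial trivial (TQ.adj_iff.2 k2)).symm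
  · have c : (y : G) ∈ dcSet D x := ⟨y.2.1, fun e => n (Subtype.ext e.symm),
      (TQ.cm_iff.1 ((k y).2 (Cm.refl y)))⟩
    obtain ⟨w, hw, k1, -⟩ := h.adj x x.2.1 y c y c
    exact k1 (TQ.cm_iff.1 ((k ⟨w, h.dc ha x.2 hw⟩).1 (TQ.cm_iff.2 hw.2.2)))
  · have n' : ¬ Commute (x : G) y := fun c =>
      (k.le (TQ.mem_Dc.2 ⟨fun e => n (Subtype.ext e.symm), c⟩)).1 rfl
    obtain ⟨v, hv, c1, c2⟩ := h.nb ha x.2 y.2 (mt Subtype.ext n)
    obtain ⟨l, l1, -, -, l4⟩ := h.line v hv.1 x c1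
    obtain ⟨w, hw⟩ := List.exists_mem_of_length_pos (l1 ▸ by decide : 0 < l.length)
    have := TQ.mem_Dc.1 (k.le (TQ.mem_Dc.2 (l4 w hw).2.1 : (⟨w, h.dc ha hv (l4 w hw).1⟩ : cls D a) ∈ Dc x))
    exact n' (((l4 w hw).2.2 y c2).2 this.2).symm
  · obtain ⟨v, hv, c1, c2⟩ := ((h.lk.cls_eq ha x.2).ge y.2).2
    exact .tail (.single (TQ.cm_iff.2 c1.symm : Cm x ⟨v, h.lk.step ha x.2 hv c1.symm⟩)) (TQ.cm_iff.2 c2)

theorem isU {a : G} (ha : a ∈ D) : letI := h.lk.tq_cls ha; IsU (Set.univ : Set (cls D a)) 6 := by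
  let _ := h.lk.tq_cls ha
  have s := Lc.self ha
  obtain ⟨p, hp, q, hq, r, hr, k1, k2, k3, k4⟩ := h.pl a ha
  obtain ⟨l, l1, -, -, l4⟩ := h.line a ha p hp
  obtain ⟨v, hv⟩ := List.exists_mem_of_length_pos (l1 ▸ by decide : 0 < l.length)
  obtain ⟨n, h4, k⟩ := (h.prim ha).isU (fun k => k ⟨p, h.dc ha s hp⟩ ⟨q, h.dc ha s hq⟩ ⟨r, h.dc ha s hr⟩
    ⟨TQ.adj_iff.2 k1, TQ.adj_iff.2 k2, TQ.adj_iff.2 k3, TQ.adj_iff.2 k4⟩) (d := ⟨a, s⟩) fun k =>
    (l4 v hv).2.1.1 (congrArg (fun x : Dc (⟨a, s⟩ : cls D a) => x.1.1)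
      (k ⟨⟨v, h.dc ha s (l4 v hv).1⟩, TQ.mem_Dc.2 (l4 v hv).1.2⟩ ⟨⟨p, h.dc ha s hp⟩, TQ.mem_Dc.2 hp.2⟩
        fun e => by
          have := (l4 v hv).2.2 e.1.1 ⟨e.1.2.1, TQ.mem_Dc.1 e.2⟩
          simp only [cm_coe, TQ.cm_iff]
          exact ⟨fun c => (this.2 c.symm).symm, fun c => (this.1 c.symm).symm⟩))
  have e : (Dc (⟨a, s⟩ : cls D a)).ncard = (dcSet D a).ncard := by
    rw [← Set.ncard_image_of_injective _ Subtype.val_injective, image_Dc, ← h.lk.dc_cls ha s]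
  obtain rfl := val_u k h4 (e ▸ (h.card a ha).1) (e ▸ (h.card a ha).2)
  exact k

theorem gk {a : G} (ha : a ∈ D) : letI := h.lk.tq_cls ha; Gk0 (cls D a) (h.lk.St ha) := by
  let _ := h.lk.tq_cls ha
  refine ⟨h.prim ha, fun y hy e => ?_, fun u hu v hv c => ?_⟩
  · classical
    have := Fintype.ofFinite (cls D a)
    have i : Function.Involutive fun x : cls D a => (⟨_, h.lk.conj_St ha hy x.2⟩ : cls D a) := fun x =>
      Subtype.ext (by simp only [inv_of_sq e, ← mul_assoc, e, one_mul]; rw [mul_assoc, e, mul_one])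
    obtain ⟨x, k⟩ := Equiv.Perm.exists_fixed_point_of_prime (p := 2) (n := 1) (σ := i.toPerm) (by
      rw [← Nat.card_eq_fintype_card, (par_u6 (h.prim ha) (h.isU ha)).card]; decide)
      (Equiv.ext fun x => i x)
    exact ⟨x, x.2, (mul_inv_eq_iff_eq_mul.1 (congrArg Subtype.val k)).symm⟩
  · obtain ⟨l, l1, -, l3, l4⟩ := h.line u hu.1 v ⟨hv.1, c⟩
    exact ⟨l, ⟨1, l1⟩, fun w hw => ⟨h.dc ha hu (l4 w hw).1, (l4 w hw).1.2, (l4 w hw).2.1⟩, l3⟩

end UL0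

end H10.Y
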